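import Mathlib
import Cfsg.Agent.Lib.helper8.BGT3Defs
import Cfsg.Agent.S1415
import Cfsg.Agent.Lib.lead.Hall
import Cfsg.Agent.Lib.helper44.LinSix

/-!
# S1430 (O-c), piece A: in the `τ₃` context, `R` is normal in `E` and lies in `E'`.

Also the reusable form `t3_hall`: a Hall `τ₃(M)`-subgroup `E₃` of `E` (cyclic, normal in `E`,
inside `E'`) containing every subgroup of `E` of prime order in `τ₃(M)`.
-/

set_option autoImplicit false
open Cfsg

namespace Cfsg.Agent.Lib.helper32.BGT3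

open Cfsg.Agent.Lib.helper8.BGT3

variable {G : Type*} [Group G]

/-- A Hall `τ₃(M)`-subgroup of a complement `E` of `M_σ`: cyclic, normal in `E`, inside `E'`, and
containing every `τ₃(M)`-subgroup of `E`. -/
theorem t3_hall [Finite G] (hG : IsMinSimpleOddOrder G) (M : Subgroup G) (hM : IsCoatom M)
    (E : Subgroup G) (hE : IsComplIn E (sigmaCore M) M) :
    ∃ E₃ : Subgroup G, IsPiHallOf (tau3 M) E₃ E ∧ IsCyclic E₃ ∧ E₃ ≤ ⁅E, E⁆ ∧
      E ≤ Subgroup.normalizer (E₃ : Set G) ∧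
      ∀ X : Subgroup G, X ≤ E → (∀ s : ℕ, s.Prime → s ∣ Nat.card X → s ∈ tau3 M) → X ≤ E₃ := by
  obtain ⟨hodd, hsimple, hna, hsolv⟩ := id hG
  have hEM : E ≤ M := hE.1
  have hEtop : E ≠ ⊤ := ne_top_of_le_ne_top hM.1 hEM
  have : Group.IsSolvable ↥E := hsolv E hEtop
  obtain ⟨H₀, hH₀⟩ := Cfsg.Agent.Lib.lead.exists_isPiHall_of_isSolvable (tau3 M) ↥E
  have hE₃ : IsPiHallOf (tau3 M) (H₀.map E.subtype) E := by
    refine ⟨Subgroup.map_subtype_le _, ?_, ?_⟩
    · intro s hs hsd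
      rw [Subgroup.card_map_of_injective E.subtype_injective] at hsd
      exact hH₀.1 s hs hsd
    · intro s hs hs3
      have e1 : (H₀.map E.subtype).subgroupOf E = H₀ :=
        Subgroup.comap_map_eq_self_of_injective E.subtype_injective H₀
      show ¬ s ∣ ((H₀.map E.subtype).subgroupOf E).index
      rw [e1]
      exact hH₀.2 s hs hs3
  obtain ⟨hE₃cyc, hE₃c, hE₃n⟩ := (Cfsg.Agent.S1415.result hG M hM E hE).2.2 _ hE₃
  refine ⟨H₀.map E.subtype, hE₃, hE₃cyc, hE₃c, hE₃n, ?_⟩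
  intro X hXE hX
  have hH₀n : ∀ (g h : ↥E), h ∈ H₀ → g * h * g⁻¹ ∈ H₀ := by
    intro g h hh
    have h2 : (g : G) * (h : G) * (g : G)⁻¹ ∈ H₀.map E.subtype :=
      (Subgroup.mem_normalizer_iff.mp (hE₃n g.2) (h : G)).mp ⟨h, hh, rfl⟩
    obtain ⟨h', hh', e⟩ := h2
    have : h' = g * h * g⁻¹ := Subtype.ext e
    rwa [← this]
  have hK : IsPiSubgroup (tau3 M) (X.subgroupOf E) := by
    intro s hs hsd
    rw [Nat.card_congr (Subgroup.subgroupOfEquivOfLe hXE).toEquiv] at hsd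
    exact hX s hs hsd
  obtain ⟨g, hg⟩ := Cfsg.Agent.Lib.lead.le_conj_isPiHall_of_isSolvable hH₀ hK
  intro x hx
  have hx' : (⟨x, hXE hx⟩ : ↥E) ∈ X.subgroupOf E := Subgroup.mem_subgroupOf.mpr hx
  obtain ⟨h, hh, e⟩ := hg hx'
  have h3 : (⟨x, hXE hx⟩ : ↥E) ∈ H₀ := by
    rw [← e]
    exact hH₀n g h hh
  exact ⟨⟨x, hXE hx⟩, h3, rfl⟩

/-- PIECE A. -/
theorem t3_norm [Finite G] (hG : IsMinSimpleOddOrder G) : HNorm G := by
  intro M E R r hctx
  obtain ⟨hM, hE, hr3, hRE, hRcard⟩ := hctx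
  have hrp : r.Prime := hr3.1
  obtain ⟨E₃, -, hcyc, hE₃c, hE₃n, hall⟩ := t3_hall hG M hM E hE
  have hRE₃ : R ≤ E₃ := by
    apply hall R hRE
    intro s hs hsd
    rw [hRcard] at hsd
    rw [(Nat.prime_dvd_prime_iff_eq hs hrp).mp hsd]
    exact hr3
  refine ⟨?_, hRE₃.trans hE₃c⟩
  intro e he
  -- `e R e⁻¹` is a subgroup of order `r` of the cyclic group `E₃`
  have hconj : R.map (MulAut.conj e).toMonoidHom = R := by
    apply Cfsg.Agent.Lib.helper44.eq_of_card_eq_of_le_cyclic E₃ hcyc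
    · rintro _ ⟨x, hx, rfl⟩
      exact (Subgroup.mem_normalizer_iff.mp (hE₃n he) x).mp (hRE₃ hx)
    · exact hRE₃
    · exact Subgroup.card_map_of_injective (MulAut.conj e).injective
  rw [Subgroup.mem_normalizer_iff]
  intro x
  constructor
  · intro hx
    rw [← hconj]
    exact ⟨x, hx, rfl⟩
  · intro hx
    rw [← hconj] at hx
    obtain ⟨y, hy, e1⟩ := hx
    have : y = x := by
      have e2 : e * y * e⁻¹ = e * x * e⁻¹ := e1
      exact mul_left_cancel (mul_right_cancel e2)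
    rw [← this]
    exact hy

end Cfsg.Agent.Lib.helper32.BGT3
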