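import Mathlib
import Cfsg.Agent.Lib.helper8.BGT3Defs
import Cfsg.Agent.Lib.helper8.BGTen4
import Cfsg.Agent.Lib.helper12.BGEleven
import Cfsg.Agent.Lib.helper13.Count
import Cfsg.Agent.Lib.helper55.BGSigmaGen
import Cfsg.Agent.Lib.helper60.BGCentU
import Cfsg.Agent.S1350
import Cfsg.Agent.S1417

/-!
# S1430 (O-c), piece C: `τ₂(M) = ∅` in the singular `τ₃` context.
-/

set_option autoImplicit false
open Cfsg

namespace Cfsg.Agent.Lib.helper32.BGT3

open Cfsg.Agent.Lib.helper8.BGT3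

variable {G : Type*} [Group G]

/-- A maximal subgroup containing `N_G(R)` in the `τ₃` context. -/
theorem t3_exists_coatom [Finite G] (hG : IsMinSimpleOddOrder G) {M E R : Subgroup G} {r : ℕ}
    (hctx : Ctx M E R r) :
    ∃ H : Subgroup G, IsCoatom H ∧ Subgroup.normalizer (R : Set G) ≤ H := by
  obtain ⟨hM, hE, hr3, hRE, hRcard⟩ := hctx
  obtain ⟨hodd, hsimple, hna, hsolv⟩ := id hG
  have hrp : r.Prime := hr3.1
  have hRbot : R ≠ ⊥ := by
    intro h
    rw [h, Subgroup.card_bot] at hRcard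
    exact hrp.one_lt.ne hRcard
  have hNtop : Subgroup.normalizer (R : Set G) ≠ ⊤ := by
    intro h
    have hn : R.Normal := Subgroup.normalizer_eq_top_iff.mp h
    haveI := hsimple
    rcases hn.eq_bot_or_eq_top with h1 | h1
    · exact hRbot h1
    · exact hM.1 (top_le_iff.mp (h1 ▸ hRE.trans hE.1))
  exact (eq_top_or_exists_le_coatom _).resolve_left hNtop

/-- PIECE C. -/
theorem t3_tau2 [Finite G] (hG : IsMinSimpleOddOrder G) (hN : HNorm G) (hH : HH G) : HTau2 G := by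
  intro M E R r hS q hq
  obtain ⟨hctx, hC⟩ := hS
  obtain ⟨hM, hE, hr3, hRE, hRcard⟩ := id hctx
  obtain ⟨hodd, hsimple, hna, hsolv⟩ := id hG
  have hEM : E ≤ M := hE.1
  obtain ⟨H, hHc, hNH⟩ := t3_exists_coatom hG hctx
  obtain ⟨hER, -⟩ := hN M E R r hctx
  obtain ⟨hnc, hMsH⟩ := hH M E R r hctx H hHc hNH
  have hHM : H ≠ M := by
    intro h
    apply hnc 1
    rw [h]
    ext x
    constructor
    · intro hx
      exact ⟨x, hx, by simp⟩
    · rintro ⟨y, hy, rfl⟩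
      simpa using hy
  haveI : Fact q.Prime := ⟨hq.1⟩
  obtain ⟨A, hAM, hAe, hA2⟩ := Cfsg.Agent.Lib.helper8.bg_exists_elemAb_sq M q hq.2.2.1 hq.2.2.2
  have hsolvM : Group.IsSolvable ↥M := hsolv M hM.1
  obtain ⟨hH1, -, -⟩ := Cfsg.Agent.S1350.result hG M hM
  have hcard : Nat.card E * Nat.card (sigmaCore M) = Nat.card M :=
    Cfsg.Agent.Lib.helper60.BGCentU.card_of_isComplIn hE
  have hrel2 : E.relIndex M = Nat.card (sigmaCore M) := by
    have h1 := Cfsg.Agent.Lib.helper13.relIndex_mul_card_of_le hEM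
    rw [← hcard, mul_comm (Nat.card E)] at h1
    exact Nat.eq_of_mul_eq_mul_right Nat.card_pos h1
  obtain ⟨l, hl⟩ := Cfsg.Agent.Lib.helper55.BGJ.exists_conj_le_of_relIndex (D := E) hsolvM hAM (by
    intro s hs hsd hsE
    rw [hA2] at hsd
    have hsq : s = q := (Nat.prime_dvd_prime_iff_eq hs hq.1).mp (hs.dvd_of_dvd_pow hsd)
    rw [hrel2] at hsE
    exact hq.2.1 (hsq ▸ hH1.2.1 s hs hsE))
  have hA'E : A.map (MulAut.conj l⁻¹).toMonoidHom ≤ E := by
    rintro _ ⟨a, ha, rfl⟩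
    obtain ⟨e, he, hea⟩ := hl ha
    have hea' : l * e * l⁻¹ = a := hea
    show l⁻¹ * a * l⁻¹⁻¹ ∈ E
    rw [← hea']
    have e1 : l⁻¹ * (l * e * l⁻¹) * l⁻¹⁻¹ = e := by group
    rw [e1]
    exact he
  have hA'e : IsElementaryAbelian q (A.map (MulAut.conj l⁻¹).toMonoidHom) :=
    Cfsg.Agent.Lib.helper12.isElementaryAbelian_map_conj hAe l⁻¹
  have hA'2 : Nat.card (A.map (MulAut.conj l⁻¹).toMonoidHom) = q ^ 2 := by
    rw [Subgroup.card_map_of_injective (MulAut.conj l⁻¹).injective]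
    exact hA2
  have h17 := Cfsg.Agent.S1417.result hG M hM q hq _ ⟨hA'E.trans hEM, hA'e, hA'2⟩
  have hbot := h17.2.2.2.2.1 H hHc hHM (hA'E.trans (hER.trans hNH))
  rw [hMsH] at hbot
  exact hC hbot

end Cfsg.Agent.Lib.helper32.BGT3
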