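import Mathlib
import Cfsg.Agent.Lib.helper8.BGT3Defs
import Cfsg.Agent.Lib.helper8.BGTen5
import Cfsg.Agent.Lib.helper60.BGTau2Ab
import Cfsg.Agent.S1403
import Cfsg.Agent.S1426
import Cfsg.Agent.S1427

/-!
# S1430 (O-c), piece K3: `C_{M_σ}(R) ∩ C(P) ≤ (M_σ)'` when `P` (of order `p ∈ τ₁(M)`) does not
centralize `R`.

The reusable core is `t3_cent_E`: an element `c ∈ M_σ` centralizing, for every prime `s` dividing
`|E|`, a non-identity element of some Sylow `s`-subgroup of `E`, centralizes `E` (when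
`τ₂(M) = ∅`), by S1427.
-/

set_option autoImplicit false
open Cfsg

namespace Cfsg.Agent.Lib.helper32.BGT3

open Cfsg.Agent.Lib.helper8.BGT3 Cfsg.Agent.Lib.helper8

variable {G : Type*} [Group G]

/-- A subgroup containing some Sylow `q`-subgroup of `E` for every prime `q` contains `E`. -/
theorem le_of_exists_sylow_le [Finite G] (E D : Subgroup G)
    (h : ∀ (q : ℕ) [Fact q.Prime], ∃ Q : Sylow q ↥E, (Q : Subgroup ↥E).map E.subtype ≤ D) :
    E ≤ D := by
  have hD : D.subgroupOf E = ⊤ := by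
    apply Subgroup.eq_top_of_card_eq
    apply Nat.dvd_antisymm (Subgroup.card_subgroup_dvd_card _)
    rw [← Nat.factorization_prime_le_iff_dvd Nat.card_pos.ne' Nat.card_pos.ne']
    intro q hq
    have : Fact q.Prime := ⟨hq⟩
    obtain ⟨Q, hQD⟩ := h q
    have hQ : (Q : Subgroup ↥E) ≤ D.subgroupOf E := by
      intro x hx
      exact Subgroup.mem_subgroupOf.mpr (hQD ⟨x, hx, rfl⟩)
    have h1 : Nat.card (Q : Subgroup ↥E) ∣ Nat.card (D.subgroupOf E) := Subgroup.card_dvd_of_le hQ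
    rw [Sylow.card_eq_multiplicity] at h1
    exact (hq.pow_dvd_iff_le_factorization Nat.card_pos.ne').mp h1
  intro x hx
  have : (⟨x, hx⟩ : ↥E) ∈ D.subgroupOf E := by rw [hD]; trivial
  exact Subgroup.mem_subgroupOf.mp this

/-- If `τ₂(M) = ∅` and `c ∈ M_σ` centralizes, for every prime `s` dividing `|E|`, a non-identity
`s`-element `x` of `E`, chosen inside a prescribed Sylow `s`-subgroup, then `c` centralizes `E`. -/
theorem t3_cent_E [Finite G] (hG : IsMinSimpleOddOrder G) (M : Subgroup G) (hM : IsCoatom M)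
    (E : Subgroup G) (hE : IsComplIn E (sigmaCore M) M) (hτ2 : ∀ q : ℕ, q ∉ tau2 M)
    (c : G) (hc : c ∈ sigmaCore M)
    (h : ∀ (s : ℕ) [Fact s.Prime], s ∣ Nat.card E → ∃ (S : Sylow s ↥E) (x : G),
      x ∈ (S : Subgroup ↥E).map E.subtype ∧ x ≠ 1 ∧ x * c = c * x) :
    c ∈ Subgroup.centralizer (E : Set G) := by
  obtain ⟨hodd, -, -, -⟩ := id hG
  have hU : BGUniqHyp G := fun K hK h1 h2 => Cfsg.Agent.S1403.result hG K hK h1 h2
  have hEM : E ≤ M := hE.1
  have key : E ≤ Subgroup.centralizer ({c} : Set G) := by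
    apply le_of_exists_sylow_le
    intro s _
    have hs : s.Prime := Fact.out
    by_cases hsE : s ∣ Nat.card E
    swap
    · obtain ⟨Q⟩ : Nonempty (Sylow s ↥E) := inferInstance
      refine ⟨Q, ?_⟩
      have hc1 : Nat.card (Q : Subgroup ↥E) = 1 := by
        rw [Sylow.card_eq_multiplicity, Nat.factorization_eq_zero_of_not_dvd hsE, pow_zero]
      have hQb : (Q : Subgroup ↥E) = ⊥ := Subgroup.eq_bot_of_card_eq _ hc1
      rw [hQb, Subgroup.map_bot]
      exact bot_le
    have hsσ : s ∉ sigma M :=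
      Cfsg.Agent.Lib.helper60.BGTau2Ab.not_mem_sigma_of_dvd_card_compl hG M hM E hE s hs hsE
    have hr2 : PRankLE s 2 M := by
      by_contra h2
      exact hsσ (bg_alpha_sub_sigma hG hU M hM ⟨hs, h2⟩)
    have hr1 : PRankLE s 1 M := by
      by_contra h1
      exact hτ2 s ⟨hs, hsσ, hr2, h1⟩
    obtain ⟨S, x, hxS, hx1, hxc⟩ := h s hsE
    refine ⟨S, ?_⟩
    have hScyc : IsCyclic (S : Subgroup ↥E) := bg_sylow_cyclic_of_prank_one hodd hEM s hr1 S
    have hS1 : (S : Subgroup ↥E) ≠ ⊥ := by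
      intro hb
      rw [hb, Subgroup.map_bot, Subgroup.mem_bot] at hxS
      exact hx1 hxS
    have h27 := Cfsg.Agent.S1427.result hG M hM E hE s S hS1 hScyc x hxS hx1
    have hcx : c ∈ sigmaCore M ⊓ Subgroup.centralizer ({x} : Set G) := by
      refine Subgroup.mem_inf.mpr ⟨hc, ?_⟩
      rw [Subgroup.mem_centralizer_iff]
      intro y hy
      rw [Set.mem_singleton_iff.mp hy]
      exact hxc
    rw [h27] at hcx
    intro y hy
    rw [Subgroup.mem_centralizer_iff]
    intro d hd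
    rw [Set.mem_singleton_iff.mp hd]
    exact (Subgroup.mem_centralizer_iff.mp (Subgroup.mem_inf.mp hcx).2 y hy).symm
  rw [Subgroup.mem_centralizer_iff]
  intro e he
  exact (Subgroup.mem_centralizer_iff.mp (key he) c rfl).symm

/-- A Sylow `s`-subgroup of `E` and an element of order `s` in it (`s ∣ |E|`). -/
theorem t3_exists_sylow_elt [Finite G] (E : Subgroup G) (s : ℕ) [Fact s.Prime]
    (hsE : s ∣ Nat.card E) :
    ∃ (S : Sylow s ↥E) (x : G), x ∈ (S : Subgroup ↥E).map E.subtype ∧ orderOf x = s := by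
  obtain ⟨S⟩ : Nonempty (Sylow s ↥E) := inferInstance
  have hd : s ∣ Nat.card (S : Subgroup ↥E) := S.dvd_card_of_dvd_card hsE
  obtain ⟨x, hx⟩ := exists_prime_orderOf_dvd_card' s hd
  refine ⟨S, ((x : ↥E) : G), ⟨(x : ↥E), x.2, rfl⟩, ?_⟩
  rw [Subgroup.orderOf_coe, Subgroup.orderOf_coe]
  exact hx

/-- PIECE K3. -/
theorem t3_fix [Finite G] (hG : IsMinSimpleOddOrder G) (hN : HNorm G) (hT2 : HTau2 G)
    (hE3 : HE3 G) (hT1 : HTau1 G) : HFix G := by
  intro M E R r hS p P hp hPE hPcard hPR c hc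
  obtain ⟨hctx, hC⟩ := id hS
  obtain ⟨hM, hE, hr3, hRE, hRcard⟩ := id hctx
  obtain ⟨⟨hcσ, hcR⟩, hcP⟩ := hc
  have hpp : p.Prime := hp.1
  have hcE : c ∈ Subgroup.centralizer (E : Set G) := by
    apply t3_cent_E hG M hM E hE (hT2 M E R r hS) c hcσ
    intro s _ hsE
    have hs : s.Prime := Fact.out
    by_cases hsd : s ∣ Nat.card ↥⁅M, M⁆
    · -- `s ∈ τ₃(M)`
      have hsσ : s ∉ sigma M :=
        Cfsg.Agent.Lib.helper60.BGTau2Ab.not_mem_sigma_of_dvd_card_compl hG M hM E hE s hs hsE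
      have hU : BGUniqHyp G := fun K hK h1 h2 => Cfsg.Agent.S1403.result hG K hK h1 h2
      have hr2 : PRankLE s 2 M := by
        by_contra h2
        exact hsσ (bg_alpha_sub_sigma hG hU M hM ⟨hs, h2⟩)
      have hr1 : PRankLE s 1 M := by
        by_contra h1
        exact hT2 M E R r hS s ⟨hs, hsσ, hr2, h1⟩
      have hs3 : s ∈ tau3 M := ⟨hs, hsσ, hsd, hr1⟩
      obtain ⟨S, x, hxS, hxo⟩ := t3_exists_sylow_elt E s hsE
      have hxE : x ∈ E := Subgroup.map_subtype_le _ hxS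
      have hXcard : Nat.card (Subgroup.zpowers x) = s := by rw [Nat.card_zpowers, hxo]
      have h3 := hE3 M E R r hS (Subgroup.zpowers x) (Subgroup.zpowers_le.mpr hxE)
        (hXcard.symm ▸ hs3)
      have hcX : c ∈ sigmaCore M ⊓ Subgroup.centralizer ((Subgroup.zpowers x : Subgroup G) : Set G) := by
        rw [h3]; exact Subgroup.mem_inf.mpr ⟨hcσ, hcR⟩
      refine ⟨S, x, hxS, ?_, ?_⟩
      · intro h1
        rw [h1, orderOf_one] at hxo
        exact hs.one_lt.ne hxo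
      · exact Subgroup.mem_centralizer_iff.mp (Subgroup.mem_inf.mp hcX).2 x (Subgroup.mem_zpowers x)
    · -- `s ∈ τ₁(M)`, so `s = p`
      have hsσ : s ∉ sigma M :=
        Cfsg.Agent.Lib.helper60.BGTau2Ab.not_mem_sigma_of_dvd_card_compl hG M hM E hE s hs hsE
      have hU : BGUniqHyp G := fun K hK h1 h2 => Cfsg.Agent.S1403.result hG K hK h1 h2
      have hr2 : PRankLE s 2 M := by
        by_contra h2
        exact hsσ (bg_alpha_sub_sigma hG hU M hM ⟨hs, h2⟩)
      have hr1 : PRankLE s 1 M := by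
        by_contra h1
        exact hT2 M E R r hS s ⟨hs, hsσ, hr2, h1⟩
      have hsM : s ∣ Nat.card M := hsE.trans (Subgroup.card_dvd_of_le hE.1)
      have hs1 : s ∈ tau1 M := ⟨hs, hsσ, hsM, hsd, hr1⟩
      have hsp : s = p := hT1 M E R r hctx p P hp hPE hPcard hPR s hs1 hsE
      subst hsp
      have hP' : IsPGroup s (P.subgroupOf E) := by
        apply IsPGroup.of_card (n := 1)
        rw [Nat.card_congr (Subgroup.subgroupOfEquivOfLe hPE).toEquiv, hPcard, pow_one]
      obtain ⟨S, hPS⟩ := hP'.exists_le_sylow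
      have hPbot : P ≠ ⊥ := by
        intro hb
        rw [hb, Subgroup.card_bot] at hPcard
        exact hpp.one_lt.ne hPcard
      obtain ⟨x, hx1⟩ := (Subgroup.ne_bot_iff_exists_ne_one.mp hPbot)
      refine ⟨S, (x : G), ⟨⟨x, hPE x.2⟩, hPS (Subgroup.mem_subgroupOf.mpr x.2), rfl⟩, ?_, ?_⟩
      · intro h1
        exact hx1 (Subtype.ext h1)
      · exact Subgroup.mem_centralizer_iff.mp hcP x x.2
  exact (Cfsg.Agent.S1426.result hG M hM E hE).1 (Subgroup.mem_inf.mpr ⟨hcσ, hcE⟩)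

end Cfsg.Agent.Lib.helper32.BGT3
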