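import Mathlib
import Cfsg.Agent.Lib.helper71.BGRegNA
import Cfsg.Agent.Lib.helper60.BG131
import Cfsg.Agent.S1412
import Cfsg.Agent.S1453

/-!
# S1430 (NA) piece N5b: a non-central line of a maximal elementary abelian subgroup `A` of order
`r ^ 2` of a Sylow `r`-subgroup `S` is not contained in `S'`.

Rank `≤ 2`: S1412 gives a central product, `S' ≤ Z(S)`.  Rank `≥ 3`: S1453, `S' ≤ T` with `T`
of index `r`, `A ≰ T`, `Ω₁(Z(S)) ≤ A ∩ T`.
-/

set_option autoImplicit false
open Cfsg

namespace Cfsg.Agent.Lib.helper32.BGNA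

open Cfsg.Agent.Lib.helper8 Cfsg.Agent.Lib.helper60.BG131

variable {G : Type*} [Group G]

/-- **Piece N5b.** -/
theorem na_not_le_comm [Finite G] (hG : IsMinSimpleOddOrder G) (r : ℕ) [Fact r.Prime]
    (S : Sylow r G) (A : Subgroup G) (hAS : A ≤ (S : Subgroup G))
    (hAe : IsElementaryAbelian r A) (hA2 : Nat.card A = r ^ 2)
    (hAmax : ∀ B : Subgroup G, IsElementaryAbelian r B → A ≤ B → B = A)
    (R : Subgroup G) (hRA : R ≤ A) (hR : Nat.card R = r)
    (hRS : ¬ (S : Subgroup G) ≤ Subgroup.centralizer (R : Set G)) :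
    ¬ R ≤ ⁅(S : Subgroup G), (S : Subgroup G)⁆ := by
  classical
  have hrp : r.Prime := Fact.out
  intro hRc
  by_cases hrk : PRankLE r 2 ↥(S : Subgroup G)
  · -- rank at most two
    rcases Cfsg.Agent.S1412.result hG r S hrk with hc | ⟨P₁, P₂, hsup, hc, hna₁, hcard, -, hcyc, -⟩
    · apply hRS
      intro s hs
      rw [Subgroup.mem_centralizer_iff]
      intro x hx
      exact congrArg Subtype.val
        (hc.is_comm.comm (⟨x, hAS (hRA hx)⟩ : ↥(S : Subgroup G)) ⟨s, hs⟩)
    · have hcl := comm_le_centralizer_of_central_product r hsup hc hna₁ hcard hcyc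
      apply hRS
      intro s hs
      rw [Subgroup.mem_centralizer_iff]
      intro x hx
      have hx' : x ∈ Subgroup.centralizer ((S : Subgroup G) : Set G) := hcl (hRc hx)
      exact (Subgroup.mem_centralizer_iff.mp hx' s hs).symm
  · -- rank at least three
    obtain ⟨hodd, -⟩ := id hG
    have hr2 : r ≠ 2 := by
      intro h
      have h1 : r ∣ Nat.card G := by
        have h2 : r ∣ Nat.card A := by rw [hA2]; exact dvd_pow_self r (by norm_num)
        exact h2.trans (Subgroup.card_subgroup_dvd_card A)
      rw [h] at h1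
      exact (Nat.not_even_iff_odd.mpr hodd) (even_iff_two_dvd.mpr h1)
    have hSp : IsPGroup r ↥(S : Subgroup G) := S.isPGroup'
    set E : Subgroup ↥(S : Subgroup G) := A.subgroupOf (S : Subgroup G) with hE
    have hEe : IsElementaryAbelian r E := bg_elemAb_subgroupOf _ hAe
    have hE2 : Nat.card E = r ^ 2 :=
      (Nat.card_congr (Subgroup.subgroupOfEquivOfLe hAS).toEquiv).trans hA2
    have hEmem : ∀ x : ↥(S : Subgroup G), x ∈ E ↔ (x : G) ∈ A := fun x => Subgroup.mem_subgroupOf
    have hEmax : ∀ B : Subgroup ↥(S : Subgroup G), IsElementaryAbelian r B → E ≤ B → B = E := by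
      intro B hB hle
      have h1 : IsElementaryAbelian r (B.map (S : Subgroup G).subtype) := bg_elemAb_map B hB
      have h2 : A ≤ B.map (S : Subgroup G).subtype := by
        intro a ha
        exact ⟨⟨a, hAS ha⟩, hle ((hEmem _).mpr ha), rfl⟩
      have h3 := hAmax _ h1 h2
      apply le_antisymm _ hle
      intro b hb
      rw [hEmem, ← h3]
      exact ⟨b, hb, rfl⟩
    obtain ⟨h1, h2, -, h4, h5⟩ := Cfsg.Agent.S1453.result r hr2 hSp hrk E hEe hE2 hEmax
    set W : Subgroup ↥(S : Subgroup G) :=
      Subgroup.closure {x : ↥(S : Subgroup G) |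
        x ∈ Subgroup.upperCentralSeries ↥(S : Subgroup G) 2 ∧ x ^ r = 1} with hW
    set Z0 : Subgroup ↥(S : Subgroup G) :=
      Subgroup.closure {x : ↥(S : Subgroup G) |
        x ∈ Subgroup.center ↥(S : Subgroup G) ∧ x ^ r = 1} with hZ0
    have hCn : (Subgroup.centralizer (W : Set ↥(S : Subgroup G))).Normal :=
      Subgroup.normal_of_characteristic _
    have hcomm : commutator ↥(S : Subgroup G) ≤ Subgroup.centralizer (W : Set ↥(S : Subgroup G)) :=
      commutator_le_of_index_prime _ h5
    -- `Z0` is central of exponent `r`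
    have hZ0c : Z0 ≤ Subgroup.center ↥(S : Subgroup G) := by
      rw [hZ0, Subgroup.closure_le]
      intro x hx
      exact hx.1
    have hZ0T : Z0 ≤ Subgroup.centralizer (W : Set ↥(S : Subgroup G)) :=
      hZ0c.trans (Subgroup.center_le_centralizer _)
    have hZ0r : ∀ z ∈ Z0, z ^ r = 1 := by
      intro z hz
      have h6 : (⟨z, hz⟩ : Z0) ^ Nat.card Z0 = 1 := pow_card_eq_one'
      rw [h2] at h6
      exact congrArg Subtype.val h6
    obtain ⟨hEc, hEr⟩ := (bg_elemAb_iff E).mp hEe
    -- `Z0 ≤ E` by maximality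
    have hZ0E : Z0 ≤ E := by
      have hcomm' : ∀ a ∈ E, ∀ b ∈ Z0, a * b = b * a := by
        intro a _ b hb
        exact (Subgroup.mem_center_iff.mp (hZ0c hb) a)
      have hB : IsElementaryAbelian r (E ⊔ Z0) := by
        rw [bg_elemAb_iff]
        refine ⟨?_, ?_⟩
        · intro x hx y hy
          obtain ⟨a, ha, z, hz, rfl⟩ := mem_sup_comm hcomm' hx
          obtain ⟨b, hb, w, hw, rfl⟩ := mem_sup_comm hcomm' hy
          have c1 : z * (b * w) = (b * w) * z := (Subgroup.mem_center_iff.mp (hZ0c hz) _).symm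
          have c2 : w * (a * z) = (a * z) * w := (Subgroup.mem_center_iff.mp (hZ0c hw) _).symm
          have c3 : w * a = a * w := (Subgroup.mem_center_iff.mp (hZ0c hw) _).symm
          have c4 : z * b = b * z := (Subgroup.mem_center_iff.mp (hZ0c hz) _).symm
          calc a * z * (b * w) = a * (b * z) * w := by rw [← c4]; group
            _ = (a * b) * z * w := by group
            _ = (b * a) * z * w := by rw [hEc a ha b hb]
            _ = b * (a * w) * z := by
                rw [← c3]
                have c5 : z * w = w * z := (Subgroup.mem_center_iff.mp (hZ0c hz) _).symm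
                calc b * a * z * w = b * a * (z * w) := by group
                  _ = b * a * (w * z) := by rw [c5]
                  _ = b * (w * a) * z := by rw [c3]; group
            _ = b * w * (a * z) := by rw [← c3]; group
        · intro x hx
          obtain ⟨a, ha, z, hz, rfl⟩ := mem_sup_comm hcomm' hx
          have c : Commute a z := hcomm' a ha z hz
          rw [c.mul_pow, hEr a ha, hZ0r z hz, one_mul]
      have h6 := hEmax _ hB le_sup_left
      rw [← h6]
      exact le_sup_right
    -- `R' := R ∩ S`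
    set R' : Subgroup ↥(S : Subgroup G) := R.subgroupOf (S : Subgroup G) with hR'
    have hR'mem : ∀ x : ↥(S : Subgroup G), x ∈ R' ↔ (x : G) ∈ R := fun x => Subgroup.mem_subgroupOf
    have hR'card : Nat.card R' = r :=
      (Nat.card_congr (Subgroup.subgroupOfEquivOfLe (hRA.trans hAS)).toEquiv).trans hR
    have hR'E : R' ≤ E := fun x hx => (hEmem x).mpr (hRA ((hR'mem x).mp hx))
    have hR'T : R' ≤ Subgroup.centralizer (W : Set ↥(S : Subgroup G)) := by
      intro x hx
      have hx1 : (x : G) ∈ (commutator ↥(S : Subgroup G)).map (S : Subgroup G).subtype := by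
        rw [Subgroup.map_subtype_commutator]
        exact hRc ((hR'mem x).mp hx)
      obtain ⟨x₀, hx₀, hx₀e⟩ := hx1
      have : x₀ = x := Subtype.ext hx₀e
      rw [← this]
      exact hcomm hx₀
    have hR'ne : R' ≠ Z0 := by
      intro h
      apply hRS
      intro s hs
      rw [Subgroup.mem_centralizer_iff]
      intro x hx
      have hx' : (⟨x, hAS (hRA hx)⟩ : ↥(S : Subgroup G)) ∈ Subgroup.center ↥(S : Subgroup G) := by
        apply hZ0c
        rw [← h, hR'mem]
        exact hx
      have := Subgroup.mem_center_iff.mp hx' ⟨s, hs⟩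
      exact (congrArg Subtype.val this).symm
    -- `R' ⊓ Z0 = ⊥`
    have hfinS : Finite ↥(S : Subgroup G) := inferInstance
    have hinf : ∀ g : ↥(S : Subgroup G), g ∈ R' → g ∈ Z0 → g = 1 := by
      intro g hgR hgZ
      by_contra hg1
      have hord : orderOf g = r := by
        have h6 : orderOf g ∣ r := by
          have h60 := orderOf_dvd_natCard (⟨g, hgR⟩ : R')
          rw [Subgroup.orderOf_mk] at h60
          exact h60.trans (dvd_of_eq hR'card)
        rcases (Nat.dvd_prime hrp).mp h6 with h7 | h7
        · exact absurd (orderOf_eq_one_iff.mp h7) hg1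
        · exact h7
      have e1 : Subgroup.zpowers g = R' :=
        Subgroup.eq_of_le_of_card_ge (by rw [Subgroup.zpowers_le]; exact hgR)
          (by rw [Nat.card_zpowers, hord, hR'card])
      have e2 : Subgroup.zpowers g = Z0 :=
        Subgroup.eq_of_le_of_card_ge (by rw [Subgroup.zpowers_le]; exact hgZ)
          (by rw [Nat.card_zpowers, hord, h2])
      exact hR'ne (e1.symm.trans e2)
    -- every element of `E` is a product
    have hprod : ∀ e ∈ E, ∃ x ∈ R', ∃ z ∈ Z0, e = x * z := by
      let f : R' × Z0 → E := fun q => ⟨(q.1 : ↥(S : Subgroup G)) * (q.2 : ↥(S : Subgroup G)),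
        E.mul_mem (hR'E q.1.2) (hZ0E q.2.2)⟩
      have hfinj : Function.Injective f := by
        rintro ⟨x, z⟩ ⟨x', z'⟩ h
        have h6 : (x : ↥(S : Subgroup G)) * z = x' * z' := congrArg Subtype.val h
        have h7 : (x' : ↥(S : Subgroup G))⁻¹ * x = z' * (z : ↥(S : Subgroup G))⁻¹ := by
          calc (x' : ↥(S : Subgroup G))⁻¹ * x = (x' : ↥(S : Subgroup G))⁻¹ * (x * z) * (z : ↥(S : Subgroup G))⁻¹ := by group
            _ = (x' : ↥(S : Subgroup G))⁻¹ * (x' * z') * (z : ↥(S : Subgroup G))⁻¹ := by rw [h6]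
            _ = z' * (z : ↥(S : Subgroup G))⁻¹ := by group
        have h8 := hinf _ (R'.mul_mem (R'.inv_mem x'.2) x.2)
          (by rw [h7]; exact Z0.mul_mem z'.2 (Z0.inv_mem z.2))
        have h9 : (x : ↥(S : Subgroup G)) = x' := by
          have := inv_mul_eq_one.mp h8
          exact this.symm
        have h10 : (z : ↥(S : Subgroup G)) = z' := by
          rw [h9] at h6
          exact mul_left_cancel h6
        exact Prod.ext (Subtype.ext h9) (Subtype.ext h10)
      have hfin : Finite E := inferInstance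
      have hbij : Function.Bijective f := by
        apply hfinj.bijective_of_nat_card_le
        rw [Nat.card_prod, hR'card, h2, hE2, pow_two]
      intro e he
      obtain ⟨⟨x, z⟩, hq⟩ := hbij.2 ⟨e, he⟩
      exact ⟨x, x.2, z, z.2, (congrArg Subtype.val hq).symm⟩
    apply h1
    intro e he
    obtain ⟨x, hx, z, hz, rfl⟩ := hprod e he
    exact Subgroup.mul_mem _ (hR'T hx) (hZ0T hz)

end Cfsg.Agent.Lib.helper32.BGNA
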