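import Mathlib
import Cfsg.Agent.Lib.helper21.PrimeTICor
import Cfsg.Agent.Lib.helper4.KleinChar
import Cfsg.Agent.Lib.helper78.KleinBlock

set_option autoImplicit false

/-!
# A self-centralizing subgroup of prime order with dihedral normalizer (helper32)

`P ≤ G` of prime order `p`, `C_G(P) ≤ P`, `|N_G(P)| = 2p`.  For a nontrivial linear character
`λ` of `P`, `(1_P - λ)^G = 1_G + a - b` with `a`, `b` irreducible.  Pairing with the class
function `g ↦ #{(x, y) ∈ K × K : x y = g}` (`K` the class of an involution `J`) gives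
`p |C(J)|² f (f + 1) = |G| (f - s)²` where `f = a(1)`, `s = a(J)`.
-/

namespace Cfsg.Agent.Lib.helper32

open Cfsg
open scoped ComplexConjugate

universe u

section DihPrime

variable {G : Type u} [Group G] [Fintype G]

/-- `(1_P - λ)^G = 1_G + a - b`. -/
theorem dih_prime_beta {p : ℕ} (hp : p.Prime) (P : Subgroup G) (hP : Nat.card P = p)
    (hC : Subgroup.centralizer (P : Set G) ≤ P)
    (hN : Nat.card (Subgroup.normalizer (P : Set G)) = p * 2) :
    ∃ (lam : P → ℂ) (a b : IrrCharacter G), IsIrrCharacter P lam ∧ lam ≠ (fun _ => 1) ∧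
      ∀ g : G, indFun P ((fun _ => (1 : ℂ)) - lam) g = 1 + (a : G → ℂ) g - (b : G → ℂ) g := by
  classical
  have : Fintype P := Fintype.ofFinite P
  have : Fintype (IrrCharacter P) := Fintype.ofFinite _
  have : Fintype (IrrCharacter G) := Fintype.ofFinite _
  have hpC : (p : ℂ) ≠ 0 := by exact_mod_cast hp.ne_zero
  have h1P : IsIrrCharacter P (fun _ => (1 : ℂ)) := Cfsg.Agent.Lib.helper4.isIrrCharacter_one
  have hcardIrr : Fintype.card (IrrCharacter P) = p := by
    have h := Cfsg.Agent.Lib.helper4.sum_irr_degree_sq (G := P)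
    have h2 : ∀ χ : IrrCharacter P, (χ : P → ℂ) 1 ^ 2 = 1 := fun χ => by
      rw [Cfsg.Agent.Lib.helper21.irr_apply_one_of_prime_card hp hP χ.2, one_pow]
    rw [Finset.sum_congr rfl (fun χ _ => h2 χ), Finset.sum_const, Finset.card_univ, hP] at h
    simpa using h
  obtain ⟨lamI, hlamI⟩ : ∃ l : IrrCharacter P, l ≠ ⟨fun _ => (1 : ℂ), h1P⟩ := by
    have : Nontrivial (IrrCharacter P) := by
      rw [← Fintype.one_lt_card_iff_nontrivial, hcardIrr]; exact hp.one_lt
    exact exists_ne _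
  obtain ⟨lam, hlam⟩ : ∃ lam : P → ℂ, lam = (lamI : P → ℂ) := ⟨_, rfl⟩
  have hlm : IsIrrCharacter P lam := by rw [hlam]; exact lamI.2
  have hlm1 : lam ≠ fun _ => (1 : ℂ) := fun h => hlamI (Subtype.ext (by rw [← hlam, h]))
  have hlmone : lam 1 = 1 := Cfsg.Agent.Lib.helper21.irr_apply_one_of_prime_card hp hP hlm
  obtain ⟨β, hβ⟩ : ∃ β : G → ℂ, β = indFun P ((fun _ => (1 : ℂ)) - lam) := ⟨_, rfl⟩
  have hβeq : β = indFun P (fun _ => (1 : ℂ)) - indFun P lam := by
    rw [hβ]; exact Cfsg.Agent.Lib.helper4.indFun_sub P _ lam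
  have hnorm : classInner β β = 3 := by
    rw [hβeq, Cfsg.Agent.Lib.helper21.classInner_indFun_sub_indFun_sub hp hP h1P hlm,
      Cfsg.Agent.Lib.helper21.tiK_eq_tiCount hp hP h1P h1P,
      Cfsg.Agent.Lib.helper21.tiK_eq_tiCount hp hP h1P hlm,
      Cfsg.Agent.Lib.helper21.tiK_eq_tiCount hp hP hlm h1P,
      Cfsg.Agent.Lib.helper21.tiK_eq_tiCount hp hP hlm hlm,
      Cfsg.Agent.Lib.helper21.tiCount_one_one, Cfsg.Agent.Lib.helper21.tiCount_one_right hlm1,
      Cfsg.Agent.Lib.helper21.tiCount_one_left hlm1,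
      Cfsg.Agent.Lib.helper21.tiCount_self hp hP hC hlm hlm1, hN, hP]
    push_cast
    field_simp
    ring
  have hgen : IsGeneralizedCharacter G β := by
    rw [hβeq]
    exact Cfsg.Agent.Lib.helper4.isGeneralizedCharacter_sub
      (Cfsg.Agent.Lib.helper4.isGeneralizedCharacter_of_isCharacter
        (Cfsg.Agent.Lib.helper4.isCharacter_indFun P
          (Cfsg.Agent.Lib.helper4.isCharacter_of_isIrrCharacter h1P)))
      (Cfsg.Agent.Lib.helper4.isGeneralizedCharacter_of_isCharacter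
        (Cfsg.Agent.Lib.helper4.isCharacter_indFun P
          (Cfsg.Agent.Lib.helper4.isCharacter_of_isIrrCharacter hlm)))
  have h1G : IsIrrCharacter G (fun _ => (1 : ℂ)) := Cfsg.Agent.Lib.helper4.isIrrCharacter_one
  obtain ⟨triv, htriv⟩ : ∃ t : IrrCharacter G, t = ⟨fun _ => (1 : ℂ), h1G⟩ := ⟨_, rfl⟩
  have htrivval : (triv : G → ℂ) = fun _ => (1 : ℂ) := by rw [htriv]
  have hone : classInner β (triv : G → ℂ) = 1 := by
    rw [hβ, Cfsg.Agent.Lib.helper4.frobenius_reciprocity P _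
      (Cfsg.Agent.Lib.helper4.isClassFunction_of_isGeneralizedCharacter
        (Cfsg.Agent.Lib.helper4.isGeneralizedCharacter_of_isIrrCharacter triv.2)),
      Cfsg.Agent.Lib.helper4.classInner_sub_left]
    have e : (fun h : P => (triv : G → ℂ) h) = fun _ => (1 : ℂ) := by
      funext h; rw [htrivval]
    rw [e, Cfsg.Agent.Lib.helper4.classInner_irr h1P h1P,
      Cfsg.Agent.Lib.helper4.classInner_irr hlm h1P, if_pos rfl, if_neg hlm1, sub_zero]
  have hβ1 : β 1 = 0 := by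
    rw [hβ, Cfsg.Agent.Lib.helper4.indFun_one, Pi.sub_apply, hlmone, sub_self, mul_zero]
  obtain ⟨c, hcsum, hcin, hcnorm⟩ := Cfsg.Agent.Lib.helper4.exists_int_coeff hgen
  have hctriv : c triv = 1 := by
    have h := hcin triv
    rw [hone] at h
    exact_mod_cast h.symm
  have hsq : ∑ ψ : IrrCharacter G, c ψ ^ 2 = 3 := by
    rw [hnorm] at hcnorm
    exact_mod_cast hcnorm.symm
  have hsq2 : ∑ ψ ∈ Finset.univ.erase triv, c ψ ^ 2 = 2 := by
    rw [← Finset.add_sum_erase Finset.univ _ (Finset.mem_univ triv), hctriv] at hsq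
    linarith
  obtain ⟨ψ₁, hψ₁, ψ₂, hψ₂, hne, hc₁, hc₂, hrest⟩ :=
    Cfsg.Agent.Lib.helper21.exists_of_sum_sq_eq_two _ c hsq2
  have hψ₁t : ψ₁ ≠ triv := Finset.ne_of_mem_erase hψ₁
  have hψ₂t : ψ₂ ≠ triv := Finset.ne_of_mem_erase hψ₂
  have hval : ∀ g : G, β g = 1 + (c ψ₁ : ℂ) * (ψ₁ : G → ℂ) g + (c ψ₂ : ℂ) * (ψ₂ : G → ℂ) g := by
    intro g
    have h := congrFun hcsum g
    rw [Finset.sum_apply] at h
    rw [h, ← Finset.sum_subset (Finset.subset_univ ({triv, ψ₁, ψ₂} : Finset (IrrCharacter G)))]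
    · rw [Finset.sum_insert (by
        rw [Finset.mem_insert, Finset.mem_singleton]
        rintro (h | h)
        · exact hψ₁t h.symm
        · exact hψ₂t h.symm), Finset.sum_pair hne]
      simp only [Pi.smul_apply, smul_eq_mul]
      rw [hctriv, htrivval]
      push_cast
      ring
    · intro ψ _ hψ
      rw [Finset.mem_insert, Finset.mem_insert, Finset.mem_singleton] at hψ
      push Not at hψ
      rw [Pi.smul_apply, hrest ψ (Finset.mem_erase.mpr ⟨hψ.1, Finset.mem_univ _⟩) hψ.2.1 hψ.2.2]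
      simp
  obtain ⟨n₁, hn₁pos, hn₁⟩ := Cfsg.Agent.Lib.helper4.exists_pos_nat_degree ψ₁.2
  obtain ⟨n₂, hn₂pos, hn₂⟩ := Cfsg.Agent.Lib.helper4.exists_pos_nat_degree ψ₂.2
  have hdeg : (1 : ℤ) + c ψ₁ * n₁ + c ψ₂ * n₂ = 0 := by
    have h := hval 1
    rw [hβ1, hn₁, hn₂] at h
    exact_mod_cast h.symm
  refine ⟨lam, ?_⟩
  rcases hc₁ with h1 | h1 <;> rcases hc₂ with h2 | h2
  · exfalso; rw [h1, h2] at hdeg; omega
  · refine ⟨ψ₁, ψ₂, hlm, hlm1, fun g => ?_⟩
    rw [← hβ, hval g, h1, h2]; push_cast; ring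
  · refine ⟨ψ₂, ψ₁, hlm, hlm1, fun g => ?_⟩
    rw [← hβ, hval g, h1, h2]; push_cast; ring
  · exfalso; rw [h1, h2] at hdeg; omega

open Cfsg.Agent.Lib.helper4 Cfsg.Agent.Lib.helper21 in
/-- **The class equation for a dihedral normalizer.**  Let `P ≤ G` have prime order `p` with
`C_G(P) ≤ P` and `|N_G(P)| = 2p`, and let `J` be an involution such that every nonidentity
element of `P` is a product of two conjugates of `J` in exactly `p` ways.  Then
`p |C(J)|² f (f + 1) = |G| (f - s)²` for some natural `f > 0` and integer `s`. -/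
theorem dih_prime_class_eq {p : ℕ} (hp : p.Prime) (P : Subgroup G) (hP : Nat.card P = p)
    (hC : Subgroup.centralizer (P : Set G) ≤ P)
    (hN : Nat.card (Subgroup.normalizer (P : Set G)) = p * 2)
    (J : G) (hJ : J * J = 1) (hJP : ∀ x : G, x⁻¹ * J * x ∉ P)
    (hprod : ∀ y ∈ P, y ≠ 1 → classProd J y = p) :
    ∃ (f : ℕ) (s : ℤ), 0 < f ∧
      (p : ℤ) * (Nat.card (Subgroup.centralizer ({J} : Set G)) : ℤ) ^ 2 * (f * (f + 1)) =
        (Nat.card G : ℤ) * (f - s) ^ 2 := by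
  classical
  have : Fintype P := Fintype.ofFinite P
  have hpC : (p : ℂ) ≠ 0 := by exact_mod_cast hp.ne_zero
  obtain ⟨lam, a, b, hlm, hlm1, hval⟩ := dih_prime_beta hp P hP hC hN
  obtain ⟨β, hβ⟩ : ∃ β : G → ℂ, β = indFun P ((fun _ => (1 : ℂ)) - lam) := ⟨_, rfl⟩
  rw [← hβ] at hval
  have hlmone : lam 1 = 1 := irr_apply_one_of_prime_card hp hP hlm
  have hβ1 : β 1 = 0 := by
    rw [hβ, indFun_one, Pi.sub_apply, hlmone, sub_self, mul_zero]
  have hβJ : β J = 0 := by
    rw [hβ, indFun_apply, Finset.sum_eq_zero, mul_zero]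
    intro x _
    exact extendByZero_apply_of_not_mem _ _ (hJP x)
  obtain ⟨f, hfpos, hf⟩ := exists_pos_nat_degree a.2
  obtain ⟨s, hs⟩ := Cfsg.Agent.Lib.helper78.irr_involution_int a J hJ
  have hb1 : (b : G → ℂ) 1 = f + 1 := by
    have h := hval 1
    rw [hβ1, hf] at h
    linear_combination h
  have hbJ : (b : G → ℂ) J = s + 1 := by
    have h := hval J
    rw [hβJ, hs] at h
    linear_combination h
  have hF : IsClassFunction G (classProd J) := isClassFunction_classProd J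
  have hconj : ∀ g, conj (classProd J g) = classProd J g := by
    intro g
    unfold classProd
    rw [map_sum]
    apply Finset.sum_congr rfl
    intro x _
    split_ifs <;> simp
  have hsum : ∑ y : P, lam y = 0 := by
    have h := classInner_irr hlm (isIrrCharacter_one (G := P))
    rw [if_neg hlm1] at h
    unfold classInner at h
    rcases mul_eq_zero.mp h with h | h
    · exact absurd (inv_eq_zero.mp h) (by rw [hP]; exact hpC)
    · simpa using h
  have hQ1 : classInner β (classProd J) = p := by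
    rw [hβ, frobenius_reciprocity P _ hF]
    unfold classInner
    rw [hP]
    have hterm : ∀ y : P, ((fun _ : P => (1 : ℂ)) - lam) y * conj (classProd J (y : G)) =
        (1 - lam y) * p := by
      intro y
      by_cases hy : y = 1
      · rw [hy, Pi.sub_apply, hlmone]; simp
      · rw [hconj, hprod y y.2 (fun h => hy (Subtype.ext h)), Pi.sub_apply]
    rw [Finset.sum_congr rfl (fun y _ => hterm y), ← Finset.sum_mul, Finset.sum_sub_distrib,
      hsum, Finset.sum_const, Finset.card_univ, ← Nat.card_eq_fintype_card, hP]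
    simp
    field_simp
  have hG0 : (Nat.card G : ℂ) ≠ 0 := by
    have : 0 < Nat.card G := Nat.card_pos
    exact_mod_cast this.ne'
  have hQ2 : classInner β (classProd J) = (Nat.card G : ℂ)⁻¹ *
      ((1 : ℂ) * (centralChar (fun _ : G => (1 : ℂ)) J) ^ 2 +
        (a : G → ℂ) 1 * (centralChar (a : G → ℂ) J) ^ 2 -
        (b : G → ℂ) 1 * (centralChar (b : G → ℂ) J) ^ 2) := by
    unfold classInner
    congr 1
    rw [← sum_classProd_mul_char J (isIrrCharacter_one (G := G)),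
      ← sum_classProd_mul_char J a.2, ← sum_classProd_mul_char J b.2,
      ← Finset.sum_add_distrib, ← Finset.sum_sub_distrib]
    apply Finset.sum_congr rfl
    intro g _
    rw [hconj, hval g]
    ring
  obtain ⟨I, hI⟩ : ∃ I : ℂ, I = ((Subgroup.centralizer ({J} : Set G)).index : ℂ) := ⟨_, rfl⟩
  obtain ⟨cJ, hcJ⟩ : ∃ cJ : ℂ, cJ = (Nat.card (Subgroup.centralizer ({J} : Set G)) : ℂ) :=
    ⟨_, rfl⟩
  have hcI : cJ * I = (Nat.card G : ℂ) := by
    rw [hcJ, hI]
    exact_mod_cast Subgroup.card_mul_index (Subgroup.centralizer ({J} : Set G))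
  have hf0 : (f : ℂ) ≠ 0 := by exact_mod_cast hfpos.ne'
  have hf1 : (f : ℂ) + 1 ≠ 0 := by exact_mod_cast (Nat.succ_ne_zero f)
  have hEq : (p : ℂ) = (Nat.card G : ℂ)⁻¹ *
      ((1 : ℂ) * (I * 1 / 1) ^ 2 + (f : ℂ) * (I * s / f) ^ 2 -
        ((f : ℂ) + 1) * (I * ((s : ℂ) + 1) / ((f : ℂ) + 1)) ^ 2) := by
    rw [← hQ1, hQ2]
    unfold centralChar
    rw [hf, hb1, hs, hbJ, ← hI]
  have h1 : (p : ℂ) * (Nat.card G : ℂ) * (f * (f + 1)) = I ^ 2 * (f - s) ^ 2 := by
    rw [hEq]
    field_simp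
    ring
  have h2 : (p : ℂ) * cJ ^ 2 * (f * (f + 1)) = (Nat.card G : ℂ) * (f - s) ^ 2 := by
    apply mul_left_cancel₀ hG0
    linear_combination cJ ^ 2 * h1 + (f - s) ^ 2 * (cJ * I + (Nat.card G : ℂ)) * hcI
  refine ⟨f, s, hfpos, ?_⟩
  rw [hcJ] at h2
  exact_mod_cast h2

end DihPrime

end Cfsg.Agent.Lib.helper32
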