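import Mathlib
import Cfsg.Agent.Lib.helper32.Dih1

set_option autoImplicit false

/-!
# Self-centralizing subgroups of odd prime order with dihedral normalizer, II (helper32)

`P ≤ G` of odd prime order `p`, `C_G(P) ≤ P`, `|N_G(P)| = 2p`.  The elements of `N_G(P) \ P`
are involutions, all conjugate, and each `y ∈ P \ {1}` is a product of two of them in exactly
`p` ways.  Consequently `|G| / p` is not a perfect square (`dih_prime_not_sq`).
-/

namespace Cfsg.Agent.Lib.helper32

open Cfsg

universe u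

section DihGroup

variable {G : Type u} [Group G]

/-- In a subgroup of prime order every element is a power of any nonidentity element. -/
theorem exists_zpow_of_prime_card {p : ℕ} (hp : p.Prime) (P : Subgroup G) (hP : Nat.card P = p)
    {z q : G} (hz : z ∈ P) (hz1 : z ≠ 1) (hq : q ∈ P) : ∃ k : ℤ, q = z ^ k := by
  have := Fact.mk hp
  have h := mem_zpowers_of_prime_card (G := P) hP (g := ⟨z, hz⟩) (g' := ⟨q, hq⟩)
    (fun h => hz1 (congrArg Subtype.val h))
  obtain ⟨k, hk⟩ := Subgroup.mem_zpowers_iff.mp h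
  refine ⟨k, ?_⟩
  have := congrArg Subtype.val hk
  simpa using this.symm

/-- An element commuting with a nonidentity element of a subgroup of prime order centralizes
the subgroup. -/
theorem mem_centralizer_of_commute_prime_card {p : ℕ} (hp : p.Prime) (P : Subgroup G)
    (hP : Nat.card P = p) {z a : G} (hz : z ∈ P) (hz1 : z ≠ 1) (hza : a * z = z * a) :
    a ∈ Subgroup.centralizer (P : Set G) := by
  rw [Subgroup.mem_centralizer_iff]
  intro q hq
  obtain ⟨k, rfl⟩ := exists_zpow_of_prime_card hp P hP hz hz1 hq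
  exact ((show Commute a z from hza).zpow_right k).eq.symm

/-- The structure of a dihedral normalizer `N_G(P)` of order `2p`. -/
theorem dih_normalizer_facts {p : ℕ} (hp : p.Prime) (hp2 : p ≠ 2) (P : Subgroup G)
    (hP : Nat.card P = p) (hC : Subgroup.centralizer (P : Set G) ≤ P)
    (hN : Nat.card (Subgroup.normalizer (P : Set G)) = p * 2)
    (J : G) (hJN : J ∈ Subgroup.normalizer (P : Set G)) (hJ : orderOf J = 2) :
    J * J = 1 ∧ (∀ t : G, t * t = 1 → t ∈ P → t = 1) ∧
    (∀ a ∈ Subgroup.normalizer (P : Set G), ∀ b ∈ Subgroup.normalizer (P : Set G),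
      (a * b ∈ P ↔ (a ∈ P ↔ b ∈ P))) ∧
    (∀ a ∈ Subgroup.normalizer (P : Set G), a ∉ P → a * a = 1 ∧ IsConj J a) := by
  have hfin : Finite P := Nat.finite_of_card_ne_zero (by rw [hP]; exact hp.ne_zero)
  have hPN : P ≤ Subgroup.normalizer (P : Set G) := Subgroup.le_normalizer
  have hJJ : J * J = 1 := by
    rw [← pow_two, ← hJ]
    exact pow_orderOf_eq_one J
  have hnot2 : ∀ t : G, t * t = 1 → t ∈ P → t = 1 := by
    intro t ht htP
    have h1 : orderOf t ∣ 2 := orderOf_dvd_of_pow_eq_one (by rw [pow_two]; exact ht)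
    have h2 : orderOf t ∣ p := by
      have h3 := orderOf_dvd_natCard (⟨t, htP⟩ : P)
      rwa [hP, Subgroup.orderOf_mk] at h3
    have h4 : orderOf t ∣ Nat.gcd 2 p := Nat.dvd_gcd h1 h2
    have h5 : Nat.gcd 2 p = 1 := by
      rw [Nat.coprime_primes Nat.prime_two hp |>.mpr (Ne.symm hp2)]
    rw [h5, Nat.dvd_one] at h4
    exact orderOf_eq_one_iff.mp h4
  have hJ1 : J ≠ 1 := by
    rintro rfl
    rw [orderOf_one] at hJ
    omega
  have hJP : J ∉ P := fun h => hJ1 (hnot2 J hJJ h)
  have hidx : (P.subgroupOf (Subgroup.normalizer (P : Set G))).index = 2 := by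
    have h1 := Subgroup.card_mul_index (P.subgroupOf (Subgroup.normalizer (P : Set G)))
    rw [Nat.card_congr (Subgroup.subgroupOfEquivOfLe hPN).toEquiv, hP, hN] at h1
    exact Nat.eq_of_mul_eq_mul_left hp.pos h1
  have hmul : ∀ a ∈ Subgroup.normalizer (P : Set G), ∀ b ∈ Subgroup.normalizer (P : Set G),
      (a * b ∈ P ↔ (a ∈ P ↔ b ∈ P)) := by
    intro a ha b hb
    have h := Subgroup.mul_mem_iff_of_index_two hidx
      (a := (⟨a, ha⟩ : Subgroup.normalizer (P : Set G))) (b := ⟨b, hb⟩)
    simpa [Subgroup.mem_subgroupOf] using h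
  have hsq : ∀ a ∈ Subgroup.normalizer (P : Set G), a ∉ P → a * a = 1 := by
    intro a ha haP
    by_contra hne
    have hz : a * a ∈ P := (hmul a ha a ha).mpr Iff.rfl
    exact haP (hC (mem_centralizer_of_commute_prime_card hp P hP hz hne (by group)))
  refine ⟨hJJ, hnot2, hmul, ?_⟩
  intro a ha haP
  refine ⟨hsq a ha haP, ?_⟩
  -- `q = a J ∈ P`
  have hq : a * J ∈ P := (hmul a ha J hJN).mpr ⟨fun h => absurd h haP, fun h => absurd h hJP⟩
  obtain ⟨q, hqdef⟩ : ∃ q : G, q = a * J := ⟨_, rfl⟩
  rw [← hqdef] at hq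
  have haq : a = q * J := by
    rw [hqdef, mul_assoc, hJJ, mul_one]
  -- `J` inverts `P`
  have hinv : ∀ r ∈ P, J * r * J = r⁻¹ := by
    intro r hr
    have hrJ : r * J ∉ P := fun h =>
      hJP (((hmul r (hPN hr) J hJN).mp h).mp hr)
    have h1 := hsq (r * J) (mul_mem (hPN hr) hJN) hrJ
    calc J * r * J = r⁻¹ * (r * J * (r * J)) := by group
      _ = r⁻¹ := by rw [h1, mul_one]
  have hodd : Odd p := hp.eq_two_or_odd'.resolve_left hp2
  obtain ⟨k, hk⟩ := hodd
  have hqp : q ^ p = 1 := by
    have h3 := orderOf_dvd_natCard (⟨q, hq⟩ : P)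
    rw [hP, Subgroup.orderOf_mk] at h3
    exact orderOf_dvd_iff_pow_eq_one.mp h3
  have hr : q ^ (k + 1) ∈ P := pow_mem hq _
  have hrr : q ^ (k + 1) * q ^ (k + 1) = q := by
    rw [← pow_add]
    have : k + 1 + (k + 1) = p + 1 := by omega
    rw [this, pow_succ, hqp, one_mul]
  rw [isConj_iff]
  refine ⟨q ^ (k + 1), ?_⟩
  have h2 := hinv _ hr
  calc q ^ (k + 1) * J * (q ^ (k + 1))⁻¹
      = q ^ (k + 1) * J * (J * q ^ (k + 1) * J) := by rw [h2]
    _ = q ^ (k + 1) * (J * J) * q ^ (k + 1) * J := by group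
    _ = q ^ (k + 1) * q ^ (k + 1) * J := by rw [hJJ, mul_one]
    _ = a := by rw [hrr, ← haq]

end DihGroup

section DihCount

variable {G : Type u} [Group G] [Fintype G]

open Cfsg.Agent.Lib.helper4 in
/-- Every nonidentity element of `P` is a product of two conjugates of `J` in exactly `p`
ways. -/
theorem dih_classProd {p : ℕ} (hp : p.Prime) (hp2 : p ≠ 2) (P : Subgroup G)
    (hP : Nat.card P = p) (hC : Subgroup.centralizer (P : Set G) ≤ P)
    (hN : Nat.card (Subgroup.normalizer (P : Set G)) = p * 2)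
    (J : G) (hJN : J ∈ Subgroup.normalizer (P : Set G)) (hJ : orderOf J = 2)
    (y : G) (hy : y ∈ P) (hy1 : y ≠ 1) : classProd J y = p := by
  classical
  obtain ⟨hJJ, hnot2, hmul, hconj⟩ := dih_normalizer_facts hp hp2 P hP hC hN J hJN hJ
  have hPN : P ≤ Subgroup.normalizer (P : Set G) := Subgroup.le_normalizer
  have hJ1 : J ≠ 1 := by
    rintro rfl
    rw [orderOf_one] at hJ
    omega
  have hiff : ∀ a : G, (IsConj J a ∧ IsConj J (a⁻¹ * y)) ↔
      (a ∈ Subgroup.normalizer (P : Set G) ∧ a ∉ P) := by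
    intro a
    constructor
    · rintro ⟨h1, h2⟩
      obtain ⟨c, hc⟩ := isConj_iff.mp h1
      obtain ⟨d, hd⟩ := isConj_iff.mp h2
      have haa : a * a = 1 := by
        rw [← hc]
        calc c * J * c⁻¹ * (c * J * c⁻¹) = c * (J * J) * c⁻¹ := by group
          _ = 1 := by rw [hJJ]; group
      have ha1 : a ≠ 1 := by
        intro h
        apply hJ1
        have h' : J = c⁻¹ * (c * J * c⁻¹) * c := by group
        rw [h', hc, h]
        group
      have hbb : a⁻¹ * y * (a⁻¹ * y) = 1 := by
        rw [← hd]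
        calc d * J * d⁻¹ * (d * J * d⁻¹) = d * (J * J) * d⁻¹ := by group
          _ = 1 := by rw [hJJ]; group
      have hainv : a⁻¹ = a := inv_eq_of_mul_eq_one_left haa
      have hay : a * y * a⁻¹ = y⁻¹ := by
        calc a * y * a⁻¹ = a * a * (a⁻¹ * y * (a⁻¹ * y)) * y⁻¹ := by group
          _ = y⁻¹ := by rw [hbb, haa]; group
      have haP : a ∉ P := fun h => ha1 (hnot2 a haa h)
      refine ⟨?_, haP⟩
      have hfwd : ∀ q ∈ P, a * q * a⁻¹ ∈ P := by
        intro q hq
        obtain ⟨k, rfl⟩ := exists_zpow_of_prime_card hp P hP hy hy1 hq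
        rw [← conj_zpow, hay]
        exact zpow_mem (inv_mem hy) k
      rw [Subgroup.mem_normalizer_iff]
      intro q
      constructor
      · exact hfwd q
      · intro h
        have h3 := hfwd _ h
        have h4 : a * (a * q * a⁻¹) * a⁻¹ = q := by
          calc a * (a * q * a⁻¹) * a⁻¹ = (a * a) * q * (a * a)⁻¹ := by group
            _ = q := by rw [haa]; group
        rwa [h4] at h3
    · rintro ⟨haN, haP⟩
      refine ⟨(hconj a haN haP).2, (hconj (a⁻¹ * y) (mul_mem (inv_mem haN) (hPN hy)) ?_).2⟩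
      intro h
      have h5 := (hmul a⁻¹ (inv_mem haN) y (hPN hy)).mp h
      exact haP (inv_mem_iff.mp (h5.mpr hy))
  have hcard : (Finset.univ.filter (fun a : G => IsConj J a ∧ IsConj J (a⁻¹ * y))).card = p := by
    have e : Finset.univ.filter (fun a : G => IsConj J a ∧ IsConj J (a⁻¹ * y)) =
        Finset.univ.filter (fun a : G => a ∈ Subgroup.normalizer (P : Set G) ∧ a ∉ P) := by
      apply Finset.filter_congr
      intro a _
      exact hiff a
    rw [e]
    have h1 : (Finset.univ.filter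
        (fun a : G => a ∈ Subgroup.normalizer (P : Set G) ∧ a ∉ P)).card +
        (Finset.univ.filter (fun a : G => a ∈ P)).card =
        (Finset.univ.filter (fun a : G => a ∈ Subgroup.normalizer (P : Set G))).card := by
      rw [← Finset.card_union_of_disjoint]
      · congr 1
        ext a
        simp only [Finset.mem_union, Finset.mem_filter, Finset.mem_univ, true_and]
        constructor
        · rintro (h | h)
          · exact h.1
          · exact hPN h
        · intro h
          by_cases haP : a ∈ P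
          · right; exact haP
          · left; exact ⟨h, haP⟩
      · rw [Finset.disjoint_left]
        intro a h1 h2
        simp only [Finset.mem_filter, Finset.mem_univ, true_and] at h1 h2
        exact h1.2 h2
    have h2 : (Finset.univ.filter (fun a : G => a ∈ P)).card = p := by
      rw [← Fintype.card_subtype, ← Nat.card_eq_fintype_card]
      exact hP
    have h3 : (Finset.univ.filter
        (fun a : G => a ∈ Subgroup.normalizer (P : Set G))).card = p * 2 := by
      rw [← Fintype.card_subtype, ← Nat.card_eq_fintype_card]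
      exact hN
    omega
  unfold classProd
  rw [Finset.sum_boole]
  have hcard' := hcard
  rw [← hcard']

end DihCount

section DihFinal

variable {G : Type u} [Group G] [Finite G]

/-- **Non-square criterion.**  If a finite group `G` has a subgroup `P` of odd prime order `p`
with `C_G(P) ≤ P` and `|N_G(P)| = 2p`, then `|G| / p` is not a perfect square. -/
theorem dih_prime_not_sq {p : ℕ} (hp : p.Prime) (hp2 : p ≠ 2) (P : Subgroup G)
    (hP : Nat.card P = p) (hC : Subgroup.centralizer (P : Set G) ≤ P)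
    (hN : Nat.card (Subgroup.normalizer (P : Set G)) = p * 2) (m : ℕ)
    (hG : Nat.card G = p * m ^ 2) : False := by
  classical
  have := Fintype.ofFinite G
  have := Fact.mk Nat.prime_two
  obtain ⟨J', hJ'⟩ := exists_prime_orderOf_dvd_card' (G := Subgroup.normalizer (P : Set G)) 2
    (by rw [hN]; exact Dvd.intro_left p rfl)
  obtain ⟨J, hJdef⟩ : ∃ J : G, J = (J' : G) := ⟨_, rfl⟩
  have hJN : J ∈ Subgroup.normalizer (P : Set G) := by rw [hJdef]; exact J'.2
  have hJ : orderOf J = 2 := by rw [hJdef, Subgroup.orderOf_coe]; exact hJ'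
  obtain ⟨hJJ, hnot2, hmul, hconj⟩ := dih_normalizer_facts hp hp2 P hP hC hN J hJN hJ
  have hJ1 : J ≠ 1 := by
    rintro rfl
    rw [orderOf_one] at hJ
    omega
  have hJP : ∀ x : G, x⁻¹ * J * x ∉ P := by
    intro x h
    have h1 : (x⁻¹ * J * x) * (x⁻¹ * J * x) = 1 := by
      calc (x⁻¹ * J * x) * (x⁻¹ * J * x) = x⁻¹ * (J * J) * x := by group
        _ = 1 := by rw [hJJ]; group
    have h2 := hnot2 _ h1 h
    apply hJ1
    have h' : J = x * (x⁻¹ * J * x) * x⁻¹ := by group
    rw [h', h2]
    group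
  obtain ⟨f, s, hf, heq⟩ := dih_prime_class_eq hp P hP hC hN J hJJ hJP
    (fun y hy hy1 => dih_classProd hp hp2 P hP hC hN J hJN hJ y hy hy1)
  obtain ⟨c, hc⟩ : ∃ c : ℤ, c = (Nat.card (Subgroup.centralizer ({J} : Set G)) : ℤ) := ⟨_, rfl⟩
  rw [← hc, hG] at heq
  have hcpos : 0 < c := by
    rw [hc]
    exact_mod_cast Nat.card_pos
  have hpz : (p : ℤ) ≠ 0 := by exact_mod_cast hp.ne_zero
  have h1 : c ^ 2 * ((f : ℤ) * (f + 1)) = ((m : ℤ) * (f - s)) ^ 2 := by
    apply mul_left_cancel₀ hpz
    push_cast at heq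
    linear_combination heq
  have hdvd : c ∣ (m : ℤ) * (f - s) :=
    (Int.pow_dvd_pow_iff two_ne_zero).mp (Dvd.intro _ h1)
  obtain ⟨t, ht⟩ := hdvd
  have h2 : (f : ℤ) * (f + 1) = t ^ 2 := by
    rw [ht] at h1
    have hc2 : c ^ 2 ≠ 0 := pow_ne_zero 2 hcpos.ne'
    apply mul_left_cancel₀ hc2
    linear_combination h1
  have hfz : (0 : ℤ) < f := by exact_mod_cast hf
  rcases le_or_gt |t| (f : ℤ) with h | h
  · nlinarith [sq_abs t, abs_nonneg t]
  · have h3 : (f : ℤ) + 1 ≤ |t| := h
    nlinarith [sq_abs t, abs_nonneg t]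

end DihFinal

end Cfsg.Agent.Lib.helper32
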