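import Mathlib
import Cfsg.Agent.Lib.helper75.SimpleOrdA
import Cfsg.Agent.Lib.helper32.Dih2

set_option autoImplicit false

/-!
# Simple groups of order 4032: the case `n_7 = 64` (helper32)

`P` a Sylow 7-subgroup with `|N(P)| = 63`, `|C(P)| = 21`; `y ∈ C(P)` of order 3.
* `cent_three_eq_4032`: `C_G(y) = N_G(P)`.
* `no_simple_4032_sixty_four`: this configuration is impossible.
-/

namespace Cfsg.Agent.Lib.helper32

open MulAction
open scoped Pointwise
open Cfsg.Agent.Lib.helper75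

section Ord4032

variable {G : Type*} [Group G] [Finite G] [IsSimpleGroup G]

omit [Finite G] in
/-- Two commuting elements of orders 7 and 3 cannot both lie in a subgroup of index 8 of a
simple group. -/
theorem no_index_eight_seven_three (H : Subgroup G) (hidx : H.index = 8) (x y : G)
    (hx : orderOf x = 7) (hy : orderOf y = 3) (hxy : x * y = y * x) (hxH : x ∈ H)
    (hyH : y ∈ H) : False := by
  have h7 : Fact (Nat.Prime 7) := ⟨by norm_num⟩
  have h3 : Fact (Nat.Prime 3) := ⟨by norm_num⟩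
  have hH : H ≠ ⊤ := by
    intro h
    rw [h, Subgroup.index_top] at hidx
    omega
  have hcard : Nat.card (G ⧸ H) = 8 := by
    rw [← Subgroup.index_eq_card]
    exact hidx
  have : Finite (G ⧸ H) := Nat.finite_of_card_ne_zero (by rw [hcard]; norm_num)
  have hfaith := coset_faithful H hH
  have hx1 : x ≠ 1 := by
    rintro rfl
    rw [orderOf_one] at hx
    omega
  have hy1 : y ≠ 1 := by
    rintro rfl
    rw [orderOf_one] at hy
    omega
  have a1 := card_fixed_modEq (G ⧸ H) x 7 hx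
  have a2 := fixed_lt_of_faithful hfaith x hx1
  have b1 := card_fixed_modEq (G ⧸ H) y 3 hy
  have b2 := fixed_lt_of_faithful hfaith y hy1
  have c1 := card_fixed_commuting_modEq (Ω := G ⧸ H) y x 7 hx hxy
  have c2 : 1 ≤ Nat.card {ω : G ⧸ H // y • ω = ω ∧ x • ω = ω} :=
    Nat.card_pos_iff.mpr ⟨⟨⟨_, coset_base_fixed H y hyH, coset_base_fixed H x hxH⟩⟩, inferInstance⟩
  have c3 : Nat.card {ω : G ⧸ H // y • ω = ω ∧ x • ω = ω} ≤ Nat.card {ω : G ⧸ H // x • ω = ω} :=
    Nat.card_le_card_of_injective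
      (fun a : {ω : G ⧸ H // y • ω = ω ∧ x • ω = ω} => (⟨a.1, a.2.2⟩ : {ω : G ⧸ H // x • ω = ω}))
      (by
        intro a b hab
        have h1 := congrArg (fun z : {ω : G ⧸ H // x • ω = ω} => z.1) hab
        exact Subtype.ext h1)
  rw [hcard] at a1 a2 b1 b2
  unfold Nat.ModEq at a1 b1 c1
  omega

omit [IsSimpleGroup G] in
/-- In a group of order 4032 the Sylow 3-subgroups are abelian of order 9. -/
theorem sylow_three_4032 (hG : Nat.card G = 4032) (S₀ : Sylow 3 G) :
    Nat.card S₀ = 9 ∧ ∀ a ∈ (S₀ : Subgroup G), ∀ b ∈ (S₀ : Subgroup G), a * b = b * a := by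
  have h3 : Fact (Nat.Prime 3) := ⟨by norm_num⟩
  have hS9 : Nat.card S₀ = 9 := by
    obtain ⟨k, hk⟩ := IsPGroup.iff_card.mp S₀.2
    have h9 : 3 ^ 2 ∣ Nat.card S₀ := S₀.pow_dvd_card_of_pow_dvd_card (by rw [hG]; norm_num)
    have hdvd : Nat.card S₀ ∣ 4032 := by rw [← hG]; exact Subgroup.card_subgroup_dvd_card _
    rw [hk] at h9 hdvd ⊢
    have hk2 : 2 ≤ k := (Nat.pow_dvd_pow_iff_le_right (by norm_num)).mp h9
    have hk3 : k < 3 := by
      by_contra hcon
      have h27 : 3 ^ 3 ∣ 4032 := (pow_dvd_pow 3 (by omega)).trans hdvd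
      norm_num at h27
    have hk' : k = 2 := by omega
    rw [hk']
    norm_num
  refine ⟨hS9, ?_⟩
  have hc := IsPGroup.isMulCommutative_of_card_eq_prime_sq (p := 3) (G := (S₀ : Subgroup G))
    (by rw [hS9]; norm_num)
  intro a ha b hb
  have := hc.is_comm.comm ⟨a, ha⟩ ⟨b, hb⟩
  exact congrArg Subtype.val this

/-- `C_G(y) = N_G(P)` for an element `y` of order 3 centralizing `P`. -/
theorem cent_three_eq_4032 (hG : Nat.card G = 4032) (P : Sylow 7 G) (hP : Nat.card P = 7)
    (hn : Nat.card (Sylow 7 G) = 64) (hN : Nat.card (stabilizer G P) = 63)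
    (y : G) (hyC : y ∈ Subgroup.centralizer ((P : Subgroup G) : Set G)) (hy : orderOf y = 3) :
    Subgroup.centralizer ({y} : Set G) = stabilizer G P := by
  have h7 : Fact (Nat.Prime 7) := ⟨by norm_num⟩
  have h3 : Fact (Nat.Prime 3) := ⟨by norm_num⟩
  have hn1 : Nat.card (Sylow 7 G) ≠ 1 := by omega
  obtain ⟨x, hxP, hx⟩ := exists_mem_orderOf_prime (P : Subgroup G) 7 (by rw [hP])
  have hxy : x * y = y * x := Subgroup.mem_centralizer_iff.mp hyC x hxP
  obtain ⟨H, hH⟩ : ∃ H : Subgroup G, H = Subgroup.centralizer ({y} : Set G) := ⟨_, rfl⟩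
  have hmemH : ∀ g : G, g ∈ H ↔ y * g = g * y := by
    intro g
    rw [hH, Subgroup.mem_centralizer_iff]
    constructor
    · intro h; exact h y rfl
    · rintro h _ rfl; exact h
  rw [← hH]
  have hpg : IsPGroup 3 (Subgroup.zpowers y) :=
    IsPGroup.of_card (n := 1) (by rw [Nat.card_zpowers, hy, pow_one])
  obtain ⟨S₀, hS₀⟩ := hpg.exists_le_sylow
  have hyS : y ∈ (S₀ : Subgroup G) := hS₀ (Subgroup.mem_zpowers y)
  obtain ⟨hS9, hScomm⟩ := sylow_three_4032 hG S₀
  have hSH : (S₀ : Subgroup G) ≤ H := fun s hs => (hmemH s).mpr (hScomm y hyS s hs)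
  have hPH : (P : Subgroup G) ≤ H := fun q hq =>
    (hmemH q).mpr (Subgroup.mem_centralizer_iff.mp hyC q hq).symm
  have hyH : y ∈ H := (hmemH y).mpr rfl
  have hxH : x ∈ H := hPH hxP
  have h9H : 9 ∣ Nat.card H := by rw [← hS9]; exact Subgroup.card_dvd_of_le hSH
  have h7H : 7 ∣ Nat.card H := by rw [← hP]; exact Subgroup.card_dvd_of_le hPH
  have h63H : 63 ∣ Nat.card H :=
    Nat.Coprime.mul_dvd_of_dvd_of_dvd (by norm_num : Nat.Coprime 9 7) h9H h7H
  have hHG : Nat.card H ∣ 4032 := by rw [← hG]; exact Subgroup.card_subgroup_dvd_card _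
  have hPD : (P : Subgroup G) ≤ H ⊓ stabilizer G P := le_inf hPH (sylow_le_stabilizer' P)
  have hyD : y ∈ H ⊓ stabilizer G P := ⟨hyH, centralizer_le_stabilizer P hyC⟩
  have h7D : 7 ∣ Nat.card (H ⊓ stabilizer G P : Subgroup G) := by
    have h := Subgroup.card_dvd_of_le hPD
    rwa [hP] at h
  have h3D : 3 ∣ Nat.card (H ⊓ stabilizer G P : Subgroup G) := by
    have := orderOf_dvd_natCard (⟨y, hyD⟩ : (H ⊓ stabilizer G P : Subgroup G))
    rwa [Subgroup.orderOf_mk, hy] at this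
  have hD63 : Nat.card (H ⊓ stabilizer G P : Subgroup G) ∣ 63 := by
    rw [← hN]; exact Subgroup.card_dvd_of_le inf_le_right
  have horb := orbit_ncard_modEq_one H P hPH
  have h1 := Subgroup.card_mul_index (stabilizer H P)
  rw [MulAction.index_stabilizer] at h1
  have hst : stabilizer H P = (H ⊓ stabilizer G P).subgroupOf H := by
    ext g
    rw [MulAction.mem_stabilizer_iff, Subgroup.mem_subgroupOf, Subgroup.mem_inf,
      MulAction.mem_stabilizer_iff]
    constructor
    · intro h; exact ⟨g.2, h⟩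
    · intro h; exact h.2
  have hcard : Nat.card (stabilizer H P) = Nat.card (H ⊓ stabilizer G P : Subgroup G) := by
    rw [hst]; exact Nat.card_congr (Subgroup.subgroupOfEquivOfLe inf_le_left).toEquiv
  rw [hcard] at h1
  obtain ⟨d, hd⟩ : ∃ d, d = Nat.card (H ⊓ stabilizer G P : Subgroup G) := ⟨_, rfl⟩
  obtain ⟨o, ho⟩ : ∃ o, o = (orbit H P).ncard := ⟨_, rfl⟩
  obtain ⟨c, hc⟩ : ∃ c, c = Nat.card H := ⟨_, rfl⟩
  rw [← hd] at h7D h3D hD63 h1
  rw [← ho] at horb h1
  rw [← hc] at h63H hHG h1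
  have hd' : d = 21 ∨ d = 63 := by
    have hle : d ≤ 63 := Nat.le_of_dvd (by norm_num) hD63
    have hpos : 0 < d := Nat.pos_of_dvd_of_pos hD63 (by norm_num)
    clear h1 hd
    interval_cases d <;> omega
  have hcases : d = 63 ∧ (c = 63 ∨ c = 504 ∨ c = 4032) := by
    obtain ⟨h, hh⟩ := h63H
    have hh64 : h ∣ 64 := by
      rw [hh] at hHG
      exact Nat.dvd_of_mul_dvd_mul_left (by norm_num : 0 < 63) hHG
    have hle : h ≤ 64 := Nat.le_of_dvd (by norm_num) hh64
    have hpos : 0 < h := Nat.pos_of_dvd_of_pos hh64 (by norm_num)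
    unfold Nat.ModEq at horb
    clear hc hd ho
    rcases hd' with rfl | rfl
    · interval_cases h <;> omega
    · interval_cases h <;> omega
  obtain ⟨hd63, hc'⟩ := hcases
  rcases hc' with hc63 | hc504 | hc4032
  · -- `|H| = 63`
    have e1 : H ⊓ stabilizer G P = H :=
      Subgroup.eq_of_le_of_card_ge inf_le_left (by rw [← hd, ← hc, hd63, hc63])
    have e2 : H ⊓ stabilizer G P = stabilizer G P :=
      Subgroup.eq_of_le_of_card_ge inf_le_right (by rw [← hd, hd63, hN])
    rw [← e1, e2]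
  · -- index 8
    exfalso
    have hidx := Subgroup.card_mul_index H
    rw [← hc, hc504, hG] at hidx
    exact no_index_eight_seven_three H (by omega) x y hx hy hxy hxH hyH
  · -- `y` central
    exfalso
    have htop : H = ⊤ := (Subgroup.card_eq_iff_eq_top H).mp (by rw [← hc, hc4032, hG])
    have hy1 : y = 1 := by
      apply sylow_faithful (p := 7) hn1 y
      intro Q
      apply Sylow.smul_eq_iff_mem_normalizer.mpr
      apply Subgroup.centralizer_le_normalizer
      rw [Subgroup.mem_centralizer_iff]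
      intro q _
      have hq : q ∈ H := by rw [htop]; trivial
      exact ((hmemH q).mp hq).symm
    rw [hy1, orderOf_one] at hy
    omega

/-- No simple group of order 4032 has 64 Sylow 7-subgroups with `|C(P)| = 21`. -/
theorem no_simple_4032_sixty_four (hG : Nat.card G = 4032) (P : Sylow 7 G) (hP : Nat.card P = 7)
    (hn : Nat.card (Sylow 7 G) = 64) (hN : Nat.card (stabilizer G P) = 63)
    (hCc : Nat.card (Subgroup.centralizer ((P : Subgroup G) : Set G)) = 21) : False := by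
  have h7 : Fact (Nat.Prime 7) := ⟨by norm_num⟩
  have h3 : Fact (Nat.Prime 3) := ⟨by norm_num⟩
  have h2 : Fact (Nat.Prime 2) := ⟨Nat.prime_two⟩
  obtain ⟨y, hyC, hy⟩ := exists_mem_orderOf_prime
    (Subgroup.centralizer ((P : Subgroup G) : Set G)) 3 (by rw [hCc]; norm_num)
  obtain ⟨x, hxP, hx⟩ := exists_mem_orderOf_prime (P : Subgroup G) 7 (by rw [hP])
  have hxy : x * y = y * x := Subgroup.mem_centralizer_iff.mp hyC x hxP
  have hHN := cent_three_eq_4032 hG P hP hn hN y hyC hy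
  obtain ⟨H, hH⟩ : ∃ H : Subgroup G, H = Subgroup.centralizer ({y} : Set G) := ⟨_, rfl⟩
  rw [← hH] at hHN
  have hmemH : ∀ g : G, g ∈ H ↔ y * g = g * y := by
    intro g
    rw [hH, Subgroup.mem_centralizer_iff]
    constructor
    · intro h; exact h y rfl
    · rintro h _ rfl; exact h
  have hHcard : Nat.card H = 63 := by rw [hHN]; exact hN
  have hx1 : x ≠ 1 := by
    rintro rfl
    rw [orderOf_one] at hx
    omega
  have hy1 : y ≠ 1 := by
    rintro rfl
    rw [orderOf_one] at hy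
    omega
  have hyinv : y⁻¹ ≠ y := by
    intro h
    have h1 : y ^ 2 = 1 := by
      rw [pow_two]
      calc y * y = y⁻¹ * y := by rw [h]
        _ = 1 := inv_mul_cancel y
    have h2 := orderOf_dvd_of_pow_eq_one h1
    rw [hy] at h2
    omega
  have hHodd : ∀ g ∈ H, g * g = 1 → g = 1 := by
    intro g hg hgg
    have h1 : orderOf g ∣ 2 := orderOf_dvd_of_pow_eq_one (by rw [pow_two]; exact hgg)
    have h2' : orderOf g ∣ 63 := by
      have h3' := orderOf_dvd_natCard (⟨g, hg⟩ : H)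
      rwa [hHcard, Subgroup.orderOf_mk] at h3'
    have h4 : orderOf g ∣ Nat.gcd 2 63 := Nat.dvd_gcd h1 h2'
    have h5 : Nat.gcd 2 63 = 1 := by norm_num
    rw [h5, Nat.dvd_one] at h4
    exact orderOf_eq_one_iff.mp h4
  have hxH : x ∈ H := (hmemH x).mpr hxy.symm
  -- elements normalizing `⟨y⟩` lie in `H`
  have hA : ∀ t : G, (t * y * t⁻¹ = y ∨ t * y * t⁻¹ = y⁻¹) → t ∈ H := by
    intro t ht
    rw [hHN, MulAction.mem_stabilizer_iff]
    obtain ⟨z, hz⟩ : ∃ z : G, z = t * x * t⁻¹ := ⟨_, rfl⟩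
    have hzo : orderOf z = 7 := by
      rw [hz, ← hx]
      exact (MulAut.conj t).orderOf_eq x
    have hzy : y * z = z * y := by
      have h1 : (t * y * t⁻¹) * z = z * (t * y * t⁻¹) := by
        rw [hz]
        calc t * y * t⁻¹ * (t * x * t⁻¹) = t * (y * x) * t⁻¹ := by group
          _ = t * (x * y) * t⁻¹ := by rw [hxy]
          _ = t * x * t⁻¹ * (t * y * t⁻¹) := by group
      rcases ht with h | h
      · rw [h] at h1; exact h1
      · rw [h] at h1
        calc y * z = y * (z * y⁻¹) * y := by group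
          _ = y * (y⁻¹ * z) * y := by rw [h1]
          _ = z * y := by group
    have hzH : z ∈ H := (hmemH z).mpr hzy
    have hzP : z • P = P := by
      have h' : z ∈ stabilizer G P := hHN ▸ hzH
      exact MulAction.mem_stabilizer_iff.mp h'
    have hztP : z • (t • P) = t • P := by
      have hmem : z ∈ ((t • P : Sylow 7 G) : Subgroup G) := by
        rw [sylow_mem_smul_iff, hz]
        have h' : t⁻¹ * (t * x * t⁻¹) * t = x := by group
        rw [h']
        exact hxP
      exact MulAction.mem_stabilizer_iff.mp (sylow_le_stabilizer' (t • P) hmem)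
    exact fixed_unique_of_orderOf_prime P (t • P) hP z hzo hzP hztP
  -- a Sylow 3-subgroup containing `y`
  have hpg : IsPGroup 3 (Subgroup.zpowers y) :=
    IsPGroup.of_card (n := 1) (by rw [Nat.card_zpowers, hy, pow_one])
  obtain ⟨S₀, hS₀⟩ := hpg.exists_le_sylow
  have hyS : y ∈ (S₀ : Subgroup G) := hS₀ (Subgroup.mem_zpowers y)
  obtain ⟨hS9, hScomm⟩ := sylow_three_4032 hG S₀
  have hSH : (S₀ : Subgroup G) ≤ H := fun s hs => (hmemH s).mpr (hScomm y hyS s hs)
  obtain ⟨T, hT⟩ : ∃ T : Subgroup G, T = stabilizer G S₀ := ⟨_, rfl⟩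
  have hST : (S₀ : Subgroup G) ≤ T := by rw [hT]; exact sylow_le_stabilizer' S₀
  have hTnorm : ∀ t ∈ T, ∀ s ∈ (S₀ : Subgroup G), t * s * t⁻¹ ∈ (S₀ : Subgroup G) := by
    intro t ht s hs
    rw [hT, MulAction.mem_stabilizer_iff] at ht
    exact (Subgroup.mem_normalizer_iff.mp (Sylow.smul_eq_iff_mem_normalizer.mp ht) s).mp hs
  have hTcard : Nat.card T * Nat.card (Sylow 3 G) = 4032 := by
    rw [hT, ← hG]
    exact card_stabilizer_mul_card_sylow S₀
  have hmod3 : Nat.card (Sylow 3 G) % 3 = 1 := by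
    have h1 := card_sylow_modEq_one 3 G
    unfold Nat.ModEq at h1
    rw [h1]
  -- `T ∩ H` has order 9
  have hD9 : Nat.card (T ⊓ H : Subgroup G) = 9 := by
    have hle : (S₀ : Subgroup G) ≤ T ⊓ H := le_inf hST hSH
    have h9 : 9 ∣ Nat.card (T ⊓ H : Subgroup G) := by
      rw [← hS9]; exact Subgroup.card_dvd_of_le hle
    have h63 : Nat.card (T ⊓ H : Subgroup G) ∣ 63 := by
      rw [← hHcard]; exact Subgroup.card_dvd_of_le inf_le_right
    have hcases : Nat.card (T ⊓ H : Subgroup G) = 9 ∨ Nat.card (T ⊓ H : Subgroup G) = 63 := by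
      obtain ⟨d, hd⟩ : ∃ d, d = Nat.card (T ⊓ H : Subgroup G) := ⟨_, rfl⟩
      rw [← hd] at h9 h63 ⊢
      have hle' : d ≤ 63 := Nat.le_of_dvd (by norm_num) h63
      have hpos : 0 < d := Nat.pos_of_dvd_of_pos h63 (by norm_num)
      clear hd
      interval_cases d <;> omega
    rcases hcases with h | h
    · exact h
    · exfalso
      have e : T ⊓ H = H := Subgroup.eq_of_le_of_card_ge inf_le_right (by rw [h, hHcard])
      have hHT : H ≤ T := by rw [← e]; exact inf_le_left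
      have hxT : x ∈ T := hHT hxH
      have hcomm : ∀ s ∈ (S₀ : Subgroup G), s * x = x * s := by
        intro s hs
        have h1 : x * s * x⁻¹ * s⁻¹ ∈ (S₀ : Subgroup G) :=
          mul_mem (hTnorm x hxT s hs) (inv_mem hs)
        have hsN : s • P = P := by
          have h' : s ∈ stabilizer G P := hHN ▸ hSH hs
          exact MulAction.mem_stabilizer_iff.mp h'
        have h2' : s * x⁻¹ * s⁻¹ ∈ (P : Subgroup G) :=
          (Subgroup.mem_normalizer_iff.mp (Sylow.smul_eq_iff_mem_normalizer.mp hsN) x⁻¹).mp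
            (inv_mem hxP)
        have h3' : x * s * x⁻¹ * s⁻¹ ∈ (P : Subgroup G) := by
          have h' : x * s * x⁻¹ * s⁻¹ = x * (s * x⁻¹ * s⁻¹) := by group
          rw [h']
          exact mul_mem hxP h2'
        have hbot : (P : Subgroup G) ⊓ (S₀ : Subgroup G) = ⊥ :=
          (Subgroup.disjoint_of_coprime_natCard (by rw [hP, hS9]; norm_num)).eq_bot
        have h4 : x * s * x⁻¹ * s⁻¹ = 1 := by
          have h' : x * s * x⁻¹ * s⁻¹ ∈ (P : Subgroup G) ⊓ (S₀ : Subgroup G) := ⟨h3', h1⟩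
          rw [hbot] at h'
          exact Subgroup.mem_bot.mp h'
        calc s * x = (x * s * x⁻¹ * s⁻¹)⁻¹ * (x * s) := by group
          _ = x * s := by rw [h4]; group
      have hSC : (S₀ : Subgroup G) ≤ Subgroup.centralizer ((P : Subgroup G) : Set G) := by
        intro s hs
        exact mem_centralizer_of_commute_prime_card (by norm_num : Nat.Prime 7) (P : Subgroup G)
          hP hxP hx1 (hcomm s hs)
      have h' := Subgroup.card_dvd_of_le hSC
      rw [hS9, hCc] at h'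
      omega
  -- the class map `g H ↦ g y g⁻¹`
  let F : G ⧸ H → G := fun q => Quotient.liftOn' q (fun g => g * y * g⁻¹) (by
    intro a b hab
    rw [QuotientGroup.leftRel_apply] at hab
    have hc := (hmemH _).mp hab
    show a * y * a⁻¹ = b * y * b⁻¹
    calc a * y * a⁻¹ = a * (y * (a⁻¹ * b)) * b⁻¹ := by group
      _ = a * ((a⁻¹ * b) * y) * b⁻¹ := by rw [hc]
      _ = b * y * b⁻¹ := by group)
  have hF : ∀ g : G, F (g : G ⧸ H) = g * y * g⁻¹ := fun g => rfl
  have hFinj : Function.Injective F := by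
    intro q₁ q₂
    refine Quotient.inductionOn₂' q₁ q₂ (fun a b h => ?_)
    have h' : a * y * a⁻¹ = b * y * b⁻¹ := h
    refine QuotientGroup.eq.mpr ((hmemH _).mpr ?_)
    calc y * (a⁻¹ * b) = a⁻¹ * (a * y * a⁻¹) * b := by group
      _ = a⁻¹ * (b * y * b⁻¹) * b := by rw [h']
      _ = (a⁻¹ * b) * y := by group
  have hF'inj : Function.Injective (fun q => (F q)⁻¹) := fun q₁ q₂ h => hFinj (inv_injective h)
  obtain ⟨ω₀, hω₀⟩ : ∃ ω₀ : G ⧸ H, ω₀ = ((1 : G) : G ⧸ H) := ⟨_, rfl⟩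
  have hFT : ∀ ω ∈ orbit T ω₀, F ω ∈ (S₀ : Subgroup G) ∧ F ω ≠ 1 := by
    rintro _ ⟨t, rfl⟩
    have e : F ((t : T) • ω₀) = (t : G) * y * (t : G)⁻¹ := by
      rw [hω₀]
      have e' : (t : T) • ((1 : G) : G ⧸ H) = (((t : G) * 1 : G) : G ⧸ H) := rfl
      rw [e', hF, mul_one]
    rw [e]
    refine ⟨hTnorm t t.2 y hyS, ?_⟩
    intro h
    apply hy1
    have h' : y = (t : G)⁻¹ * ((t : G) * y * (t : G)⁻¹) * (t : G) := by group
    rw [h', h]
    group
  have hdisj : Disjoint (F '' orbit T ω₀) ((fun q => (F q)⁻¹) '' orbit T ω₀) := by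
    rw [Set.disjoint_left]
    rintro _ ⟨ω₁, -, rfl⟩ ⟨ω₂, -, h⟩
    revert h
    refine Quotient.inductionOn₂' ω₁ ω₂ (fun a b h => ?_)
    have h' : (b * y * b⁻¹)⁻¹ = a * y * a⁻¹ := h
    have h1 : (b⁻¹ * a) * y * (b⁻¹ * a)⁻¹ = y⁻¹ := by
      calc (b⁻¹ * a) * y * (b⁻¹ * a)⁻¹ = b⁻¹ * (a * y * a⁻¹) * b := by group
        _ = b⁻¹ * (b * y * b⁻¹)⁻¹ * b := by rw [h']
        _ = y⁻¹ := by group
    have h2' := (hmemH _).mp (hA _ (Or.inr h1))
    apply hyinv
    calc y⁻¹ = (b⁻¹ * a) * y * (b⁻¹ * a)⁻¹ := h1.symm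
      _ = y * (b⁻¹ * a) * (b⁻¹ * a)⁻¹ := by rw [h2']
      _ = y := by group
  have hsub : F '' orbit T ω₀ ∪ (fun q => (F q)⁻¹) '' orbit T ω₀ ⊆
      ((S₀ : Subgroup G) : Set G) \ {1} := by
    rintro s (⟨ω, hω, rfl⟩ | ⟨ω, hω, rfl⟩)
    · exact ⟨(hFT ω hω).1, (hFT ω hω).2⟩
    · exact ⟨inv_mem (hFT ω hω).1, fun h => (hFT ω hω).2 (inv_eq_one.mp h)⟩
  have h8 : (((S₀ : Subgroup G) : Set G) \ {1}).ncard = 8 := by
    rw [Set.ncard_sdiff_singleton_of_mem (one_mem _)]
    have h' : (((S₀ : Subgroup G) : Set G)).ncard = 9 := by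
      rw [← hS9]
      exact (Nat.card_coe_set_eq _).symm
    rw [h']
  obtain ⟨m, hm⟩ : ∃ m, m = (orbit T ω₀).ncard := ⟨_, rfl⟩
  have hunion : (F '' orbit T ω₀ ∪ (fun q => (F q)⁻¹) '' orbit T ω₀).ncard = m + m := by
    rw [Set.ncard_union_eq hdisj (Set.toFinite _) (Set.toFinite _),
      Set.ncard_image_of_injective _ hFinj, Set.ncard_image_of_injective _ hF'inj, ← hm]
  have hm4 : m + m ≤ 8 := by
    rw [← hunion, ← h8]
    exact Set.ncard_le_ncard hsub (Set.toFinite _)
  -- orbit-stabilizer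
  have h1 := Subgroup.card_mul_index (stabilizer T ω₀)
  rw [MulAction.index_stabilizer, ← hm] at h1
  have hst : stabilizer T ω₀ = (T ⊓ H).subgroupOf T := by
    ext t
    rw [MulAction.mem_stabilizer_iff, Subgroup.mem_subgroupOf, Subgroup.mem_inf]
    constructor
    · intro h
      refine ⟨t.2, ?_⟩
      rw [hω₀] at h
      have h' : (((t : G) * 1 : G) : G ⧸ H) = ((1 : G) : G ⧸ H) := h
      rw [QuotientGroup.eq] at h'
      have h'' := inv_mem h'
      simpa using h''
    · intro h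
      rw [hω₀]
      exact coset_base_fixed H (t : G) h.2
  have hcardst : Nat.card (stabilizer T ω₀) = 9 := by
    rw [hst, Nat.card_congr (Subgroup.subgroupOfEquivOfLe inf_le_left).toEquiv, hD9]
  rw [hcardst] at h1
  rw [← h1] at hTcard
  obtain ⟨n₃, hn₃⟩ : ∃ n₃, n₃ = Nat.card (Sylow 3 G) := ⟨_, rfl⟩
  rw [← hn₃] at hTcard hmod3
  have hm' : m = 1 ∨ m = 4 := by
    have hle : m ≤ 4 := by omega
    clear hm hunion
    interval_cases m <;> omega
  rcases hm' with rfl | rfl
  · -- `N(S₀) = S₀`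
    have e : (S₀ : Subgroup G) = T := Subgroup.eq_of_le_of_card_ge hST (by rw [← h1, hS9])
    apply not_simple_of_sylow_central 3 S₀ ?_ (by rw [hS9]; norm_num) (by rw [hS9, hG]; norm_num)
    intro t ht
    have htT : t ∈ T := by
      rw [hT, MulAction.mem_stabilizer_iff]
      exact Sylow.smul_eq_iff_mem_normalizer.mpr ht
    rw [← e] at htT
    rw [Subgroup.mem_centralizer_iff]
    intro s hs
    exact hScomm s hs t htT
  · -- `|N(S₀)| = 36`
    obtain ⟨w, hwT, hw⟩ := exists_mem_orderOf_prime T 2 (by rw [← h1]; norm_num)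
    have hww : w * w = 1 := by
      rw [← pow_two, ← hw]
      exact pow_orderOf_eq_one w
    have hw1 : w ≠ 1 := by
      rintro rfl
      rw [orderOf_one] at hw
      omega
    have hUeq : F '' orbit T ω₀ ∪ (fun q => (F q)⁻¹) '' orbit T ω₀ =
        ((S₀ : Subgroup G) : Set G) \ {1} :=
      Set.eq_of_subset_of_ncard_le hsub (by rw [h8, hunion]) (Set.toFinite _)
    have hodd : ∀ s ∈ (S₀ : Subgroup G), s ≠ 1 → ∀ g : G, g * s = s * g → g * g = 1 → g = 1 := by
      intro s hs hs1 g hgs hgg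
      have hmem : s ∈ F '' orbit T ω₀ ∪ (fun q => (F q)⁻¹) '' orbit T ω₀ := by
        rw [hUeq]
        exact ⟨hs, hs1⟩
      have key : ∃ a : G, s = a * y * a⁻¹ ∨ s = (a * y * a⁻¹)⁻¹ := by
        rcases hmem with ⟨ω, -, rfl⟩ | ⟨ω, -, rfl⟩
        · exact Quotient.inductionOn' ω (fun a => ⟨a, Or.inl rfl⟩)
        · exact Quotient.inductionOn' ω (fun a => ⟨a, Or.inr rfl⟩)
      obtain ⟨a, ha⟩ := key
      have h1' : g * (a * y * a⁻¹) = (a * y * a⁻¹) * g := by
        rcases ha with h | h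
        · rw [← h]; exact hgs
        · have h2' : a * y * a⁻¹ = s⁻¹ := by rw [h, inv_inv]
          rw [h2']
          calc g * s⁻¹ = s⁻¹ * (s * g) * s⁻¹ := by group
            _ = s⁻¹ * (g * s) * s⁻¹ := by rw [hgs]
            _ = s⁻¹ * g := by group
      have hcomm : y * (a⁻¹ * g * a) = (a⁻¹ * g * a) * y := by
        calc y * (a⁻¹ * g * a) = a⁻¹ * ((a * y * a⁻¹) * g) * a := by group
          _ = a⁻¹ * (g * (a * y * a⁻¹)) * a := by rw [h1']
          _ = (a⁻¹ * g * a) * y := by group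
      have h3' := hHodd (a⁻¹ * g * a) ((hmemH _).mpr hcomm) (by
        calc a⁻¹ * g * a * (a⁻¹ * g * a) = a⁻¹ * (g * g) * a := by group
          _ = 1 := by rw [hgg]; group)
      calc g = a * (a⁻¹ * g * a) * a⁻¹ := by group
        _ = 1 := by rw [h3']; group
    obtain ⟨z, hz⟩ : ∃ z : G, z = y * (w * y * w⁻¹) := ⟨_, rfl⟩
    have hwy : w * y * w⁻¹ ∈ (S₀ : Subgroup G) := hTnorm w hwT y hyS
    have hzS : z ∈ (S₀ : Subgroup G) := by rw [hz]; exact mul_mem hyS hwy
    have hwz : w * z = z * w := by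
      have h1' : w * z * w⁻¹ = (w * y * w⁻¹) * y := by
        rw [hz]
        calc w * (y * (w * y * w⁻¹)) * w⁻¹ = (w * y * w⁻¹) * ((w * w) * y * (w * w)⁻¹) := by group
          _ = (w * y * w⁻¹) * y := by rw [hww]; group
      have h2' : (w * y * w⁻¹) * y = z := by rw [hz]; exact hScomm _ hwy y hyS
      calc w * z = (w * z * w⁻¹) * w := by group
        _ = z * w := by rw [h1', h2']
    by_cases hz1 : z = 1
    · have h1' : w * y * w⁻¹ = y⁻¹ := by
        rw [hz] at hz1
        calc w * y * w⁻¹ = y⁻¹ * (y * (w * y * w⁻¹)) := by group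
          _ = y⁻¹ := by rw [hz1, mul_one]
      exact hw1 (hHodd w (hA w (Or.inr h1')) hww)
    · exact hw1 (hodd z hzS hz1 w hwz hww)

end Ord4032

end Cfsg.Agent.Lib.helper32
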