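import Mathlib
import Cfsg.Agent.Lib.helper69.SNDefs
import Cfsg.Agent.Lib.helper81.CTsl2
import Cfsg.Agent.Lib.helper7.CardSL

/-! S4073 piece CT-DATA (helper32): `PSL₂(GaloisField 2 n)` is a CT-group of order
`2 ^ n * (2 ^ n - 1) * (2 ^ n + 1)`. -/

set_option autoImplicit false

open Cfsg.Agent.Lib.helper69.SNG

namespace Cfsg.Agent.Lib.helper32.SNG

universe u v

/-- **[CT-DATA]** -/
theorem psl2_ct_card {G : Type u} [Group G] [Finite G] {n : ℕ} (hn : 2 ≤ n)
    (e : G ≃* Matrix.ProjectiveSpecialLinearGroup (Fin 2) (GaloisField 2 n)) :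
    (∀ a b c : G, b ≠ 1 → Commute a b → Commute b c → Commute a c) ∧
    Nat.card G = 2 ^ n * (2 ^ n - 1) * (2 ^ n + 1) := by
  have h2 : (2 : GaloisField 2 n) = 0 := by
    have h := CharP.cast_eq_zero (GaloisField 2 n) 2
    exact_mod_cast h
  constructor
  · intro a b c hb hab hbc
    have hb' : e b ≠ 1 := by
      intro h
      apply hb
      exact e.injective (by rw [h, map_one])
    have h := Cfsg.Agent.Lib.helper81.h81_psl2_ct h2 (e a) (e b) (e c) hb' (hab.map e) (hbc.map e)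
    have h3 : e (a * c) = e (c * a) := by rw [map_mul, map_mul]; exact h.eq
    exact e.injective h3
  · haveI : Fintype (GaloisField 2 n) := Fintype.ofFinite _
    have hcard : Fintype.card (GaloisField 2 n) = 2 ^ n := by
      rw [← Nat.card_eq_fintype_card, GaloisField.card 2 n (by omega)]
    rw [Nat.card_congr e.toEquiv,
      ← Nat.card_congr (Cfsg.Agent.Lib.helper81.h81_sl2_equiv_psl2 h2).toEquiv,
      Cfsg.Agent.Lib.helper7.card_SL2 hcard]
    have h3 : (2 ^ n) ^ 2 - 1 = (2 ^ n - 1) * (2 ^ n + 1) := by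
      obtain ⟨m, hm⟩ : ∃ m, 2 ^ n = m + 1 := ⟨2 ^ n - 1, by have := Nat.one_le_two_pow (n := n); omega⟩
      rw [hm]
      simp only [Nat.add_sub_cancel]
      have h4 : (m + 1) ^ 2 = m * (m + 1 + 1) + 1 := by ring
      rw [h4, Nat.add_sub_cancel]
    rw [h3, mul_assoc]

end Cfsg.Agent.Lib.helper32.SNG
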