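import Mathlib
import Cfsg.Agent.Lib.helper24.SffDefs

/-! S5965 piece CRIT (helper32): the eigenspace dimensions of a matrix conjugate to a scalar
multiple of a matrix over the subfield `F₀` are invariant under `μ ↦ σ (μ/σ)^{q₀}`. -/

set_option autoImplicit false

namespace Cfsg.Agent.Lib.helper24

open Module Matrix Polynomial

/-- kernel dimensions are invariant under conjugation -/
theorem h32_finrank_ker_conj {F : Type*} [Field F] {n : ℕ} (x P N : Matrix (Fin n) (Fin n) F)
    (hP : P.det ≠ 0) (hx : x * P = P * N) (ν : F) :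
    Module.finrank F (LinearMap.ker (Matrix.toLin' x - ν • 1)) =
      Module.finrank F (LinearMap.ker (Matrix.toLin' N - ν • 1)) := by
  have hPu : IsUnit P.det := isUnit_iff_ne_zero.mpr hP
  have hker : ∀ A : Matrix (Fin n) (Fin n) F,
      Module.finrank F (LinearMap.ker (Matrix.toLin' A - ν • 1)) = n - (A - ν • 1).rank := by
    intro A
    have h1 : (Matrix.toLin' A - ν • 1 : Module.End F (Fin n → F))
        = (A - ν • (1 : Matrix (Fin n) (Fin n) F)).mulVecLin := by
      apply LinearMap.ext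
      intro v
      simp
    rw [h1]
    have h2 := LinearMap.finrank_range_add_finrank_ker
      ((A - ν • (1 : Matrix (Fin n) (Fin n) F)).mulVecLin)
    rw [Module.finrank_fin_fun] at h2
    have h3 : (A - ν • (1 : Matrix (Fin n) (Fin n) F)).rank
        = Module.finrank F (LinearMap.range (A - ν • (1 : Matrix (Fin n) (Fin n) F)).mulVecLin) :=
      rfl
    omega
  rw [hker x, hker N]
  have h4 : (x - ν • 1) * P = P * (N - ν • 1) := by
    rw [sub_mul, mul_sub, hx]
    simp
  have h5 : ((x - ν • 1) * P).rank = (x - ν • 1).rank :=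
    Matrix.rank_mul_eq_left_of_isUnit_det P _ hPu
  have h6 : (P * (N - ν • 1)).rank = (N - ν • 1).rank :=
    Matrix.rank_mul_eq_right_of_isUnit_det P _ hPu
  rw [← h5, h4, h6]

/-- membership in the eigenspace of `σ • M₀` for the eigenvalue `σ * c` -/
theorem h32_mem_ker_iff {F : Type*} [Field F] {n : ℕ} (M₀ : Matrix (Fin n) (Fin n) F) (σ : F)
    (hσ : σ ≠ 0) (c : F) (v : Fin n → F) :
    v ∈ LinearMap.ker (Matrix.toLin' (σ • M₀) - (σ * c) • 1) ↔
      ∀ i, ∑ j, M₀ i j * v j = c * v i := by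
  have key : ∀ i, (Matrix.toLin' (σ • M₀) - (σ * c) • 1 : Module.End F (Fin n → F)) v i
      = σ * (∑ j, M₀ i j * v j - c * v i) := by
    intro i
    simp [Matrix.mulVec, dotProduct, Finset.mul_sum, mul_sub, mul_assoc]
  rw [LinearMap.mem_ker]
  constructor
  · intro h i
    have h1 := congrFun h i
    rw [key i] at h1
    have h2 : ∑ j, M₀ i j * v j - c * v i = 0 := by
      rcases mul_eq_zero.mp h1 with h3 | h3
      · exact absurd h3 hσ
      · exact h3
    exact sub_eq_zero.mp h2
  · intro h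
    funext i
    rw [key i, h i, sub_self, mul_zero]
    rfl

/-- the Frobenius inequality for the eigenspace dimensions -/
theorem h32_ker_frob_le {F : Type*} [Field F] [Fintype F] (F₀ : Subfield F) {n : ℕ}
    (M₀ : Matrix (Fin n) (Fin n) F) (hM₀ : ∀ i j, M₀ i j ∈ F₀) (σ : F) (hσ : σ ≠ 0) (c : F) :
    Module.finrank F (LinearMap.ker (Matrix.toLin' (σ • M₀) - (σ * c) • 1)) ≤
      Module.finrank F
        (LinearMap.ker (Matrix.toLin' (σ • M₀) - (σ * c ^ Nat.card F₀) • 1)) := by
  classical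
  obtain ⟨p, hp⟩ := CharP.exists F
  have : CharP F p := hp
  have : Fact p.Prime := ⟨CharP.char_is_prime F p⟩
  let _ : Fintype F₀ := Fintype.ofFinite F₀
  have : CharP F₀ p := by infer_instance
  obtain ⟨k, -, hk⟩ := FiniteField.card F₀ p
  have hq : Nat.card F₀ = p ^ (k : ℕ) := by rw [Nat.card_eq_fintype_card, hk]
  have hfix : ∀ a ∈ F₀, a ^ Nat.card F₀ = a := by
    intro a ha
    have h1 := FiniteField.pow_card (⟨a, ha⟩ : F₀)
    rw [Nat.card_eq_fintype_card]
    exact congrArg Subtype.val h1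
  have hsum : ∀ f : Fin n → F, (∑ j, f j) ^ Nat.card F₀ = ∑ j, f j ^ Nat.card F₀ := by
    intro f
    rw [hq]
    exact sum_pow_char_pow p (k : ℕ) Finset.univ f
  have hinj : Function.Injective (fun a : F => a ^ Nat.card F₀) := by
    intro a b hab
    have h1 : (a - b) ^ Nat.card F₀ = 0 := by
      have h2 : (a - b) ^ Nat.card F₀ = a ^ Nat.card F₀ - b ^ Nat.card F₀ := by
        rw [hq]
        exact sub_pow_char_pow a b (k : ℕ)
      rw [h2]
      exact sub_eq_zero.mpr hab
    have hq0 : Nat.card F₀ ≠ 0 := by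
      rw [hq]
      exact (pow_pos (Fact.out : p.Prime).pos _).ne'
    exact sub_eq_zero.mp ((pow_eq_zero_iff hq0).mp h1)
  -- the injection between the kernels
  have hmap : ∀ v : Fin n → F,
      v ∈ LinearMap.ker (Matrix.toLin' (σ • M₀) - (σ * c) • 1) →
      (fun i => v i ^ Nat.card F₀) ∈
        LinearMap.ker (Matrix.toLin' (σ • M₀) - (σ * c ^ Nat.card F₀) • 1) := by
    intro v hv
    rw [h32_mem_ker_iff M₀ σ hσ] at hv ⊢
    intro i
    have h1 : (∑ j, M₀ i j * v j) ^ Nat.card F₀ = (c * v i) ^ Nat.card F₀ := by rw [hv i]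
    rw [hsum, mul_pow] at h1
    rw [← h1]
    apply Finset.sum_congr rfl
    intro j _
    rw [mul_pow, hfix _ (hM₀ i j)]
  have hcard : Nat.card (LinearMap.ker (Matrix.toLin' (σ • M₀) - (σ * c) • 1)) ≤
      Nat.card (LinearMap.ker (Matrix.toLin' (σ • M₀) - (σ * c ^ Nat.card F₀) • 1)) := by
    apply Nat.card_le_card_of_injective
      (fun v : LinearMap.ker (Matrix.toLin' (σ • M₀) - (σ * c) • 1) =>
        (⟨fun i => (v : Fin n → F) i ^ Nat.card F₀, hmap v.1 v.2⟩ :
          LinearMap.ker (Matrix.toLin' (σ • M₀) - (σ * c ^ Nat.card F₀) • 1)))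
    intro v w hvw
    apply Subtype.ext
    funext i
    have h1 := congrFun (congrArg Subtype.val hvw) i
    exact hinj h1
  have e1 : Nat.card (LinearMap.ker (Matrix.toLin' (σ • M₀) - (σ * c) • 1))
      = Nat.card F ^ Module.finrank F (LinearMap.ker (Matrix.toLin' (σ • M₀) - (σ * c) • 1)) :=
    Module.natCard_eq_pow_finrank (K := F)
  have e2 : Nat.card (LinearMap.ker (Matrix.toLin' (σ • M₀) - (σ * c ^ Nat.card F₀) • 1))
      = Nat.card F ^ Module.finrank F
        (LinearMap.ker (Matrix.toLin' (σ • M₀) - (σ * c ^ Nat.card F₀) • 1)) :=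
    Module.natCard_eq_pow_finrank (K := F)
  rw [e1, e2] at hcard
  have h1 : 1 < Nat.card F := by
    rw [Nat.card_eq_fintype_card]
    exact Fintype.one_lt_card
  exact (Nat.pow_le_pow_iff_right h1).mp hcard

/-- CRIT -/
theorem sff_crit {F : Type*} [Field F] [Fintype F] (F₀ : Subfield F) {n : ℕ}
    (x P M₀ : Matrix (Fin n) (Fin n) F) (σ : F) (hP : P.det ≠ 0) (hσ : σ ≠ 0)
    (hM₀ : ∀ i j, M₀ i j ∈ F₀) (hx : x * P = P * (σ • M₀)) (μ : F) :
    Module.finrank F (LinearMap.ker (Matrix.toLin' x - μ • 1)) =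
      Module.finrank F
        (LinearMap.ker (Matrix.toLin' x - (σ * (μ / σ) ^ Nat.card F₀) • 1)) := by
  classical
  rw [h32_finrank_ker_conj x P (σ • M₀) hP hx μ,
    h32_finrank_ker_conj x P (σ • M₀) hP hx (σ * (μ / σ) ^ Nat.card F₀)]
  have hμ : μ = σ * (μ / σ) := by field_simp
  -- iterate the Frobenius inequality
  have hle := h32_ker_frob_le F₀ M₀ hM₀ σ hσ
  have hiter : ∀ (i : ℕ) (c : F),
      Module.finrank F (LinearMap.ker (Matrix.toLin' (σ • M₀) - (σ * c) • 1)) ≤
      Module.finrank F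
        (LinearMap.ker (Matrix.toLin' (σ • M₀) - (σ * c ^ (Nat.card F₀ ^ i)) • 1)) := by
    intro i
    induction i with
    | zero => intro c; rw [pow_zero, pow_one]
    | succ i ih =>
      intro c
      refine (ih c).trans ?_
      have h1 := hle (c ^ (Nat.card F₀ ^ i))
      rw [← pow_mul, ← pow_succ] at h1
      exact h1
  -- `|F| = q₀ ^ k`
  let _ : Fintype F₀ := Fintype.ofFinite F₀
  have hcardF : Nat.card F = Nat.card F₀ ^ Module.finrank F₀ F :=
    Module.natCard_eq_pow_finrank (K := F₀) (V := F)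
  have hkpos : 0 < Module.finrank F₀ F := Module.finrank_pos
  have hpow : ∀ c : F, c ^ (Nat.card F₀ ^ Module.finrank F₀ F) = c := by
    intro c
    rw [← hcardF, Nat.card_eq_fintype_card]
    exact FiniteField.pow_card c
  apply le_antisymm
  · have h1 := hle (μ / σ)
    rw [← hμ] at h1
    exact h1
  · have h1 := hiter (Module.finrank F₀ F - 1) ((μ / σ) ^ Nat.card F₀)
    have h2 : ((μ / σ) ^ Nat.card F₀) ^ (Nat.card F₀ ^ (Module.finrank F₀ F - 1)) = μ / σ := by
      rw [← pow_mul, ← pow_succ', Nat.sub_add_cancel hkpos]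
      exact hpow _
    rw [h2, ← hμ] at h1
    exact h1

end Cfsg.Agent.Lib.helper24
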