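import Mathlib
import Cfsg.Agent.Lib.helper24.SfoDefs

/-!
# S5981, pieces ISO and OBAS (helper32)

Abstract lemmas on subspaces `W` of `F^n` on which the polar form of `Q` is non-degenerate:
orthogonal anisotropic families (`h32o_orth_sub`), isotropic vectors in dimension `≥ 3`
(`h32o_iso_sub`), hyperbolic pairs (`h32o_hyp_pair`, `h32o_hyp_step`) and the basis adapted to an
involution with a fixed point (`h32o_basis_sub`).
-/

set_option autoImplicit false

namespace Cfsg.Agent.Lib.helper24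

open Module Matrix Cfsg.Geo

/-- Copy of BINREP. -/
theorem h32o_bin_rep {F : Type*} [Field F] [Fintype F] (h2 : (2 : F) ≠ 0) (a b t : F)
    (ha : a ≠ 0) (hb : b ≠ 0) : ∃ x y : F, a * x ^ 2 + b * y ^ 2 = t := by
  classical
  have hodd : Fintype.card F % 2 = 1 := by
    apply FiniteField.odd_card_of_char_ne_two
    intro h
    have := ringChar.of_eq h
    exact h2 (CharTwo.two_eq_zero)
  have hf : (Polynomial.C a * Polynomial.X ^ 2 - Polynomial.C t : Polynomial F).degree = 2 := by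
    rw [Polynomial.degree_sub_C (by rw [Polynomial.degree_C_mul_X_pow 2 ha]; norm_num),
      Polynomial.degree_C_mul_X_pow 2 ha]
    rfl
  have hg : (Polynomial.C b * Polynomial.X ^ 2 : Polynomial F).degree = 2 := by
    rw [Polynomial.degree_C_mul_X_pow 2 hb]
    rfl
  obtain ⟨x, y, hxy⟩ := FiniteField.exists_root_sum_quadratic hf hg hodd
  refine ⟨x, y, ?_⟩
  simp only [Polynomial.eval_sub, Polynomial.eval_mul, Polynomial.eval_C, Polynomial.eval_pow,
    Polynomial.eval_X] at hxy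
  linear_combination hxy

section h32o

variable {F : Type*} [Field F] {n : ℕ} {Q : (Fin n → F) → F}

set_option linter.unusedSectionVars false

/-- `x ↦ polar Q x u` as a linear map. -/
def h32o_L (hQ : IsNondegenerateQuadraticForm Q) (u : Fin n → F) : (Fin n → F) →ₗ[F] F where
  toFun x := QuadraticMap.polar Q x u
  map_add' x y := hQ.polar_bilinear.add_left x y u
  map_smul' c x := by simp [hQ.polar_bilinear.smul_left]

theorem h32o_L_apply (hQ : IsNondegenerateQuadraticForm Q) (u x : Fin n → F) :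
    h32o_L hQ u x = QuadraticMap.polar Q x u := rfl

theorem h32o_polar_self (hQ : IsNondegenerateQuadraticForm Q) (v : Fin n → F) :
    QuadraticMap.polar Q v v = 2 * Q v := by
  unfold QuadraticMap.polar
  rw [← two_smul F v, hQ.smul]
  ring

theorem h32o_Q_add (u v : Fin n → F) :
    Q (u + v) = Q u + Q v + QuadraticMap.polar Q u v := by
  unfold QuadraticMap.polar
  ring

theorem h32o_polar_zero_left (hQ : IsNondegenerateQuadraticForm Q) (v : Fin n → F) :
    QuadraticMap.polar Q 0 v = 0 := map_zero (h32o_L hQ v)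

theorem h32o_polar_sub_left (hQ : IsNondegenerateQuadraticForm Q) (x y v : Fin n → F) :
    QuadraticMap.polar Q (x - y) v = QuadraticMap.polar Q x v - QuadraticMap.polar Q y v :=
  map_sub (h32o_L hQ v) x y

/-- Intersecting with the kernel of a functional that does not vanish on `W` drops the dimension
by one. -/
theorem h32o_finrank_inf_ker {d : ℕ} (W : Submodule F (Fin n → F))
    (hW : Module.finrank F W = d + 1) (φ : (Fin n → F) →ₗ[F] F) (x : Fin n → F) (hxW : x ∈ W)
    (hx : φ x ≠ 0) :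
    Module.finrank F (W ⊓ LinearMap.ker φ : Submodule F (Fin n → F)) = d := by
  have h1 := LinearMap.finrank_range_add_finrank_ker (φ ∘ₗ W.subtype)
  have hsurj : LinearMap.range (φ ∘ₗ W.subtype) = ⊤ := by
    rw [LinearMap.range_eq_top]
    intro c
    refine ⟨(c / φ x) • ⟨x, hxW⟩, ?_⟩
    simp [div_mul_cancel₀ c hx]
  rw [hsurj, finrank_top, Module.finrank_self, hW] at h1
  have h2 : (W ⊓ LinearMap.ker φ) =
      Submodule.map W.subtype (LinearMap.ker (φ ∘ₗ W.subtype)) := by
    rw [LinearMap.ker_comp, Submodule.map_comap_subtype]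
  rw [h2, Submodule.finrank_map_subtype_eq]
  omega

theorem h32o_exists_aniso (W : Submodule F (Fin n → F)) (hW : W ≠ ⊥)
    (hnd : ∀ w ∈ W, w ≠ 0 → ∃ x ∈ W, QuadraticMap.polar Q x w ≠ 0) : ∃ u ∈ W, Q u ≠ 0 := by
  by_contra hcon
  push Not at hcon
  obtain ⟨w₀, hw₀, hw₀0⟩ := (Submodule.ne_bot_iff W).1 hW
  obtain ⟨x, hxW, hx⟩ := hnd w₀ hw₀ hw₀0
  apply hx
  unfold QuadraticMap.polar
  rw [hcon _ (W.add_mem hxW hw₀), hcon x hxW, hcon w₀ hw₀]
  ring

theorem h32o_perp_step (h2 : (2 : F) ≠ 0) (hQ : IsNondegenerateQuadraticForm Q) {d : ℕ}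
    (W : Submodule F (Fin n → F)) (hW : Module.finrank F W = d + 1)
    (hnd : ∀ w ∈ W, w ≠ 0 → ∃ x ∈ W, QuadraticMap.polar Q x w ≠ 0) (u : Fin n → F)
    (huW : u ∈ W) (hu : Q u ≠ 0) :
    Module.finrank F (W ⊓ LinearMap.ker (h32o_L hQ u) : Submodule F (Fin n → F)) = d ∧
    ∀ w ∈ W ⊓ LinearMap.ker (h32o_L hQ u), w ≠ 0 →
      ∃ x ∈ W ⊓ LinearMap.ker (h32o_L hQ u), QuadraticMap.polar Q x w ≠ 0 := by
  have huu : QuadraticMap.polar Q u u ≠ 0 := by
    rw [h32o_polar_self hQ]; exact mul_ne_zero h2 hu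
  refine ⟨h32o_finrank_inf_ker W hW _ u huW huu, ?_⟩
  intro w hw hw0
  obtain ⟨hwW, hwk⟩ := Submodule.mem_inf.1 hw
  obtain ⟨x, hxW, hx⟩ := hnd w hwW hw0
  rw [LinearMap.mem_ker, h32o_L_apply] at hwk
  refine ⟨x - (QuadraticMap.polar Q x u / QuadraticMap.polar Q u u) • u,
    Submodule.mem_inf.2 ⟨W.sub_mem hxW (W.smul_mem _ huW), ?_⟩, ?_⟩
  · rw [LinearMap.mem_ker, h32o_L_apply, h32o_polar_sub_left hQ, hQ.polar_bilinear.smul_left,
      div_mul_cancel₀ _ huu, sub_self]
  · have huw : QuadraticMap.polar Q u w = 0 := by rw [QuadraticMap.polar_comm]; exact hwk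
    rw [h32o_polar_sub_left hQ, hQ.polar_bilinear.smul_left, huw]
    simpa using hx

/-- Orthogonal anisotropic family of the right size in a non-degenerate subspace. -/
theorem h32o_orth_sub (h2 : (2 : F) ≠ 0) (hQ : IsNondegenerateQuadraticForm Q) :
    ∀ (d : ℕ) (W : Submodule F (Fin n → F)), Module.finrank F W = d →
      (∀ w ∈ W, w ≠ 0 → ∃ x ∈ W, QuadraticMap.polar Q x w ≠ 0) →
      ∃ e : Fin d → (Fin n → F), (∀ i, e i ∈ W) ∧
        (∀ i j, i ≠ j → QuadraticMap.polar Q (e i) (e j) = 0) ∧ ∀ i, Q (e i) ≠ 0 := by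
  intro d
  induction d with
  | zero =>
    intro W _ _
    exact ⟨fun i => i.elim0, fun i => i.elim0, fun i => i.elim0, fun i => i.elim0⟩
  | succ d ih =>
    intro W hW hnd
    have hWne : W ≠ ⊥ := by
      rintro rfl
      simp at hW
    obtain ⟨u, huW, hu⟩ := h32o_exists_aniso W hWne hnd
    obtain ⟨hfr, hnd'⟩ := h32o_perp_step h2 hQ W hW hnd u huW hu
    obtain ⟨e', he'W, he'orth, he'ne⟩ := ih _ hfr hnd'
    have hperp : ∀ i, QuadraticMap.polar Q (e' i) u = 0 := fun i => by
      have := (Submodule.mem_inf.1 (he'W i)).2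
      rwa [LinearMap.mem_ker, h32o_L_apply] at this
    refine ⟨Fin.snoc (α := fun _ => Fin n → F) e' u, ?_, ?_, ?_⟩
    · intro i
      induction i using Fin.lastCases with
      | last => simpa using huW
      | cast i => simpa using (Submodule.mem_inf.1 (he'W i)).1
    · intro i j hij
      induction i using Fin.lastCases with
      | last =>
        induction j using Fin.lastCases with
        | last => exact absurd rfl hij
        | cast j =>
          rw [Fin.snoc_last, Fin.snoc_castSucc, QuadraticMap.polar_comm]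
          exact hperp j
      | cast i =>
        induction j using Fin.lastCases with
        | last =>
          rw [Fin.snoc_last, Fin.snoc_castSucc]
          exact hperp i
        | cast j =>
          rw [Fin.snoc_castSucc, Fin.snoc_castSucc]
          exact he'orth i j (fun h => hij (by rw [h]))
    · intro i
      induction i using Fin.lastCases with
      | last => simpa using hu
      | cast i => simpa using he'ne i

/-- Isotropic vector in a non-degenerate subspace of dimension at least three. -/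
theorem h32o_iso_sub [Fintype F] (h2 : (2 : F) ≠ 0) (hQ : IsNondegenerateQuadraticForm Q)
    (W : Submodule F (Fin n → F)) (hW : 3 ≤ Module.finrank F W)
    (hnd : ∀ w ∈ W, w ≠ 0 → ∃ x ∈ W, QuadraticMap.polar Q x w ≠ 0) :
    ∃ v ∈ W, v ≠ 0 ∧ Q v = 0 := by
  obtain ⟨e, heW, horth, hne⟩ := h32o_orth_sub h2 hQ _ W rfl hnd
  obtain ⟨i0, i1, i2, h01, h02, h12⟩ : ∃ i0 i1 i2 : Fin (Module.finrank F W),
      i0 ≠ i1 ∧ i0 ≠ i2 ∧ i1 ≠ i2 :=
    ⟨⟨0, by omega⟩, ⟨1, by omega⟩, ⟨2, by omega⟩, by simp [Fin.ext_iff], by simp [Fin.ext_iff],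
      by simp [Fin.ext_iff]⟩
  obtain ⟨x, y, hxy⟩ := h32o_bin_rep h2 (Q (e i0)) (Q (e i1)) (-(Q (e i2))) (hne i0) (hne i1)
  refine ⟨x • e i0 + y • e i1 + e i2,
    W.add_mem (W.add_mem (W.smul_mem _ (heW _)) (W.smul_mem _ (heW _))) (heW _), ?_, ?_⟩
  · intro h0
    have h1 : QuadraticMap.polar Q (x • e i0 + y • e i1 + e i2) (e i2) = 2 * Q (e i2) := by
      rw [hQ.polar_bilinear.add_left, hQ.polar_bilinear.add_left, hQ.polar_bilinear.smul_left,
        hQ.polar_bilinear.smul_left, horth i0 i2 h02, horth i1 i2 h12, h32o_polar_self hQ]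
      ring
    rw [h0, h32o_polar_zero_left hQ] at h1
    exact mul_ne_zero h2 (hne i2) h1.symm
  · rw [h32o_Q_add (Q := Q), h32o_Q_add (Q := Q), hQ.smul, hQ.smul, hQ.polar_bilinear.add_left,
      hQ.polar_bilinear.smul_left, hQ.polar_bilinear.smul_left, hQ.polar_bilinear.smul_left,
      hQ.polar_bilinear.smul_right, horth i0 i1 h01, horth i0 i2 h02, horth i1 i2 h12]
    linear_combination hxy

/-- An isotropic vector of a non-degenerate subspace lies in a hyperbolic pair. -/
theorem h32o_hyp_pair (hQ : IsNondegenerateQuadraticForm Q)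
    (W : Submodule F (Fin n → F))
    (hnd : ∀ w ∈ W, w ≠ 0 → ∃ x ∈ W, QuadraticMap.polar Q x w ≠ 0) (u : Fin n → F)
    (huW : u ∈ W) (hu0 : u ≠ 0) (hu : Q u = 0) :
    ∃ w ∈ W, Q w = 0 ∧ QuadraticMap.polar Q u w = 1 := by
  obtain ⟨x, hxW, hx⟩ := hnd u huW hu0
  have h1 : QuadraticMap.polar Q ((QuadraticMap.polar Q x u)⁻¹ • x) u = 1 := by
    rw [hQ.polar_bilinear.smul_left, inv_mul_cancel₀ hx]
  obtain ⟨w₁, hw₁W, hw₁⟩ : ∃ w₁ ∈ W, QuadraticMap.polar Q w₁ u = 1 :=
    ⟨_, W.smul_mem _ hxW, h1⟩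
  refine ⟨w₁ - Q w₁ • u, W.sub_mem hw₁W (W.smul_mem _ huW), ?_, ?_⟩
  · rw [sub_eq_add_neg, ← neg_smul, h32o_Q_add (Q := Q), hQ.smul, hu,
      hQ.polar_bilinear.smul_right, hw₁]
    ring
  · rw [QuadraticMap.polar_comm, h32o_polar_sub_left hQ, hQ.polar_bilinear.smul_left, hw₁,
      h32o_polar_self hQ, hu]
    ring

/-- Splitting off a hyperbolic plane. -/
theorem h32o_hyp_step (hQ : IsNondegenerateQuadraticForm Q) {d : ℕ}
    (W : Submodule F (Fin n → F)) (hW : Module.finrank F W = d + 2)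
    (hnd : ∀ w ∈ W, w ≠ 0 → ∃ x ∈ W, QuadraticMap.polar Q x w ≠ 0) (u w : Fin n → F)
    (huW : u ∈ W) (hwW : w ∈ W) (hu : Q u = 0) (hw : Q w = 0)
    (huw : QuadraticMap.polar Q u w = 1) :
    Module.finrank F (W ⊓ LinearMap.ker (h32o_L hQ u) ⊓ LinearMap.ker (h32o_L hQ w) :
      Submodule F (Fin n → F)) = d ∧
    ∀ y ∈ W ⊓ LinearMap.ker (h32o_L hQ u) ⊓ LinearMap.ker (h32o_L hQ w), y ≠ 0 →
      ∃ x ∈ W ⊓ LinearMap.ker (h32o_L hQ u) ⊓ LinearMap.ker (h32o_L hQ w),
        QuadraticMap.polar Q x y ≠ 0 := by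
  have huu : QuadraticMap.polar Q u u = 0 := by rw [h32o_polar_self hQ, hu, mul_zero]
  have hww : QuadraticMap.polar Q w w = 0 := by rw [h32o_polar_self hQ, hw, mul_zero]
  have hwu : QuadraticMap.polar Q w u = 1 := by rw [QuadraticMap.polar_comm]; exact huw
  have h1 : Module.finrank F (W ⊓ LinearMap.ker (h32o_L hQ u) : Submodule F (Fin n → F)) =
      d + 1 :=
    h32o_finrank_inf_ker W hW (h32o_L hQ u) w hwW (by rw [h32o_L_apply, hwu]; exact one_ne_zero)
  have h2 := h32o_finrank_inf_ker (W ⊓ LinearMap.ker (h32o_L hQ u)) h1 (h32o_L hQ w) u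
    (Submodule.mem_inf.2 ⟨huW, by rw [LinearMap.mem_ker, h32o_L_apply, huu]⟩)
    (by rw [h32o_L_apply, huw]; exact one_ne_zero)
  refine ⟨h2, ?_⟩
  intro y hy hy0
  obtain ⟨hy1, hyw⟩ := Submodule.mem_inf.1 hy
  obtain ⟨hyW, hyu⟩ := Submodule.mem_inf.1 hy1
  rw [LinearMap.mem_ker, h32o_L_apply] at hyu hyw
  obtain ⟨x, hxW, hx⟩ := hnd y hyW hy0
  have h3 : QuadraticMap.polar Q u y = 0 := by rw [QuadraticMap.polar_comm]; exact hyu
  have h4 : QuadraticMap.polar Q w y = 0 := by rw [QuadraticMap.polar_comm]; exact hyw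
  refine ⟨x - QuadraticMap.polar Q x w • u - QuadraticMap.polar Q x u • w,
    Submodule.mem_inf.2 ⟨Submodule.mem_inf.2
      ⟨W.sub_mem (W.sub_mem hxW (W.smul_mem _ huW)) (W.smul_mem _ hwW), ?_⟩, ?_⟩, ?_⟩
  · rw [LinearMap.mem_ker, h32o_L_apply, h32o_polar_sub_left hQ, h32o_polar_sub_left hQ,
      hQ.polar_bilinear.smul_left, hQ.polar_bilinear.smul_left, huu, hwu]
    ring
  · rw [LinearMap.mem_ker, h32o_L_apply, h32o_polar_sub_left hQ, h32o_polar_sub_left hQ,
      hQ.polar_bilinear.smul_left, hQ.polar_bilinear.smul_left, huw, hww]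
    ring
  · rw [h32o_polar_sub_left hQ, h32o_polar_sub_left hQ, hQ.polar_bilinear.smul_left,
      hQ.polar_bilinear.smul_left, h3, h4]
    simpa using hx

/-- Basis adapted to an involution with a fixed point, inside a non-degenerate subspace. -/
theorem h32o_basis_sub [Fintype F] (h2 : (2 : F) ≠ 0) (hQ : IsNondegenerateQuadraticForm Q) :
    ∀ (k : ℕ) (ι : Type) [Fintype ι] [DecidableEq ι] (π : ι → ι), (∀ i, π (π i) = i) →
      (∃ i, π i = i) → Fintype.card ι = k → ∀ W : Submodule F (Fin n → F),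
      Module.finrank F W = k →
      (∀ w ∈ W, w ≠ 0 → ∃ x ∈ W, QuadraticMap.polar Q x w ≠ 0) →
      ∃ v : ι → (Fin n → F), (∀ i, v i ∈ W) ∧
        (∀ i j, j ≠ π i → QuadraticMap.polar Q (v i) (v j) = 0) ∧
        (∀ i, π i ≠ i → Q (v i) = 0 ∧ QuadraticMap.polar Q (v i) (v (π i)) = 1) ∧
        (∀ i, π i = i → Q (v i) ≠ 0) := by
  intro k
  induction k using Nat.strong_induction_on with
  | _ k ih =>
    intro ι _ _ π hπ hfix hcard W hW hnd
    by_cases hall : ∀ i, π i = i
    · obtain ⟨e, heW, horth, hne⟩ := h32o_orth_sub h2 hQ k W hW hnd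
      let σ : ι ≃ Fin k := Fintype.equivFinOfCardEq hcard
      refine ⟨fun i => e (σ i), fun i => heW _, ?_, ?_, fun i _ => hne _⟩
      · intro i j hj
        rw [hall i] at hj
        exact horth _ _ (fun h => hj (σ.injective h).symm)
      · intro i hi
        exact absurd (hall i) hi
    · push Not at hall
      obtain ⟨a, ha⟩ := hall
      obtain ⟨i₀, hi₀⟩ := hfix
      obtain ⟨b, hb⟩ : ∃ b, b = π a := ⟨_, rfl⟩
      have hba : π b = a := by rw [hb, hπ]
      have hab : a ≠ b := fun h => ha (by rw [← hb, ← h])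
      have hi₀a : i₀ ≠ a := by rintro rfl; exact ha hi₀
      have hi₀b : i₀ ≠ b := by
        intro h
        rw [h, hba] at hi₀
        exact hab hi₀
      have hk3 : 3 ≤ k := by
        rw [← hcard]
        have h3 : ({a, b, i₀} : Finset ι).card = 3 := by
          rw [Finset.card_insert_of_notMem (by simp [hab, hi₀a.symm]),
            Finset.card_insert_of_notMem (by simp [hi₀b.symm]), Finset.card_singleton]
        calc 3 = ({a, b, i₀} : Finset ι).card := h3.symm
          _ ≤ Fintype.card ι := Finset.card_le_univ _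
      obtain ⟨u, huW, hu0, hu⟩ := h32o_iso_sub h2 hQ W (by omega) hnd
      obtain ⟨w, hwW, hw, huw⟩ := h32o_hyp_pair hQ W hnd u huW hu0 hu
      obtain ⟨d, rfl⟩ : ∃ d, k = d + 2 := ⟨k - 2, by omega⟩
      obtain ⟨hfr, hnd'⟩ := h32o_hyp_step hQ W hW hnd u w huW hwW hu hw huw
      have huu : QuadraticMap.polar Q u u = 0 := by rw [h32o_polar_self hQ, hu, mul_zero]
      have hww : QuadraticMap.polar Q w w = 0 := by rw [h32o_polar_self hQ, hw, mul_zero]
      have hwu : QuadraticMap.polar Q w u = 1 := by rw [QuadraticMap.polar_comm]; exact huw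
      have hπ' : ∀ i : {i : ι // i ≠ a ∧ i ≠ b}, π i.1 ≠ a ∧ π i.1 ≠ b := fun i =>
        ⟨fun h => i.2.2 (by rw [← hπ i.1, h, ← hb]), fun h => i.2.1 (by rw [← hπ i.1, h, hba])⟩
      have hcard' : Fintype.card {i : ι // i ≠ a ∧ i ≠ b} = d := by
        have h1 : Fintype.card {i : ι // i ≠ a ∧ i ≠ b} =
            (Finset.univ.filter (fun i : ι => i ≠ a ∧ i ≠ b)).card := Fintype.card_subtype _
        have h2' : Finset.univ.filter (fun i : ι => i ≠ a ∧ i ≠ b) = Finset.univ \ {a, b} := by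
          ext i
          simp [not_or]
        rw [h1, h2', Finset.card_sdiff_of_subset (Finset.subset_univ _), Finset.card_univ, hcard,
          Finset.card_pair hab]
        omega
      obtain ⟨v', hv'W, hv'orth, hv'pair, hv'fix⟩ := ih d (by omega) {i : ι // i ≠ a ∧ i ≠ b}
        (fun i => ⟨π i.1, hπ' i⟩) (fun i => Subtype.ext (hπ i.1))
        ⟨⟨i₀, hi₀a, hi₀b⟩, Subtype.ext hi₀⟩ hcard' _ hfr hnd'
      have hv'1 : ∀ i, v' i ∈ W := fun i =>
        (Submodule.mem_inf.1 (Submodule.mem_inf.1 (hv'W i)).1).1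
      have hv'u : ∀ i, QuadraticMap.polar Q (v' i) u = 0 := fun i => by
        have := (Submodule.mem_inf.1 (Submodule.mem_inf.1 (hv'W i)).1).2
        rwa [LinearMap.mem_ker, h32o_L_apply] at this
      have hv'w : ∀ i, QuadraticMap.polar Q (v' i) w = 0 := fun i => by
        have := (Submodule.mem_inf.1 (hv'W i)).2
        rwa [LinearMap.mem_ker, h32o_L_apply] at this
      obtain ⟨v, hva, hvb, hvo⟩ : ∃ v : ι → (Fin n → F), v a = u ∧ v b = w ∧
          ∀ (i : ι) (h : i ≠ a ∧ i ≠ b), v i = v' ⟨i, h⟩ := by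
        refine ⟨fun i => if h1 : i = a then u else if h2 : i = b then w else v' ⟨i, h1, h2⟩,
          ?_, ?_, ?_⟩
        · simp
        · simp [hab.symm]
        · intro i h
          simp [h.1, h.2]
      refine ⟨v, ?_, ?_, ?_, ?_⟩
      · intro i
        by_cases h1 : i = a
        · rw [h1, hva]; exact huW
        · by_cases h2' : i = b
          · rw [h2', hvb]; exact hwW
          · rw [hvo i ⟨h1, h2'⟩]; exact hv'1 _
      · intro i j hj
        by_cases hia : i = a
        · rw [hia, ← hb] at hj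
          rw [hia, hva]
          by_cases hja : j = a
          · rw [hja, hva]; exact huu
          · rw [hvo j ⟨hja, hj⟩, QuadraticMap.polar_comm]; exact hv'u _
        · by_cases hib : i = b
          · rw [hib, hba] at hj
            rw [hib, hvb]
            by_cases hjb : j = b
            · rw [hjb, hvb]; exact hww
            · rw [hvo j ⟨hj, hjb⟩, QuadraticMap.polar_comm]; exact hv'w _
          · rw [hvo i ⟨hia, hib⟩]
            by_cases hja : j = a
            · rw [hja, hva]; exact hv'u _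
            · by_cases hjb : j = b
              · rw [hjb, hvb]; exact hv'w _
              · rw [hvo j ⟨hja, hjb⟩]
                exact hv'orth ⟨i, hia, hib⟩ ⟨j, hja, hjb⟩ (fun h => hj (congrArg Subtype.val h))
      · intro i hi
        by_cases hia : i = a
        · rw [hia, hva, ← hb, hvb]; exact ⟨hu, huw⟩
        · by_cases hib : i = b
          · rw [hib, hvb, hba, hva]; exact ⟨hw, hwu⟩
          · rw [hvo i ⟨hia, hib⟩, hvo (π i) (hπ' ⟨i, hia, hib⟩)]
            exact hv'pair ⟨i, hia, hib⟩ (fun h => hi (congrArg Subtype.val h))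
      · intro i hi
        have hia : i ≠ a := by rintro rfl; exact ha hi
        have hib : i ≠ b := by
          intro h
          rw [h, hba] at hi
          exact hab hi
        rw [hvo i ⟨hia, hib⟩]
        exact hv'fix ⟨i, hia, hib⟩ (Subtype.ext hi)

end h32o

/-- ISO -/
theorem sfo_isotropic {F : Type*} [Field F] [Fintype F] {n : ℕ} (hn : 3 ≤ n) (h2 : (2 : F) ≠ 0)
    (Q : (Fin n → F) → F) (hQ : IsNondegenerateQuadraticForm Q) : ∃ v, v ≠ 0 ∧ Q v = 0 := by
  obtain ⟨v, -, hv0, hv⟩ := h32o_iso_sub h2 hQ ⊤ (by simpa using hn) (fun w _ hw => by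
    obtain ⟨x, hx⟩ := (hQ.nondegenerate w hw).1
    exact ⟨x, Submodule.mem_top, hx⟩)
  exact ⟨v, hv0, hv⟩

/-- OBAS -/
theorem sfo_basis_pi {F : Type*} [Field F] [Fintype F] {n : ℕ} (h2 : (2 : F) ≠ 0)
    (Q : (Fin n → F) → F) (hQ : IsNondegenerateQuadraticForm Q) (π : Fin n → Fin n)
    (hπ : ∀ i, π (π i) = i) (hfix : ∃ i, π i = i) :
    ∃ v : Fin n → (Fin n → F), LinearIndependent F v ∧
      (∀ i j, j ≠ π i → QuadraticMap.polar Q (v i) (v j) = 0) ∧
      (∀ i, π i ≠ i → Q (v i) = 0 ∧ QuadraticMap.polar Q (v i) (v (π i)) = 1) ∧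
      (∀ i, π i = i → Q (v i) ≠ 0) := by
  obtain ⟨v, -, horth, hpair, hfixv⟩ := h32o_basis_sub h2 hQ n (Fin n) π hπ hfix (by simp) ⊤
    (by simp) (fun w _ hw => by
      obtain ⟨x, hx⟩ := (hQ.nondegenerate w hw).1
      exact ⟨x, Submodule.mem_top, hx⟩)
  refine ⟨v, ?_, horth, hpair, hfixv⟩
  rw [Fintype.linearIndependent_iff]
  intro c hc j
  have h1 : h32o_L hQ (v (π j)) (∑ i, c i • v i) = 0 := by rw [hc, map_zero]
  rw [map_sum] at h1
  simp only [map_smul, h32o_L_apply, smul_eq_mul] at h1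
  rw [Finset.sum_eq_single j] at h1
  · have hne : QuadraticMap.polar Q (v j) (v (π j)) ≠ 0 := by
      by_cases hj : π j = j
      · rw [hj, h32o_polar_self hQ]; exact mul_ne_zero h2 (hfixv j hj)
      · rw [(hpair j hj).2]; exact one_ne_zero
    exact (mul_eq_zero.1 h1).resolve_right hne
  · intro i _ hij
    rw [horth i (π j) (fun h => hij (by
      have := congrArg π h; rw [hπ, hπ] at this; exact this.symm)), mul_zero]
  · simp

end Cfsg.Agent.Lib.helper24
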