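import Mathlib
import Cfsg.Prelude.Def_Characters

/-! S0996 / BETA-CD (helper81 sub-architect): the centralizer of a type-1 element has order
dividing `p - 1`. -/

set_option autoImplicit false

namespace Cfsg.Agent.Lib.helper32.Br

open Cfsg

universe u

/-- BETA-CD : the centralizer of a type-1 element has order dividing `p - 1`. -/
theorem beta_cent_dvd {G : Type u} [Group G] [Fintype G] (p : ℕ) (hp : p.Prime) (hp5 : 5 ≤ p)
    (hcard : Nat.card G = p * (p - 1) * (p - 2))
    (hord : ∀ g : G, ¬ (orderOf g).Coprime (p - 1) → (orderOf g).Coprime (p * (p - 2)))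
    (g : G) (hg : ¬ (orderOf g).Coprime (p - 1)) :
    Nat.card (Subgroup.centralizer ({g} : Set G)) ∣ p - 1 := by
  classical
  have hdvd : Nat.card (Subgroup.centralizer ({g} : Set G)) ∣ (p - 1) * (p * (p - 2)) := by
    have := Subgroup.card_subgroup_dvd_card (Subgroup.centralizer ({g} : Set G))
    rw [hcard] at this
    have e : (p - 1) * (p * (p - 2)) = p * (p - 1) * (p - 2) := by ring
    rw [e]; exact this
  have hcop : (Nat.card (Subgroup.centralizer ({g} : Set G))).Coprime (p * (p - 2)) := by
    apply Nat.coprime_of_dvd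
    intro s hs hsC hsp
    haveI : Fact s.Prime := ⟨hs⟩
    obtain ⟨h, hh⟩ := exists_prime_orderOf_dvd_card' s hsC
    obtain ⟨r, hr, hrg, hrp⟩ := Nat.Prime.not_coprime_iff_dvd.mp hg
    have hgo : orderOf g ≠ 0 := (orderOf_pos g).ne'
    have hg'o : orderOf (g ^ (orderOf g / r)) = r := orderOf_pow_orderOf_div hgo hrg
    have hcomm : Commute (g ^ (orderOf g / r)) (h : G) := by
      have h1 : g * (h : G) = (h : G) * g := by
        have := h.2
        rw [Subgroup.mem_centralizer_iff] at this
        exact this g (Set.mem_singleton g)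
      exact Commute.pow_left (show Commute g (h : G) from h1) _
    have hho : orderOf (h : G) = s := by rw [Subgroup.orderOf_coe]; exact hh
    have hrs : r ≠ s := by
      rintro rfl
      rcases (Nat.Prime.dvd_mul hr).mp hsp with h1 | h1
      · have h3 : r ∣ p - (p - 1) := Nat.dvd_sub h1 hrp
        have h2 : p - (p - 1) = 1 := by omega
        rw [h2] at h3
        exact hr.one_lt.ne' (Nat.dvd_one.mp h3)
      · have h3 : r ∣ (p - 1) - (p - 2) := Nat.dvd_sub hrp h1
        have h2 : (p - 1) - (p - 2) = 1 := by omega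
        rw [h2] at h3
        exact hr.one_lt.ne' (Nat.dvd_one.mp h3)
    have hcop' : (orderOf (g ^ (orderOf g / r))).Coprime (orderOf (h : G)) := by
      rw [hg'o, hho]
      exact (Nat.coprime_primes hr hs).mpr hrs
    have hord' : orderOf (g ^ (orderOf g / r) * (h : G)) = r * s := by
      rw [hcomm.orderOf_mul_eq_mul_orderOf_of_coprime hcop', hg'o, hho]
    have ht1 : ¬ (orderOf (g ^ (orderOf g / r) * (h : G))).Coprime (p - 1) := by
      rw [hord']
      intro hc
      have h4 := Nat.Coprime.coprime_dvd_left (Dvd.intro _ rfl : r ∣ r * s) hc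
      exact (Nat.Prime.coprime_iff_not_dvd hr).mp h4 hrp
    have h5 := hord _ ht1
    rw [hord'] at h5
    have h6 := Nat.Coprime.coprime_dvd_left (Dvd.intro_left _ rfl : s ∣ r * s) h5
    exact (Nat.Prime.coprime_iff_not_dvd hs).mp h6 hsp
  exact Nat.Coprime.dvd_of_dvd_mul_right hcop hdvd

end Cfsg.Agent.Lib.helper32.Br
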