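import Mathlib
import Cfsg.Prelude.Def_Characters
import Cfsg.Agent.Lib.helper83.CharBasic2

/-! S0996 / BETA-CNT (helper81 sub-architect): the number of type-1 elements is `p (p - 2)`. -/

set_option autoImplicit false

namespace Cfsg.Agent.Lib.helper32.Br

open Cfsg

universe u

/-- BETA-CNT : the number of type-1 elements is `p (p - 2)`. -/
theorem beta_count {G : Type u} [Group G] [Fintype G] (p : ℕ) (hp : p.Prime) (hp5 : 5 ≤ p)
    (hcard : Nat.card G = p * (p - 1) * (p - 2))
    (hsing : 2 * Nat.card {g : G // p ∣ orderOf g} = (p - 1) * (p - 1) * (p - 2))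
    (χ : IrrCharacter G) (hχ1 : (χ : G → ℂ) 1 = (p : ℂ) - 1)
    (hχ0 : ∀ g : G, ¬ (orderOf g).Coprime (p - 1) → (χ : G → ℂ) g = 0)
    (hχs : ∀ g : G, p ∣ orderOf g → (χ : G → ℂ) g = -1)
    (hχ2 : ∀ g : G, g ≠ 1 → ¬ p ∣ orderOf g → (orderOf g).Coprime (p - 1) →
      (χ : G → ℂ) g = 1) :
    Nat.card {g : G // ¬ (orderOf g).Coprime (p - 1)} = p * (p - 2) := by
  classical
  have hne : χ ≠ Cfsg.Agent.Lib.helper83.trivIrr G := by
    intro h
    have h1 : (χ : G → ℂ) 1 = 1 := by rw [h]; rfl
    rw [hχ1] at h1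
    have h2 : (p : ℂ) = 2 := by linear_combination h1
    have h3 : p = 2 := by exact_mod_cast h2
    omega
  have hsum := Cfsg.Agent.Lib.helper83.irr_sum_eq_zero χ hne
  have hpt : ∀ g : G, (χ : G → ℂ) g + (if ¬ (orderOf g).Coprime (p - 1) then (1:ℂ) else 0)
      + 2 * (if p ∣ orderOf g then (1:ℂ) else 0)
        = 1 + (if g = 1 then (p : ℂ) - 2 else 0) := by
    intro g
    by_cases hg1 : g = 1
    · subst hg1
      have h1 : (orderOf (1:G)).Coprime (p - 1) := by
        rw [orderOf_one]; exact Nat.coprime_one_left _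
      have h2 : ¬ p ∣ orderOf (1:G) := by
        rw [orderOf_one]; intro h; have := Nat.le_of_dvd one_pos h; omega
      rw [if_neg (not_not.mpr h1), if_neg h2, if_pos rfl, hχ1]; ring
    · by_cases hA : (orderOf g).Coprime (p - 1)
      · by_cases hB : p ∣ orderOf g
        · rw [if_neg (not_not.mpr hA), if_pos hB, if_neg hg1, hχs g hB]; ring
        · rw [if_neg (not_not.mpr hA), if_neg hB, if_neg hg1, hχ2 g hg1 hB hA]; ring
      · have hB : ¬ p ∣ orderOf g := by
          intro hB
          have h1 := hχ0 g hA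
          have h2 := hχs g hB
          rw [h1] at h2
          norm_num at h2
        rw [if_pos hA, if_neg hB, if_neg hg1, hχ0 g hA]; ring
  have hS : ∑ g : G, ((χ : G → ℂ) g + (if ¬ (orderOf g).Coprime (p - 1) then (1:ℂ) else 0)
      + 2 * (if p ∣ orderOf g then (1:ℂ) else 0))
        = ∑ g : G, (1 + (if g = 1 then (p : ℂ) - 2 else 0)) :=
    Finset.sum_congr rfl (fun g _ => hpt g)
  rw [Finset.sum_add_distrib, Finset.sum_add_distrib, hsum, ← Finset.mul_sum, Finset.sum_boole,
    Finset.sum_boole, Finset.sum_add_distrib, Finset.sum_ite_eq', if_pos (Finset.mem_univ _),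
    Finset.sum_const, Finset.card_univ, nsmul_eq_mul, mul_one, zero_add] at hS
  have hA : Nat.card {g : G // ¬ (orderOf g).Coprime (p - 1)}
      = (Finset.univ.filter (fun g : G => ¬ (orderOf g).Coprime (p - 1))).card := by
    rw [Nat.card_eq_fintype_card, Fintype.card_subtype]
  have hB : Nat.card {g : G // p ∣ orderOf g}
      = (Finset.univ.filter (fun g : G => p ∣ orderOf g)).card := by
    rw [Nat.card_eq_fintype_card, Fintype.card_subtype]
  rw [hB] at hsing
  rw [hA]
  rw [Nat.card_eq_fintype_card] at hcard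
  have hN : (Finset.univ.filter (fun g : G => ¬ (orderOf g).Coprime (p - 1))).card
      + 2 * (Finset.univ.filter (fun g : G => p ∣ orderOf g)).card + 2 = Fintype.card G + p := by
    have : (((Finset.univ.filter (fun g : G => ¬ (orderOf g).Coprime (p - 1))).card : ℂ)
      + 2 * ((Finset.univ.filter (fun g : G => p ∣ orderOf g)).card : ℂ) + 2
        = (Fintype.card G : ℂ) + (p : ℂ)) := by linear_combination hS
    exact_mod_cast this
  rw [hsing, hcard] at hN
  obtain ⟨q, rfl⟩ : ∃ q, p = q + 2 := ⟨p - 2, by omega⟩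
  have e1 : q + 2 - 1 = q + 1 := by omega
  have e2 : q + 2 - 2 = q := by omega
  rw [e1, e2] at hN
  rw [e1, e2]
  nlinarith [hN]

end Cfsg.Agent.Lib.helper32.Br
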