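import Mathlib
import Cfsg.Prelude.Def_Characters

/-! S0996 / BETA-OC (helper81 sub-architect): the type-1 elements form one class of involutions
and `p - 1` is a power of `2`. -/

set_option autoImplicit false

namespace Cfsg.Agent.Lib.helper32.Br

open Cfsg

universe u

/-- BETA-OC : the type-1 elements form one class of involutions and `p - 1` is a power of `2`. -/
theorem beta_one_class {G : Type u} [Group G] [Fintype G] (p : ℕ) (hp : p.Prime) (hp5 : 5 ≤ p)
    (hcard : Nat.card G = p * (p - 1) * (p - 2))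
    (hcount : Nat.card {g : G // ¬ (orderOf g).Coprime (p - 1)} = p * (p - 2))
    (hcent : ∀ g : G, ¬ (orderOf g).Coprime (p - 1) →
      Nat.card (Subgroup.centralizer ({g} : Set G)) = p - 1) :
    (∃ m : ℕ, p - 1 = 2 ^ m) ∧ ∀ g : G, ¬ (orderOf g).Coprime (p - 1) → orderOf g = 2 := by
  classical
  have hp2 : p ≠ 2 := by omega
  have hodd : p % 2 = 1 := (hp.eq_two_or_odd).resolve_left hp2
  have h2dvd : 2 ∣ p - 1 := by omega
  have h2G : 2 ∣ Nat.card G := by
    rw [hcard]; exact Dvd.dvd.mul_right (Dvd.dvd.mul_left h2dvd p) _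
  have : Fact (Nat.Prime 2) := ⟨Nat.prime_two⟩
  obtain ⟨t, ht⟩ := exists_prime_orderOf_dvd_card' 2 h2G
  have ht1 : ¬ (orderOf t).Coprime (p - 1) := by
    rw [ht]
    intro hc
    exact (Nat.Prime.coprime_iff_not_dvd Nat.prime_two).mp hc h2dvd
  -- the class of `t` has `p (p - 2)` elements
  have horb : (MulAction.orbit (ConjAct G) t).ncard = p * (p - 2) := by
    have h1 := MulAction.index_stabilizer (ConjAct G) t
    have h2 := Subgroup.card_mul_index (MulAction.stabilizer (ConjAct G) t)
    rw [← Subgroup.nat_card_centralizer_nat_card_stabilizer, hcent t ht1, h1] at h2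
    have h3 : Nat.card (ConjAct G) = Nat.card G := rfl
    rw [h3, hcard] at h2
    have hpos : 0 < p - 1 := by omega
    have h4 : (p - 1) * (MulAction.orbit (ConjAct G) t).ncard = (p - 1) * (p * (p - 2)) := by
      rw [h2]; ring
    exact Nat.eq_of_mul_eq_mul_left hpos h4
  have hScard : ({g | ¬ (orderOf g).Coprime (p - 1)} : Set G).ncard = p * (p - 2) := by
    rw [← Nat.card_coe_set_eq]; exact hcount
  have hsub : MulAction.orbit (ConjAct G) t ⊆ {g | ¬ (orderOf g).Coprime (p - 1)} := by
    intro x hx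
    rw [ConjAct.mem_orbit_conjAct] at hx
    obtain ⟨c, hc⟩ := isConj_iff.mp hx
    show ¬ (orderOf x).Coprime (p - 1)
    have h5 : orderOf x = orderOf t := by
      rw [← hc]; exact ((MulAut.conj c).orderOf_eq x).symm
    rw [h5]; exact ht1
  have heq : MulAction.orbit (ConjAct G) t = {g | ¬ (orderOf g).Coprime (p - 1)} :=
    Set.eq_of_subset_of_ncard_le hsub (by rw [hScard, horb]) (Set.toFinite _)
  have hord2 : ∀ g : G, ¬ (orderOf g).Coprime (p - 1) → orderOf g = 2 := by
    intro g hg
    have hgS : g ∈ ({g | ¬ (orderOf g).Coprime (p - 1)} : Set G) := hg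
    rw [← heq, ConjAct.mem_orbit_conjAct] at hgS
    obtain ⟨c, hc⟩ := isConj_iff.mp hgS
    rw [← ht, ← hc]; exact ((MulAut.conj c).orderOf_eq g).symm
  refine ⟨?_, hord2⟩
  have hne : p - 1 ≠ 0 := by omega
  refine ⟨(p - 1).primeFactorsList.length, Nat.eq_prime_pow_of_unique_prime_dvd hne ?_⟩
  intro r hr hrd
  have hrG : r ∣ Nat.card G := by
    rw [hcard]; exact Dvd.dvd.mul_right (Dvd.dvd.mul_left hrd p) _
  have : Fact r.Prime := ⟨hr⟩
  obtain ⟨x, hx⟩ := exists_prime_orderOf_dvd_card' r hrG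
  have hx1 : ¬ (orderOf x).Coprime (p - 1) := by
    rw [hx]; intro hc
    exact (Nat.Prime.coprime_iff_not_dvd hr).mp hc hrd
  rw [← hx]; exact hord2 x hx1

end Cfsg.Agent.Lib.helper32.Br
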