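import Mathlib
import Cfsg.Prelude.Def_Characters
import Cfsg.Prelude.Def_OddOrderChar
import Cfsg.Agent.Lib.helper4.CharDecomp
import Cfsg.Agent.Lib.helper32.Coh

set_option autoImplicit false

/-!
# Positivity of `classInner`, gluing of linear isometries, four signed irreducibles
(helper32 library)
-/

namespace Cfsg.Agent.Lib.helper32

open Cfsg.Agent.Lib.helper4

universe u v

section Pos

variable {X : Type u} [Group X] [Fintype X]

theorem classInner_self_eq (f : X → ℂ) :
    Cfsg.classInner f f = (((Nat.card X : ℝ)⁻¹ * ∑ g, ‖f g‖ ^ 2 : ℝ) : ℂ) := by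
  unfold Cfsg.classInner
  push_cast
  congr 1
  apply Finset.sum_congr rfl
  intro g _
  rw [Complex.mul_conj, Complex.normSq_eq_norm_sq]
  push_cast
  rfl

theorem classInner_self_re_nonneg (f : X → ℂ) : 0 ≤ (Cfsg.classInner f f).re := by
  rw [classInner_self_eq, Complex.ofReal_re]
  positivity

theorem classInner_self_im (f : X → ℂ) : (Cfsg.classInner f f).im = 0 := by
  rw [classInner_self_eq, Complex.ofReal_im]

theorem classInner_self_eq_zero {f : X → ℂ} (h : Cfsg.classInner f f = 0) : f = 0 := by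
  rw [classInner_self_eq] at h
  have h' : (Nat.card X : ℝ)⁻¹ * ∑ g, ‖f g‖ ^ 2 = 0 := by exact_mod_cast h
  have hc : (Nat.card X : ℝ)⁻¹ ≠ 0 := inv_ne_zero (by exact_mod_cast Nat.card_pos.ne')
  have hs := (mul_eq_zero.mp h').resolve_left hc
  funext g
  have := (Finset.sum_eq_zero_iff_of_nonneg (fun g _ => by positivity)).mp hs g (Finset.mem_univ g)
  simpa using this

theorem classInner_comm_of_eq_zero {f g : X → ℂ} (h : Cfsg.classInner f g = 0) :
    Cfsg.classInner g f = 0 := by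
  rw [← Cfsg.Agent.Lib.helper4.classInner_conj_symm, h]; simp

end Pos

section Misc

variable {X : Type u}

theorem zspanOn_mono {S T : Set (X → ℂ)} (h : S ⊆ T) (A : Set X) :
    Cfsg.zspanOn S A ⊆ Cfsg.zspanOn T A :=
  fun _ hθ => ⟨zspan_mono h hθ.1, hθ.2⟩

theorem mem_zspanOn_compl_one [One X] {S : Set (X → ℂ)} {θ : X → ℂ} (hθ : θ ∈ Cfsg.zspan S)
    (h : θ 1 = 0) : θ ∈ Cfsg.zspanOn S {1}ᶜ := by
  refine ⟨hθ, fun x hx => ?_⟩
  have hx1 : x = 1 := by simpa using hx
  rw [hx1]; exact h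

theorem apply_one_of_mem_zspanOn_compl_one [One X] {S : Set (X → ℂ)} {θ : X → ℂ}
    (hθ : θ ∈ Cfsg.zspanOn S {1}ᶜ) : θ 1 = 0 :=
  hθ.2 1 (by simp)

/-- Members of the integer span of a set of characters have integer values at `1`. -/
theorem zspan_degree_int [Group X] {S : Set (X → ℂ)} (hS : ∀ ξ ∈ S, Cfsg.IsCharacter X ξ)
    {θ : X → ℂ} (hθ : θ ∈ Cfsg.zspan S) : ∃ k : ℤ, θ 1 = k := by
  have hθ' : θ ∈ (Submodule.span ℤ S : Submodule ℤ (X → ℂ)) := hθ
  clear hθ
  induction hθ' using Submodule.span_induction with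
  | mem x hx =>
    obtain ⟨n, hn⟩ := exists_nat_degree (hS x hx)
    exact ⟨n, by rw [hn]; simp⟩
  | zero => exact ⟨0, by simp⟩
  | add a b _ _ iha ihb =>
    obtain ⟨k, hk⟩ := iha
    obtain ⟨l, hl⟩ := ihb
    exact ⟨k + l, by rw [Pi.add_apply, hk, hl]; push_cast; ring⟩
  | smul n a _ iha =>
    obtain ⟨k, hk⟩ := iha
    exact ⟨n * k, by rw [Pi.smul_apply, hk]; simp⟩

/-- Members of the integer span of a set of characters are virtual characters. -/
theorem zspan_isGeneralizedCharacter [Group X] {S : Set (X → ℂ)}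
    (hS : ∀ ξ ∈ S, Cfsg.IsCharacter X ξ)
    {θ : X → ℂ} (hθ : θ ∈ Cfsg.zspan S) : Cfsg.IsGeneralizedCharacter X θ := by
  have hθ' : θ ∈ (Submodule.span ℤ S : Submodule ℤ (X → ℂ)) := hθ
  clear hθ
  induction hθ' using Submodule.span_induction with
  | mem x hx => exact isGeneralizedCharacter_of_isCharacter (hS x hx)
  | zero => exact isGeneralizedCharacter_zero
  | add a b _ _ iha ihb => exact isGeneralizedCharacter_add iha ihb
  | smul n a _ iha => exact isGeneralizedCharacter_zsmul n iha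

end Misc

section Glue

variable {L : Type u} [Group L] [Fintype L] {G : Type v} [Group G] [Fintype G]

omit [Group L] [Fintype L] in
/-- Bilinear extension of orthogonality from generators to integer spans, through maps that are
ℤ-linear on the spans. -/
theorem classInner_span_span_eq_zero (X Y : Set (L → ℂ)) (f g : (L → ℂ) → (G → ℂ))
    (hf_add : ∀ a ∈ Submodule.span ℤ X, ∀ b ∈ Submodule.span ℤ X, f (a + b) = f a + f b)
    (hf_smul : ∀ a ∈ Submodule.span ℤ X, ∀ n : ℤ, f (n • a) = n • f a)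
    (hg_add : ∀ a ∈ Submodule.span ℤ Y, ∀ b ∈ Submodule.span ℤ Y, g (a + b) = g a + g b)
    (hg_smul : ∀ a ∈ Submodule.span ℤ Y, ∀ n : ℤ, g (n • a) = n • g a)
    (h : ∀ x ∈ X, ∀ y ∈ Y, Cfsg.classInner (f x) (g y) = 0) :
    ∀ x ∈ Submodule.span ℤ X, ∀ y ∈ Submodule.span ℤ Y, Cfsg.classInner (f x) (g y) = 0 := by
  have hf0 : f 0 = 0 := by
    have := hf_smul 0 (Submodule.zero_mem _) 0
    simpa using this
  have hg0 : g 0 = 0 := by
    have := hg_smul 0 (Submodule.zero_mem _) 0
    simpa using this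
  intro x hx
  induction hx using Submodule.span_induction with
  | mem x hx =>
    intro y hy
    induction hy using Submodule.span_induction with
    | mem y hy => exact h x hx y hy
    | zero => rw [hg0, classInner_zero_right]
    | add a b ha hb iha ihb => rw [hg_add a ha b hb, classInner_add_right, iha, ihb, add_zero]
    | smul n a ha iha => rw [hg_smul a ha n, classInner_zsmul_right, iha, mul_zero]
  | zero =>
    intro y _
    rw [hf0, classInner_zero_left]
  | add a b ha hb iha ihb =>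
    intro y hy
    rw [hf_add a ha b hb, classInner_add_left, iha y hy, ihb y hy, add_zero]
  | smul n a ha iha =>
    intro y hy
    rw [hf_smul a ha n, classInner_zsmul_left, iha y hy, mul_zero]

/-- Orthogonality of integer spans of mutually orthogonal sets. -/
theorem classInner_span_span_eq_zero' (X Y : Set (L → ℂ))
    (h : ∀ x ∈ X, ∀ y ∈ Y, Cfsg.classInner x y = 0) :
    ∀ x ∈ Submodule.span ℤ X, ∀ y ∈ Submodule.span ℤ Y, Cfsg.classInner x y = 0 := by
  intro x hx
  induction hx using Submodule.span_induction with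
  | mem x hx =>
    intro y hy
    induction hy using Submodule.span_induction with
    | mem y hy => exact h x hx y hy
    | zero => rw [classInner_zero_right]
    | add a b ha hb iha ihb => rw [classInner_add_right, iha, ihb, add_zero]
    | smul n a ha iha => rw [classInner_zsmul_right, iha, mul_zero]
  | zero =>
    intro y _
    rw [classInner_zero_left]
  | add a b ha hb iha ihb =>
    intro y hy
    rw [classInner_add_left, iha y hy, ihb y hy, add_zero]
  | smul n a ha iha =>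
    intro y hy
    rw [classInner_zsmul_left, iha y hy, mul_zero]

/-- Gluing two linear isometries defined on orthogonal submodules with orthogonal images. -/
theorem lio_glue (E₁ E₂ : Submodule ℤ (L → ℂ)) (σ τ : (L → ℂ) → (G → ℂ))
    (hσ : Cfsg.IsLinearIsometryOn (E₁ : Set (L → ℂ)) σ)
    (hτ : Cfsg.IsLinearIsometryOn (E₂ : Set (L → ℂ)) τ)
    (horth : ∀ x ∈ E₁, ∀ y ∈ E₂, Cfsg.classInner x y = 0)
    (horth' : ∀ x ∈ E₁, ∀ y ∈ E₂, Cfsg.classInner (σ x) (τ y) = 0) :
    ∃ τ₁ : (L → ℂ) → (G → ℂ),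
      Cfsg.IsLinearIsometryOn ((E₁ ⊔ E₂ : Submodule ℤ (L → ℂ)) : Set (L → ℂ)) τ₁ ∧
      ∀ x ∈ E₁, ∀ y ∈ E₂, τ₁ (x + y) = σ x + τ y := by
  classical
  have hinf : ∀ z, z ∈ E₁ → z ∈ E₂ → z = 0 :=
    fun z h1 h2 => classInner_self_eq_zero (horth z h1 z h2)
  have huniq : ∀ x ∈ E₁, ∀ y ∈ E₂, ∀ x' ∈ E₁, ∀ y' ∈ E₂, x + y = x' + y' → x = x' ∧ y = y' := by
    intro x hx y hy x' hx' y' hy' h
    have h1 : x - x' = y' - y := by
      rw [sub_eq_sub_iff_add_eq_add, h, add_comm]
    have h2 := hinf (x - x') (E₁.sub_mem hx hx') (by rw [h1]; exact E₂.sub_mem hy' hy)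
    have h3 : y' - y = 0 := by rw [← h1]; exact h2
    exact ⟨sub_eq_zero.mp h2, (sub_eq_zero.mp h3).symm⟩
  let τ₁ : (L → ℂ) → (G → ℂ) := fun θ =>
    if h : ∃ x ∈ E₁, ∃ y ∈ E₂, θ = x + y then σ h.choose + τ h.choose_spec.2.choose else 0
  have hτ₁ : ∀ x ∈ E₁, ∀ y ∈ E₂, τ₁ (x + y) = σ x + τ y := by
    intro x hx y hy
    have h : ∃ x' ∈ E₁, ∃ y' ∈ E₂, x + y = x' + y' := ⟨x, hx, y, hy, rfl⟩
    show (if h : ∃ x' ∈ E₁, ∃ y' ∈ E₂, x + y = x' + y' then
      σ h.choose + τ h.choose_spec.2.choose else 0) = _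
    rw [dif_pos h]
    obtain ⟨e1, e2⟩ := huniq x hx y hy h.choose h.choose_spec.1 h.choose_spec.2.choose
      h.choose_spec.2.choose_spec.1 h.choose_spec.2.choose_spec.2
    exact congrArg₂ (· + ·) (congrArg σ e1.symm) (congrArg τ e2.symm)
  refine ⟨τ₁, ⟨?_, ?_, ?_, ?_⟩, hτ₁⟩
  · intro a ha b hb
    obtain ⟨x, hx, y, hy, rfl⟩ := Submodule.mem_sup.mp ha
    obtain ⟨x', hx', y', hy', rfl⟩ := Submodule.mem_sup.mp hb
    have e : x + y + (x' + y') = (x + x') + (y + y') := by abel
    rw [e, hτ₁ _ (E₁.add_mem hx hx') _ (E₂.add_mem hy hy'), hτ₁ x hx y hy, hτ₁ x' hx' y' hy',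
      lio_add hσ hx hx', lio_add hτ hy hy']
    abel
  · intro a ha n
    obtain ⟨x, hx, y, hy, rfl⟩ := Submodule.mem_sup.mp ha
    rw [smul_add, hτ₁ _ (E₁.smul_mem n hx) _ (E₂.smul_mem n hy), hτ₁ x hx y hy,
      lio_zsmul hσ hx, lio_zsmul hτ hy, smul_add]
  · intro a ha b hb
    obtain ⟨x, hx, y, hy, rfl⟩ := Submodule.mem_sup.mp ha
    obtain ⟨x', hx', y', hy', rfl⟩ := Submodule.mem_sup.mp hb
    rw [hτ₁ x hx y hy, hτ₁ x' hx' y' hy']
    simp only [Cfsg.Agent.Lib.helper4.classInner_add_left,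
      Cfsg.Agent.Lib.helper4.classInner_add_right]
    rw [lio_inner hσ hx hx', lio_inner hτ hy hy', horth' x hx y' hy', horth x hx y' hy',
      classInner_comm_of_eq_zero (horth' x' hx' y hy), classInner_comm_of_eq_zero (horth x' hx' y hy)]
  · intro a ha
    obtain ⟨x, hx, y, hy, rfl⟩ := Submodule.mem_sup.mp ha
    rw [hτ₁ x hx y hy]
    exact isGeneralizedCharacter_add (lio_gen hσ hx) (lio_gen hτ hy)

end Glue

section Four

variable {X : Type u} [Group X] [Fintype X]

/-- The inner product of two signed irreducible characters is zero, or `y = e • x` with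
`e * e = 1` and the inner product is `e`. -/
theorem signed_irr_inner' (x y : X → ℂ)
    (hx : Cfsg.IsIrrCharacter X x ∨ Cfsg.IsIrrCharacter X (-x))
    (hy : Cfsg.IsIrrCharacter X y ∨ Cfsg.IsIrrCharacter X (-y)) :
    Cfsg.classInner x y = 0 ∨
      ∃ e : ℂ, e * e = 1 ∧ (starRingEnd ℂ) e = e ∧ y = e • x ∧ Cfsg.classInner x y = e := by
  rcases signed_irr_inner x y hx hy with h | ⟨h, h'⟩ | ⟨h, h'⟩
  · left; exact h
  · right; exact ⟨1, by ring, by simp, by rw [h]; simp, h'⟩
  · right; exact ⟨-1, by ring, by simp, by rw [h]; simp, h'⟩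

/-- Four signed irreducible characters `A, B, C, D` with `A ⊥ B`, `C ⊥ D`, such that
`u₁ A - u₂ B` and `v₁ C - v₂ D` are orthogonal and vanish at `1` (nonzero real coefficients): then
each of `A, B` is orthogonal to each of `C, D`. -/
theorem four_signed_orthogonal (A B C D : X → ℂ)
    (hA : Cfsg.IsIrrCharacter X A ∨ Cfsg.IsIrrCharacter X (-A))
    (hB : Cfsg.IsIrrCharacter X B ∨ Cfsg.IsIrrCharacter X (-B))
    (hC : Cfsg.IsIrrCharacter X C ∨ Cfsg.IsIrrCharacter X (-C))
    (hD : Cfsg.IsIrrCharacter X D ∨ Cfsg.IsIrrCharacter X (-D))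
    (u₁ u₂ v₁ v₂ : ℝ) (hu₁ : u₁ ≠ 0) (hu₂ : u₂ ≠ 0) (hv₁ : v₁ ≠ 0) (hv₂ : v₂ ≠ 0)
    (hAB : Cfsg.classInner A B = 0) (hCD : Cfsg.classInner C D = 0)
    (hmix : Cfsg.classInner ((u₁ : ℂ) • A - (u₂ : ℂ) • B) ((v₁ : ℂ) • C - (v₂ : ℂ) • D) = 0)
    (h1 : (u₁ : ℂ) * A 1 = (u₂ : ℂ) * B 1) (h2 : (v₁ : ℂ) * C 1 = (v₂ : ℂ) * D 1) :
    Cfsg.classInner A C = 0 ∧ Cfsg.classInner A D = 0 ∧ Cfsg.classInner B C = 0 ∧
      Cfsg.classInner B D = 0 := by
  have hBA : Cfsg.classInner B A = 0 := classInner_comm_of_eq_zero hAB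
  have hDC : Cfsg.classInner D C = 0 := classInner_comm_of_eq_zero hCD
  have hA1 := signed_irr_degree_ne_zero A hA
  have hu₁C : (u₁ : ℂ) ≠ 0 := by exact_mod_cast hu₁
  have hu₂C : (u₂ : ℂ) ≠ 0 := by exact_mod_cast hu₂
  have hv₁C : (v₁ : ℂ) ≠ 0 := by exact_mod_cast hv₁
  have hv₂C : (v₂ : ℂ) ≠ 0 := by exact_mod_cast hv₂
  have huu : (u₁ : ℂ) * u₁ + (u₂ : ℂ) * u₂ ≠ 0 := by
    have : u₁ * u₁ + u₂ * u₂ ≠ 0 := by
      have h1 := mul_self_pos.mpr hu₁
      have h2 := mul_self_nonneg u₂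
      exact ne_of_gt (by linarith)
    exact_mod_cast this
  have hmix' : (u₁ : ℂ) * v₁ * Cfsg.classInner A C - (u₁ : ℂ) * v₂ * Cfsg.classInner A D
      - (u₂ : ℂ) * v₁ * Cfsg.classInner B C + (u₂ : ℂ) * v₂ * Cfsg.classInner B D = 0 := by
    rw [Cfsg.Agent.Lib.helper4.classInner_sub_left, Cfsg.Agent.Lib.helper4.classInner_sub_right,
      Cfsg.Agent.Lib.helper4.classInner_sub_right,
      Cfsg.Agent.Lib.helper4.classInner_smul_left, Cfsg.Agent.Lib.helper4.classInner_smul_left,
      Cfsg.Agent.Lib.helper4.classInner_smul_left, Cfsg.Agent.Lib.helper4.classInner_smul_left,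
      Cfsg.Agent.Lib.helper4.classInner_smul_right, Cfsg.Agent.Lib.helper4.classInner_smul_right,
      Cfsg.Agent.Lib.helper4.classInner_smul_right, Cfsg.Agent.Lib.helper4.classInner_smul_right,
      Complex.conj_ofReal, Complex.conj_ofReal] at hmix
    linear_combination hmix
  -- the final contradiction from the two degree equations and `u₂ a + u₁ b = 0`
  have fin : (u₂ : ℂ) * A 1 + (u₁ : ℂ) * B 1 = 0 → False := by
    intro h3
    have : ((u₁ : ℂ) * u₁ + (u₂ : ℂ) * u₂) * A 1 = 0 := by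
      linear_combination (u₁ : ℂ) * h1 + (u₂ : ℂ) * h3
    rcases mul_eq_zero.mp this with h | h
    · exact huu h
    · exact hA1 h
  rcases signed_irr_inner' A C hA hC with hp | ⟨e, hee, hec, hCe, hp⟩
  · rcases signed_irr_inner' A D hA hD with hq | ⟨e, hee, hec, hDe, hq⟩
    · rcases signed_irr_inner' B C hB hC with hr | ⟨e, hee, hec, hCe, hr⟩
      · have ht : Cfsg.classInner B D = 0 := by
          rw [hp, hq, hr] at hmix'
          have : (u₂ : ℂ) * v₂ * Cfsg.classInner B D = 0 := by linear_combination hmix'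
          rcases mul_eq_zero.mp this with h | h
          · exact absurd h (mul_ne_zero hu₂C hv₂C)
          · exact h
        exact ⟨hp, hq, hr, ht⟩
      · exfalso
        have he0 : e ≠ 0 := by
          intro h; rw [h] at hee; simp at hee
        have ht : Cfsg.classInner B D = 0 := by
          have hBe : B = e • C := by
            rw [hCe, smul_smul, hee, one_smul]
          rw [hBe, Cfsg.Agent.Lib.helper4.classInner_smul_left, hCD, mul_zero]
        rw [hp, hq, hr, ht] at hmix'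
        have : (u₂ : ℂ) * v₁ * e = 0 := by linear_combination -hmix'
        exact mul_ne_zero (mul_ne_zero hu₂C hv₁C) he0 this
    · exfalso
      have he0 : e ≠ 0 := by
        intro h; rw [h] at hee; simp at hee
      have ht : Cfsg.classInner B D = 0 := by
        rw [hDe, Cfsg.Agent.Lib.helper4.classInner_smul_right, hBA, mul_zero]
      rcases signed_irr_inner' B C hB hC with hr | ⟨e', hee', hec', hCe', hr⟩
      · rw [hp, hq, hr, ht] at hmix'
        have : (u₁ : ℂ) * v₂ * e = 0 := by linear_combination -hmix'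
        exact mul_ne_zero (mul_ne_zero hu₁C hv₂C) he0 this
      · rw [hp, hq, hr, ht] at hmix'
        rw [hCe', hDe] at h2
        simp only [Pi.smul_apply, smul_eq_mul] at h2
        apply fin
        have h3 : (v₂ : ℂ) * e * ((u₂ : ℂ) * A 1 + (u₁ : ℂ) * B 1) = 0 := by
          linear_combination (-(u₂ : ℂ)) * h2 - B 1 * hmix'
        rcases mul_eq_zero.mp h3 with h | h
        · exact absurd h (mul_ne_zero hv₂C he0)
        · exact h
  · exfalso
    have he0 : e ≠ 0 := by
      intro h; rw [h] at hee; simp at hee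
    have hq : Cfsg.classInner A D = 0 := by
      have hAe : A = e • C := by
        rw [hCe, smul_smul, hee, one_smul]
      rw [hAe, Cfsg.Agent.Lib.helper4.classInner_smul_left, hCD, mul_zero]
    have hr : Cfsg.classInner B C = 0 := by
      rw [hCe, Cfsg.Agent.Lib.helper4.classInner_smul_right, hBA, mul_zero]
    rcases signed_irr_inner' B D hB hD with ht | ⟨e', hee', hec', hDe', ht⟩
    · rw [hp, hq, hr, ht] at hmix'
      have : (u₁ : ℂ) * v₁ * e = 0 := by linear_combination hmix'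
      exact mul_ne_zero (mul_ne_zero hu₁C hv₁C) he0 this
    · rw [hp, hq, hr, ht] at hmix'
      rw [hCe, hDe'] at h2
      simp only [Pi.smul_apply, smul_eq_mul] at h2
      apply fin
      have h3 : (v₁ : ℂ) * e * ((u₂ : ℂ) * A 1 + (u₁ : ℂ) * B 1) = 0 := by
        linear_combination (u₂ : ℂ) * h2 + B 1 * hmix'
      rcases mul_eq_zero.mp h3 with h | h
      · exact absurd h (mul_ne_zero hv₁C he0)
      · exact h

end Four

end Cfsg.Agent.Lib.helper32
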