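import Mathlib
import Cfsg.Prelude.Def_Characters
import Cfsg.Prelude.Def_OddOrderChar
import Cfsg.Agent.Lib.helper4.CharDecomp
import Cfsg.Agent.Lib.helper32.Coh
import Cfsg.Agent.Lib.helper32.Coh3

set_option autoImplicit false

/-!
# Bessel's inequality for `classInner` with integer coefficients; rank-one linear isometries
(helper32 library)
-/

namespace Cfsg.Agent.Lib.helper32

open Cfsg.Agent.Lib.helper4

universe u v

section Bessel

variable {X : Type u} [Group X] [Fintype X]

/-- Bessel's identity: the norm of `f` minus its projection on an orthonormal family, when the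
coefficients are integers. -/
theorem bessel_sub {ι : Type*} [DecidableEq ι] (s : Finset ι) (e : ι → X → ℂ) (f : X → ℂ)
    (c : ι → ℤ)
    (horth : ∀ i ∈ s, ∀ j ∈ s, Cfsg.classInner (e i) (e j) = if i = j then 1 else 0)
    (hc : ∀ i ∈ s, Cfsg.classInner f (e i) = c i) :
    Cfsg.classInner (f - ∑ i ∈ s, (c i : ℂ) • e i) (f - ∑ i ∈ s, (c i : ℂ) • e i) =
      Cfsg.classInner f f - ((∑ i ∈ s, c i ^ 2 : ℤ) : ℂ) := by
  have h1 : Cfsg.classInner f (∑ i ∈ s, (c i : ℂ) • e i) = ((∑ i ∈ s, c i ^ 2 : ℤ) : ℂ) := by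
    rw [Cfsg.Agent.Lib.helper4.classInner_sum_right]
    push_cast
    apply Finset.sum_congr rfl
    intro i hi
    rw [Cfsg.Agent.Lib.helper4.classInner_smul_right, hc i hi]
    simp [sq]
  have h2 : Cfsg.classInner (∑ i ∈ s, (c i : ℂ) • e i) f = ((∑ i ∈ s, c i ^ 2 : ℤ) : ℂ) := by
    rw [← Cfsg.Agent.Lib.helper4.classInner_conj_symm, h1]
    simp
  have h3 : Cfsg.classInner (∑ i ∈ s, (c i : ℂ) • e i) (∑ i ∈ s, (c i : ℂ) • e i) =
      ((∑ i ∈ s, c i ^ 2 : ℤ) : ℂ) := by
    rw [Cfsg.Agent.Lib.helper4.classInner_sum_left]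
    push_cast
    apply Finset.sum_congr rfl
    intro i hi
    rw [Cfsg.Agent.Lib.helper4.classInner_smul_left, Cfsg.Agent.Lib.helper4.classInner_sum_right,
      Finset.sum_eq_single i]
    · rw [Cfsg.Agent.Lib.helper4.classInner_smul_right, horth i hi i hi, if_pos rfl]
      simp [sq]
    · intro j hj hji
      rw [Cfsg.Agent.Lib.helper4.classInner_smul_right, horth i hi j hj, if_neg (Ne.symm hji)]
      simp
    · intro h
      exact absurd hi h
  rw [Cfsg.Agent.Lib.helper4.classInner_sub_left, Cfsg.Agent.Lib.helper4.classInner_sub_right,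
    Cfsg.Agent.Lib.helper4.classInner_sub_right, h1, h2, h3]
  ring

/-- Bessel's inequality with integer coefficients. -/
theorem bessel_le {ι : Type*} [DecidableEq ι] (s : Finset ι) (e : ι → X → ℂ) (f : X → ℂ)
    (c : ι → ℤ)
    (horth : ∀ i ∈ s, ∀ j ∈ s, Cfsg.classInner (e i) (e j) = if i = j then 1 else 0)
    (hc : ∀ i ∈ s, Cfsg.classInner f (e i) = c i) :
    ((∑ i ∈ s, c i ^ 2 : ℤ) : ℝ) ≤ (Cfsg.classInner f f).re := by
  have h := classInner_self_re_nonneg (f - ∑ i ∈ s, (c i : ℂ) • e i)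
  rw [bessel_sub s e f c horth hc, Complex.sub_re, Complex.intCast_re] at h
  linarith

/-- Equality case of Bessel's inequality. -/
theorem bessel_eq {ι : Type*} [DecidableEq ι] (s : Finset ι) (e : ι → X → ℂ) (f : X → ℂ)
    (c : ι → ℤ)
    (horth : ∀ i ∈ s, ∀ j ∈ s, Cfsg.classInner (e i) (e j) = if i = j then 1 else 0)
    (hc : ∀ i ∈ s, Cfsg.classInner f (e i) = c i)
    (heq : Cfsg.classInner f f = ((∑ i ∈ s, c i ^ 2 : ℤ) : ℂ)) :
    f = ∑ i ∈ s, (c i : ℂ) • e i := by
  have h := bessel_sub s e f c horth hc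
  rw [heq, sub_self] at h
  exact sub_eq_zero.mp (classInner_self_eq_zero h)

end Bessel

section RankOne

variable {L : Type u} [Group L] [Fintype L] {G : Type v} [Group G] [Fintype G]

/-- The rank-one map `f ↦ ⟨f, χ⟩ • Δ` is a linear isometry on `ℤ χ` when `χ` and the virtual
character `Δ` have norm one. -/
theorem lio_rankOne (χ : L → ℂ) (Δ : G → ℂ) (hχ : Cfsg.classInner χ χ = 1)
    (hΔ : Cfsg.classInner Δ Δ = 1) (hΔg : Cfsg.IsGeneralizedCharacter G Δ) :
    Cfsg.IsLinearIsometryOn ((Submodule.span ℤ {χ} : Submodule ℤ (L → ℂ)) : Set (L → ℂ))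
      (fun f => Cfsg.classInner f χ • Δ) := by
  refine ⟨?_, ?_, ?_, ?_⟩
  · intro a _ b _
    simp only [Cfsg.Agent.Lib.helper4.classInner_add_left, add_smul]
  · intro a _ n
    simp only [classInner_zsmul_left]
    rw [mul_smul, Int.cast_smul_eq_zsmul]
  · intro a ha b hb
    obtain ⟨m, rfl⟩ := Submodule.mem_span_singleton.mp ha
    obtain ⟨m', rfl⟩ := Submodule.mem_span_singleton.mp hb
    simp only [classInner_zsmul_left, classInner_zsmul_right,
      Cfsg.Agent.Lib.helper4.classInner_smul_left, Cfsg.Agent.Lib.helper4.classInner_smul_right,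
      hχ, hΔ]
    simp
  · intro a ha
    obtain ⟨m, rfl⟩ := Submodule.mem_span_singleton.mp ha
    simp only [classInner_zsmul_left, hχ, mul_one]
    rw [Int.cast_smul_eq_zsmul]
    exact isGeneralizedCharacter_zsmul m hΔg

end RankOne

end Cfsg.Agent.Lib.helper32
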