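import Mathlib
import Cfsg.Prelude.Def_Characters
import Cfsg.Prelude.Def_OddOrderChar
import Cfsg.Agent.Lib.helper4.CharDecomp
import Cfsg.Agent.Lib.helper32.Coh
import Cfsg.Agent.Lib.helper32.Coh3

set_option autoImplicit false

/-!
# Extension of an isometric assignment on an orthogonal set to its integer span
(helper32 library)
-/

namespace Cfsg.Agent.Lib.helper32

open Cfsg.Agent.Lib.helper4

universe u v

section Ext

variable {L : Type u} [Group L] [Fintype L] {G : Type v} [Group G] [Fintype G]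

/-- A set of pairwise orthogonal functions of nonzero norm on a finite group is finite. -/
theorem orthogonal_set_finite (S : Set (L → ℂ))
    (hne : ∀ χ ∈ S, Cfsg.classInner χ χ ≠ 0)
    (horth : ∀ χ ∈ S, ∀ ψ ∈ S, χ ≠ ψ → Cfsg.classInner χ ψ = 0) : S.Finite := by
  classical
  apply LinearIndependent.set_finite_of_isNoetherian (R := ℂ)
  rw [linearIndependent_iff']
  intro s c hc i hi
  have h := congrArg (fun f => Cfsg.classInner f (i : L → ℂ)) hc
  simp only [classInner_sum_left, classInner_smul_left, classInner_zero_left] at h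
  rw [Finset.sum_eq_single i] at h
  · rcases mul_eq_zero.mp h with h' | h'
    · exact h'
    · exact absurd h' (hne i i.2)
  · intro j _ hji
    rw [horth j j.2 i i.2 (fun e => hji (Subtype.ext e)), mul_zero]
  · intro h'
    exact absurd hi h'

omit [Group L] [Fintype L] in
/-- Bilinear extension of an inner-product identity from generators to integer spans, through
maps that are ℤ-linear on the spans. -/
theorem classInner_span_span_eq (X Y : Set (L → ℂ)) (f g : (L → ℂ) → (G → ℂ))
    (B : (L → ℂ) → (L → ℂ) → ℂ)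
    (hB_add_left : ∀ a b c, B (a + b) c = B a c + B b c)
    (hB_add_right : ∀ a b c, B a (b + c) = B a b + B a c)
    (hB_smul_left : ∀ (n : ℤ) a c, B (n • a) c = (n : ℂ) * B a c)
    (hB_smul_right : ∀ (n : ℤ) a c, B a (n • c) = (n : ℂ) * B a c)
    (hf_add : ∀ a ∈ Submodule.span ℤ X, ∀ b ∈ Submodule.span ℤ X, f (a + b) = f a + f b)
    (hf_smul : ∀ a ∈ Submodule.span ℤ X, ∀ n : ℤ, f (n • a) = n • f a)
    (hg_add : ∀ a ∈ Submodule.span ℤ Y, ∀ b ∈ Submodule.span ℤ Y, g (a + b) = g a + g b)
    (hg_smul : ∀ a ∈ Submodule.span ℤ Y, ∀ n : ℤ, g (n • a) = n • g a)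
    (h : ∀ x ∈ X, ∀ y ∈ Y, Cfsg.classInner (f x) (g y) = B x y) :
    ∀ x ∈ Submodule.span ℤ X, ∀ y ∈ Submodule.span ℤ Y, Cfsg.classInner (f x) (g y) = B x y := by
  have hf0 : f 0 = 0 := by
    have := hf_smul 0 (Submodule.zero_mem _) 0
    simpa using this
  have hg0 : g 0 = 0 := by
    have := hg_smul 0 (Submodule.zero_mem _) 0
    simpa using this
  have hB0l : ∀ c, B 0 c = 0 := by
    intro c
    have := hB_smul_left 0 0 c
    simpa using this
  have hB0r : ∀ a, B a 0 = 0 := by
    intro a
    have := hB_smul_right 0 a 0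
    simpa using this
  intro x hx
  induction hx using Submodule.span_induction with
  | mem x hx =>
    intro y hy
    induction hy using Submodule.span_induction with
    | mem y hy => exact h x hx y hy
    | zero => rw [hg0, classInner_zero_right, hB0r]
    | add a b ha hb iha ihb => rw [hg_add a ha b hb, classInner_add_right, iha, ihb, hB_add_right]
    | smul n a ha iha => rw [hg_smul a ha n, classInner_zsmul_right, iha, hB_smul_right]
  | zero =>
    intro y _
    rw [hf0, classInner_zero_left, hB0l]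
  | add a b ha hb iha ihb =>
    intro y hy
    rw [hf_add a ha b hb, classInner_add_left, iha y hy, ihb y hy, hB_add_left]
  | smul n a ha iha =>
    intro y hy
    rw [hf_smul a ha n, classInner_zsmul_left, iha y hy, hB_smul_left]

/-- Extension lemma: an assignment `Z` of virtual characters to the members of an orthogonal set
`S`, preserving inner products, extends to a linear isometry on the integer span of `S`. -/
theorem lio_of_orthogonal (S : Set (L → ℂ)) (Z : (L → ℂ) → (G → ℂ))
    (hne : ∀ χ ∈ S, Cfsg.classInner χ χ ≠ 0)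
    (horth : ∀ χ ∈ S, ∀ ψ ∈ S, χ ≠ ψ → Cfsg.classInner χ ψ = 0)
    (hZ : ∀ χ ∈ S, Cfsg.IsGeneralizedCharacter G (Z χ))
    (hZi : ∀ χ ∈ S, ∀ ψ ∈ S, Cfsg.classInner (Z χ) (Z ψ) = Cfsg.classInner χ ψ) :
    ∃ τ₁ : (L → ℂ) → (G → ℂ), Cfsg.IsLinearIsometryOn (Cfsg.zspan S) τ₁ ∧ ∀ χ ∈ S, τ₁ χ = Z χ := by
  classical
  have hfin := orthogonal_set_finite S hne horth
  let τ₁ : (L → ℂ) → (G → ℂ) := fun f =>
    ∑ χ ∈ hfin.toFinset, (Cfsg.classInner f χ / Cfsg.classInner χ χ) • Z χ
  have hτ₁S : ∀ χ ∈ S, τ₁ χ = Z χ := by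
    intro χ hχ
    show ∑ ψ ∈ hfin.toFinset, (Cfsg.classInner χ ψ / Cfsg.classInner ψ ψ) • Z ψ = Z χ
    rw [Finset.sum_eq_single χ]
    · rw [div_self (hne χ hχ), one_smul]
    · intro ψ hψ hne'
      rw [horth χ hχ ψ (hfin.mem_toFinset.mp hψ) (Ne.symm hne'), zero_div, zero_smul]
    · intro h
      exact absurd (hfin.mem_toFinset.mpr hχ) h
  have hadd : ∀ a b : L → ℂ, τ₁ (a + b) = τ₁ a + τ₁ b := by
    intro a b
    show ∑ χ ∈ hfin.toFinset, (Cfsg.classInner (a + b) χ / Cfsg.classInner χ χ) • Z χ =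
      ∑ χ ∈ hfin.toFinset, (Cfsg.classInner a χ / Cfsg.classInner χ χ) • Z χ +
      ∑ χ ∈ hfin.toFinset, (Cfsg.classInner b χ / Cfsg.classInner χ χ) • Z χ
    rw [← Finset.sum_add_distrib]
    apply Finset.sum_congr rfl
    intro χ _
    rw [classInner_add_left, add_div, add_smul]
  have hsmul : ∀ (a : L → ℂ) (n : ℤ), τ₁ (n • a) = n • τ₁ a := by
    intro a n
    show ∑ χ ∈ hfin.toFinset, (Cfsg.classInner (n • a) χ / Cfsg.classInner χ χ) • Z χ =
      n • ∑ χ ∈ hfin.toFinset, (Cfsg.classInner a χ / Cfsg.classInner χ χ) • Z χ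
    rw [Finset.smul_sum]
    apply Finset.sum_congr rfl
    intro χ _
    rw [classInner_zsmul_left, mul_div_assoc, mul_smul, Int.cast_smul_eq_zsmul]
  have h0 : τ₁ 0 = 0 := by
    have := hsmul 0 0
    simpa using this
  refine ⟨τ₁, ⟨fun a _ b _ => hadd a b, fun a _ n => hsmul a n, ?_, ?_⟩, hτ₁S⟩
  · intro a ha b hb
    exact classInner_span_span_eq S S τ₁ τ₁ (fun x y => Cfsg.classInner x y)
      (fun a b c => classInner_add_left a b c) (fun a b c => classInner_add_right a b c)
      (fun n a c => classInner_zsmul_left n a c) (fun n a c => classInner_zsmul_right n a c)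
      (fun a _ b _ => hadd a b) (fun a _ n => hsmul a n) (fun a _ b _ => hadd a b)
      (fun a _ n => hsmul a n)
      (fun x hx y hy => by rw [hτ₁S x hx, hτ₁S y hy, hZi x hx y hy]) a ha b hb
  · intro a ha
    have ha' : a ∈ (Submodule.span ℤ S : Submodule ℤ (L → ℂ)) := ha
    clear ha
    induction ha' using Submodule.span_induction with
    | mem x hx => rw [hτ₁S x hx]; exact hZ x hx
    | zero => rw [h0]; exact isGeneralizedCharacter_zero
    | add a b _ _ iha ihb => rw [hadd]; exact isGeneralizedCharacter_add iha ihb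
    | smul n a _ iha => rw [hsmul]; exact isGeneralizedCharacter_zsmul n iha

end Ext

end Cfsg.Agent.Lib.helper32
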