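import Mathlib
import Cfsg.Prelude.Def_Characters
import Cfsg.Prelude.Def_OddOrderChar
import Cfsg.Agent.Lib.helper4.CharDecomp
import Cfsg.Agent.Lib.helper4.CharTheory
import Cfsg.Agent.Lib.helper32.Coh
import Cfsg.Agent.Lib.helper32.Coh2
import Cfsg.Agent.Lib.helper32.Coh3
import Cfsg.Agent.Lib.helper32.Coh4
import Cfsg.Agent.Lib.helper32.Coh5

set_option autoImplicit false

/-!
# Coherence systems: basic facts and the squeeze decomposition (helper32 library)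
-/

namespace Cfsg.Agent.Lib.helper32

open Cfsg.Agent.Lib.helper4

universe u v

section IntSqueeze

theorem int_le_sq (c : ℤ) : c ≤ c ^ 2 := by
  rcases le_or_gt c 0 with h | h
  · nlinarith [sq_nonneg c]
  · nlinarith

theorem int_neg_le_sq (c : ℤ) : -c ≤ c ^ 2 := by
  have := int_le_sq (-c)
  simpa using this

theorem int_sign_mul_le_sq (c ε : ℤ) (hε : ε = 1 ∨ ε = -1) : ε * c ≤ c ^ 2 := by
  rcases hε with rfl | rfl
  · simpa using int_le_sq c
  · simpa using int_neg_le_sq c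

/-- If `∑ c² ≤ ∑ ε c` for integers `c` and signs `ε`, then equality holds and every `c` is `0`
or the corresponding sign. -/
theorem int_squeeze {ι : Type*} (s : Finset ι) (c ε : ι → ℤ)
    (hε : ∀ i ∈ s, ε i = 1 ∨ ε i = -1)
    (h : ∑ i ∈ s, c i ^ 2 ≤ ∑ i ∈ s, ε i * c i) :
    ∑ i ∈ s, c i ^ 2 = ∑ i ∈ s, ε i * c i ∧ ∀ i ∈ s, c i = 0 ∨ c i = ε i := by
  have hterm : ∀ i ∈ s, ε i * c i ≤ c i ^ 2 := fun i hi => int_sign_mul_le_sq (c i) (ε i) (hε i hi)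
  have hle : ∑ i ∈ s, ε i * c i ≤ ∑ i ∈ s, c i ^ 2 := Finset.sum_le_sum hterm
  have heq := le_antisymm h hle
  refine ⟨heq, ?_⟩
  have hall := (Finset.sum_eq_sum_iff_of_le hterm).mp heq.symm
  intro i hi
  have hi' := hall i hi
  have h0 : c i * (c i - ε i) = 0 := by
    have : c i * (c i - ε i) = c i ^ 2 - ε i * c i := by ring
    rw [this, hi']; ring
  rcases mul_eq_zero.mp h0 with h1 | h1
  · left; exact h1
  · right; linarith

end IntSqueeze

section SqueezeDecomp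

variable {G : Type v} [Group G] [Fintype G]

/-- Inner product of two integer combinations of an orthonormal finite set. -/
theorem orthonormal_sum_inner (T : Finset (G → ℂ))
    (hnorm : ∀ α ∈ T, Cfsg.classInner α α = 1)
    (horth : ∀ α ∈ T, ∀ β ∈ T, α ≠ β → Cfsg.classInner α β = 0)
    (a b : (G → ℂ) → ℤ) :
    Cfsg.classInner (∑ α ∈ T, (a α : ℂ) • α) (∑ α ∈ T, (b α : ℂ) • α) =
      ((∑ α ∈ T, a α * b α : ℤ) : ℂ) := by
  classical
  rw [classInner_sum_left]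
  push_cast
  apply Finset.sum_congr rfl
  intro α hα
  rw [classInner_smul_left, classInner_sum_right, Finset.sum_eq_single α]
  · rw [classInner_smul_right, hnorm α hα]
    simp
  · intro β hβ hne
    rw [classInner_smul_right, horth α hα β hβ (Ne.symm hne)]
    simp
  · intro h
    exact absurd hα h

/-- Inner product of an integer combination of an orthonormal finite set with the sum of the
set. -/
theorem orthonormal_sum_inner_one (T : Finset (G → ℂ))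
    (hnorm : ∀ α ∈ T, Cfsg.classInner α α = 1)
    (horth : ∀ α ∈ T, ∀ β ∈ T, α ≠ β → Cfsg.classInner α β = 0)
    (a : (G → ℂ) → ℤ) :
    Cfsg.classInner (∑ α ∈ T, (a α : ℂ) • α) (∑ α ∈ T, α) = ((∑ α ∈ T, a α : ℤ) : ℂ) := by
  have h := orthonormal_sum_inner T hnorm horth a (fun _ => 1)
  simpa using h

/-- Integer combinations of two mutually orthogonal finite sets are orthogonal. -/
theorem sum_smul_inner_eq_zero (T T' : Finset (G → ℂ))
    (h : ∀ α ∈ T, ∀ β ∈ T', Cfsg.classInner α β = 0) (a b : (G → ℂ) → ℤ) :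
    Cfsg.classInner (∑ α ∈ T, (a α : ℂ) • α) (∑ β ∈ T', (b β : ℂ) • β) = 0 := by
  rw [classInner_sum_left]
  apply Finset.sum_eq_zero
  intro α hα
  rw [classInner_smul_left, classInner_sum_right, Finset.sum_eq_zero, mul_zero]
  intro β hβ
  rw [classInner_smul_right, h α hα β hβ, mul_zero]

/-- A function orthogonal to every member of a finite set is orthogonal to its integer
combinations. -/
theorem inner_sum_smul_eq_zero (T : Finset (G → ℂ)) (f : G → ℂ)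
    (h : ∀ α ∈ T, Cfsg.classInner f α = 0) (a : (G → ℂ) → ℤ) :
    Cfsg.classInner f (∑ α ∈ T, (a α : ℂ) • α) = 0 := by
  rw [classInner_sum_right]
  apply Finset.sum_eq_zero
  intro α hα
  rw [classInner_smul_right, h α hα, mul_zero]

/-- Integer combinations of virtual characters are virtual characters. -/
theorem isGeneralizedCharacter_sum_smul (T : Finset (G → ℂ))
    (hT : ∀ α ∈ T, Cfsg.IsGeneralizedCharacter G α) (a : (G → ℂ) → ℤ) :
    Cfsg.IsGeneralizedCharacter G (∑ α ∈ T, (a α : ℂ) • α) :=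
  isGeneralizedCharacter_sum T _ fun α hα => isGeneralizedCharacter_intCast_smul (a α) (hT α hα)

/-- The squeeze: a virtual character `Δ` whose norm equals its inner product with a signed sum
of an orthonormal set of virtual characters is an integer combination of that set, each
coefficient being `0` or the corresponding sign. -/
theorem squeeze_decomp (T : Finset (G → ℂ))
    (hnorm : ∀ α ∈ T, Cfsg.classInner α α = 1)
    (horth : ∀ α ∈ T, ∀ β ∈ T, α ≠ β → Cfsg.classInner α β = 0)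
    (hT : ∀ α ∈ T, Cfsg.IsGeneralizedCharacter G α) (Δ : G → ℂ)
    (hΔ : Cfsg.IsGeneralizedCharacter G Δ) (ε : (G → ℂ) → ℤ)
    (hε : ∀ α ∈ T, ε α = 1 ∨ ε α = -1)
    (h : Cfsg.classInner Δ Δ = Cfsg.classInner Δ (∑ α ∈ T, (ε α : ℂ) • α)) :
    ∃ c : (G → ℂ) → ℤ, (∀ α ∈ T, Cfsg.classInner Δ α = c α) ∧
      Δ = ∑ α ∈ T, (c α : ℂ) • α ∧ (∀ α ∈ T, c α = 0 ∨ c α = ε α) ∧
      Cfsg.classInner Δ Δ = ((∑ α ∈ T, c α ^ 2 : ℤ) : ℂ) := by
  classical
  have hint : ∀ α ∈ T, ∃ n : ℤ, Cfsg.classInner Δ α = n :=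
    fun α hα => exists_int_classInner hΔ (hT α hα)
  choose! c hc using hint
  have h1 : Cfsg.classInner Δ (∑ α ∈ T, (ε α : ℂ) • α) = ((∑ α ∈ T, ε α * c α : ℤ) : ℂ) := by
    rw [classInner_sum_right]
    push_cast
    apply Finset.sum_congr rfl
    intro α hα
    rw [classInner_smul_right, hc α hα]
    simp
  have horth' : ∀ α ∈ T, ∀ β ∈ T, Cfsg.classInner (id α) (id β) = if α = β then 1 else 0 := by
    intro α hα β hβ
    by_cases hab : α = β
    · rw [if_pos hab, ← hab]; exact hnorm α hα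
    · rw [if_neg hab]; exact horth α hα β hβ hab
  have hb := bessel_le T id Δ c horth' hc
  rw [h, h1, Complex.intCast_re] at hb
  have hb' : ∑ α ∈ T, c α ^ 2 ≤ ∑ α ∈ T, ε α * c α := by exact_mod_cast hb
  obtain ⟨heq, hcase⟩ := int_squeeze T c ε hε hb'
  have hnormΔ : Cfsg.classInner Δ Δ = ((∑ α ∈ T, c α ^ 2 : ℤ) : ℂ) := by
    rw [h, h1, heq]
  refine ⟨c, hc, ?_, hcase, hnormΔ⟩
  exact bessel_eq T id Δ c horth' hc hnormΔ

end SqueezeDecomp

section CS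

variable {L : Type u} [Group L] [Fintype L] {G : Type v} [Group G] [Fintype G]
variable {S : Set (L → ℂ)} {τ : (L → ℂ) → (G → ℂ)} {R : (L → ℂ) → Finset (G → ℂ)}

omit [Fintype L] in
/-- A character of degree zero is zero. -/
theorem isCharacter_eq_zero_of_degree_zero {χ : L → ℂ} (hχ : Cfsg.IsCharacter L χ)
    (h : χ 1 = 0) : χ = 0 := by
  obtain ⟨n, ρ, rfl⟩ := hχ
  rw [Representation.char_one] at h
  have hn : n = 0 := by simpa using h
  subst hn
  exact char_eq_zero_of_subsingleton ρ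

theorem cs_lio (hS : Cfsg.IsCoherenceSystem S τ R) :
    Cfsg.IsLinearIsometryOn ((zspanOnSub S {1}ᶜ : Submodule ℤ (L → ℂ)) : Set (L → ℂ)) τ :=
  hS.isometry

theorem cs_ne_zero (hS : Cfsg.IsCoherenceSystem S τ R) {χ : L → ℂ} (hχ : χ ∈ S) : χ ≠ 0 := by
  intro h
  apply hS.conj_ne χ hχ
  rw [h]
  funext x
  simp [Cfsg.conjFun]

theorem cs_norm_ne_zero (hS : Cfsg.IsCoherenceSystem S τ R) {χ : L → ℂ} (hχ : χ ∈ S) :
    Cfsg.classInner χ χ ≠ 0 :=
  fun h => cs_ne_zero hS hχ (classInner_self_eq_zero h)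

theorem cs_norm_nat (hS : Cfsg.IsCoherenceSystem S τ R) {χ : L → ℂ} (hχ : χ ∈ S) :
    ∃ n : ℕ, 0 < n ∧ Cfsg.classInner χ χ = n := by
  obtain ⟨n, hn⟩ := exists_nat_classInner (hS.isCharacter χ hχ) (hS.isCharacter χ hχ)
  refine ⟨n, ?_, hn⟩
  rcases Nat.eq_zero_or_pos n with h | h
  · exfalso
    apply cs_norm_ne_zero hS hχ
    rw [hn, h]; simp
  · exact h

theorem cs_degree_nat (hS : Cfsg.IsCoherenceSystem S τ R) {χ : L → ℂ} (hχ : χ ∈ S) :
    ∃ d : ℕ, 0 < d ∧ χ 1 = d := by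
  obtain ⟨d, hd⟩ := exists_nat_degree (hS.isCharacter χ hχ)
  refine ⟨d, ?_, hd⟩
  rcases Nat.eq_zero_or_pos d with h | h
  · exfalso
    apply cs_ne_zero hS hχ
    apply isCharacter_eq_zero_of_degree_zero (hS.isCharacter χ hχ)
    rw [hd, h]; simp
  · exact h

theorem cs_conj_degree (hS : Cfsg.IsCoherenceSystem S τ R) {χ : L → ℂ} (hχ : χ ∈ S) :
    Cfsg.conjFun χ 1 = χ 1 :=
  conjFun_degree_of_isCharacter (hS.isCharacter χ hχ)

theorem cs_inner_conj (hS : Cfsg.IsCoherenceSystem S τ R) {χ : L → ℂ} (hχ : χ ∈ S) :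
    Cfsg.classInner χ (Cfsg.conjFun χ) = 0 :=
  hS.orthogonal χ hχ _ (hS.conj_mem χ hχ) (Ne.symm (hS.conj_ne χ hχ))

theorem cs_inner_conj' (hS : Cfsg.IsCoherenceSystem S τ R) {χ : L → ℂ} (hχ : χ ∈ S) :
    Cfsg.classInner (Cfsg.conjFun χ) χ = 0 :=
  hS.orthogonal _ (hS.conj_mem χ hχ) χ hχ (hS.conj_ne χ hχ)

theorem cs_norm_conj (hS : Cfsg.IsCoherenceSystem S τ R) {χ : L → ℂ} (hχ : χ ∈ S) :
    Cfsg.classInner (Cfsg.conjFun χ) (Cfsg.conjFun χ) = Cfsg.classInner χ χ := by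
  obtain ⟨n, -, hn⟩ := cs_norm_nat hS hχ
  rw [classInner_conjFun_conjFun, hn]
  simp

theorem cs_sub_mem (hS : Cfsg.IsCoherenceSystem S τ R) {χ ψ : L → ℂ} (hχ : χ ∈ S) (hψ : ψ ∈ S)
    (h : χ 1 = ψ 1) : χ - ψ ∈ zspanOnSub S {1}ᶜ := by
  have h' : χ - ψ ∈ Cfsg.zspanOn S {1}ᶜ :=
    mem_zspanOn_compl_one (zspan_sub_mem (mem_zspan_of_mem hχ) (mem_zspan_of_mem hψ))
      (by rw [Pi.sub_apply, h, sub_self])
  exact h'

theorem cs_sub_conj_mem (hS : Cfsg.IsCoherenceSystem S τ R) {χ : L → ℂ} (hχ : χ ∈ S) :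
    χ - Cfsg.conjFun χ ∈ zspanOnSub S {1}ᶜ :=
  cs_sub_mem hS hχ (hS.conj_mem χ hχ) (cs_conj_degree hS hχ).symm

theorem cs_R_norm (hS : Cfsg.IsCoherenceSystem S τ R) {χ : L → ℂ} (hχ : χ ∈ S) :
    ∀ α ∈ R χ, Cfsg.classInner α α = 1 := by
  intro α hα
  have h := hS.orthonormal χ hχ α hα α hα
  simpa using h

theorem cs_R_orth (hS : Cfsg.IsCoherenceSystem S τ R) {χ : L → ℂ} (hχ : χ ∈ S) :
    ∀ α ∈ R χ, ∀ β ∈ R χ, α ≠ β → Cfsg.classInner α β = 0 := by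
  intro α hα β hβ hne
  have h := hS.orthonormal χ hχ α hα β hβ
  simpa [hne] using h

/-- For `ψ` different from `χ` and its conjugate, `R ψ` is orthogonal to `R χ`. -/
theorem cs_R_cross (hS : Cfsg.IsCoherenceSystem S τ R) {χ ψ : L → ℂ} (hχ : χ ∈ S) (hψ : ψ ∈ S)
    (h1 : ψ ≠ χ) (h2 : ψ ≠ Cfsg.conjFun χ) :
    ∀ α ∈ R ψ, ∀ β ∈ R χ, Cfsg.classInner α β = 0 :=
  hS.disjoint χ hχ ψ hψ (hS.orthogonal ψ hψ χ hχ h1)
    (hS.orthogonal ψ hψ _ (hS.conj_mem χ hχ) h2)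

theorem cs_R_cross' (hS : Cfsg.IsCoherenceSystem S τ R) {χ ψ : L → ℂ} (hχ : χ ∈ S) (hψ : ψ ∈ S)
    (h1 : ψ ≠ χ) (h2 : ψ ≠ Cfsg.conjFun χ) :
    ∀ α ∈ R χ, ∀ β ∈ R ψ, Cfsg.classInner α β = 0 :=
  fun α hα β hβ => classInner_comm_of_eq_zero (cs_R_cross hS hχ hψ h1 h2 β hβ α hα)

theorem cs_ne_conj_symm {χ ψ : L → ℂ} (h2 : ψ ≠ Cfsg.conjFun χ) : χ ≠ Cfsg.conjFun ψ := by
  intro h
  apply h2
  rw [h, conjFun_conjFun]

/-- `|R χ| = 2 ⟨χ, χ⟩`. -/
theorem cs_card_R (hS : Cfsg.IsCoherenceSystem S τ R) {χ : L → ℂ} (hχ : χ ∈ S) :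
    (((R χ).card : ℕ) : ℂ) = 2 * Cfsg.classInner χ χ := by
  have hm := cs_sub_conj_mem hS hχ
  have h1 := lio_inner (cs_lio hS) hm hm
  rw [hS.sum_eq χ hχ] at h1
  have h2 := orthonormal_sum_inner (R χ) (cs_R_norm hS hχ) (cs_R_orth hS hχ) (fun _ => 1)
    (fun _ => 1)
  simp only [Int.cast_one, one_smul, mul_one, Finset.sum_const, nsmul_eq_mul] at h2
  rw [h2] at h1
  rw [classInner_sub_left, classInner_sub_right, classInner_sub_right, cs_inner_conj hS hχ,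
    cs_inner_conj' hS hχ, cs_norm_conj hS hχ] at h1
  push_cast at h1
  rw [h1]; ring

/-- The two-sided decomposition: for `ψ ∈ S` of the same degree as `χ ∈ S`, different from `χ`
and its conjugate, `τ (χ - ψ)` is an integer combination of `R χ ∪ R ψ`; the coefficients on
`R χ` and their squares both sum to `⟨χ, χ⟩`. -/
theorem cs_two_sided (hS : Cfsg.IsCoherenceSystem S τ R) {χ ψ : L → ℂ} (hχ : χ ∈ S)
    (hψ : ψ ∈ S) (h1 : ψ ≠ χ) (h2 : ψ ≠ Cfsg.conjFun χ) (hdeg : χ 1 = ψ 1) :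
    ∃ c : (G → ℂ) → ℤ,
      τ (χ - ψ) = ∑ α ∈ R χ, (c α : ℂ) • α + ∑ β ∈ R ψ, (c β : ℂ) • β ∧
      ((∑ α ∈ R χ, c α : ℤ) : ℂ) = Cfsg.classInner χ χ ∧
      ((∑ α ∈ R χ, c α ^ 2 : ℤ) : ℂ) = Cfsg.classInner χ χ := by
  classical
  have hτ := cs_lio hS
  have hm := cs_sub_mem hS hχ hψ hdeg
  have hmχ := cs_sub_conj_mem hS hχ
  have hmψ := cs_sub_conj_mem hS hψ
  have hχψ : Cfsg.classInner χ ψ = 0 := hS.orthogonal χ hχ ψ hψ (Ne.symm h1)
  have hψχ : Cfsg.classInner ψ χ = 0 := hS.orthogonal ψ hψ χ hχ h1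
  have hψχc : Cfsg.classInner ψ (Cfsg.conjFun χ) = 0 :=
    hS.orthogonal ψ hψ _ (hS.conj_mem χ hχ) h2
  have hχψc : Cfsg.classInner χ (Cfsg.conjFun ψ) = 0 :=
    hS.orthogonal χ hχ _ (hS.conj_mem ψ hψ) (cs_ne_conj_symm h2)
  -- norms
  have hΔΔ : Cfsg.classInner (τ (χ - ψ)) (τ (χ - ψ)) =
      Cfsg.classInner χ χ + Cfsg.classInner ψ ψ := by
    rw [lio_inner hτ hm hm, classInner_sub_left, classInner_sub_right, classInner_sub_right,
      hχψ, hψχ]
    ring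
  have hΔχ : Cfsg.classInner (τ (χ - ψ)) (∑ α ∈ R χ, α) = Cfsg.classInner χ χ := by
    rw [← hS.sum_eq χ hχ, lio_inner hτ hm hmχ, classInner_sub_left, classInner_sub_right,
      classInner_sub_right, hψχ, hψχc, cs_inner_conj hS hχ]
    ring
  have hΔψ : Cfsg.classInner (τ (χ - ψ)) (∑ β ∈ R ψ, β) = -Cfsg.classInner ψ ψ := by
    rw [← hS.sum_eq ψ hψ, lio_inner hτ hm hmψ, classInner_sub_left, classInner_sub_right,
      classInner_sub_right, hχψ, hχψc, cs_inner_conj hS hψ]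
    ring
  have hdisj : Disjoint (R χ) (R ψ) := by
    rw [Finset.disjoint_left]
    intro α hα hα'
    have h0 := cs_R_cross hS hχ hψ h1 h2 α hα' α hα
    rw [cs_R_norm hS hχ α hα] at h0
    exact one_ne_zero h0
  let ε : (G → ℂ) → ℤ := fun α => if α ∈ R χ then 1 else -1
  have hnorm : ∀ α ∈ R χ ∪ R ψ, Cfsg.classInner α α = 1 := by
    intro α hα
    rcases Finset.mem_union.mp hα with h | h
    · exact cs_R_norm hS hχ α h
    · exact cs_R_norm hS hψ α h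
  have horth : ∀ α ∈ R χ ∪ R ψ, ∀ β ∈ R χ ∪ R ψ, α ≠ β → Cfsg.classInner α β = 0 := by
    intro α hα β hβ hne
    rcases Finset.mem_union.mp hα with h | h <;> rcases Finset.mem_union.mp hβ with h' | h'
    · exact cs_R_orth hS hχ α h β h' hne
    · exact cs_R_cross' hS hχ hψ h1 h2 α h β h'
    · exact cs_R_cross hS hχ hψ h1 h2 α h β h'
    · exact cs_R_orth hS hψ α h β h' hne
  have hvirt : ∀ α ∈ R χ ∪ R ψ, Cfsg.IsGeneralizedCharacter G α := by
    intro α hα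
    rcases Finset.mem_union.mp hα with h | h
    · exact hS.virtual χ hχ α h
    · exact hS.virtual ψ hψ α h
  have hε : ∀ α ∈ R χ ∪ R ψ, ε α = 1 ∨ ε α = -1 := by
    intro α _
    by_cases h : α ∈ R χ
    · left; simp only [ε, if_pos h]
    · right; simp only [ε, if_neg h]
  have hsum : ∑ α ∈ R χ ∪ R ψ, (ε α : ℂ) • α = ∑ α ∈ R χ, α - ∑ β ∈ R ψ, β := by
    rw [Finset.sum_union hdisj, sub_eq_add_neg, ← Finset.sum_neg_distrib]
    congr 1
    · apply Finset.sum_congr rfl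
      intro α hα
      simp only [ε, if_pos hα]; simp
    · apply Finset.sum_congr rfl
      intro β hβ
      have : β ∉ R χ := fun h => (Finset.disjoint_left.mp hdisj h) hβ
      simp only [ε, if_neg this]; simp
  have hkey : Cfsg.classInner (τ (χ - ψ)) (τ (χ - ψ)) =
      Cfsg.classInner (τ (χ - ψ)) (∑ α ∈ R χ ∪ R ψ, (ε α : ℂ) • α) := by
    rw [hsum, classInner_sub_right, hΔχ, hΔψ, hΔΔ]; ring
  obtain ⟨c, hc, hdec, hcase, -⟩ := squeeze_decomp (R χ ∪ R ψ) hnorm horth hvirt (τ (χ - ψ))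
    (lio_gen hτ hm) ε hε hkey
  have hcχ : ∀ α ∈ R χ, c α = 0 ∨ c α = 1 := by
    intro α hα
    have := hcase α (Finset.mem_union_left _ hα)
    simpa only [ε, if_pos hα] using this
  have hsumχ : ((∑ α ∈ R χ, c α : ℤ) : ℂ) = Cfsg.classInner χ χ := by
    rw [← hΔχ, classInner_sum_right]
    push_cast
    apply Finset.sum_congr rfl
    intro α hα
    exact (hc α (Finset.mem_union_left _ hα)).symm
  refine ⟨c, ?_, hsumχ, ?_⟩
  · rw [← Finset.sum_union hdisj]; exact hdec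
  · rw [← hsumχ]
    congr 1
    apply Finset.sum_congr rfl
    intro α hα
    rcases hcχ α hα with h | h <;> rw [h] <;> norm_num

/-- For `ψ₀, ψ` of equal degree, both different from `χ₀` and its conjugate, `τ (ψ₀ - ψ)` is
orthogonal to `R χ₀`. -/
theorem cs_tau_sub_orth (hS : Cfsg.IsCoherenceSystem S τ R) {χ₀ ψ₀ ψ : L → ℂ} (hχ₀ : χ₀ ∈ S)
    (hψ₀ : ψ₀ ∈ S) (hψ : ψ ∈ S) (h1 : ψ₀ ≠ χ₀) (h2 : ψ₀ ≠ Cfsg.conjFun χ₀) (h3 : ψ ≠ χ₀)
    (h4 : ψ ≠ Cfsg.conjFun χ₀) (hdeg : ψ₀ 1 = ψ 1) :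
    ∀ α ∈ R χ₀, Cfsg.classInner (τ (ψ₀ - ψ)) α = 0 := by
  intro α hα
  by_cases e1 : ψ = ψ₀
  · rw [e1, sub_self, lio_zero (cs_lio hS), classInner_zero_left]
  by_cases e2 : ψ = Cfsg.conjFun ψ₀
  · rw [e2, hS.sum_eq ψ₀ hψ₀, classInner_sum_left]
    apply Finset.sum_eq_zero
    intro β hβ
    exact cs_R_cross hS hχ₀ hψ₀ h1 h2 β hβ α hα
  obtain ⟨c, hdec, -, -⟩ := cs_two_sided hS hψ₀ hψ e1 e2 hdeg
  rw [hdec, classInner_add_left, classInner_sum_left, classInner_sum_left, Finset.sum_eq_zero,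
    Finset.sum_eq_zero, add_zero]
  · intro β hβ
    rw [classInner_smul_left, cs_R_cross hS hχ₀ hψ h3 h4 β hβ α hα, mul_zero]
  · intro β hβ
    rw [classInner_smul_left, cs_R_cross hS hχ₀ hψ₀ h1 h2 β hβ α hα, mul_zero]

end CS

end Cfsg.Agent.Lib.helper32
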