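import Mathlib
import Cfsg.Prelude.Def_Characters
import Cfsg.Prelude.Def_OddOrderChar
import Cfsg.Agent.Lib.helper4.CharDecomp
import Cfsg.Agent.Lib.helper4.CharTheory
import Cfsg.Agent.Lib.helper32.Coh
import Cfsg.Agent.Lib.helper32.Coh2
import Cfsg.Agent.Lib.helper32.Coh3
import Cfsg.Agent.Lib.helper32.Coh4
import Cfsg.Agent.Lib.helper32.Coh5
import Cfsg.Agent.Lib.helper32.Coh6

set_option autoImplicit false

/-!
# Bessel's inequality for orthogonal families; coherent subsets of coherence systems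
(helper32 library)
-/

namespace Cfsg.Agent.Lib.helper32

open Cfsg.Agent.Lib.helper4

universe u v

section BesselGen

variable {X : Type u} [Group X] [Fintype X]

/-- Bessel's inequality for an orthogonal family with positive real norms `N i` and real
coefficients `c i = ⟨f, e i⟩`. -/
theorem bessel_gen {ι : Type*} [DecidableEq ι] (s : Finset ι) (e : ι → X → ℂ) (f : X → ℂ)
    (c N : ι → ℝ) (hN : ∀ i ∈ s, 0 < N i)
    (horth : ∀ i ∈ s, ∀ j ∈ s, Cfsg.classInner (e i) (e j) = if i = j then (N i : ℂ) else 0)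
    (hc : ∀ i ∈ s, Cfsg.classInner f (e i) = (c i : ℂ)) :
    ∑ i ∈ s, c i ^ 2 / N i ≤ (Cfsg.classInner f f).re := by
  obtain ⟨g, hg⟩ : ∃ g : X → ℂ, g = ∑ i ∈ s, ((c i / N i : ℝ) : ℂ) • e i := ⟨_, rfl⟩
  have h1 : Cfsg.classInner f g = ((∑ i ∈ s, c i ^ 2 / N i : ℝ) : ℂ) := by
    rw [hg, classInner_sum_right, Complex.ofReal_sum]
    apply Finset.sum_congr rfl
    intro i hi
    rw [classInner_smul_right, hc i hi, Complex.conj_ofReal]
    push_cast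
    ring
  have h2 : Cfsg.classInner g f = ((∑ i ∈ s, c i ^ 2 / N i : ℝ) : ℂ) := by
    rw [← classInner_conj_symm, h1, Complex.conj_ofReal]
  have h3 : Cfsg.classInner g g = ((∑ i ∈ s, c i ^ 2 / N i : ℝ) : ℂ) := by
    rw [hg, classInner_sum_left, Complex.ofReal_sum]
    apply Finset.sum_congr rfl
    intro i hi
    rw [classInner_smul_left, classInner_sum_right, Finset.sum_eq_single i]
    · rw [classInner_smul_right, horth i hi i hi, if_pos rfl, Complex.conj_ofReal]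
      have hNi : (N i : ℂ) ≠ 0 := by
        have := (hN i hi).ne'
        exact_mod_cast this
      push_cast
      field_simp
    · intro j hj hji
      rw [classInner_smul_right, horth i hi j hj, if_neg (Ne.symm hji), mul_zero]
    · intro h
      exact absurd hi h
  have h := classInner_self_re_nonneg (f - g)
  rw [classInner_sub_left, classInner_sub_right, classInner_sub_right, h1, h2, h3] at h
  simp only [Complex.sub_re, Complex.ofReal_re] at h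
  linarith

end BesselGen

section CSCoh

variable {L : Type u} [Group L] [Fintype L] {G : Type v} [Group G] [Fintype G]
variable {S : Set (L → ℂ)} {τ : (L → ℂ) → (G → ℂ)} {R : (L → ℂ) → Finset (G → ℂ)}

/-- In a coherence system, if a conjugation-closed subset `S₁` is coherent through `τ₁`, then
`τ₁ φ` is an integer combination of `R φ` for `φ ∈ S₁`. -/
theorem cs_coherent_decomp (hS : Cfsg.IsCoherenceSystem S τ R) (S₁ : Set (L → ℂ))
    (hS₁ : S₁ ⊆ S) (hS₁c : ∀ φ ∈ S₁, Cfsg.conjFun φ ∈ S₁) (τ₁ : (L → ℂ) → (G → ℂ))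
    (hτ₁ : Cfsg.IsLinearIsometryOn (Cfsg.zspan S₁) τ₁)
    (hag : ∀ α ∈ Cfsg.zspanOn S₁ {1}ᶜ, τ₁ α = τ α) {φ : L → ℂ} (hφ : φ ∈ S₁) :
    ∃ c : (G → ℂ) → ℤ, τ₁ φ = ∑ α ∈ R φ, (c α : ℂ) • α := by
  have hτ₁' : Cfsg.IsLinearIsometryOn
      ((Submodule.span ℤ S₁ : Submodule ℤ (L → ℂ)) : Set (L → ℂ)) τ₁ := hτ₁
  have hφS := hS₁ hφ
  have hφ' : φ ∈ Submodule.span ℤ S₁ := Submodule.subset_span hφ
  have hcφ' : Cfsg.conjFun φ ∈ Submodule.span ℤ S₁ := Submodule.subset_span (hS₁c φ hφ)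
  have hsub : φ - Cfsg.conjFun φ ∈ Cfsg.zspanOn S₁ {1}ᶜ :=
    mem_zspanOn_compl_one (zspan_sub_mem (mem_zspan_of_mem hφ) (mem_zspan_of_mem (hS₁c φ hφ)))
      (by rw [Pi.sub_apply, cs_conj_degree hS hφS, sub_self])
  have e : ∑ α ∈ R φ, ((((fun _ => 1) : (G → ℂ) → ℤ) α : ℤ) : ℂ) • α = ∑ α ∈ R φ, α := by
    simp
  have hkey : Cfsg.classInner (τ₁ φ) (τ₁ φ) =
      Cfsg.classInner (τ₁ φ) (∑ α ∈ R φ, ((((fun _ => 1) : (G → ℂ) → ℤ) α : ℤ) : ℂ) • α) := by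
    rw [e, ← hS.sum_eq φ hφS, ← hag _ hsub, lio_inner hτ₁' hφ' hφ',
      lio_inner hτ₁' hφ' (Submodule.sub_mem _ hφ' hcφ'), classInner_sub_right,
      cs_inner_conj hS hφS, sub_zero]
  obtain ⟨c, -, hdec, -, -⟩ := squeeze_decomp (R φ) (cs_R_norm hS hφS) (cs_R_orth hS hφS)
    (hS.virtual φ hφS) (τ₁ φ) (lio_gen hτ₁' hφ') (fun _ => 1) (fun _ _ => Or.inl rfl) hkey
  exact ⟨c, hdec⟩

/-- In a coherence system, if a conjugation-closed subset `S₁` is coherent through `τ₁`, then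
`τ₁ φ` (`φ ∈ S₁`) is orthogonal to `R ψ` whenever `ψ ∈ S` differs from `φ` and its conjugate. -/
theorem cs_coherent_orth (hS : Cfsg.IsCoherenceSystem S τ R) (S₁ : Set (L → ℂ))
    (hS₁ : S₁ ⊆ S) (hS₁c : ∀ φ ∈ S₁, Cfsg.conjFun φ ∈ S₁) (τ₁ : (L → ℂ) → (G → ℂ))
    (hτ₁ : Cfsg.IsLinearIsometryOn (Cfsg.zspan S₁) τ₁)
    (hag : ∀ α ∈ Cfsg.zspanOn S₁ {1}ᶜ, τ₁ α = τ α) {φ ψ : L → ℂ} (hφ : φ ∈ S₁) (hψ : ψ ∈ S)
    (h1 : ψ ≠ φ) (h2 : ψ ≠ Cfsg.conjFun φ) :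
    ∀ α ∈ R ψ, Cfsg.classInner (τ₁ φ) α = 0 := by
  obtain ⟨c, hc⟩ := cs_coherent_decomp hS S₁ hS₁ hS₁c τ₁ hτ₁ hag hφ
  intro α hα
  rw [hc, classInner_sum_left]
  apply Finset.sum_eq_zero
  intro β hβ
  rw [classInner_smul_left, cs_R_cross' hS (hS₁ hφ) hψ h1 h2 β hβ α hα, mul_zero]

end CSCoh

end Cfsg.Agent.Lib.helper32
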