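import Mathlib
import Cfsg.Prelude.Def_Characters
import Cfsg.Prelude.Def_OddOrderChar
import Cfsg.Agent.Lib.helper32.Coh7
import Cfsg.Agent.Lib.helper4.Induction
import Cfsg.Agent.Lib.helper82.Clifford
import Cfsg.Agent.Lib.helper82.CharQuot
import Cfsg.Agent.Lib.helper82.CharSums
import Cfsg.Agent.Lib.helper82.Ito
import Cfsg.Agent.Lib.helper19.AbelianOver
import Cfsg.Agent.Lib.helper16.PermEntry
import Cfsg.Agent.Lib.helper5.GoingDown
import Cfsg.Agent.Lib.helper81.CharOrtho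

set_option autoImplicit false

/-!
# Characters induced from a normal subgroup: degrees, norms, counting (helper32 library)

Tools for Peterfalvi §6 (coherence of sets `S(A)` of characters induced from `K`).
-/

namespace Cfsg.Agent.Lib.helper32

open Cfsg.Agent.Lib.helper4

universe u v

section Ind

variable {L : Type u} [Group L] [Fintype L]

/-- Complex conjugation commutes with induction. -/
theorem conjFun_indFun (K : Subgroup L) (θ : K → ℂ) :
    Cfsg.conjFun (Cfsg.indFun K θ) = Cfsg.indFun K (Cfsg.conjFun θ) := by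
  funext g
  simp only [Cfsg.conjFun, Cfsg.indFun, map_mul, map_sum, map_inv₀, map_natCast]
  refine congrArg _ (Finset.sum_congr rfl fun x _ => ?_)
  by_cases h : x⁻¹ * g * x ∈ K
  · rw [extendByZero_apply_mem K _ h, extendByZero_apply_mem K _ h]
    rfl
  · rw [extendByZero_apply_of_not_mem K _ h, extendByZero_apply_of_not_mem K _ h, map_zero]

theorem inducedIrrAbove_subset_bot (K A : Subgroup L) :
    Cfsg.inducedIrrAbove K A ⊆ Cfsg.inducedIrrAbove K ⊥ := by
  rintro φ ⟨θ, hθ, hne, -, rfl⟩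
  refine ⟨θ, hθ, hne, fun a ha => ?_, rfl⟩
  have : a = 1 := Subtype.ext (by simpa using ha)
  rw [this]

theorem inducedIrrAbove_conj_mem (K A : Subgroup L) {φ : L → ℂ}
    (hφ : φ ∈ Cfsg.inducedIrrAbove K A) : Cfsg.conjFun φ ∈ Cfsg.inducedIrrAbove K A := by
  obtain ⟨θ, hθ, hne, hA, rfl⟩ := hφ
  classical
  let _i : Fintype K := Fintype.ofFinite _
  refine ⟨Cfsg.conjFun θ, Cfsg.Agent.Lib.helper16.isIrrCharacter_conj hθ, ?_, ?_,
    conjFun_indFun K θ⟩
  · intro h
    apply hne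
    have h2 := congrArg Cfsg.conjFun h
    rw [conjFun_conjFun] at h2
    rw [h2]
    funext x
    simp [Cfsg.conjFun]
  · intro a ha
    show (starRingEnd ℂ) (θ a) = (starRingEnd ℂ) (θ 1)
    rw [hA a ha]

end Ind

section Lin

/-- A proper normal subgroup of a finite solvable group lies in the kernel of a nontrivial
linear character. -/
theorem exists_linear_above {K : Type u} [Group K] [Finite K] (hsolv : Group.IsSolvable K)
    (A : Subgroup K) [A.Normal] (hA : A ≠ ⊤) :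
    ∃ f : K →* ℂˣ, f ≠ 1 ∧ ∀ a ∈ A, f a = 1 := by
  classical
  have _i1 : Group.IsSolvable (K ⧸ A) :=
    Group.isSolvable_of_surjective (QuotientGroup.mk'_surjective A)
  have _i2 : Nontrivial (K ⧸ A) := by
    obtain ⟨k, hk⟩ : ∃ k : K, k ∉ A := by
      by_contra h
      push Not at h
      exact hA (eq_top_iff.mpr fun x _ => h x)
    refine ⟨⟨(k : K ⧸ A), 1, fun h => hk ?_⟩⟩
    exact (QuotientGroup.eq_one_iff k).mp h
  have hlt := Group.IsSolvable.commutator_lt_top_of_nontrivial (K ⧸ A)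
  obtain ⟨q, hq⟩ : ∃ q : K ⧸ A, q ∉ commutator (K ⧸ A) := by
    by_contra h
    push Not at h
    exact hlt.ne (eq_top_iff.mpr fun x _ => h x)
  have hq1 : Abelianization.of q ≠ 1 := by
    intro h
    apply hq
    have := (QuotientGroup.eq_one_iff q).mp h
    exact this
  obtain ⟨φ, hφ⟩ := CommGroup.exists_apply_ne_one_of_hasEnoughRootsOfUnity
    (Abelianization (K ⧸ A)) ℂ hq1
  obtain ⟨k, rfl⟩ := QuotientGroup.mk_surjective q
  refine ⟨φ.comp (Abelianization.of.comp (QuotientGroup.mk' A)), ?_, ?_⟩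
  · intro h
    apply hφ
    have := congrArg (fun f : K →* ℂˣ => f k) h
    simpa using this
  · intro a ha
    have : (QuotientGroup.mk' A) a = 1 := (QuotientGroup.eq_one_iff a).mpr ha
    simp only [MonoidHom.comp_apply, this, map_one]

end Lin

section Deg

open Cfsg.Agent.Lib.helper82 in
/-- Degree bound: if the normal subgroup `Z` is centralised by `Cs ≥ Z`, every irreducible
character `ψ` satisfies `ψ(1)² ≤ |Q : Cs| · |Q : Z|`. -/
theorem irr_degree_sq_le {Q : Type u} [Group Q] [Fintype Q] (Z Cs : Subgroup Q) [hZ : Z.Normal]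
    (hZC : Z ≤ Cs) (hcomm : ∀ z ∈ Z, ∀ c ∈ Cs, z * c = c * z)
    {ψ : Q → ℂ} (hψ : Cfsg.IsIrrCharacter Q ψ) :
    ∃ m : ℕ, ψ 1 = m ∧ m ^ 2 ≤ Cs.index * Z.index := by
  classical
  let _i : Fintype (Cfsg.IrrCharacter Z) := Fintype.ofFinite _
  obtain ⟨lam, hlam, e, he, he0⟩ := exists_constituent_restrict Z hψ
  have hlam1 : lam 1 = 1 := by
    refine Cfsg.Agent.Lib.helper19.linear_of_abelian_quot (⊥ : Subgroup Z) ?_ lam hlam ?_
    · intro x y
      rw [Subgroup.mem_bot]
      apply Subtype.ext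
      have h := hcomm x x.2 y (hZC y.2)
      show (x : Q) * y * (x : Q)⁻¹ * (y : Q)⁻¹ = 1
      rw [h]; group
    · intro x hx
      rw [Subgroup.mem_bot.mp hx]
  have hI : Cs ≤ inertia Z lam := by
    intro c hc
    rw [mem_inertia_iff]
    intro n
    refine congrArg lam (Subtype.ext ?_)
    show c * (n : Q) * c⁻¹ = n
    rw [← hcomm n n.2 c hc]; group
  have hdeg := clifford_degree Z hψ hlam e he he0
  have hdec := clifford_decomp Z hψ hlam e he he0
  have hcard := card_conjOrbit Z hlam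
  obtain ⟨t, ht⟩ : ∃ t : ℕ, t = (inertia Z lam).index := ⟨_, rfl⟩
  have htle : t ≤ Cs.index := by
    rw [ht]
    exact Nat.le_of_dvd (Nat.pos_of_ne_zero Subgroup.index_ne_zero_of_finite)
      (Subgroup.index_dvd_of_le hI)
  have hcf : Cfsg.IsClassFunction Q ψ := isClassFunction_of_isIrrCharacter hψ
  have hnorm : Cfsg.classInner (fun n : Z => ψ n) (fun n : Z => ψ n) = ((e ^ 2 * t : ℕ) : ℂ) := by
    have h1 : (fun n : Z => ψ n) = (e : ℂ) • ∑ φ ∈ conjOrbit Z lam, (φ : Z → ℂ) := by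
      funext n
      rw [hdec n]
      simp [Finset.sum_apply]
    have h2 : ∀ φ ∈ conjOrbit Z lam,
        Cfsg.classInner (φ : Z → ℂ) (fun n : Z => ψ n) = e := by
      intro φ hφ
      obtain ⟨x, hx⟩ := (mem_conjOrbit Z lam φ).mp hφ
      rw [← classInner_conj_symm, hx, classInner_restrict_cconj Z hcf, he]
      simp
    conv_lhs => lhs; rw [h1]
    rw [classInner_smul_left, classInner_sum_left, Finset.sum_congr rfl h2, Finset.sum_const,
      hcard, ← ht]
    push_cast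
    simp only [nsmul_eq_mul]
    ring
  have hle := (Cfsg.Agent.Lib.helper5.norm_restrict_le Z ψ (classInner_irr_self hψ)
    (e ^ 2 * t) hnorm).1
  refine ⟨e * t, ?_, ?_⟩
  · rw [hdeg, hlam1, ← ht]; push_cast; ring
  · calc (e * t) ^ 2 = t * (e ^ 2 * t) := by ring
      _ ≤ Cs.index * Z.index := Nat.mul_le_mul htle hle

end Deg

section Count

open Cfsg.Agent.Lib.helper82 in
/-- The squares of the degrees of the irreducible characters sum to the group order. -/
theorem sum_irr_degree_sq {K : Type u} [Group K] [Fintype K] [Fintype (Cfsg.IrrCharacter K)] :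
    ∑ χ : Cfsg.IrrCharacter K, Cfsg.charDegree (χ : K → ℂ) ^ 2 = Nat.card K := by
  have h := sum_irr_mul_conj_of_isConj (G := K) (g := 1) (h := 1) (IsConj.refl 1)
  have hc : Subgroup.centralizer ({1} : Set K) = ⊤ := by
    ext x; simp [Subgroup.mem_centralizer_iff]
  rw [hc] at h
  have h2 : ∀ χ : Cfsg.IrrCharacter K, (χ : K → ℂ) 1 * (starRingEnd ℂ) ((χ : K → ℂ) 1)
      = ((Cfsg.charDegree (χ : K → ℂ) ^ 2 : ℕ) : ℂ) := by
    intro χ
    rw [irr_one_eq χ]
    simp [sq]
  rw [Finset.sum_congr rfl (fun χ _ => h2 χ)] at h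
  have h3 : Nat.card (⊤ : Subgroup K) = Nat.card K := Subgroup.card_top
  rw [h3] at h
  exact_mod_cast h

open Cfsg.Agent.Lib.helper82 in
/-- Sum of squares of degrees of the irreducible characters with `A` in the kernel. -/
theorem sum_irr_degree_sq_above {K : Type u} [Group K] [Fintype K]
    [Fintype (Cfsg.IrrCharacter K)] (A : Subgroup K) [A.Normal]
    [DecidablePred fun χ : Cfsg.IrrCharacter K => ∀ x ∈ A, (χ : K → ℂ) x = (χ : K → ℂ) 1] :
    ∑ χ ∈ Finset.univ.filter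
        (fun χ : Cfsg.IrrCharacter K => ∀ x ∈ A, (χ : K → ℂ) x = (χ : K → ℂ) 1),
      Cfsg.charDegree (χ : K → ℂ) ^ 2 = A.index := by
  classical
  let _i : Fintype (Cfsg.IrrCharacter (K ⧸ A)) := Fintype.ofFinite _
  rw [← Finset.sum_subtype_eq_sum_filter, Finset.subtype_univ]
  have h1 : ∀ x : {χ : Cfsg.IrrCharacter K // ∀ x ∈ A, (χ : K → ℂ) x = (χ : K → ℂ) 1},
      Cfsg.charDegree ((x : Cfsg.IrrCharacter K) : K → ℂ) ^ 2
        = Cfsg.charDegree ((irrQuotEquiv A x : Cfsg.IrrCharacter (K ⧸ A)) : K ⧸ A → ℂ) ^ 2 := by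
    intro x
    have h := irrQuotEquiv_apply A x 1
    have h' : (irrQuotEquiv A x : K ⧸ A → ℂ) 1 = (x.1 : K → ℂ) 1 := h
    rw [irr_one_eq, irr_one_eq] at h'
    have h'' : Cfsg.charDegree ((irrQuotEquiv A x : Cfsg.IrrCharacter (K ⧸ A)) : K ⧸ A → ℂ)
        = Cfsg.charDegree ((x : Cfsg.IrrCharacter K) : K → ℂ) := by exact_mod_cast h'
    rw [h'']
  rw [Finset.sum_congr rfl (fun x _ => h1 x),
    Equiv.sum_comp (irrQuotEquiv A)
      (fun ψ : Cfsg.IrrCharacter (K ⧸ A) => Cfsg.charDegree (ψ : K ⧸ A → ℂ) ^ 2),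
    sum_irr_degree_sq, Subgroup.index_eq_card]

open Cfsg.Agent.Lib.helper82 in
/-- If all the irreducible characters in `F` induce the same function `φ` of norm `n`, then
`|F| · n ≤ |L : K|`. -/
theorem card_fiber_mul_norm_le {L : Type u} [Group L] [Fintype L] (K : Subgroup L)
    (φ : L → ℂ) (F : Finset (Cfsg.IrrCharacter K))
    (hF : ∀ θ ∈ F, Cfsg.indFun K (θ : K → ℂ) = φ) (n : ℕ) (hn : Cfsg.classInner φ φ = n) :
    F.card * n ≤ K.index := by
  classical
  let _i : Fintype (Cfsg.IrrCharacter K) := Fintype.ofFinite _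
  rcases F.eq_empty_or_nonempty with rfl | ⟨θ₀, hθ₀⟩
  · simp
  have hφchar : Cfsg.IsCharacter L φ := by
    rw [← hF θ₀ hθ₀]
    exact isCharacter_indFun K (isCharacter_of_isIrrCharacter θ₀.2)
  have hφcf := isClassFunction_of_isCharacter hφchar
  have hres : Cfsg.IsCharacter K (fun k : K => φ k) := isCharacter_restrict K hφchar
  have hrescf := isClassFunction_of_isCharacter hres
  have hc : ∀ χ : Cfsg.IrrCharacter K, ∃ c : ℕ,
      Cfsg.classInner (fun k : K => φ k) (χ : K → ℂ) = c :=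
    fun χ => exists_nat_classInner_irr hres χ.2
  choose c hc using hc
  have hcF : ∀ θ ∈ F, c θ = n := by
    intro θ hθ
    have h1 := frobenius_reciprocity K (θ : K → ℂ) hφcf
    rw [hF θ hθ, hn] at h1
    have h2 := classInner_conj_symm (θ : K → ℂ) (fun k : K => φ k)
    rw [← h1, hc θ] at h2
    simp only [map_natCast] at h2
    exact_mod_cast h2.symm
  obtain ⟨dφ, hdφ⟩ := exists_nat_degree hφchar
  have hsum : dφ = ∑ χ : Cfsg.IrrCharacter K, c χ * Cfsg.charDegree (χ : K → ℂ) := by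
    have h := congrFun (classFunction_eq_sum_irr hrescf) 1
    simp only [Finset.sum_apply, Pi.smul_apply, smul_eq_mul, hc] at h
    have h1 : φ ((1 : K) : L) = dφ := hdφ
    rw [h1] at h
    have h2 : ∀ χ : Cfsg.IrrCharacter K, (c χ : ℂ) * (χ : K → ℂ) 1
        = ((c χ * Cfsg.charDegree (χ : K → ℂ) : ℕ) : ℂ) := by
      intro χ; rw [irr_one_eq χ]; push_cast; ring
    rw [Finset.sum_congr rfl (fun χ _ => h2 χ)] at h
    exact_mod_cast h
  have hdegF : ∀ θ ∈ F, K.index * Cfsg.charDegree (θ : K → ℂ) = dφ := by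
    intro θ hθ
    have h := indFun_one K (θ : K → ℂ)
    rw [hF θ hθ, hdφ, irr_one_eq θ] at h
    exact_mod_cast h.symm
  have hle : ∑ θ ∈ F, c θ * Cfsg.charDegree (θ : K → ℂ) ≤ dφ := by
    rw [hsum]
    exact Finset.sum_le_sum_of_subset (Finset.subset_univ F)
  have hdpos : 0 < dφ := by
    rw [← hdegF θ₀ hθ₀]
    exact Nat.mul_pos (Nat.pos_of_ne_zero Subgroup.index_ne_zero_of_finite)
      (irr_charDegree_pos θ₀)
  have h3 : F.card * n * dφ ≤ K.index * dφ := by
    calc F.card * n * dφ = ∑ _θ ∈ F, n * dφ := by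
          rw [Finset.sum_const, smul_eq_mul]; ring
      _ = ∑ θ ∈ F, K.index * (c θ * Cfsg.charDegree (θ : K → ℂ)) := by
          refine Finset.sum_congr rfl fun θ hθ => ?_
          rw [hcF θ hθ, ← hdegF θ hθ]; ring
      _ = K.index * ∑ θ ∈ F, c θ * Cfsg.charDegree (θ : K → ℂ) := by rw [Finset.mul_sum]
      _ ≤ K.index * dφ := Nat.mul_le_mul_left _ hle
  exact Nat.le_of_mul_le_mul_right h3 hdpos

open Cfsg.Agent.Lib.helper82 in
/-- Peterfalvi (6.1)-type count: the sum of `φ(1)²/‖φ‖²` over the characters induced from the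
non-principal irreducible characters of `K` with `A` in the kernel is at least
`|L : K| (|K : A| - 1)`. -/
theorem sum_induced_bound {L : Type u} [Group L] [Fintype L] (K A : Subgroup L) [A.Normal]
    (S₁ : Finset (L → ℂ)) (hS₁ : Cfsg.inducedIrrAbove K A ⊆ ↑S₁)
    (d n : (L → ℂ) → ℕ) (hd : ∀ φ ∈ S₁, φ 1 = (d φ : ℂ))
    (hn : ∀ φ ∈ S₁, Cfsg.classInner φ φ = (n φ : ℂ)) (hnpos : ∀ φ ∈ S₁, 0 < n φ) :
    ((K.index * (A.relIndex K - 1) : ℕ) : ℝ) ≤ ∑ φ ∈ S₁, ((d φ : ℝ) ^ 2 / (n φ : ℝ)) := by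
  classical
  let _i : Fintype (Cfsg.IrrCharacter K) := Fintype.ofFinite _
  obtain ⟨P, hP⟩ : ∃ P : Cfsg.IrrCharacter K → Prop,
      P = fun θ : Cfsg.IrrCharacter K =>
        ∀ x ∈ A.subgroupOf K, (θ : K → ℂ) x = (θ : K → ℂ) 1 := ⟨_, rfl⟩
  obtain ⟨triv, htriv⟩ : ∃ t : Cfsg.IrrCharacter K, t = ⟨fun _ => 1, isIrrCharacter_one⟩ :=
    ⟨_, rfl⟩
  obtain ⟨X, hXdef⟩ : ∃ X : Finset (Cfsg.IrrCharacter K),
      X = (Finset.univ.filter P).erase triv := ⟨_, rfl⟩
  have htrivP : triv ∈ Finset.univ.filter P := by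
    rw [Finset.mem_filter, hP, htriv]
    exact ⟨Finset.mem_univ _, fun x _ => rfl⟩
  have hmaps : ∀ θ ∈ X, Cfsg.indFun K (θ : K → ℂ) ∈ S₁ := by
    intro θ hθ
    rw [hXdef, Finset.mem_erase, Finset.mem_filter, hP] at hθ
    have := hS₁ (show Cfsg.indFun K (θ : K → ℂ) ∈ Cfsg.inducedIrrAbove K A from
      ⟨θ, θ.2, fun h => hθ.1 (by rw [htriv]; exact Subtype.ext h),
        fun a ha => hθ.2.2 a (Subgroup.mem_subgroupOf.mpr ha), rfl⟩)
    exact_mod_cast this
  have hX : ∑ θ ∈ X, Cfsg.charDegree (θ : K → ℂ) ^ 2 = A.relIndex K - 1 := by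
    have h := sum_irr_degree_sq_above (A.subgroupOf K)
    have h' : ∑ χ ∈ Finset.univ.filter P, Cfsg.charDegree (χ : K → ℂ) ^ 2
        = (A.subgroupOf K).index := by
      subst hP; convert h
    rw [← Finset.add_sum_erase _ _ htrivP, ← hXdef] at h'
    have h1 : Cfsg.charDegree (triv : K → ℂ) = 1 := by
      have h0 := irr_one_eq triv
      have h00 : (triv : K → ℂ) 1 = 1 := by rw [htriv]
      rw [h00] at h0
      exact_mod_cast h0.symm
    rw [h1] at h'
    have h2 : (A.subgroupOf K).index = A.relIndex K := rfl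
    omega
  have hfib := Finset.sum_fiberwise_of_maps_to hmaps
    (fun θ : Cfsg.IrrCharacter K => ((K.index * Cfsg.charDegree (θ : K → ℂ) ^ 2 : ℕ) : ℝ))
  have hKpos : (0 : ℝ) < K.index := by
    exact_mod_cast Nat.pos_of_ne_zero (Subgroup.index_ne_zero_of_finite (H := K))
  calc ((K.index * (A.relIndex K - 1) : ℕ) : ℝ)
      = ∑ θ ∈ X, ((K.index * Cfsg.charDegree (θ : K → ℂ) ^ 2 : ℕ) : ℝ) := by
        rw [← hX, Finset.mul_sum]; push_cast; rfl
    _ = ∑ φ ∈ S₁, ∑ θ ∈ X.filter (fun θ : Cfsg.IrrCharacter K => Cfsg.indFun K (θ : K → ℂ) = φ),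
          ((K.index * Cfsg.charDegree (θ : K → ℂ) ^ 2 : ℕ) : ℝ) := hfib.symm
    _ ≤ ∑ φ ∈ S₁, ((d φ : ℝ) ^ 2 / (n φ : ℝ)) := by
        refine Finset.sum_le_sum fun φ hφ => ?_
        have hFc := card_fiber_mul_norm_le K φ
          (X.filter fun θ : Cfsg.IrrCharacter K => Cfsg.indFun K (θ : K → ℂ) = φ)
          (fun θ hθ => (Finset.mem_filter.mp hθ).2) (n φ) (hn φ hφ)
        have hterm : ∀ θ ∈ X.filter
            (fun θ : Cfsg.IrrCharacter K => Cfsg.indFun K (θ : K → ℂ) = φ),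
            ((K.index * Cfsg.charDegree (θ : K → ℂ) ^ 2 : ℕ) : ℝ)
              = (d φ : ℝ) ^ 2 / K.index := by
          intro θ hθ
          have h := indFun_one K (θ : K → ℂ)
          rw [(Finset.mem_filter.mp hθ).2, hd φ hφ, irr_one_eq θ] at h
          have h' : d φ = K.index * Cfsg.charDegree (θ : K → ℂ) := by exact_mod_cast h
          rw [h']; push_cast; field_simp
        rw [Finset.sum_congr rfl hterm, Finset.sum_const, nsmul_eq_mul]
        have hnpos' : (0 : ℝ) < n φ := by exact_mod_cast hnpos φ hφ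
        have hFc' : ((X.filter fun θ : Cfsg.IrrCharacter K =>
            Cfsg.indFun K (θ : K → ℂ) = φ).card : ℝ) * n φ ≤ K.index := by exact_mod_cast hFc
        rw [← mul_div_assoc, div_le_div_iff₀ hKpos hnpos']
        nlinarith [sq_nonneg (d φ : ℝ)]

end Count

end Cfsg.Agent.Lib.helper32
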