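import Mathlib

set_option autoImplicit false

/-!
# A descending chain for nilpotent sections (helper32 library)

`descChain M H₁ H 0 = H₁`, `descChain M H₁ H (i+1) = ⁅descChain M H₁ H i, H⁆ ⊔ M`: used for
Peterfalvi (6.3).
-/

namespace Cfsg.Agent.Lib.helper32

universe u

open scoped commutatorElement

section Chain

variable {L : Type u} [Group L]

/-- The descending chain `A₀ = H₁`, `A_{i+1} = [A_i, H] M`. -/
def descChain (M H₁ H : Subgroup L) : ℕ → Subgroup L
  | 0 => H₁
  | (i + 1) => ⁅descChain M H₁ H i, H⁆ ⊔ M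

theorem descChain_zero (M H₁ H : Subgroup L) : descChain M H₁ H 0 = H₁ := rfl

theorem descChain_succ (M H₁ H : Subgroup L) (i : ℕ) :
    descChain M H₁ H (i + 1) = ⁅descChain M H₁ H i, H⁆ ⊔ M := rfl

theorem descChain_normal (M H₁ H : Subgroup L) [M.Normal] [H₁.Normal] [H.Normal] (i : ℕ) :
    (descChain M H₁ H i).Normal := by
  induction i with
  | zero => exact ‹H₁.Normal›
  | succ i ih =>
    rw [descChain_succ]
    infer_instance

theorem le_descChain (M H₁ H : Subgroup L) (hM : M ≤ H₁) (i : ℕ) : M ≤ descChain M H₁ H i := by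
  cases i with
  | zero => exact hM
  | succ i => rw [descChain_succ]; exact le_sup_right

theorem descChain_succ_le (M H₁ H : Subgroup L) [M.Normal] [H₁.Normal] [H.Normal] (hM : M ≤ H₁)
    (i : ℕ) : descChain M H₁ H (i + 1) ≤ descChain M H₁ H i := by
  have := descChain_normal M H₁ H i
  rw [descChain_succ]
  exact sup_le (Subgroup.commutator_le_left _ _) (le_descChain M H₁ H hM i)

theorem descChain_le (M H₁ H : Subgroup L) [M.Normal] [H₁.Normal] [H.Normal] (hM : M ≤ H₁)
    (i : ℕ) : descChain M H₁ H i ≤ H₁ := by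
  induction i with
  | zero => exact le_rfl
  | succ i ih => exact (descChain_succ_le M H₁ H hM i).trans ih

theorem commutator_mem_descChain_succ (M H₁ H : Subgroup L) (i : ℕ) {x y : L}
    (hx : x ∈ descChain M H₁ H i) (hy : y ∈ H) :
    x * y * x⁻¹ * y⁻¹ ∈ descChain M H₁ H (i + 1) := by
  rw [descChain_succ]
  exact (le_sup_left : ⁅descChain M H₁ H i, H⁆ ≤ _) (Subgroup.commutator_mem_commutator hx hy)

/-- If `H/M` is nilpotent the chain reaches `M`. -/
theorem descChain_eventually (M H₁ H : Subgroup L) [M.Normal] [H₁.Normal] [H.Normal]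
    (hM : M ≤ H₁) (hH : H₁ ≤ H) [(M.subgroupOf H).Normal]
    (hnil : Group.IsNilpotent (↥H ⧸ M.subgroupOf H)) :
    ∃ n, descChain M H₁ H n = M := by
  obtain ⟨n, hn⟩ := Subgroup.nilpotent_iff_lowerCentralSeries.mp hnil
  have key : ∀ i : ℕ, ∀ x : H, (x : L) ∈ descChain M H₁ H i →
      (QuotientGroup.mk' (M.subgroupOf H)) x ∈
        (⊤ : Subgroup (↥H ⧸ M.subgroupOf H)).lowerCentralSeries i := by
    intro i
    induction i with
    | zero => intro x _; exact Subgroup.mem_top _
    | succ i ih =>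
      have hW : descChain M H₁ H (i + 1) ≤
          (((⊤ : Subgroup (↥H ⧸ M.subgroupOf H)).lowerCentralSeries (i + 1)).comap
            (QuotientGroup.mk' (M.subgroupOf H))).map H.subtype := by
        rw [descChain_succ]
        refine sup_le ?_ ?_
        · rw [Subgroup.commutator_le]
          intro a ha h hh
          have haH : a ∈ H := hH (descChain_le M H₁ H hM i ha)
          refine Subgroup.mem_map.mpr ⟨⁅(⟨a, haH⟩ : H), (⟨h, hh⟩ : H)⁆, ?_, rfl⟩
          rw [Subgroup.mem_comap, map_commutatorElement, Subgroup.lowerCentralSeries_succ]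
          exact Subgroup.commutator_mem_commutator (ih ⟨a, haH⟩ ha) (Subgroup.mem_top _)
        · intro m hm
          refine Subgroup.mem_map.mpr ⟨⟨m, hH (hM hm)⟩, ?_, rfl⟩
          rw [Subgroup.mem_comap]
          have : (QuotientGroup.mk' (M.subgroupOf H)) ⟨m, hH (hM hm)⟩ = 1 :=
            (QuotientGroup.eq_one_iff _).mpr (Subgroup.mem_subgroupOf.mpr hm)
          rw [this]; exact Subgroup.one_mem _
      intro x hx
      obtain ⟨h, hh, hhx⟩ := Subgroup.mem_map.mp (hW hx)
      have : h = x := Subtype.ext hhx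
      rw [← this]; exact hh
  refine ⟨n, le_antisymm ?_ (le_descChain M H₁ H hM n)⟩
  intro x hx
  have hxH : x ∈ H := hH (descChain_le M H₁ H hM n hx)
  have h1 := key n ⟨x, hxH⟩ hx
  rw [hn, Subgroup.mem_bot] at h1
  exact Subgroup.mem_subgroupOf.mp ((QuotientGroup.eq_one_iff _).mp h1)

end Chain

/-- The arithmetic of Peterfalvi (6.3). -/
theorem pf63_arith (e k h : ℕ) (hk : 1 ≤ k) (hh : 4 * e ^ 2 + 1 < h) :
    4 * (k * e) ^ 2 * h < (h * k - 1) ^ 2 := by
  obtain ⟨t, ht⟩ : ∃ t, h * k = t + 1 := by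
    refine ⟨h * k - 1, ?_⟩
    have : 1 ≤ h * k := Nat.mul_pos (by omega) hk
    omega
  rw [ht, Nat.add_sub_cancel]
  have h1 : (h : ℤ) * k = t + 1 := by exact_mod_cast ht
  have h2 : (4 : ℤ) * e ^ 2 + 2 ≤ h := by exact_mod_cast hh
  have h3 : (1 : ℤ) ≤ k := by exact_mod_cast hk
  have h4 : (4 : ℤ) * (k * e) ^ 2 * h < t ^ 2 := by
    have ht' : (t : ℤ) = h * k - 1 := by linarith
    rw [ht']
    have h5 : (0 : ℤ) ≤ (k : ℤ) ^ 2 * h := by positivity
    have h6 : (0 : ℤ) ≤ (h : ℤ) * k := by positivity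
    nlinarith [mul_le_mul_of_nonneg_left h2 h5, mul_le_mul_of_nonneg_left h3 h6]
  exact_mod_cast h4

end Cfsg.Agent.Lib.helper32
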