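import Mathlib
import Cfsg.Prelude.Def_Characters
import Cfsg.Prelude.Def_OddOrderChar
import Cfsg.Agent.Lib.helper32.Coh8
import Cfsg.Agent.S1516

set_option autoImplicit false

/-!
# Enlarging coherent sets (helper32 library)

* `coherent_of_subset`: subsets of coherent sets are coherent;
* `coherent_union_of_bound`: iterated use of the coherence extension criterion (Peterfalvi 5.6).
-/

namespace Cfsg.Agent.Lib.helper32

universe u v

variable {L : Type u} [Group L] [Fintype L] {G : Type v} [Group G] [Fintype G]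

/-- A subset of a coherent set is coherent as soon as its integer span contains a nonzero function
vanishing at `1`. -/
theorem coherent_of_subset {S T : Set (L → ℂ)} {τ : (L → ℂ) → (G → ℂ)}
    (hT : Cfsg.IsCoherent T {1}ᶜ τ) (hST : S ⊆ T)
    (hne : ∃ α ∈ Cfsg.zspanOn S {1}ᶜ, α ≠ 0) : Cfsg.IsCoherent S {1}ᶜ τ := by
  obtain ⟨-, τ₁, hτ₁, hag⟩ := hT
  exact ⟨hne, τ₁, lio_mono hτ₁ (zspan_mono hST), fun α hα => hag α (zspanOn_mono hST _ hα)⟩

/-- Iterating the coherence extension criterion: if `S₀` is coherent, `χ₁ ∈ S₀` has degree dividing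
the degree of every member of `T`, and `2 χ(1) χ₁(1) < Σ_{φ ∈ S₀} φ(1)²/‖φ‖²` for all `χ ∈ T`, then
`S₀ ∪ T` is coherent. -/
theorem coherent_union_of_bound (S : Set (L → ℂ)) (τ : (L → ℂ) → (G → ℂ))
    (R : (L → ℂ) → Finset (G → ℂ)) (hS : Cfsg.IsCoherenceSystem S τ R) (d n : (L → ℂ) → ℕ)
    (hd : ∀ φ ∈ S, φ 1 = (d φ : ℂ)) (hn : ∀ φ ∈ S, Cfsg.classInner φ φ = (n φ : ℂ))
    (S₀ : Finset (L → ℂ)) (hS₀ : ↑S₀ ⊆ S) (hS₀c : ∀ φ ∈ S₀, Cfsg.conjFun φ ∈ S₀)
    (hcoh : Cfsg.IsCoherent (↑S₀ : Set (L → ℂ)) {1}ᶜ τ) (χ₁ : L → ℂ) (hχ₁ : χ₁ ∈ S₀)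
    (T : Finset (L → ℂ)) (hT : ↑T ⊆ S) (hTc : ∀ φ ∈ T, Cfsg.conjFun φ ∈ T)
    (hdvd : ∀ χ ∈ T, d χ₁ ∣ d χ)
    (hineq : ∀ χ ∈ T, (2 * d χ * d χ₁ : ℝ) < ∑ φ ∈ S₀, ((d φ : ℝ) ^ 2 / (n φ : ℝ))) :
    Cfsg.IsCoherent (↑(S₀ ∪ T) : Set (L → ℂ)) {1}ᶜ τ := by
  classical
  induction' hc : T.card using Nat.strong_induction_on with k ih generalizing T
  by_cases hsub : T ⊆ S₀
  · rw [Finset.union_eq_left.mpr hsub]; exact hcoh
  obtain ⟨χ, hχT, hχS₀⟩ := Finset.not_subset.mp hsub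
  have hcχT := hTc χ hχT
  have hcχS₀ : Cfsg.conjFun χ ∉ S₀ := fun h => hχS₀ (by
    have := hS₀c _ h
    rwa [conjFun_conjFun] at this)
  obtain ⟨T', hT'⟩ : ∃ T' : Finset (L → ℂ), T' = (T.erase χ).erase (Cfsg.conjFun χ) := ⟨_, rfl⟩
  have hT'sub : T' ⊆ T := by
    rw [hT']; exact (Finset.erase_subset _ _).trans (Finset.erase_subset _ _)
  have hT'card : T'.card < T.card := by
    rw [hT']
    exact lt_of_le_of_lt (Finset.card_le_card (Finset.erase_subset _ _))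
      (Finset.card_erase_lt_of_mem hχT)
  have hT'c : ∀ φ ∈ T', Cfsg.conjFun φ ∈ T' := by
    intro φ hφ
    rw [hT', Finset.mem_erase, Finset.mem_erase] at hφ ⊢
    obtain ⟨h1, h2, h3⟩ := hφ
    refine ⟨fun h => h2 ?_, fun h => h1 ?_, hTc φ h3⟩
    · have := congrArg Cfsg.conjFun h
      rwa [conjFun_conjFun, conjFun_conjFun] at this
    · have := congrArg Cfsg.conjFun h
      rwa [conjFun_conjFun] at this
  have ih' := ih T'.card (hc ▸ hT'card) T' (fun φ hφ => hT (hT'sub hφ)) hT'c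
    (fun χ hχ => hdvd χ (hT'sub hχ)) (fun χ hχ => hineq χ (hT'sub hχ)) rfl
  have hχT' : χ ∉ T' := by
    rw [hT']; intro h
    exact (Finset.mem_erase.mp (Finset.mem_erase.mp h).2).1 rfl
  have hcχT' : Cfsg.conjFun χ ∉ T' := by
    rw [hT']; intro h
    exact (Finset.mem_erase.mp h).1 rfl
  have hres := Cfsg.Agent.S1516.result S τ R hS d n hd hn (S₀ ∪ T')
    (by
      intro φ hφ
      rcases Finset.mem_union.mp (Finset.mem_coe.mp hφ) with h | h
      · exact hS₀ h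
      · exact hT (hT'sub h))
    (by
      intro φ hφ
      rcases Finset.mem_union.mp hφ with h | h
      · exact Finset.mem_union_left _ (hS₀c φ h)
      · exact Finset.mem_union_right _ (hT'c φ h))
    ih' χ (hT hχT)
    (fun h => (Finset.mem_union.mp h).elim hχS₀ hχT')
    (fun h => (Finset.mem_union.mp h).elim hcχS₀ hcχT')
    χ₁ (Finset.mem_union_left _ hχ₁) (hdvd χ hχT)
    (lt_of_lt_of_le (hineq χ hχT)
      (Finset.sum_le_sum_of_subset_of_nonneg Finset.subset_union_left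
        (fun φ _ _ => div_nonneg (sq_nonneg _) (Nat.cast_nonneg _))))
  have hset : (↑(S₀ ∪ T) : Set (L → ℂ)) = ↑(S₀ ∪ T') ∪ {χ, Cfsg.conjFun χ} := by
    ext φ
    simp only [Finset.coe_union, Set.mem_union, Finset.mem_coe, Set.mem_insert_iff,
      Set.mem_singleton_iff, hT', Finset.mem_erase]
    constructor
    · rintro (h | h)
      · exact Or.inl (Or.inl h)
      · by_cases h1 : φ = χ
        · exact Or.inr (Or.inl h1)
        · by_cases h2 : φ = Cfsg.conjFun χ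
          · exact Or.inr (Or.inr h2)
          · exact Or.inl (Or.inr ⟨h2, h1, h⟩)
    · rintro ((h | ⟨-, -, h⟩) | rfl | rfl)
      · exact Or.inl h
      · exact Or.inr h
      · exact Or.inr hχT
      · exact Or.inr hcχT
  rw [hset]; exact hres

end Cfsg.Agent.Lib.helper32
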