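import Mathlib
import Cfsg.Prelude.Def_Characters
import Cfsg.Prelude.Def_OddOrderChar
import Cfsg.Agent.Lib.helper32.Coh9
import Cfsg.Agent.Lib.helper32.Coh10

set_option autoImplicit false

/-!
# Group theory for Peterfalvi (6.4) (helper32 library)

* `cs_restrict`: restriction of a coherence system to a conjugation-closed subset;
* `dvd_ncard_of_conj_invariant`: a conjugation-invariant set all of whose classes have size `e`
  has cardinality divisible by `e`;
* `frob_index_dvd`: in a "Frobenius quotient" `L/H₁` with abelian kernel `K/H₁`, `|L:K|` divides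
  `|N:H₁| - 1` for normal `H₁ ≤ N ≤ K`;
* `frob_big_of_intermediate`: an intermediate normal subgroup forces `|K:H₁| > 4|L:K|²+1` in odd
  order.
-/

namespace Cfsg.Agent.Lib.helper32

open Cfsg.Agent.Lib.helper4

universe u v

section CS

variable {L : Type u} [Group L] [Fintype L] {G : Type v} [Group G] [Fintype G]

/-- Restriction of a coherence system to a nonempty conjugation-closed subset. -/
theorem cs_restrict {S S' : Set (L → ℂ)} {τ : (L → ℂ) → (G → ℂ)} {R : (L → ℂ) → Finset (G → ℂ)}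
    (hS : Cfsg.IsCoherenceSystem S τ R) (hsub : S' ⊆ S) (hne : S'.Nonempty)
    (hconj : ∀ χ ∈ S', Cfsg.conjFun χ ∈ S') : Cfsg.IsCoherenceSystem S' τ R where
  nonempty := hne
  isCharacter := fun χ hχ => hS.isCharacter χ (hsub hχ)
  conj_mem := hconj
  conj_ne := fun χ hχ => hS.conj_ne χ (hsub hχ)
  isometry := lio_mono hS.isometry (zspanOn_mono hsub _)
  map_one := fun α hα => hS.map_one α (zspanOn_mono hsub _ hα)
  orthogonal := fun χ hχ φ hφ h => hS.orthogonal χ (hsub hχ) φ (hsub hφ) h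
  orthonormal := fun χ hχ => hS.orthonormal χ (hsub hχ)
  virtual := fun χ hχ => hS.virtual χ (hsub hχ)
  sum_eq := fun χ hχ => hS.sum_eq χ (hsub hχ)
  disjoint := fun χ hχ φ hφ => hS.disjoint χ (hsub hχ) φ (hsub hφ)

end CS

section Count

/-- A conjugation-invariant set all of whose elements have centraliser of index `e` has
cardinality divisible by `e`. -/
theorem dvd_ncard_of_conj_invariant {Λ : Type u} [Group Λ] [Finite Λ] (e : ℕ) :
    ∀ (T : Set Λ), (∀ g t, t ∈ T → g * t * g⁻¹ ∈ T) →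
      (∀ t ∈ T, (Subgroup.centralizer ({t} : Set Λ)).index = e) → e ∣ T.ncard := by
  intro T
  induction' hn : T.ncard using Nat.strong_induction_on with n ih generalizing T
  intro hT he
  rcases T.eq_empty_or_nonempty with rfl | ⟨t, ht⟩
  · rw [Set.ncard_empty] at hn
    rw [← hn]; exact dvd_zero e
  · obtain ⟨C, hC⟩ : ∃ C : Set Λ, C = {x | IsConj x t} := ⟨_, rfl⟩
    have hCT : C ⊆ T := by
      intro x hx
      rw [hC] at hx
      obtain ⟨c, hc⟩ := isConj_iff.mp hx
      have : x = c⁻¹ * t * c⁻¹⁻¹ := by rw [← hc]; group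
      rw [this]
      exact hT c⁻¹ t ht
    have hCcard : C.ncard = e := by
      rw [← he t ht, ← card_isConj_eq_index t, hC, ← Nat.card_coe_set_eq]
      rfl
    have htC : t ∈ C := by rw [hC]; exact IsConj.refl t
    have hsplit := Set.ncard_sdiff_add_ncard_of_subset hCT (Set.toFinite T)
    have hepos : 0 < e := by
      rw [← hCcard]
      exact Set.ncard_pos (Set.toFinite C) |>.mpr ⟨t, htC⟩
    have hlt : (T \ C).ncard < n := by omega
    have hdvd := ih (T \ C).ncard hlt (T \ C) rfl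
      (by
        intro g x hx
        refine ⟨hT g x hx.1, fun h => hx.2 ?_⟩
        rw [hC] at h ⊢
        exact (isConj_iff.mpr ⟨g, rfl⟩ : IsConj x (g * x * g⁻¹)).trans h)
      (fun x hx => he x hx.1)
    rw [← hn, ← hsplit, hCcard]
    exact Dvd.dvd.add hdvd (dvd_refl e)

/-- In a group `L` with normal subgroups `H₁ ≤ N ≤ K`, `K/H₁` abelian, such that elements of
`K` outside `H₁` are centralised modulo `H₁` only from inside `K`: `|L:K|` divides
`|N:H₁| - 1`. -/
theorem frob_index_dvd {L : Type u} [Group L] [Finite L] (K H₁ N : Subgroup L) [K.Normal]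
    [H₁.Normal] [N.Normal] (hH₁N : H₁ ≤ N) (hNK : N ≤ K) (hab : ⁅K, K⁆ ≤ H₁)
    (hfrob : ∀ k ∈ K, k ∉ H₁ → ∀ x : L, x * k * x⁻¹ * k⁻¹ ∈ H₁ → x ∈ K) :
    K.index ∣ H₁.relIndex N - 1 := by
  classical
  have hπ : Function.Surjective (QuotientGroup.mk' H₁) := QuotientGroup.mk'_surjective H₁
  have hker : (QuotientGroup.mk' H₁).ker = H₁ := QuotientGroup.ker_mk' H₁
  have key := dvd_ncard_of_conj_invariant (Λ := L ⧸ H₁) K.index
    (((N.map (QuotientGroup.mk' H₁) : Subgroup (L ⧸ H₁)) : Set (L ⧸ H₁)) \ {1})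
    (by
      intro g t ht
      obtain ⟨g₀, rfl⟩ := hπ g
      obtain ⟨⟨n, hn, rfl⟩, hne⟩ := ht
      refine ⟨⟨g₀ * n * g₀⁻¹, ‹N.Normal›.conj_mem n hn g₀, by simp⟩, ?_⟩
      intro h
      apply hne
      rw [Set.mem_singleton_iff] at h ⊢
      have h2 : (QuotientGroup.mk' H₁) n
          = ((QuotientGroup.mk' H₁) g₀)⁻¹ * ((QuotientGroup.mk' H₁) g₀ * (QuotientGroup.mk' H₁) n
            * ((QuotientGroup.mk' H₁) g₀)⁻¹) * (QuotientGroup.mk' H₁) g₀ := by group
      rw [h2, h]; group)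
    (by
      intro t ht
      obtain ⟨⟨k, hk, rfl⟩, hne⟩ := ht
      have hkH : k ∉ H₁ := by
        intro h
        apply hne
        rw [Set.mem_singleton_iff]
        exact (QuotientGroup.eq_one_iff k).mpr h
      have hcent : Subgroup.centralizer ({(QuotientGroup.mk' H₁) k} : Set (L ⧸ H₁))
          = K.map (QuotientGroup.mk' H₁) := by
        ext y
        obtain ⟨x, rfl⟩ := hπ y
        rw [Subgroup.mem_centralizer_iff]
        constructor
        · intro h
          have h1 := h _ (Set.mem_singleton _)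
          refine ⟨x, hfrob k (hNK hk) hkH x ?_, rfl⟩
          have h2 : (QuotientGroup.mk' H₁) (x * k * x⁻¹ * k⁻¹) = 1 := by
            rw [map_mul, map_mul, map_mul, map_inv, map_inv, ← h1]; group
          exact (QuotientGroup.eq_one_iff _).mp h2
        · rintro ⟨x', hx', hxx'⟩ h hh
          rw [Set.mem_singleton_iff] at hh
          rw [hh, ← hxx']
          have h1 : x' * k * x'⁻¹ * k⁻¹ ∈ H₁ :=
            hab (Subgroup.commutator_mem_commutator hx' (hNK hk))
          have h2 : (QuotientGroup.mk' H₁) (x' * k * x'⁻¹ * k⁻¹) = 1 :=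
            (QuotientGroup.eq_one_iff _).mpr h1
          rw [map_mul, map_mul, map_mul, map_inv, map_inv] at h2
          calc (QuotientGroup.mk' H₁) k * (QuotientGroup.mk' H₁) x'
              = ((QuotientGroup.mk' H₁) x' * (QuotientGroup.mk' H₁) k
                  * ((QuotientGroup.mk' H₁) x')⁻¹ * ((QuotientGroup.mk' H₁) k)⁻¹)⁻¹
                * ((QuotientGroup.mk' H₁) x' * (QuotientGroup.mk' H₁) k) := by group
            _ = (QuotientGroup.mk' H₁) x' * (QuotientGroup.mk' H₁) k := by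
                rw [h2, inv_one, one_mul]
      rw [hcent]
      have hk1 : (QuotientGroup.mk' H₁).ker ≤ K := by rw [hker]; exact hH₁N.trans hNK
      exact Subgroup.index_map_eq _ hπ hk1)
  rw [Set.ncard_sdiff_singleton_of_mem (Subgroup.one_mem _), ← Nat.card_coe_set_eq] at key
  have h3 : Nat.card ↥(N.map (QuotientGroup.mk' H₁)) = H₁.relIndex N := by
    rw [← Subgroup.relIndex_ker, hker]
  have h4 : Nat.card ↑((N.map (QuotientGroup.mk' H₁) : Subgroup (L ⧸ H₁)) : Set (L ⧸ H₁))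
      = H₁.relIndex N := h3
  rw [h4] at key
  exact key

/-- Odd-order arithmetic: `e ∣ n - 1` with `e, n` odd and `n > 1` gives `n ≥ 2e + 1`. -/
theorem two_mul_add_one_le_of_dvd {e n : ℕ} (he : Odd e) (hn : Odd n) (hn1 : 1 < n)
    (hdvd : e ∣ n - 1) : 2 * e + 1 ≤ n := by
  obtain ⟨j, hj⟩ := hdvd
  rcases Nat.lt_or_ge j 2 with h | h
  · interval_cases j
    · omega
    · exfalso
      have : n = e + 1 := by omega
      rw [this] at hn
      exact (Nat.not_even_iff_odd.mpr hn) (Odd.add_one he)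
  · have : 2 * e ≤ e * j := by nlinarith
    omega

/-- In odd order, an intermediate normal subgroup `H₁ < N < K` forces `|K:H₁| > 4|L:K|² + 1`. -/
theorem frob_big_of_intermediate {L : Type u} [Group L] [Finite L] (hodd : Odd (Nat.card L))
    (K H₁ N : Subgroup L) [K.Normal] [H₁.Normal] [N.Normal] (hH₁N : H₁ < N) (hNK : N < K)
    (hab : ⁅K, K⁆ ≤ H₁)
    (hfrob : ∀ k ∈ K, k ∉ H₁ → ∀ x : L, x * k * x⁻¹ * k⁻¹ ∈ H₁ → x ∈ K) :
    4 * K.index ^ 2 + 1 < H₁.relIndex K := by
  have h1 := frob_index_dvd K H₁ N hH₁N.le hNK.le hab hfrob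
  have h2 := frob_index_dvd K H₁ K (hH₁N.le.trans hNK.le) le_rfl hab hfrob
  have hmul : H₁.relIndex N * N.relIndex K = H₁.relIndex K :=
    Subgroup.relIndex_mul_relIndex H₁ N K hH₁N.le hNK.le
  have hcardK : Nat.card K ∣ Nat.card L := Subgroup.card_subgroup_dvd_card K
  have hcardN : Nat.card N ∣ Nat.card L := Subgroup.card_subgroup_dvd_card N
  have hoddK : Odd (Nat.card K) := Odd.of_dvd_nat hodd hcardK
  have hoddN : Odd (Nat.card N) := Odd.of_dvd_nat hodd hcardN
  have ho1 : Odd (H₁.relIndex N) := Odd.of_dvd_nat hoddN (Subgroup.relIndex_dvd_card H₁ N)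
  have ho2 : Odd (N.relIndex K) := Odd.of_dvd_nat hoddK (Subgroup.relIndex_dvd_card N K)
  have hoe : Odd K.index := Odd.of_dvd_nat hodd (Subgroup.index_dvd_card K)
  have hn1 : 1 < H₁.relIndex N := by
    have h0 : H₁.relIndex N ≠ 0 := Subgroup.index_ne_zero_of_finite
    have h1' : H₁.relIndex N ≠ 1 := by
      intro h
      exact (not_le_of_gt hH₁N) (Subgroup.relIndex_eq_one.mp h)
    omega
  have hn2 : 1 < N.relIndex K := by
    have h0 : N.relIndex K ≠ 0 := Subgroup.index_ne_zero_of_finite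
    have h1' : N.relIndex K ≠ 1 := by
      intro h
      exact (not_le_of_gt hNK) (Subgroup.relIndex_eq_one.mp h)
    omega
  -- e ∣ n2 - 1
  have h3 : K.index ∣ N.relIndex K - 1 := by
    have hcop : Nat.Coprime K.index (H₁.relIndex N) := by
      have : Nat.Coprime (H₁.relIndex N - 1) (H₁.relIndex N) := by
        have h' : H₁.relIndex N = (H₁.relIndex N - 1) + 1 := by omega
        rw [h']; simp
      exact Nat.Coprime.coprime_dvd_left h1 this
    have h4 : K.index ∣ H₁.relIndex N * (N.relIndex K - 1) := by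
      have h5 : H₁.relIndex N * (N.relIndex K - 1)
          = (H₁.relIndex K - 1) - (H₁.relIndex N - 1) := by
        rw [← hmul, Nat.mul_sub, mul_one]
        have : H₁.relIndex N ≤ H₁.relIndex N * N.relIndex K := Nat.le_mul_of_pos_right _ (by omega)
        omega
      rw [h5]
      exact Nat.dvd_sub h2 h1
    exact hcop.dvd_of_dvd_mul_left h4
  have hb1 := two_mul_add_one_le_of_dvd hoe ho1 hn1 h1
  have hb2 := two_mul_add_one_le_of_dvd hoe ho2 hn2 h3
  rw [← hmul]
  have : (2 * K.index + 1) * (2 * K.index + 1) ≤ H₁.relIndex N * N.relIndex K :=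
    Nat.mul_le_mul hb1 hb2
  have hepos : 0 < K.index := Nat.pos_of_ne_zero Subgroup.index_ne_zero_of_finite
  nlinarith

end Count

section Struct

open scoped commutatorElement

/-- If `K/H₁` is abelian and its order is not a prime power, there is a normal subgroup of `L`
strictly between `H₁` and `K`. -/
theorem exists_intermediate_normal {L : Type u} [Group L] [Finite L] (K H₁ : Subgroup L)
    [hKn : K.Normal] [hH₁n : H₁.Normal] (hH₁K : H₁ ≤ K) (hab : ⁅K, K⁆ ≤ H₁)
    (hnpp : ¬ ∃ p m : ℕ, p.Prime ∧ H₁.relIndex K = p ^ m) :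
    ∃ N : Subgroup L, N.Normal ∧ H₁ < N ∧ N < K := by
  classical
  have hn0 : H₁.relIndex K ≠ 0 := Subgroup.index_ne_zero_of_finite
  have hn1 : H₁.relIndex K ≠ 1 := by
    intro h
    exact hnpp ⟨2, 0, Nat.prime_two, by rw [h, pow_zero]⟩
  obtain ⟨q, hq, hqn⟩ := Nat.exists_prime_and_dvd hn1
  obtain ⟨a, r, hqr, hn⟩ := Nat.exists_eq_pow_mul_and_not_dvd hn0 q hq.ne_one
  have hr1 : r ≠ 1 := by
    intro h
    exact hnpp ⟨q, a, hq, by rw [hn, h, mul_one]⟩
  obtain ⟨q', hq', hq'r⟩ := Nat.exists_prime_and_dvd hr1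
  have hcomm : ∀ x ∈ K, ∀ y ∈ K, (QuotientGroup.mk' H₁) x * (QuotientGroup.mk' H₁) y
      = (QuotientGroup.mk' H₁) y * (QuotientGroup.mk' H₁) x := by
    intro x hx y hy
    have h1 : x * y * x⁻¹ * y⁻¹ ∈ H₁ := hab (Subgroup.commutator_mem_commutator hx hy)
    have h2 : (QuotientGroup.mk' H₁) (x * y * x⁻¹ * y⁻¹) = 1 :=
      (QuotientGroup.eq_one_iff _).mpr h1
    rw [map_mul, map_mul, map_mul, map_inv, map_inv] at h2
    calc (QuotientGroup.mk' H₁) x * (QuotientGroup.mk' H₁) y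
        = ((QuotientGroup.mk' H₁) x * (QuotientGroup.mk' H₁) y
            * ((QuotientGroup.mk' H₁) x)⁻¹ * ((QuotientGroup.mk' H₁) y)⁻¹)
          * ((QuotientGroup.mk' H₁) y * (QuotientGroup.mk' H₁) x) := by group
      _ = (QuotientGroup.mk' H₁) y * (QuotientGroup.mk' H₁) x := by rw [h2, one_mul]
  let N : Subgroup L :=
    { carrier := {x | x ∈ K ∧ x ^ r ∈ H₁}
      mul_mem' := by
        rintro x y ⟨hx, hxr⟩ ⟨hy, hyr⟩
        refine ⟨K.mul_mem hx hy, ?_⟩
        apply (QuotientGroup.eq_one_iff _).mp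
        have hx1 : (QuotientGroup.mk' H₁) (x ^ r) = 1 := (QuotientGroup.eq_one_iff _).mpr hxr
        have hy1 : (QuotientGroup.mk' H₁) (y ^ r) = 1 := (QuotientGroup.eq_one_iff _).mpr hyr
        have h2 : (QuotientGroup.mk' H₁) ((x * y) ^ r) = 1 := by
          rw [map_pow, map_mul, (show Commute ((QuotientGroup.mk' H₁) x)
            ((QuotientGroup.mk' H₁) y) from hcomm x hx y hy).mul_pow, ← map_pow, ← map_pow,
            hx1, hy1, one_mul]
        exact h2
      one_mem' := ⟨K.one_mem, by rw [one_pow]; exact H₁.one_mem⟩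
      inv_mem' := by
        rintro x ⟨hx, hxr⟩
        exact ⟨K.inv_mem hx, by rw [inv_pow]; exact H₁.inv_mem hxr⟩ }
  have hNmem : ∀ x, x ∈ N ↔ x ∈ K ∧ x ^ r ∈ H₁ := fun x => Iff.rfl
  have hcard : Nat.card (↥K ⧸ H₁.subgroupOf K) = H₁.relIndex K := by
    rw [← Subgroup.index_eq_card]; rfl
  have hpow : ∀ (k : K) (j : ℕ), ((QuotientGroup.mk' (H₁.subgroupOf K)) k) ^ j = 1 ↔
      (k : L) ^ j ∈ H₁ := by
    intro k j
    rw [← map_pow, QuotientGroup.mk'_apply, QuotientGroup.eq_one_iff, Subgroup.mem_subgroupOf]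
    rfl
  refine ⟨N, ⟨fun x hx g => ?_⟩, lt_of_le_of_ne ?_ ?_, lt_of_le_of_ne ?_ ?_⟩
  · rw [hNmem] at hx ⊢
    refine ⟨hKn.conj_mem x hx.1 g, ?_⟩
    rw [conj_pow]
    exact hH₁n.conj_mem _ hx.2 g
  · intro x hx
    exact ⟨hH₁K hx, H₁.pow_mem hx r⟩
  · -- H₁ ≠ N
    have _iq' : Fact q'.Prime := ⟨hq'⟩
    have hq'n : q' ∣ Nat.card (↥K ⧸ H₁.subgroupOf K) := by
      rw [hcard, hn]; exact Dvd.dvd.mul_left hq'r _
    obtain ⟨xbar, hxbar⟩ := exists_prime_orderOf_dvd_card' q' hq'n
    obtain ⟨k, rfl⟩ := QuotientGroup.mk'_surjective (H₁.subgroupOf K) xbar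
    intro hEq
    have hkN : (k : L) ∈ N := by
      rw [hNmem]
      refine ⟨k.2, (hpow k r).mp ?_⟩
      apply orderOf_dvd_iff_pow_eq_one.mp
      rw [hxbar]; exact hq'r
    rw [← hEq] at hkN
    have h1 : (QuotientGroup.mk' (H₁.subgroupOf K)) k = 1 := by
      rw [QuotientGroup.mk'_apply, QuotientGroup.eq_one_iff, Subgroup.mem_subgroupOf]
      exact hkN
    rw [h1, orderOf_one] at hxbar
    exact hq'.one_lt.ne hxbar
  · intro x hx
    exact hx.1
  · -- N ≠ K
    have _iq : Fact q.Prime := ⟨hq⟩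
    have hqn' : q ∣ Nat.card (↥K ⧸ H₁.subgroupOf K) := by rw [hcard]; exact hqn
    obtain ⟨ybar, hybar⟩ := exists_prime_orderOf_dvd_card' q hqn'
    obtain ⟨k, rfl⟩ := QuotientGroup.mk'_surjective (H₁.subgroupOf K) ybar
    intro hEq
    have hkN : (k : L) ∈ N := by rw [hEq]; exact k.2
    rw [hNmem] at hkN
    have h1 := (hpow k r).mpr hkN.2
    have h2 := orderOf_dvd_iff_pow_eq_one.mpr h1
    rw [hybar] at h2
    exact hqr h2

/-- A finite nilpotent group all of whose abelian quotients have `p`-power order has `p`-power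
order. -/
theorem card_eq_prime_pow_of_nilpotent (p : ℕ) (hp : p.Prime) :
    ∀ (n : ℕ) (Q : Type u) [Group Q] [Finite Q], Nat.card Q = n → Group.IsNilpotent Q →
      (∀ (A : Type u) [CommGroup A] (f : Q →* A), Function.Surjective f →
        ∃ b, Nat.card A = p ^ b) → ∃ m, Nat.card Q = p ^ m := by
  intro n
  induction' n using Nat.strong_induction_on with n ih
  intro Q _ _ hn hnil hab
  by_cases htriv : Subsingleton Q
  · exact ⟨0, by rw [pow_zero]; exact Nat.card_unique⟩
  have hnt : Nontrivial Q := not_subsingleton_iff_nontrivial.mp htriv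
  have _inil : Group.IsNilpotent Q := hnil
  have hZ : Subgroup.center Q ≠ ⊥ := Group.IsNilpotent.center_ne_bot Q
  have hZcard : 1 < Nat.card (Subgroup.center Q) := (Subgroup.one_lt_card_iff_ne_bot _).mpr hZ
  have hmul : Nat.card (Subgroup.center Q) * (Subgroup.center Q).index = Nat.card Q :=
    Subgroup.card_mul_index _
  have hidxpos : 0 < (Subgroup.center Q).index :=
    Nat.pos_of_ne_zero Subgroup.index_ne_zero_of_finite
  have hlt : Nat.card (Q ⧸ Subgroup.center Q) < n := by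
    rw [← Subgroup.index_eq_card, ← hn, ← hmul]
    nlinarith
  obtain ⟨m, hm⟩ := ih _ hlt (Q ⧸ Subgroup.center Q) rfl inferInstance
    (fun A _ f hf => hab A (f.comp (QuotientGroup.mk' _))
      (hf.comp (QuotientGroup.mk'_surjective _)))
  rw [← Subgroup.index_eq_card] at hm
  -- the centre has p-power order
  have hZp : ∃ c, Nat.card (Subgroup.center Q) = p ^ c := by
    refine ⟨_, Nat.eq_prime_pow_of_unique_prime_dvd Nat.card_pos.ne' ?_⟩
    intro q hq hqd
    have _iq : Fact q.Prime := ⟨hq⟩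
    obtain ⟨z, hz⟩ := exists_prime_orderOf_dvd_card' q hqd
    let _icg : CommGroup (MonoidHom.transferCenterPow Q).range :=
      { (inferInstance : Group (MonoidHom.transferCenterPow Q).range) with
        mul_comm := fun a b => by
          apply Subtype.ext
          apply Subtype.ext
          have h := (Subgroup.mem_center_iff.mp (a.1.2)) ((b.1 : Subgroup.center Q) : Q)
          exact h.symm }
    obtain ⟨b, hb⟩ := hab (MonoidHom.transferCenterPow Q).range
      (MonoidHom.transferCenterPow Q).rangeRestrict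
      (MonoidHom.rangeRestrict_surjective _)
    by_contra hne
    -- the image of z has order q
    have hcop : Nat.Coprime q (p ^ m) := by
      apply Nat.Coprime.pow_right
      exact (Nat.coprime_primes hq hp).mpr hne
    have hzimg : orderOf ((MonoidHom.transferCenterPow Q).rangeRestrict (z : Q)) = q := by
      have h1 : ((MonoidHom.transferCenterPow Q).rangeRestrict (z : Q) : Subgroup.center Q)
          = z ^ (Subgroup.center Q).index := by
        apply Subtype.ext
        rfl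
      have h2 : orderOf (z ^ (Subgroup.center Q).index) = q := by
        rw [hm, orderOf_pow, hz, Nat.Coprime.gcd_eq_one hcop, Nat.div_one]
      rw [← h2, ← h1]
      exact (Subgroup.orderOf_coe _).symm
    have hdvd : q ∣ p ^ b := by
      rw [← hb, ← hzimg]
      exact orderOf_dvd_natCard _
    exact hne ((Nat.prime_dvd_prime_iff_eq hq hp).mp (hq.dvd_of_dvd_pow hdvd))
  obtain ⟨c, hc⟩ := hZp
  exact ⟨c + m, by rw [← hmul, hc, hm, pow_add]⟩

/-- If `K/H₁` is cyclic (of prime order), then `[K,K] ≤ [H₁,K]`. -/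
theorem commutator_le_of_prime_relIndex {L : Type u} [Group L] [Finite L] (K H₁ : Subgroup L)
    [hKn : K.Normal] [hH₁n : H₁.Normal] (p : ℕ) (hp : p.Prime)
    (hidx : H₁.relIndex K = p) : ⁅K, K⁆ ≤ ⁅H₁, K⁆ := by
  classical
  have hH₂H₁ : ⁅H₁, K⁆ ≤ H₁ := Subgroup.commutator_le_left _ _
  have hle : (⁅H₁, K⁆).subgroupOf K ≤ (H₁.subgroupOf K).comap (MonoidHom.id K) :=
    Subgroup.comap_mono hH₂H₁
  have _ip : Fact p.Prime := ⟨hp⟩
  have _ic : IsCyclic (↥K ⧸ H₁.subgroupOf K) := by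
    apply isCyclic_of_prime_card (p := p)
    rw [← Subgroup.index_eq_card]; exact hidx
  have hker : (QuotientGroup.map ((⁅H₁, K⁆).subgroupOf K) (H₁.subgroupOf K) (MonoidHom.id K)
      hle).ker ≤ Subgroup.center (↥K ⧸ (⁅H₁, K⁆).subgroupOf K) := by
    intro x hx
    obtain ⟨k, rfl⟩ := QuotientGroup.mk_surjective x
    rw [MonoidHom.mem_ker, QuotientGroup.map_mk, MonoidHom.id_apply,
      QuotientGroup.eq_one_iff, Subgroup.mem_subgroupOf] at hx
    rw [Subgroup.mem_center_iff]
    intro y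
    obtain ⟨k₂, rfl⟩ := QuotientGroup.mk_surjective y
    have h1 : k * k₂ * k⁻¹ * k₂⁻¹ ∈ (⁅H₁, K⁆).subgroupOf K := by
      rw [Subgroup.mem_subgroupOf]
      exact Subgroup.commutator_mem_commutator hx k₂.2
    have h2 : ((k * k₂ * k⁻¹ * k₂⁻¹ : K) : ↥K ⧸ (⁅H₁, K⁆).subgroupOf K) = 1 :=
      (QuotientGroup.eq_one_iff _).mpr h1
    rw [QuotientGroup.mk_mul, QuotientGroup.mk_mul, QuotientGroup.mk_mul, QuotientGroup.mk_inv,
      QuotientGroup.mk_inv] at h2
    calc (k₂ : ↥K ⧸ (⁅H₁, K⁆).subgroupOf K) * (k : ↥K ⧸ (⁅H₁, K⁆).subgroupOf K)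
        = ((k : ↥K ⧸ (⁅H₁, K⁆).subgroupOf K) * k₂ * (k : ↥K ⧸ (⁅H₁, K⁆).subgroupOf K)⁻¹
            * (k₂ : ↥K ⧸ (⁅H₁, K⁆).subgroupOf K)⁻¹)⁻¹
          * ((k : ↥K ⧸ (⁅H₁, K⁆).subgroupOf K) * k₂) := by group
      _ = (k : ↥K ⧸ (⁅H₁, K⁆).subgroupOf K) * k₂ := by rw [h2, inv_one, one_mul]
  rw [Subgroup.commutator_le]
  intro a ha b hb
  have h := (MonoidHom.isMulCommutative_of_isCyclic_of_ker_le_center _ hker).is_comm.comm
    ((⟨a, ha⟩ : K) : ↥K ⧸ (⁅H₁, K⁆).subgroupOf K) ((⟨b, hb⟩ : K) : ↥K ⧸ (⁅H₁, K⁆).subgroupOf K)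
  have h2 : (((⟨a, ha⟩ : K) * ⟨b, hb⟩ * (⟨a, ha⟩ : K)⁻¹ * (⟨b, hb⟩ : K)⁻¹ : K) :
      ↥K ⧸ (⁅H₁, K⁆).subgroupOf K) = 1 := by
    rw [QuotientGroup.mk_mul, QuotientGroup.mk_mul, QuotientGroup.mk_mul, QuotientGroup.mk_inv,
      QuotientGroup.mk_inv, h]
    group
  have h3 := (QuotientGroup.eq_one_iff _).mp h2
  rw [Subgroup.mem_subgroupOf] at h3
  exact h3

/-- If the chain is stationary at the first step, it is constant. -/
theorem descChain_const {L : Type u} [Group L] (M H₁ H : Subgroup L)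
    (h : descChain M H₁ H 1 = H₁) (i : ℕ) : descChain M H₁ H i = H₁ := by
  induction i with
  | zero => rfl
  | succ i ih => rw [descChain_succ, ih]; exact h

/-- Abelian quotients of `K/M` have order dividing `|K : [K,K]M|`. -/
theorem card_abelian_quotient_dvd {L : Type u} [Group L] [Finite L] (K M : Subgroup L)
    (hMK : M ≤ K) [(M.subgroupOf K).Normal] {A : Type v} [CommGroup A]
    (f : (↥K ⧸ M.subgroupOf K) →* A) (hf : Function.Surjective f) :
    Nat.card A ∣ (⁅K, K⁆ ⊔ M).relIndex K := by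
  have hg : Function.Surjective (f.comp (QuotientGroup.mk' (M.subgroupOf K))) :=
    hf.comp (QuotientGroup.mk'_surjective _)
  have hcard : Nat.card A = (f.comp (QuotientGroup.mk' (M.subgroupOf K))).ker.index := by
    rw [Subgroup.index_ker, MonoidHom.range_eq_top.mpr hg, Subgroup.card_top]
  have hle : ⁅K, K⁆ ⊔ M ≤ (f.comp (QuotientGroup.mk' (M.subgroupOf K))).ker.map K.subtype := by
    refine sup_le ?_ ?_
    · rw [Subgroup.commutator_le]
      intro a ha b hb
      refine Subgroup.mem_map.mpr ⟨⁅(⟨a, ha⟩ : K), (⟨b, hb⟩ : K)⁆, ?_, rfl⟩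
      rw [MonoidHom.mem_ker, map_commutatorElement, commutatorElement_def]
      rw [mul_comm ((f.comp (QuotientGroup.mk' (M.subgroupOf K))) ⟨a, ha⟩)]
      simp
    · intro m hm
      refine Subgroup.mem_map.mpr ⟨⟨m, hMK hm⟩, ?_, rfl⟩
      rw [MonoidHom.mem_ker, MonoidHom.comp_apply]
      have : (QuotientGroup.mk' (M.subgroupOf K)) ⟨m, hMK hm⟩ = 1 :=
        (QuotientGroup.eq_one_iff _).mpr (Subgroup.mem_subgroupOf.mpr hm)
      rw [this, map_one]
  have hle' : (⁅K, K⁆ ⊔ M).subgroupOf K ≤ (f.comp (QuotientGroup.mk' (M.subgroupOf K))).ker := by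
    intro x hx
    obtain ⟨y, hy, hyx⟩ := Subgroup.mem_map.mp (hle (Subgroup.mem_subgroupOf.mp hx))
    have : y = x := Subtype.ext hyx
    rw [← this]; exact hy
  rw [hcard]
  exact Subgroup.index_dvd_of_le hle'

end Struct

end Cfsg.Agent.Lib.helper32
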