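import Mathlib
import Cfsg.Prelude.Def_Characters
import Cfsg.Agent.Lib.helper4.CharDecomp
import Cfsg.Agent.Lib.helper4.CharTheory
import Cfsg.Agent.Lib.helper4.Induction
import Cfsg.Agent.Lib.helper83.CharBasic
import Cfsg.Agent.Lib.helper83.CharBasic2
import Cfsg.Agent.Lib.helper82.CharInt
import Cfsg.Agent.S1528

set_option autoImplicit false

/-!
# Characters of a group with a Frobenius-type normal subgroup (helper32 library)

`N` is a finite group, `M` a normal subgroup.  An irreducible character `χ` of `N` is called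
*relevant* (for `M`) when `χ k ≠ χ 1` for some `k ∈ M`.  Under the Frobenius condition
`C_N(n) ≤ M` for `1 ≠ n ∈ M`, the relevant characters are induced from `M`.
-/

namespace Cfsg.Agent.Lib.helper32

open Cfsg.Agent.Lib.helper4

universe u

section General

variable {N : Type u} [Group N] [Fintype N]

/-- An irreducible character has a positive natural degree dividing the group order. -/
theorem irr_degree_nat_dvd {χ : N → ℂ} (hχ : Cfsg.IsIrrCharacter N χ) :
    ∃ d : ℕ, 0 < d ∧ χ 1 = d ∧ d ∣ Nat.card N := by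
  obtain ⟨d, hd, hd1⟩ := exists_pos_nat_degree hχ
  refine ⟨d, hd, hd1, ?_⟩
  obtain ⟨n, ρ, hirr, rfl⟩ := hχ
  have := hirr
  have h := Cfsg.Agent.Lib.helper82.finrank_dvd_card ρ
  rw [Representation.char_one] at hd1
  have hnd : Module.finrank ℂ (Fin n → ℂ) = d := by exact_mod_cast hd1
  rw [hnd] at h
  exact h

/-- A class function whose inner products with the `M`-relevant irreducible characters are
`t` times their degrees takes the value `Δ 1 - t * |N|` at the non-identity elements of `M`. -/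
theorem apply_of_proportional (M : Subgroup N) {Δ : N → ℂ} (hΔ : Cfsg.IsClassFunction N Δ)
    (t : ℂ)
    (h : ∀ ξ : N → ℂ, Cfsg.IsIrrCharacter N ξ → (∃ k ∈ M, ξ k ≠ ξ 1) →
      Cfsg.classInner Δ ξ = t * ξ 1)
    {k : N} (hk : k ∈ M) (hk1 : k ≠ 1) : Δ k = Δ 1 - t * (Nat.card N : ℂ) := by
  classical
  have : Fintype (Cfsg.IrrCharacter N) := Fintype.ofFinite _
  have e1 := Cfsg.Agent.Lib.helper83.classFunction_expansion' Δ hΔ k
  have e2 := Cfsg.Agent.Lib.helper83.classFunction_expansion' Δ hΔ 1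
  have hterm : ∀ μ : Cfsg.IrrCharacter N,
      Cfsg.classInner Δ (μ : N → ℂ) * (μ : N → ℂ) 1 - Cfsg.classInner Δ (μ : N → ℂ) * (μ : N → ℂ) k =
        t * ((μ : N → ℂ) 1 * (μ : N → ℂ) 1 - (μ : N → ℂ) k * (starRingEnd ℂ) ((μ : N → ℂ) 1)) := by
    intro μ
    have hreal : (starRingEnd ℂ) ((μ : N → ℂ) 1) = (μ : N → ℂ) 1 := by
      rw [Cfsg.Agent.Lib.helper83.irr_one_eq_charDegree]
      simp
    rw [hreal]
    by_cases hrel : ∃ k ∈ M, (μ : N → ℂ) k ≠ (μ : N → ℂ) 1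
    · rw [h (μ : N → ℂ) μ.2 hrel]
      ring
    · push Not at hrel
      rw [hrel k hk]
      ring
  have hsum : Δ 1 - Δ k = t * (Nat.card N : ℂ) := by
    rw [e1, e2, ← Finset.sum_sub_distrib, Finset.sum_congr rfl (fun μ _ => hterm μ),
      ← Finset.mul_sum, Finset.sum_sub_distrib, Cfsg.Agent.Lib.helper83.sum_irr_one_sq,
      Cfsg.Agent.Lib.helper83.second_orthogonality_of_not_isConj, sub_zero]
    intro hc
    apply hk1
    exact isConj_one_left.mp hc
  rw [← hsum]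
  ring

end General

section Normal

variable {N : Type u} [Group N] [Fintype N] (M : Subgroup N) [hM : M.Normal]

/-- A function induced from a normal subgroup vanishes outside it. -/
theorem indFun_normal_apply_of_not_mem (φ : M → ℂ) {x : N} (hx : x ∉ M) :
    Cfsg.indFun M φ x = 0 := by
  rw [indFun_apply, Finset.sum_eq_zero, mul_zero]
  intro y _
  apply extendByZero_apply_of_not_mem
  intro h
  apply hx
  have := hM.conj_mem _ h y
  simpa [mul_assoc] using this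

/-- The values on a normal subgroup of a function induced from it. -/
theorem indFun_normal_apply_mem (φ : M → ℂ) (k : M) :
    Cfsg.indFun M φ (k : N) =
      (Nat.card M : ℂ)⁻¹ * ∑ x : N, φ (MulAut.conjNormal x⁻¹ k) := by
  rw [indFun_apply]
  congr 1
  apply Finset.sum_congr rfl
  intro x _
  have hmem : x⁻¹ * (k : N) * x ∈ M := by
    have := hM.conj_mem (k : N) k.2 x⁻¹
    simpa using this
  rw [extendByZero_apply_mem M φ hmem]
  congr 1
  apply Subtype.ext
  simp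

/-- The sum over a normal subgroup of a function induced from it. -/
theorem sum_indFun_normal [Fintype M] (φ : M → ℂ) :
    ∑ k : M, Cfsg.indFun M φ (k : N) = (M.index : ℂ) * ∑ k : M, φ k := by
  have h1 : ∀ x : N, ∑ k : M, φ (MulAut.conjNormal x⁻¹ k) = ∑ k : M, φ k := fun x =>
    Equiv.sum_comp (MulAut.conjNormal x⁻¹ : M ≃* M).toEquiv φ
  have h2 : ∑ k : M, Cfsg.indFun M φ (k : N) =
      (Nat.card M : ℂ)⁻¹ * ∑ x : N, ∑ k : M, φ (MulAut.conjNormal x⁻¹ k) := by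
    rw [Finset.sum_comm, Finset.mul_sum]
    apply Finset.sum_congr rfl
    intro k _
    rw [indFun_normal_apply_mem]
  rw [h2, Finset.sum_congr rfl (fun x _ => h1 x), Finset.sum_const, Finset.card_univ,
    nsmul_eq_mul]
  have hidx : (Nat.card N : ℂ) = (M.index : ℂ) * (Nat.card M : ℂ) := by
    have := M.index_mul_card
    exact_mod_cast this.symm
  have hM0 : (Nat.card M : ℂ) ≠ 0 := by
    have : Nat.card M ≠ 0 := Nat.card_pos.ne'
    exact_mod_cast this
  rw [← Nat.card_eq_fintype_card, hidx]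
  field_simp

variable (hC : ∀ n ∈ M, n ≠ 1 → Subgroup.centralizer ({n} : Set N) ≤ M)
include hC

/-- Under the Frobenius condition, a relevant irreducible character is induced from a
non-principal irreducible character of `M`. -/
theorem relevant_eq_ind {χ : N → ℂ} (hχ : Cfsg.IsIrrCharacter N χ)
    (hrel : ∃ k ∈ M, χ k ≠ χ 1) :
    ∃ φ : M → ℂ, Cfsg.IsIrrCharacter M φ ∧ φ ≠ (fun _ => 1) ∧ χ = Cfsg.indFun M φ := by
  obtain ⟨φ, hφ, rfl⟩ := Cfsg.Agent.S1528.result M hC χ hχ hrel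
  refine ⟨φ, hφ, ?_, rfl⟩
  rintro rfl
  obtain ⟨k, hk, hne⟩ := hrel
  apply hne
  have h1 := indFun_normal_apply_mem M (fun _ => (1 : ℂ)) ⟨k, hk⟩
  have h2 := indFun_normal_apply_mem M (fun _ => (1 : ℂ)) 1
  rw [show (k : N) = ((⟨k, hk⟩ : M) : N) from rfl, h1,
    show (1 : N) = ((1 : M) : N) from rfl, h2]

/-- A relevant irreducible character vanishes outside `M`. -/
theorem relevant_vanish {χ : N → ℂ} (hχ : Cfsg.IsIrrCharacter N χ)
    (hrel : ∃ k ∈ M, χ k ≠ χ 1) {x : N} (hx : x ∉ M) : χ x = 0 := by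
  obtain ⟨φ, -, -, rfl⟩ := relevant_eq_ind M hC hχ hrel
  exact indFun_normal_apply_of_not_mem M φ hx

/-- The values of a relevant irreducible character on `M` sum to zero. -/
theorem relevant_sum_eq_zero [Fintype M] {χ : N → ℂ} (hχ : Cfsg.IsIrrCharacter N χ)
    (hrel : ∃ k ∈ M, χ k ≠ χ 1) : ∑ k : M, χ (k : N) = 0 := by
  classical
  obtain ⟨φ, hφ, hφ1, rfl⟩ := relevant_eq_ind M hC hχ hrel
  rw [sum_indFun_normal]
  have h0 : Cfsg.classInner φ (fun _ => (1 : ℂ)) = 0 :=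
    classInner_irr_ne hφ Cfsg.Agent.Lib.helper83.isIrrCharacter_one hφ1
  have h1 : ∑ k : M, φ k = 0 := by
    unfold Cfsg.classInner at h0
    have hM0 : (Nat.card M : ℂ)⁻¹ ≠ 0 := by
      have : Nat.card M ≠ 0 := Nat.card_pos.ne'
      exact inv_ne_zero (by exact_mod_cast this)
    rcases mul_eq_zero.mp h0 with h | h
    · exact absurd h hM0
    · simpa using h
  rw [h1, mul_zero]

/-- The degree of a relevant irreducible character is the index of `M` times a positive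
natural number dividing the order of `M`. -/
theorem relevant_degree {χ : N → ℂ} (hχ : Cfsg.IsIrrCharacter N χ)
    (hrel : ∃ k ∈ M, χ k ≠ χ 1) :
    ∃ d : ℕ, 0 < d ∧ χ 1 = (M.index : ℂ) * (d : ℂ) ∧ d ∣ Nat.card M := by
  classical
  have : Fintype M := Fintype.ofFinite M
  obtain ⟨φ, hφ, -, rfl⟩ := relevant_eq_ind M hC hχ hrel
  obtain ⟨d, hd, hd1, hdvd⟩ := irr_degree_nat_dvd hφ
  exact ⟨d, hd, by rw [indFun_one, hd1], hdvd⟩

/-- Two distinct relevant irreducible characters: the first is not constant on the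
non-identity elements of `M`. -/
theorem relevant_not_const {χ ξ : N → ℂ} (hχ : Cfsg.IsIrrCharacter N χ)
    (hrel : ∃ k ∈ M, χ k ≠ χ 1) (hξ : Cfsg.IsIrrCharacter N ξ) (hrelξ : ∃ k ∈ M, ξ k ≠ ξ 1)
    (hne : χ ≠ ξ) : ∃ a ∈ M, ∃ b ∈ M, a ≠ 1 ∧ b ≠ 1 ∧ χ a ≠ χ b := by
  classical
  have : Fintype M := Fintype.ofFinite M
  by_contra hcon
  push Not at hcon
  obtain ⟨k₀, hk₀, hk₀ne⟩ := hrel
  have hk₀1 : k₀ ≠ 1 := fun h => hk₀ne (by rw [h])
  have hconst : ∀ k ∈ M, k ≠ 1 → χ k = χ k₀ := fun k hk hk1 => hcon k hk k₀ hk₀ hk1 hk₀1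
  have hsumχ := relevant_sum_eq_zero M hC hχ ⟨k₀, hk₀, hk₀ne⟩
  have hsumξ := relevant_sum_eq_zero M hC hξ hrelξ
  have horth : Cfsg.classInner χ ξ = 0 := classInner_irr_ne hχ hξ hne
  -- the inner product as a sum over M
  have hsumN : ∑ n : N, χ n * (starRingEnd ℂ) (ξ n) = ∑ k : M, χ (k : N) * (starRingEnd ℂ) (ξ (k : N)) := by
    have h1 : ∑ n ∈ Finset.univ.filter (fun n : N => n ∈ M), χ n * (starRingEnd ℂ) (ξ n) =
        ∑ n : N, χ n * (starRingEnd ℂ) (ξ n) := by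
      apply Finset.sum_filter_of_ne
      intro n _ hn
      by_contra hnM
      apply hn
      rw [relevant_vanish M hC hχ ⟨k₀, hk₀, hk₀ne⟩ hnM, zero_mul]
    rw [← h1]
    exact Finset.sum_subtype (Finset.univ.filter (fun n : N => n ∈ M)) (by simp) _
  have h0 : ∑ k : M, χ (k : N) * (starRingEnd ℂ) (ξ (k : N)) = 0 := by
    rw [← hsumN]
    unfold Cfsg.classInner at horth
    have hN0 : (Nat.card N : ℂ)⁻¹ ≠ 0 := by
      have : Nat.card N ≠ 0 := Nat.card_pos.ne'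
      exact inv_ne_zero (by exact_mod_cast this)
    rcases mul_eq_zero.mp horth with h | h
    · exact absurd h hN0
    · exact h
  -- split off the identity
  have hsplit1 : ∑ k : M, χ (k : N) = χ 1 + ((Nat.card M : ℂ) - 1) * χ k₀ := by
    rw [← Finset.add_sum_erase Finset.univ _ (Finset.mem_univ (1 : M))]
    congr 1
    rw [Finset.sum_congr rfl (fun (k : M) hk => hconst (k : N) k.2
      (fun h => (Finset.mem_erase.mp hk).1 (Subtype.ext h))), Finset.sum_const,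
      Finset.card_erase_of_mem (Finset.mem_univ _), Finset.card_univ, nsmul_eq_mul,
      ← Nat.card_eq_fintype_card]
    have hpos : 1 ≤ Nat.card M := Nat.card_pos
    push_cast [Nat.cast_sub hpos]
    ring
  have hsplit2 : ∑ k : M, χ (k : N) * (starRingEnd ℂ) (ξ (k : N)) =
      χ 1 * (starRingEnd ℂ) (ξ 1) + χ k₀ * (-(starRingEnd ℂ) (ξ 1)) := by
    rw [← Finset.add_sum_erase Finset.univ _ (Finset.mem_univ (1 : M))]
    congr 1
    rw [Finset.sum_congr rfl (fun (k : M) hk => by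
      rw [hconst (k : N) k.2 (fun h => (Finset.mem_erase.mp hk).1 (Subtype.ext h))]),
      ← Finset.mul_sum]
    congr 1
    have h3 : ∑ k : M, (starRingEnd ℂ) (ξ (k : N)) = 0 := by
      rw [← map_sum, hsumξ, map_zero]
    rw [← Finset.add_sum_erase Finset.univ _ (Finset.mem_univ (1 : M))] at h3
    have h4 : ∑ k ∈ Finset.univ.erase (1 : M), (starRingEnd ℂ) (ξ (k : N)) =
        -(starRingEnd ℂ) (ξ ((1 : M) : N)) := by
      linear_combination h3
    exact h4
  rw [hsplit1] at hsumχ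
  rw [hsplit2] at h0
  obtain ⟨dξ, hdξ, hdξ1⟩ := exists_pos_nat_degree hξ
  obtain ⟨dχ, hdχ, hdχ1⟩ := exists_pos_nat_degree hχ
  rw [hdξ1] at h0
  simp only [Complex.conj_natCast] at h0
  have hdξ0 : (dξ : ℂ) ≠ 0 := by exact_mod_cast hdξ.ne'
  have h5 : χ 1 = χ k₀ := by
    have : (dξ : ℂ) * (χ 1 - χ k₀) = 0 := by linear_combination h0
    rcases mul_eq_zero.mp this with h | h
    · exact absurd h hdξ0
    · exact sub_eq_zero.mp h
  exact hk₀ne h5.symm

/-- The squares of the degrees of the irrelevant irreducible characters sum to the index of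
`M`. -/
theorem sum_irrelevant_sq [Fintype (Cfsg.IrrCharacter N)]
    [DecidablePred fun μ : Cfsg.IrrCharacter N => ∃ k ∈ M, (μ : N → ℂ) k ≠ (μ : N → ℂ) 1] :
    ∑ μ : Cfsg.IrrCharacter N, (if ∃ k ∈ M, (μ : N → ℂ) k ≠ (μ : N → ℂ) 1 then (0 : ℂ)
      else (μ : N → ℂ) 1 * (μ : N → ℂ) 1) = (M.index : ℂ) := by
  classical
  have : Fintype M := Fintype.ofFinite M
  have hreal : ∀ μ : Cfsg.IrrCharacter N, (starRingEnd ℂ) ((μ : N → ℂ) 1) = (μ : N → ℂ) 1 := by
    intro μ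
    rw [Cfsg.Agent.Lib.helper83.irr_one_eq_charDegree]
    simp
  -- the double sum, first way
  have h1 : ∑ k : M, ∑ μ : Cfsg.IrrCharacter N, (μ : N → ℂ) (k : N) * (μ : N → ℂ) 1 =
      (Nat.card N : ℂ) := by
    rw [Finset.sum_eq_single (1 : M)]
    · exact Cfsg.Agent.Lib.helper83.sum_irr_one_sq
    · intro k _ hk
      have hk1 : (k : N) ≠ 1 := fun h => hk (Subtype.ext h)
      have h := Cfsg.Agent.Lib.helper83.second_orthogonality_of_not_isConj (G := N)
        (g := (k : N)) (h := 1) (fun hc => hk1 (isConj_one_left.mp hc))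
      rw [← h]
      apply Finset.sum_congr rfl
      intro μ _
      rw [hreal]
    · intro h
      exact absurd (Finset.mem_univ _) h
  -- second way
  have h2 : ∑ k : M, ∑ μ : Cfsg.IrrCharacter N, (μ : N → ℂ) (k : N) * (μ : N → ℂ) 1 =
      (Nat.card M : ℂ) * ∑ μ : Cfsg.IrrCharacter N,
        (if ∃ k ∈ M, (μ : N → ℂ) k ≠ (μ : N → ℂ) 1 then (0 : ℂ)
          else (μ : N → ℂ) 1 * (μ : N → ℂ) 1) := by
    rw [Finset.sum_comm, Finset.mul_sum]
    apply Finset.sum_congr rfl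
    intro μ _
    rw [← Finset.sum_mul]
    by_cases hrel : ∃ k ∈ M, (μ : N → ℂ) k ≠ (μ : N → ℂ) 1
    · rw [if_pos hrel, relevant_sum_eq_zero M hC μ.2 hrel]
      ring
    · rw [if_neg hrel]
      push Not at hrel
      rw [Finset.sum_congr rfl (fun (k : M) _ => hrel (k : N) k.2), Finset.sum_const,
        Finset.card_univ, nsmul_eq_mul, ← Nat.card_eq_fintype_card]
      ring
  have hidx : (Nat.card N : ℂ) = (M.index : ℂ) * (Nat.card M : ℂ) := by
    have := M.index_mul_card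
    exact_mod_cast this.symm
  have hM0 : (Nat.card M : ℂ) ≠ 0 := by
    have : Nat.card M ≠ 0 := Nat.card_pos.ne'
    exact_mod_cast this
  rw [h1, hidx] at h2
  have h3 : (Nat.card M : ℂ) * (M.index : ℂ) = (Nat.card M : ℂ) * ∑ μ : Cfsg.IrrCharacter N,
        (if ∃ k ∈ M, (μ : N → ℂ) k ≠ (μ : N → ℂ) 1 then (0 : ℂ)
          else (μ : N → ℂ) 1 * (μ : N → ℂ) 1) := by
    rw [← h2]; ring
  exact (mul_left_cancel₀ hM0 h3).symm

/-- The squares of the degrees of the relevant irreducible characters sum to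
`[N : M] (|M| - 1)`. -/
theorem sum_relevant_sq [Fintype (Cfsg.IrrCharacter N)]
    [DecidablePred fun μ : Cfsg.IrrCharacter N => ∃ k ∈ M, (μ : N → ℂ) k ≠ (μ : N → ℂ) 1] :
    ∑ μ : Cfsg.IrrCharacter N, (if ∃ k ∈ M, (μ : N → ℂ) k ≠ (μ : N → ℂ) 1 then
      (μ : N → ℂ) 1 * (μ : N → ℂ) 1 else (0 : ℂ)) =
      (M.index : ℂ) * ((Nat.card M : ℂ) - 1) := by
  have h1 := sum_irrelevant_sq M hC
  have h2 : ∑ μ : Cfsg.IrrCharacter N, (μ : N → ℂ) 1 * (μ : N → ℂ) 1 = (Nat.card N : ℂ) :=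
    Cfsg.Agent.Lib.helper83.sum_irr_one_sq
  have hidx : (Nat.card N : ℂ) = (M.index : ℂ) * (Nat.card M : ℂ) := by
    have := M.index_mul_card
    exact_mod_cast this.symm
  have h3 : ∑ μ : Cfsg.IrrCharacter N, (if ∃ k ∈ M, (μ : N → ℂ) k ≠ (μ : N → ℂ) 1 then
      (μ : N → ℂ) 1 * (μ : N → ℂ) 1 else (0 : ℂ)) +
      ∑ μ : Cfsg.IrrCharacter N, (if ∃ k ∈ M, (μ : N → ℂ) k ≠ (μ : N → ℂ) 1 then (0 : ℂ)
      else (μ : N → ℂ) 1 * (μ : N → ℂ) 1) = (Nat.card N : ℂ) := by
    rw [← Finset.sum_add_distrib, ← h2]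
    apply Finset.sum_congr rfl
    intro μ _
    split_ifs <;> ring
  rw [h1, hidx] at h3
  linear_combination h3

/-- Integrality: a number `q` such that `q χ(1) / [N : M]` is an integer for every relevant
irreducible character `χ` is an integer (provided there is a relevant character). -/
theorem frob_integrality (q : ℂ)
    (hq : ∀ ξ : N → ℂ, Cfsg.IsIrrCharacter N ξ → (∃ k ∈ M, ξ k ≠ ξ 1) →
      ∃ z : ℤ, q * ξ 1 = (z : ℂ) * (M.index : ℂ))
    (hex : ∃ ξ : N → ℂ, Cfsg.IsIrrCharacter N ξ ∧ ∃ k ∈ M, ξ k ≠ ξ 1) : ∃ m : ℤ, q = m := by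
  classical
  have : Fintype (Cfsg.IrrCharacter N) := Fintype.ofFinite _
  have hidx0 : (M.index : ℂ) ≠ 0 := by
    have : M.index ≠ 0 := Subgroup.index_ne_zero_of_finite
    exact_mod_cast this
  -- q |M| is an integer
  obtain ⟨ξ₀, hξ₀, hrel₀⟩ := hex
  obtain ⟨d₀, hd₀, hd₀1, hd₀dvd⟩ := relevant_degree M hC hξ₀ hrel₀
  obtain ⟨z₀, hz₀⟩ := hq ξ₀ hξ₀ hrel₀
  obtain ⟨c₀, hc₀⟩ := hd₀dvd
  have hqd : q * (d₀ : ℂ) = (z₀ : ℂ) := by
    rw [hd₀1] at hz₀
    have : (M.index : ℂ) * (q * (d₀ : ℂ)) = (M.index : ℂ) * (z₀ : ℂ) := by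
      linear_combination hz₀
    exact mul_left_cancel₀ hidx0 this
  have hqM : q * (Nat.card M : ℂ) = ((z₀ * (c₀ : ℤ) : ℤ) : ℂ) := by
    rw [hc₀]
    push_cast
    rw [← hqd]
    ring
  -- q (|M| - 1) is an integer
  have hz : ∀ μ : Cfsg.IrrCharacter N, ∃ z : ℤ, (∃ k ∈ M, (μ : N → ℂ) k ≠ (μ : N → ℂ) 1) →
      q * (μ : N → ℂ) 1 = (z : ℂ) * (M.index : ℂ) := by
    intro μ
    by_cases hrel : ∃ k ∈ M, (μ : N → ℂ) k ≠ (μ : N → ℂ) 1
    · obtain ⟨z, hz⟩ := hq (μ : N → ℂ) μ.2 hrel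
      exact ⟨z, fun _ => hz⟩
    · exact ⟨0, fun h => absurd h hrel⟩
  choose z hz using hz
  have hsq := sum_relevant_sq M hC
  have hq1 : q * ((Nat.card M : ℂ) - 1) =
      ((∑ μ : Cfsg.IrrCharacter N, (if ∃ k ∈ M, (μ : N → ℂ) k ≠ (μ : N → ℂ) 1 then
        z μ * (Cfsg.charDegree (μ : N → ℂ) : ℤ) else 0) : ℤ) : ℂ) := by
    have h1 : (M.index : ℂ) * (q * ((Nat.card M : ℂ) - 1)) = (M.index : ℂ) *
        ((∑ μ : Cfsg.IrrCharacter N, (if ∃ k ∈ M, (μ : N → ℂ) k ≠ (μ : N → ℂ) 1 then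
        z μ * (Cfsg.charDegree (μ : N → ℂ) : ℤ) else 0) : ℤ) : ℂ) := by
      have e1 : (M.index : ℂ) * (q * ((Nat.card M : ℂ) - 1)) =
          q * ((M.index : ℂ) * ((Nat.card M : ℂ) - 1)) := by ring
      rw [e1, ← hsq, Finset.mul_sum]
      push_cast
      rw [Finset.mul_sum]
      apply Finset.sum_congr rfl
      intro μ _
      by_cases hrel : ∃ k ∈ M, (μ : N → ℂ) k ≠ (μ : N → ℂ) 1
      · rw [if_pos hrel, if_pos hrel, ← mul_assoc, hz μ hrel,
          Cfsg.Agent.Lib.helper83.irr_one_eq_charDegree]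
        push_cast
        ring
      · rw [if_neg hrel, if_neg hrel]
        simp
    exact mul_left_cancel₀ hidx0 h1
  refine ⟨z₀ * (c₀ : ℤ) - ∑ μ : Cfsg.IrrCharacter N,
    (if ∃ k ∈ M, (μ : N → ℂ) k ≠ (μ : N → ℂ) 1 then
      z μ * (Cfsg.charDegree (μ : N → ℂ) : ℤ) else 0), ?_⟩
  rw [Int.cast_sub, ← hqM, ← hq1]
  ring

end Normal

end Cfsg.Agent.Lib.helper32
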