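import Mathlib
import Cfsg.Prelude.Def_Characters
import Cfsg.Prelude.Def_OddOrderChar
import Cfsg.Agent.Lib.helper32.Coh11
import Cfsg.Agent.Lib.helper32.FrobKer
import Cfsg.Agent.Lib.helper82.CliffordCorr
import Cfsg.Agent.Lib.helper78.RealBlock
import Cfsg.Agent.S1536

/-!
# Frobenius groups in centraliser form (helper32)

`K` a normal subgroup of the finite group `L` such that the centraliser in `L` of every
non-identity element of `K` lies in `K`.
-/

set_option autoImplicit false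
set_option linter.unusedSectionVars false

namespace Cfsg.Agent.Lib.helper32

open Cfsg
open Cfsg.Agent.Lib.helper4
open scoped ComplexConjugate

universe u

/-- A conjugation-invariant set all of whose elements have centraliser of index divisible by `e`
has cardinality divisible by `e`. -/
theorem dvd_ncard_of_conj_invariant' {Λ : Type u} [Group Λ] [Finite Λ] (e : ℕ) :
    ∀ (T : Set Λ), (∀ g t, t ∈ T → g * t * g⁻¹ ∈ T) →
      (∀ t ∈ T, e ∣ (Subgroup.centralizer ({t} : Set Λ)).index) → e ∣ T.ncard := by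
  intro T
  induction' hn : T.ncard using Nat.strong_induction_on with n ih generalizing T
  intro hT he
  rcases T.eq_empty_or_nonempty with rfl | ⟨t, ht⟩
  · rw [Set.ncard_empty] at hn
    rw [← hn]; exact dvd_zero e
  · obtain ⟨C, hC⟩ : ∃ C : Set Λ, C = {x | IsConj x t} := ⟨_, rfl⟩
    have hCT : C ⊆ T := by
      intro x hx
      rw [hC] at hx
      obtain ⟨c, hc⟩ := isConj_iff.mp hx
      have : x = c⁻¹ * t * c⁻¹⁻¹ := by rw [← hc]; group
      rw [this]
      exact hT c⁻¹ t ht
    have hCcard : C.ncard = (Subgroup.centralizer ({t} : Set Λ)).index := by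
      rw [← card_isConj_eq_index t, hC, ← Nat.card_coe_set_eq]
      rfl
    have htC : t ∈ C := by rw [hC]; exact IsConj.refl t
    have hsplit := Set.ncard_sdiff_add_ncard_of_subset hCT (Set.toFinite T)
    have hCpos : 0 < C.ncard := Set.ncard_pos (Set.toFinite C) |>.mpr ⟨t, htC⟩
    have hlt : (T \ C).ncard < n := by omega
    have hdvd := ih (T \ C).ncard hlt (T \ C) rfl
      (by
        intro g x hx
        refine ⟨hT g x hx.1, fun h => hx.2 ?_⟩
        rw [hC] at h ⊢
        exact (isConj_iff.mpr ⟨g, rfl⟩ : IsConj x (g * x * g⁻¹)).trans h)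
      (fun x hx => he x hx.1)
    rw [← hn, ← hsplit, hCcard]
    exact Dvd.dvd.add hdvd (he t ht)

section FrobC

variable {L : Type u} [Group L] (K : Subgroup L) [hK : K.Normal]

/-- For `x ∉ K` the commutator map `k ↦ x k x⁻¹ k⁻¹` is injective on `K`. -/
theorem frobC_inj (hC : ∀ k ∈ K, k ≠ 1 → ∀ x : L, x * k = k * x → x ∈ K) {x : L} (hx : x ∉ K)
    {a b : L} (ha : a ∈ K) (hb : b ∈ K) (h : x * a * x⁻¹ * a⁻¹ = x * b * x⁻¹ * b⁻¹) : a = b := by
  by_contra hab
  have hne : b⁻¹ * a ≠ 1 := by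
    intro h1
    apply hab
    have : a = b * (b⁻¹ * a) := by group
    rw [this, h1, mul_one]
  have hmem : b⁻¹ * a ∈ K := K.mul_mem (K.inv_mem hb) ha
  apply hx
  apply hC _ hmem hne x
  have h2 : a * x⁻¹ * a⁻¹ = b * x⁻¹ * b⁻¹ := by
    have : a * x⁻¹ * a⁻¹ = x⁻¹ * (x * a * x⁻¹ * a⁻¹) := by group
    rw [this, h]; group
  have h3 : (b⁻¹ * a) * x⁻¹ = x⁻¹ * (b⁻¹ * a) := by
    have : (b⁻¹ * a) * x⁻¹ = b⁻¹ * (a * x⁻¹ * a⁻¹) * a := by group
    rw [this, h2]; group
  have : x * (b⁻¹ * a) = x * ((b⁻¹ * a) * x⁻¹) * x := by group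
  rw [this, h3]; group

/-- Quotient form of the Frobenius condition: for `M ≤ K` normal in `L`, an element of `K`
outside `M` is centralised modulo `M` only from inside `K`. -/
theorem frobC_quot [Finite L] (hC : ∀ k ∈ K, k ≠ 1 → ∀ x : L, x * k = k * x → x ∈ K)
    (M : Subgroup L) [hM : M.Normal] (hMK : M ≤ K) :
    ∀ k ∈ K, k ∉ M → ∀ x : L, x * k * x⁻¹ * k⁻¹ ∈ M → x ∈ K := by
  intro k hk hkM x hx
  by_contra hxK
  have hf : ∀ m : M, x * (m : L) * x⁻¹ * (m : L)⁻¹ ∈ M := fun m =>
    M.mul_mem (hM.conj_mem m m.2 x) (M.inv_mem m.2)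
  have hinj : Function.Injective (fun m : M => (⟨x * (m : L) * x⁻¹ * (m : L)⁻¹, hf m⟩ : M)) := by
    intro a b hab
    have h1 : x * (a : L) * x⁻¹ * (a : L)⁻¹ = x * (b : L) * x⁻¹ * (b : L)⁻¹ :=
      congrArg Subtype.val hab
    exact Subtype.ext (frobC_inj K hC hxK (hMK a.2) (hMK b.2) h1)
  have hsurj := Finite.injective_iff_surjective.mp hinj
  obtain ⟨m, hm⟩ := hsurj ⟨x * k * x⁻¹ * k⁻¹, hx⟩
  have h1 : x * (m : L) * x⁻¹ * (m : L)⁻¹ = x * k * x⁻¹ * k⁻¹ := congrArg Subtype.val hm
  have h2 := frobC_inj K hC hxK (hMK m.2) hk h1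
  exact hkM (h2 ▸ m.2)

/-- `|L:K|` divides `|Z| - 1` for every normal subgroup `Z ≤ K` of `L`. -/
theorem frobC_index_dvd [Finite L] (hC : ∀ k ∈ K, k ≠ 1 → ∀ x : L, x * k = k * x → x ∈ K)
    (Z : Subgroup L) [hZ : Z.Normal] (hZK : Z ≤ K) : K.index ∣ Nat.card Z - 1 := by
  have key := dvd_ncard_of_conj_invariant' (Λ := L) K.index ((Z : Set L) \ {1})
    (by
      intro g t ht
      refine ⟨hZ.conj_mem t ht.1 g, ?_⟩
      intro h
      apply ht.2
      rw [Set.mem_singleton_iff] at h ⊢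
      have : t = g⁻¹ * (g * t * g⁻¹) * g := by group
      rw [this, h]; group)
    (by
      intro t ht
      apply Subgroup.index_dvd_of_le
      intro x hx
      rw [Subgroup.mem_centralizer_iff] at hx
      have h1 := hx t (Set.mem_singleton t)
      exact hC t (hZK ht.1) (fun h => ht.2 h) x h1.symm)
  have h1 : ((Z : Set L) \ {1}).ncard = Nat.card Z - 1 := by
    rw [Set.ncard_sdiff_singleton_of_mem (Z.one_mem), ← Nat.card_coe_set_eq]
    rfl
  rwa [h1] at key

/-- `|K|` and `|L:K|` are coprime. -/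
theorem frobC_coprime [Finite L] (hC : ∀ k ∈ K, k ≠ 1 → ∀ x : L, x * k = k * x → x ∈ K) :
    Nat.Coprime (Nat.card K) K.index := by
  have h := frobC_index_dvd K hC K le_rfl
  have hpos : 0 < Nat.card K := Nat.card_pos
  have h2 : Nat.Coprime (Nat.card K) (Nat.card K - 1) := by
    obtain ⟨n, hn⟩ : ∃ n, Nat.card K = n + 1 := ⟨Nat.card K - 1, by omega⟩
    rw [hn]
    simp
  exact Nat.Coprime.coprime_dvd_right h h2

/-- Functions induced from non-principal irreducible characters of `K` are irreducible. -/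
theorem frobC_irr [Fintype L] (hC : ∀ k ∈ K, k ≠ 1 → ∀ x : L, x * k = k * x → x ∈ K)
    {θ : K → ℂ} (hθ : IsIrrCharacter K θ) (hne : θ ≠ fun _ => 1) :
    IsIrrCharacter L (indFun K θ) := by
  classical
  let _i : Fintype K := Fintype.ofFinite _
  have hcl : IsClassFunction K θ := isClassFunction_of_isIrrCharacter hθ
  have hT : K = helper82.inertia K θ := by
    apply le_antisymm (helper82.le_inertia K hcl)
    intro x hx
    rw [helper82.mem_inertia_iff] at hx
    have h1 := (Cfsg.Agent.S1536.result K (frobC_coprime K hC) x).mp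
      ⟨θ, hθ, hne, funext fun h => hx h⟩
    obtain ⟨h, hh, hh1, hcomm⟩ := h1
    exact hC h hh hh1 x hcomm
  have h2 := helper82.clifford_corr_irr K K le_rfl hθ hT hθ (by
    have h3 : (fun n : K => θ ⟨(n : L), n.2⟩) = θ := rfl
    rw [h3, classInner_irr_self hθ]
    exact one_ne_zero)
  exact h2.1

/-- In odd order, no function induced from a non-principal irreducible character of the proper
Frobenius kernel `K` is real. -/
theorem frobC_not_real [Fintype L] (hC : ∀ k ∈ K, k ≠ 1 → ∀ x : L, x * k = k * x → x ∈ K)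
    (hodd : Odd (Nat.card L)) (hKL : K < ⊤) {χ : L → ℂ} (hχ : χ ∈ inducedIrrAbove K ⊥) :
    conjFun χ ≠ χ := by
  classical
  obtain ⟨θ, hθ, hne, -, rfl⟩ := hχ
  intro hreal
  have hirr := frobC_irr K hC hθ hne
  have hcop : (Nat.card L).Coprime 2 := Nat.Coprime.symm (Nat.coprime_two_left.mpr hodd)
  have h1 := helper78.irr_eq_one_of_real_of_odd hcop ⟨indFun K θ, hirr⟩ (fun n => congrFun hreal n)
  obtain ⟨x, -, hx⟩ := SetLike.exists_of_lt hKL
  have h2 : indFun K θ x = 1 := by
    have h3 := congrArg (fun φ : IrrCharacter L => (φ : L → ℂ) x) h1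
    simpa using h3
  rw [helper82.indFun_apply_not_mem K θ hx] at h2
  exact zero_ne_one h2

end FrobC

end Cfsg.Agent.Lib.helper32
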