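import Mathlib
import Cfsg.Prelude.Def_Characters
import Cfsg.Prelude.Def_OddOrderChar
import Cfsg.Prelude.Def_OddOrderLocal
import Cfsg.Agent.Lib.helper32.Sib1
import Cfsg.Agent.Lib.helper32.Coh8
import Cfsg.Agent.Lib.helper4.InductionTI
import Cfsg.Agent.Lib.helper43.NormalizerExt
import Cfsg.Agent.S1514

/-!
# Frobenius kernels that are TI-subgroups: the coherence system (helper32)

`FrobTI H L`: `H < L` subgroups of `G`, `H ≠ ⊥` normal in `L`, the centraliser in `L` of every
non-identity element of `H` lies in `H`, and `H` is a TI-subset of `G` with normaliser `L`.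
Induction from `L` to `G` is then an isometry on the integer combinations, vanishing at `1`, of
the characters of `L` induced from non-principal irreducible characters of `H`, and these
characters form a coherence system when `|L|` is odd.
-/

set_option autoImplicit false
set_option linter.unusedSectionVars false

namespace Cfsg.Agent.Lib.helper32

open Cfsg
open Cfsg.Agent.Lib.helper4
open scoped ComplexConjugate

universe u

/-- A Frobenius group `L` (in centraliser form) whose kernel `H` is a TI-subgroup of `G` with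
normaliser `L`. -/
structure FrobTI {G : Type u} [Group G] (H L : Subgroup G) : Prop where
  lt : H < L
  ne_bot : H ≠ ⊥
  normal : ∀ x ∈ L, ∀ h ∈ H, x * h * x⁻¹ ∈ H
  cent : ∀ h ∈ H, h ≠ 1 → ∀ x ∈ L, x * h = h * x → x ∈ H
  ti : IsTISubset (H : Set G)
  norm : Subgroup.normalizer (H : Set G) = L

section

variable {G : Type u} [Group G] {H L : Subgroup G}

theorem FrobTI.normalK (F : FrobTI H L) : (H.subgroupOf L).Normal := by
  constructor
  intro n hn g
  rw [Subgroup.mem_subgroupOf] at hn ⊢
  exact F.normal g g.2 n hn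

theorem FrobTI.centK (F : FrobTI H L) :
    ∀ k ∈ H.subgroupOf L, k ≠ 1 → ∀ x : L, x * k = k * x → x ∈ H.subgroupOf L := by
  intro k hk hk1 x hx
  rw [Subgroup.mem_subgroupOf] at hk ⊢
  refine F.cent k hk (fun h => hk1 (Subtype.ext h)) x x.2 ?_
  exact congrArg Subtype.val hx

theorem FrobTI.ltK (F : FrobTI H L) : H.subgroupOf L < ⊤ := by
  rw [lt_top_iff_ne_top]
  intro h
  rw [Subgroup.subgroupOf_eq_top] at h
  exact (not_le_of_gt F.lt) h

theorem FrobTI.ne_botK (F : FrobTI H L) : H.subgroupOf L ≠ ⊥ := by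
  intro h
  rw [Subgroup.subgroupOf_eq_bot] at h
  apply F.ne_bot
  have := F.lt.le
  rw [disjoint_iff, inf_eq_left.mpr this] at h
  exact h

end

/-- Members of `zspan S` vanish where all members of `S` vanish. -/
theorem zspan_apply_eq_zero {X : Type u} {S : Set (X → ℂ)} {x : X} (h : ∀ χ ∈ S, χ x = 0)
    {α : X → ℂ} (hα : α ∈ zspan S) : α x = 0 := by
  have hα' : α ∈ (Submodule.span ℤ S : Submodule ℤ (X → ℂ)) := hα
  clear hα
  induction hα' using Submodule.span_induction with
  | mem χ hχ => exact h χ hχ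
  | zero => rfl
  | add a b _ _ ha hb => rw [Pi.add_apply, ha, hb, add_zero]
  | smul n a _ ha => rw [Pi.smul_apply, ha, smul_zero]

section

variable {G : Type u} [Group G] [Fintype G] {H L : Subgroup G} [Fintype L]

/-- Induction from `L` to `G` is an isometry on integer combinations, vanishing at `1`, of
characters of `L` vanishing off the TI-subgroup `H`. -/
theorem sib_isometry (F : FrobTI H L) (S : Set (L → ℂ)) (hS : ∀ χ ∈ S, IsCharacter L χ)
    (hSH : ∀ χ ∈ S, ∀ x : L, (x : G) ∉ H → χ x = 0) :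
    IsLinearIsometryOn (zspanOn S {1}ᶜ) (fun α : L → ℂ => indFun L α) ∧
      ∀ α ∈ zspanOn S {1}ᶜ, indFun L α 1 = 0 := by
  classical
  have hvan : ∀ α ∈ zspanOn S {1}ᶜ, ∀ x : L, (x : G) ∉ H → α x = 0 := fun α hα x hx =>
    zspan_apply_eq_zero (fun χ hχ => hSH χ hχ x hx) hα.1
  have hgen : ∀ α ∈ zspanOn S {1}ᶜ, IsGeneralizedCharacter L α := fun α hα =>
    zspan_isGeneralizedCharacter hS hα.1
  have hone : ∀ α ∈ zspanOn S {1}ᶜ, α 1 = 0 := fun α hα =>
    apply_one_of_mem_zspanOn_compl_one hα
  refine ⟨⟨?_, ?_, ?_, ?_⟩, ?_⟩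
  · intro α _ β _
    exact indFun_add L α β
  · intro α _ n
    have h1 : n • α = (n : ℂ) • α := by
      funext x; simp
    have h2 : n • indFun L α = (n : ℂ) • indFun L α := by
      funext x; simp
    show indFun L (n • α) = n • indFun L α
    rw [h1, h2, indFun_smul]
  · intro α hα β hβ
    obtain ⟨-, -, -, -, hTI, hN⟩ := F
    subst hN
    exact classInner_indFun_TI (H : Set G) hTI α β
      (isClassFunction_of_isGeneralizedCharacter (hgen β hβ)) (hvan α hα) (hvan β hβ) (hone α hα)
  · intro α hα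
    exact isGeneralizedCharacter_indFun L (hgen α hα)
  · intro α hα
    rw [indFun_one, hone α hα, mul_zero]

/-- The coherence system of a TI Frobenius kernel in odd order. -/
theorem sib_cs (F : FrobTI H L) (hodd : Odd (Nat.card L)) :
    ∃ R : (L → ℂ) → Finset (G → ℂ), IsCoherenceSystem (inducedIrrAbove (H.subgroupOf L) ⊥)
      (fun α : L → ℂ => indFun L α) R := by
  classical
  have _iK := F.normalK
  have hC := F.centK
  have hirr : ∀ χ ∈ inducedIrrAbove (H.subgroupOf L) ⊥, IsIrrCharacter L χ := by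
    rintro χ ⟨θ, hθ, hne, -, rfl⟩
    exact frobC_irr _ hC hθ hne
  have hne : (inducedIrrAbove (H.subgroupOf L) ⊥).Nonempty := by
    obtain ⟨k, hk⟩ : ∃ k : H.subgroupOf L, k ≠ 1 := by
      by_contra hcon
      push Not at hcon
      apply F.ne_botK
      rw [Subgroup.eq_bot_iff_forall]
      intro x hx
      exact congrArg Subtype.val (hcon ⟨x, hx⟩)
    have h1 : ¬ ∀ χ : IrrCharacter (H.subgroupOf L),
        (χ : H.subgroupOf L → ℂ) k = (χ : H.subgroupOf L → ℂ) 1 :=
      fun h => hk (helper43.eq_one_of_forall_irr_eq k h)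
    push Not at h1
    obtain ⟨χ, hχ⟩ := h1
    refine ⟨indFun (H.subgroupOf L) (χ : H.subgroupOf L → ℂ), (χ : H.subgroupOf L → ℂ), χ.2, ?_,
      ?_, rfl⟩
    · intro h
      apply hχ
      rw [h]
    · intro a ha
      rw [Subgroup.mem_bot] at ha
      have : a = 1 := Subtype.ext ha
      rw [this]
  have hconj : ∀ χ ∈ inducedIrrAbove (H.subgroupOf L) ⊥,
      conjFun χ ∈ inducedIrrAbove (H.subgroupOf L) ⊥ ∧ conjFun χ ≠ χ := fun χ hχ =>
    ⟨inducedIrrAbove_conj_mem _ _ hχ, frobC_not_real _ hC hodd F.ltK hχ⟩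
  have hiso := sib_isometry F (inducedIrrAbove (H.subgroupOf L) ⊥)
    (fun χ hχ => isCharacter_of_isIrrCharacter (hirr χ hχ))
    (by
      rintro χ ⟨θ, -, -, -, rfl⟩ x hx
      exact helper82.indFun_apply_not_mem _ θ (fun h => hx (Subgroup.mem_subgroupOf.mp h)))
  exact Cfsg.Agent.S1514.result _ hne hirr hconj _ hiso.1 hiso.2

end

end Cfsg.Agent.Lib.helper32
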