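import Mathlib
import Cfsg.Prelude.Def_Characters
import Cfsg.Prelude.Def_OddOrderChar
import Cfsg.Agent.Lib.helper32.Coh9
import Cfsg.Agent.Lib.helper32.Coh11
import Cfsg.Agent.S1517

set_option autoImplicit false

/-!
# Tools for Peterfalvi (6.5) (helper32 library)

* `eq_of_sum_eq_card_mul`: complex numbers of norm `≤ c` summing to `card · c` all equal `c`;
* `irr_apply_eq_of_indFun_eq`, `indFun_eq_of_trivial_on`: the kernel of a character induced from
  a normal subgroup;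
* `inducedIrr_diff_eq`: `S ∖ S(Z)` is the set of irreducible characters nontrivial on `Z`, when
  its members are irreducible;
* `coherent_of_levels`: coherence by induction on the degree.
-/

namespace Cfsg.Agent.Lib.helper32

open Cfsg.Agent.Lib.helper4

universe u v

section Cplx

/-- If complex numbers of norm at most `c` sum to `card * c`, each of them equals `c`. -/
theorem eq_of_sum_eq_card_mul {ι : Type*} [Fintype ι] (w : ι → ℂ) (c : ℝ)
    (hle : ∀ i, ‖w i‖ ≤ c) (hsum : ∑ i, w i = (Fintype.card ι : ℂ) * c) (i : ι) : w i = c := by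
  have hre : ∀ j, (w j).re ≤ c := fun j => (Complex.re_le_norm _).trans (hle j)
  have h1 : ∑ j, (w j).re = ∑ _j : ι, c := by
    have h := congrArg Complex.re hsum
    rw [Complex.re_sum] at h
    rw [h]
    simp
  have h2 := (Finset.sum_eq_sum_iff_of_le (fun j _ => hre j)).mp h1 i (Finset.mem_univ i)
  have h3 : (w i).im = 0 := by
    have h4 := hle i
    have h5 : ‖w i‖ ^ 2 = (w i).re ^ 2 + (w i).im ^ 2 := by
      rw [Complex.sq_norm, Complex.normSq_apply]; ring
    have h6 : ‖w i‖ ^ 2 ≤ c ^ 2 := pow_le_pow_left₀ (norm_nonneg _) h4 2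
    rw [h5, h2] at h6
    nlinarith [sq_nonneg (w i).im]
  apply Complex.ext
  · simpa using h2
  · simpa using h3

end Cplx

section Ker

variable {L : Type u} [Group L] [Fintype L]

open Cfsg.Agent.Lib.helper82 in
/-- If the character induced from the irreducible character `θ` of the normal subgroup `K` takes
its degree at `z ∈ K`, so does `θ`. -/
theorem irr_apply_eq_of_indFun_eq (K : Subgroup L) [K.Normal] {θ : K → ℂ}
    (hθ : Cfsg.IsIrrCharacter K θ) (z : K)
    (h : Cfsg.indFun K θ (z : L) = Cfsg.indFun K θ 1) : θ z = θ 1 := by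
  classical
  have h1 := indFun_apply_mem K θ z
  have h2 := indFun_one K θ
  rw [h, h2] at h1
  have hcard : (Nat.card K : ℂ) ≠ 0 := by
    exact_mod_cast (Nat.card_pos (α := K)).ne'
  have hθ1 := irr_one_eq (⟨θ, hθ⟩ : Cfsg.IrrCharacter K)
  have hθ1' : θ 1 = (Cfsg.charDegree θ : ℂ) := hθ1
  have hsum : ∑ x : L, cconj K x θ z
      = (Fintype.card L : ℂ) * (((Cfsg.charDegree θ : ℕ) : ℝ) : ℂ) := by
    have h3 : ∑ x : L, cconj K x θ z = (Nat.card K : ℂ) * ((K.index : ℂ) * θ 1) := by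
      rw [h1]; field_simp
    rw [h3, hθ1', ← mul_assoc]
    have h4 := K.card_mul_index
    rw [Nat.card_eq_fintype_card (α := L)] at h4
    rw [← h4]
    push_cast
    ring
  have hle : ∀ x : L, ‖cconj K x θ z‖ ≤ ((Cfsg.charDegree θ : ℕ) : ℝ) := by
    intro x
    rw [cconj_def]
    exact irr_norm_le (⟨θ, hθ⟩ : Cfsg.IrrCharacter K) _
  have h5 := eq_of_sum_eq_card_mul (fun x : L => cconj K x θ z) _ hle hsum 1
  simp only [cconj_one] at h5
  rw [h5, hθ1']
  simp

open Cfsg.Agent.Lib.helper82 in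
/-- If `θ` is constant (equal to its degree) on the normal subgroup `Z` of `L`, so is the function
induced from the normal subgroup `K`. -/
theorem indFun_eq_of_trivial_on (K Z : Subgroup L) [K.Normal] [hZ : Z.Normal] (θ : K → ℂ)
    (hθ : ∀ a : K, (a : L) ∈ Z → θ a = θ 1) (z : K) (hz : (z : L) ∈ Z) :
    Cfsg.indFun K θ (z : L) = Cfsg.indFun K θ 1 := by
  classical
  rw [indFun_apply_mem K θ z, indFun_one]
  have h1 : ∀ x : L, cconj K x θ z = θ 1 := by
    intro x
    rw [cconj_apply]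
    apply hθ
    have h := hZ.conj_mem _ hz x⁻¹
    simpa using h
  rw [Finset.sum_congr rfl (fun x _ => h1 x), Finset.sum_const, Finset.card_univ, nsmul_eq_mul]
  have hcard : (Nat.card K : ℂ) ≠ 0 := by
    exact_mod_cast (Nat.card_pos (α := K)).ne'
  have h4 := K.card_mul_index
  rw [Nat.card_eq_fintype_card (α := L)] at h4
  rw [← h4]
  push_cast
  field_simp

open Cfsg.Agent.Lib.helper82 in
/-- Peterfalvi (6.5), first half: if all members of `S ∖ S(Z)` are irreducible, this set consists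
of the irreducible characters of `L` that are nontrivial on `Z`. -/
theorem inducedIrr_diff_eq (K Z : Subgroup L) [K.Normal] [Z.Normal] (hZK : Z ≤ K)
    (hirr : ∀ χ ∈ Cfsg.inducedIrrAbove K ⊥ \ Cfsg.inducedIrrAbove K Z, Cfsg.IsIrrCharacter L χ) :
    Cfsg.inducedIrrAbove K ⊥ \ Cfsg.inducedIrrAbove K Z
      = {χ | Cfsg.IsIrrCharacter L χ ∧ ∃ z ∈ Z, χ z ≠ χ 1} := by
  classical
  have hbot : ∀ θ : K → ℂ, ∀ b : K, (b : L) ∈ (⊥ : Subgroup L) → θ b = θ 1 := by
    intro θ b hb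
    rw [Subgroup.mem_bot] at hb
    have h : b = 1 := Subtype.ext hb
    rw [h]
  have key : ∀ θ : K → ℂ, Cfsg.IsIrrCharacter K θ → (∃ a : K, (a : L) ∈ Z ∧ θ a ≠ θ 1) →
      Cfsg.indFun K θ ∈ Cfsg.inducedIrrAbove K ⊥ \ Cfsg.inducedIrrAbove K Z := by
    rintro θ hθ ⟨a, haZ, ha⟩
    refine ⟨⟨θ, hθ, ?_, hbot θ, rfl⟩, ?_⟩
    · rintro rfl; exact ha rfl
    · rintro ⟨θ', hθ', -, hθ'Z, heq⟩
      apply ha
      apply irr_apply_eq_of_indFun_eq K hθ a
      rw [heq]
      exact indFun_eq_of_trivial_on K Z θ' hθ'Z a haZ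
  ext χ
  constructor
  · rintro ⟨⟨θ, hθ, hθ1, -, rfl⟩, hnot⟩
    refine ⟨hirr _ ⟨⟨θ, hθ, hθ1, hbot θ, rfl⟩, hnot⟩, ?_⟩
    by_contra hcon
    push Not at hcon
    apply hnot
    refine ⟨θ, hθ, hθ1, ?_, rfl⟩
    intro a haZ
    exact irr_apply_eq_of_indFun_eq K hθ a (hcon a haZ)
  · rintro ⟨hχ, z, hz, hχz⟩
    let _i : Fintype (Cfsg.IrrCharacter K) := Fintype.ofFinite _
    obtain ⟨θ, hθ, e, he, he0⟩ := exists_constituent_restrict K hχ
    have hdec := clifford_decomp K hχ hθ e he he0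
    have hzK : z ∈ K := hZK hz
    have h1 := hdec ⟨z, hzK⟩
    have h2 := hdec 1
    have h3 : ∃ φ ∈ conjOrbit K θ, (φ : K → ℂ) ⟨z, hzK⟩ ≠ (φ : K → ℂ) 1 := by
      by_contra hcon
      push Not at hcon
      apply hχz
      have e1 : χ z = χ ((⟨z, hzK⟩ : K) : L) := rfl
      have e2 : χ 1 = χ ((1 : K) : L) := rfl
      rw [e1, h1, e2, h2, Finset.sum_congr rfl hcon]
    obtain ⟨φ, hφ, hφz⟩ := h3
    obtain ⟨x, hx⟩ := (mem_conjOrbit K θ φ).mp hφ
    have hmem := key φ φ.2 ⟨⟨z, hzK⟩, hz, hφz⟩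
    have hirrφ := hirr _ hmem
    have hcf := isClassFunction_of_isIrrCharacter hχ
    have hinner : Cfsg.classInner (Cfsg.indFun K (φ : K → ℂ)) χ ≠ 0 := by
      rw [frobenius_reciprocity K (φ : K → ℂ) hcf, ← classInner_conj_symm, hx,
        classInner_restrict_cconj K hcf x θ, he]
      simpa using he0
    have heq : Cfsg.indFun K (φ : K → ℂ) = χ := by
      by_contra hne
      exact hinner (classInner_irr_ne hirrφ hχ hne)
    rw [← heq]; exact hmem

end Ker

section Levels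

variable {L : Type u} [Group L] [Fintype L] {G : Type v} [Group G] [Fintype G]

/-- Coherence by induction on the degree: if `χ₁ ∈ T` has minimal degree, dividing all degrees of
members of `T`, and `2 χ(1) χ₁(1) < Σ φ(1)²/‖φ‖²` (sum over the `φ ∈ T` of degree less than `χ(1)`)
for all `χ ∈ T` of larger degree, then `T` is coherent. -/
theorem coherent_of_levels (S : Set (L → ℂ)) (τ : (L → ℂ) → (G → ℂ))
    (R : (L → ℂ) → Finset (G → ℂ)) (hS : Cfsg.IsCoherenceSystem S τ R) (d n : (L → ℂ) → ℕ)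
    (hd : ∀ φ ∈ S, φ 1 = (d φ : ℂ)) (hn : ∀ φ ∈ S, Cfsg.classInner φ φ = (n φ : ℂ))
    (T : Finset (L → ℂ)) (hT : ↑T ⊆ S) (hTc : ∀ φ ∈ T, Cfsg.conjFun φ ∈ T)
    (χ₁ : L → ℂ) (hχ₁ : χ₁ ∈ T) (hmin : ∀ χ ∈ T, d χ₁ ≤ d χ) (hdvd : ∀ χ ∈ T, d χ₁ ∣ d χ)
    (hineq : ∀ χ ∈ T, d χ₁ < d χ →
      (2 * d χ * d χ₁ : ℝ) < ∑ φ ∈ T.filter (fun φ => d φ < d χ), ((d φ : ℝ) ^ 2 / (n φ : ℝ))) :
    Cfsg.IsCoherent (↑T : Set (L → ℂ)) {1}ᶜ τ := by
  classical
  have hdc : ∀ φ ∈ S, d (Cfsg.conjFun φ) = d φ := by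
    intro φ hφ
    have h1 := hd _ (hS.conj_mem φ hφ)
    have h2 := hd φ hφ
    have h3 : Cfsg.conjFun φ 1 = (starRingEnd ℂ) (φ 1) := rfl
    rw [h3, h2, Complex.conj_natCast] at h1
    exact_mod_cast h1.symm
  have key : ∀ D : ℕ,
      Cfsg.IsCoherent (↑(T.filter (fun φ => d φ ≤ d χ₁ + D)) : Set (L → ℂ)) {1}ᶜ τ := by
    intro D
    induction D with
    | zero =>
      have hsub : (↑(T.filter (fun φ => d φ ≤ d χ₁ + 0)) : Set (L → ℂ)) ⊆ S := by
        intro φ hφ
        exact hT (Finset.mem_coe.mpr (Finset.mem_filter.mp (Finset.mem_coe.mp hφ)).1)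
      have hcs : Cfsg.IsCoherenceSystem
          (↑(T.filter (fun φ => d φ ≤ d χ₁ + 0)) : Set (L → ℂ)) τ R := by
        refine cs_restrict hS hsub ⟨χ₁, ?_⟩ ?_
        · exact Finset.mem_coe.mpr (Finset.mem_filter.mpr ⟨hχ₁, le_rfl⟩)
        · intro χ hχ
          have hχ' := Finset.mem_filter.mp (Finset.mem_coe.mp hχ)
          refine Finset.mem_coe.mpr (Finset.mem_filter.mpr ⟨hTc χ hχ'.1, ?_⟩)
          rw [hdc χ (hT (Finset.mem_coe.mpr hχ'.1))]
          exact hχ'.2
      refine Cfsg.Agent.S1517.result _ τ R hcs ?_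
      intro φ hφ ψ hψ
      have hφ' := Finset.mem_filter.mp (Finset.mem_coe.mp hφ)
      have hψ' := Finset.mem_filter.mp (Finset.mem_coe.mp hψ)
      rw [hd φ (hsub hφ), hd ψ (hsub hψ)]
      have e1 := hmin φ hφ'.1
      have e2 := hmin ψ hψ'.1
      have e3 := hφ'.2
      have e4 := hψ'.2
      have : d φ = d ψ := by omega
      rw [this]
    | succ D ih =>
      have hunion : T.filter (fun φ => d φ ≤ d χ₁ + (D + 1))
          = T.filter (fun φ => d φ ≤ d χ₁ + D) ∪ T.filter (fun φ => d φ = d χ₁ + (D + 1)) := by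
        ext φ
        simp only [Finset.mem_filter, Finset.mem_union]
        constructor
        · rintro ⟨h1, h2⟩
          rcases Nat.lt_or_ge (d φ) (d χ₁ + (D + 1)) with h | h
          · left; exact ⟨h1, by omega⟩
          · right; exact ⟨h1, by omega⟩
        · rintro (⟨h1, h2⟩ | ⟨h1, h2⟩) <;> exact ⟨h1, by omega⟩
      rw [hunion]
      refine coherent_union_of_bound S τ R hS d n hd hn _ ?_ ?_ ih χ₁ ?_ _ ?_ ?_ ?_ ?_
      · intro φ hφ
        exact hT (Finset.mem_coe.mpr (Finset.mem_filter.mp (Finset.mem_coe.mp hφ)).1)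
      · intro φ hφ
        have hφ' := Finset.mem_filter.mp hφ
        refine Finset.mem_filter.mpr ⟨hTc φ hφ'.1, ?_⟩
        rw [hdc φ (hT (Finset.mem_coe.mpr hφ'.1))]
        exact hφ'.2
      · exact Finset.mem_filter.mpr ⟨hχ₁, Nat.le_add_right _ _⟩
      · intro φ hφ
        exact hT (Finset.mem_coe.mpr (Finset.mem_filter.mp (Finset.mem_coe.mp hφ)).1)
      · intro φ hφ
        have hφ' := Finset.mem_filter.mp hφ
        refine Finset.mem_filter.mpr ⟨hTc φ hφ'.1, ?_⟩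
        rw [hdc φ (hT (Finset.mem_coe.mpr hφ'.1))]
        exact hφ'.2
      · intro χ hχ
        exact hdvd χ (Finset.mem_filter.mp hχ).1
      · intro χ hχ
        have hχ' := Finset.mem_filter.mp hχ
        have h1 := hineq χ hχ'.1 (by omega)
        have h2 : T.filter (fun φ => d φ < d χ) = T.filter (fun φ => d φ ≤ d χ₁ + D) := by
          refine Finset.filter_congr fun φ _ => ?_
          rw [hχ'.2]
          omega
        rw [h2] at h1
        exact h1
  have hD : ∀ φ ∈ T, d φ ≤ d χ₁ + T.sup d :=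
    fun φ hφ => (Finset.le_sup hφ).trans (Nat.le_add_left _ _)
  have h := key (T.sup d)
  rwa [Finset.filter_true_of_mem hD] at h

end Levels

end Cfsg.Agent.Lib.helper32
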