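import Mathlib
import Cfsg.Prelude.Def_Characters
import Cfsg.Prelude.Def_OddOrderChar
import Cfsg.Agent.Lib.helper4.CharDecomp
import Cfsg.Agent.Lib.helper32.Coh
import Cfsg.Agent.Lib.helper32.Coh3
import Cfsg.Agent.Lib.helper32.Coh4
import Cfsg.Agent.Lib.helper32.Coh5
import Cfsg.Agent.S1531

/-!
# Sibley's coherence argument, abstract part (helper32)

Two disjoint coherent sets `X`, `Y` of irreducible characters of `N ≤ G`, all members of `X` of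
the same degree `e`, the degrees of the members of `Y` multiples of the smallest one `e q₀`.
If `q₀` divides `⟨α(η₀ - q₀ χ₀), σ χ₁⟩` for some `χ₁ ≠ χ₀` in `X`, then `X ∪ Y` is coherent.
-/

set_option autoImplicit false
set_option linter.unusedSectionVars false

namespace Cfsg.Agent.Lib.helper32

open Cfsg
open Cfsg.Agent.Lib.helper4
open scoped ComplexConjugate

universe u

theorem sib_arith (q₀ t b₀ n R' : ℤ) (hq : 0 < q₀) (hn : 2 ≤ n) (hR : 1 ≤ R')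
    (h : (q₀ * (t - 1)) ^ 2 + (n - 1) * (q₀ * t) ^ 2 + (b₀ ^ 2 + (b₀ - 1) ^ 2 * R') ≤ 1 + q₀ ^ 2) :
    (t = 0 ∨ (t = 1 ∧ n = 2)) ∧ (b₀ = 1 ∨ (b₀ = 0 ∧ R' = 1)) := by
  obtain ⟨c, hc⟩ : ∃ c : ℤ, c = b₀ - 1 := ⟨_, rfl⟩
  have hP : 0 ≤ t * (n * t - 2) := by
    rcases le_or_gt 1 t with h1 | h1
    · apply mul_nonneg (by omega)
      nlinarith
    · apply mul_nonneg_of_nonpos_of_nonpos (by omega)
      nlinarith
  have hQ : 0 ≤ c * (c * (1 + R') + 2) := by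
    rcases le_or_gt 0 c with h1 | h1
    · apply mul_nonneg h1
      nlinarith
    · apply mul_nonneg_of_nonpos_of_nonpos (by omega)
      nlinarith
  have hsum : q₀ ^ 2 * (t * (n * t - 2)) + c * (c * (1 + R') + 2) ≤ 0 := by
    rw [hc]
    nlinarith
  have hq2 : 0 < q₀ ^ 2 := by positivity
  have hP0 : t * (n * t - 2) = 0 := by
    by_contra hne
    have : 0 < t * (n * t - 2) := lt_of_le_of_ne hP (Ne.symm hne)
    nlinarith
  have hQ0 : c * (c * (1 + R') + 2) = 0 := by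
    rw [hP0] at hsum
    omega
  constructor
  · rcases mul_eq_zero.mp hP0 with h1 | h1
    · exact Or.inl h1
    · right
      have ht1 : 1 ≤ t := by
        by_contra hlt
        push Not at hlt
        nlinarith
      have ht2 : t ≤ 1 := by
        by_contra hlt
        push Not at hlt
        nlinarith
      have ht : t = 1 := le_antisymm ht2 ht1
      subst ht
      exact ⟨rfl, by omega⟩
  · rcases mul_eq_zero.mp hQ0 with h1 | h1
    · left; omega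
    · right
      have hc1 : c ≤ -1 := by
        by_contra hlt
        push Not at hlt
        nlinarith
      have hc2 : -1 ≤ c := by
        by_contra hlt
        push Not at hlt
        nlinarith
      have hc' : c = -1 := le_antisymm hc1 hc2
      rw [hc'] at h1
      constructor <;> omega

section

variable {G : Type u} [Group G] [Fintype G] (N : Subgroup G) [Fintype N]

/-- Swapping (with signs) the two members of a coherent pair of irreducible characters of the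
same degree gives another coherent isometry. -/
theorem sib_swap (X : Set (N → ℂ)) (χ₀ χ₁ : N → ℂ) (hX : X = {χ₀, χ₁}) (hne : χ₀ ≠ χ₁)
    (h₀ : IsIrrCharacter N χ₀) (h₁ : IsIrrCharacter N χ₁) (hdeg : χ₀ 1 = χ₁ 1)
    (α σ : (N → ℂ) → (G → ℂ)) (hσ : IsLinearIsometryOn (zspan X) σ)
    (hσα : ∀ θ ∈ zspanOn X {1}ᶜ, σ θ = α θ) :
    ∃ σ' : (N → ℂ) → (G → ℂ), IsLinearIsometryOn (zspan X) σ' ∧
      (∀ θ ∈ zspanOn X {1}ᶜ, σ' θ = α θ) ∧ σ' χ₀ = -σ χ₁ ∧ σ' χ₁ = -σ χ₀ := by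
  classical
  have hσ' : IsLinearIsometryOn ((Submodule.span ℤ X : Submodule ℤ (N → ℂ)) : Set (N → ℂ)) σ := hσ
  have hm₀ : χ₀ ∈ (Submodule.span ℤ X : Submodule ℤ (N → ℂ)) :=
    Submodule.subset_span (by rw [hX]; exact Set.mem_insert _ _)
  have hm₁ : χ₁ ∈ (Submodule.span ℤ X : Submodule ℤ (N → ℂ)) :=
    Submodule.subset_span (by rw [hX]; exact Set.mem_insert_of_mem _ rfl)
  have hXirr : ∀ χ ∈ X, IsIrrCharacter N χ := by
    intro χ hχ
    rw [hX] at hχ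
    rcases hχ with rfl | rfl
    · exact h₀
    · exact h₁
  have h00 : classInner (σ χ₀) (σ χ₀) = 1 := by
    rw [lio_inner hσ' hm₀ hm₀, classInner_irr_self h₀]
  have h11 : classInner (σ χ₁) (σ χ₁) = 1 := by
    rw [lio_inner hσ' hm₁ hm₁, classInner_irr_self h₁]
  have h01 : classInner (σ χ₀) (σ χ₁) = 0 := by
    rw [lio_inner hσ' hm₀ hm₁, classInner_irr_ne h₀ h₁ hne]
  have h10 : classInner (σ χ₁) (σ χ₀) = 0 := by
    rw [lio_inner hσ' hm₁ hm₀, classInner_irr_ne h₁ h₀ (Ne.symm hne)]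
  obtain ⟨τ₁, hτ₁, hτ₁eq⟩ := lio_of_orthogonal X (fun χ => if χ = χ₀ then -σ χ₁ else -σ χ₀)
    (fun χ hχ => by rw [classInner_irr_self (hXirr χ hχ)]; exact one_ne_zero)
    (fun χ hχ ψ hψ h => classInner_irr_ne (hXirr χ hχ) (hXirr ψ hψ) h)
    (by
      intro χ hχ
      by_cases h : χ = χ₀
      · simp only [h, if_true]
        rw [← lio_neg hσ' hm₁]
        exact lio_gen hσ' (Submodule.neg_mem _ hm₁)
      · simp only [h, if_false]
        rw [← lio_neg hσ' hm₀]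
        exact lio_gen hσ' (Submodule.neg_mem _ hm₀))
    (by
      intro χ hχ ψ hψ
      rw [hX] at hχ hψ
      rcases hχ with rfl | rfl <;> rcases hψ with rfl | rfl
      · simp only [if_true]
        rw [classInner_neg_left, classInner_neg_right, neg_neg, h11, classInner_irr_self h₀]
      · simp only [if_true, if_neg (Ne.symm hne)]
        rw [classInner_neg_left, classInner_neg_right, neg_neg, h10,
          classInner_irr_ne h₀ h₁ hne]
      · simp only [if_true, if_neg (Ne.symm hne)]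
        rw [classInner_neg_left, classInner_neg_right, neg_neg, h01,
          classInner_irr_ne h₁ h₀ (Ne.symm hne)]
      · simp only [if_neg (Ne.symm hne)]
        rw [classInner_neg_left, classInner_neg_right, neg_neg, h00, classInner_irr_self h₁])
  have hτ₁' : IsLinearIsometryOn ((Submodule.span ℤ X : Submodule ℤ (N → ℂ)) : Set (N → ℂ)) τ₁ :=
    hτ₁
  have e0 : τ₁ χ₀ = -σ χ₁ := by
    rw [hτ₁eq χ₀ (by rw [hX]; exact Set.mem_insert _ _)]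
    simp
  have e1 : τ₁ χ₁ = -σ χ₀ := by
    rw [hτ₁eq χ₁ (by rw [hX]; exact Set.mem_insert_of_mem _ rfl)]
    simp [Ne.symm hne]
  refine ⟨τ₁, hτ₁, ?_, e0, e1⟩
  intro θ hθ
  rw [← hσα θ hθ]
  have hθ1 : θ 1 = 0 := apply_one_of_mem_zspanOn_compl_one hθ
  have hθm : θ ∈ (Submodule.span ℤ ({χ₀, χ₁} : Set (N → ℂ)) : Submodule ℤ (N → ℂ)) := by
    have := hθ.1
    rw [hX] at this
    exact this
  obtain ⟨a, b, rfl⟩ := Submodule.mem_span_pair.mp hθm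
  obtain ⟨d, hd, hd1⟩ := exists_pos_nat_degree h₀
  have hab : b = -a := by
    have h1 : (a : ℂ) * χ₀ 1 + (b : ℂ) * χ₁ 1 = 0 := by
      simpa using hθ1
    rw [← hdeg, hd1] at h1
    have h2 : ((a + b : ℤ) : ℂ) * (d : ℂ) = 0 := by push_cast; linear_combination h1
    have h3 : ((a + b : ℤ) : ℂ) = 0 := by
      rcases mul_eq_zero.mp h2 with h | h
      · exact h
      · exfalso
        have : (d : ℂ) ≠ 0 := by exact_mod_cast hd.ne'
        exact this h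
    have h4 : a + b = 0 := by exact_mod_cast h3
    omega
  subst hab
  rw [lio_add hτ₁' (Submodule.smul_mem _ _ hm₀) (Submodule.smul_mem _ _ hm₁),
    lio_zsmul hτ₁' hm₀, lio_zsmul hτ₁' hm₁, e0, e1,
    lio_add hσ' (Submodule.smul_mem _ _ hm₀) (Submodule.smul_mem _ _ hm₁),
    lio_zsmul hσ' hm₀, lio_zsmul hσ' hm₁]
  funext g
  simp
  ring

/-- The final step of Sibley's argument: once `α(η₀ - q₀ χ₀)` has the expected inner products
with `σ χ₀` and `τ η₀`, the union is coherent. -/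
theorem sib_finish (S X Y : Set (N → ℂ)) (hirr : ∀ ξ ∈ S, IsIrrCharacter N ξ) (hXS : X ⊆ S)
    (hYS : Y ⊆ S) (hXY : Disjoint X Y) (hX2 : ∃ a ∈ X, ∃ b ∈ X, a ≠ b)
    (hY2 : ∃ a ∈ Y, ∃ b ∈ Y, a ≠ b) (α : (N → ℂ) → (G → ℂ))
    (hα : IsLinearIsometryOn (zspanOn S {1}ᶜ) α) (hα1 : ∀ θ ∈ zspanOn S {1}ᶜ, α θ 1 = 0)
    (σ τ : (N → ℂ) → (G → ℂ)) (hσ : IsLinearIsometryOn (zspan X) σ)
    (hσα : ∀ θ ∈ zspanOn X {1}ᶜ, σ θ = α θ) (hτ : IsLinearIsometryOn (zspan Y) τ)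
    (hτα : ∀ θ ∈ zspanOn Y {1}ᶜ, τ θ = α θ) (e q₀ : ℕ) (χ₀ η₀ : N → ℂ) (hχ₀ : χ₀ ∈ X)
    (hη₀ : η₀ ∈ Y) (hχ₀deg : χ₀ 1 = (e : ℂ)) (hη₀deg : η₀ 1 = ((e * q₀ : ℕ) : ℂ))
    (h1 : classInner (α (η₀ - (q₀ : ℤ) • χ₀)) (σ χ₀) = -(q₀ : ℂ))
    (h2 : classInner (α (η₀ - (q₀ : ℤ) • χ₀)) (τ η₀) = 1) :
    IsCoherent (X ∪ Y) {1}ᶜ α := by
  classical
  obtain ⟨horth, hfin⟩ := Cfsg.Agent.S1531.result N S X Y hirr hXS hYS hXY hX2 hY2 α hα hα1 σ τ
    hσ hσα hτ hτα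
  have hσ' : IsLinearIsometryOn ((Submodule.span ℤ X : Submodule ℤ (N → ℂ)) : Set (N → ℂ)) σ := hσ
  have hτ' : IsLinearIsometryOn ((Submodule.span ℤ Y : Submodule ℤ (N → ℂ)) : Set (N → ℂ)) τ := hτ
  have hα' : IsLinearIsometryOn ((zspanOnSub S {1}ᶜ : Submodule ℤ (N → ℂ)) : Set (N → ℂ)) α := hα
  have hmχ : χ₀ ∈ (Submodule.span ℤ X : Submodule ℤ (N → ℂ)) := Submodule.subset_span hχ₀
  have hmη : η₀ ∈ (Submodule.span ℤ Y : Submodule ℤ (N → ℂ)) := Submodule.subset_span hη₀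
  have hiχ := hirr χ₀ (hXS hχ₀)
  have hiη := hirr η₀ (hYS hη₀)
  have hne : η₀ ≠ χ₀ := fun h => Set.disjoint_left.mp hXY hχ₀ (h ▸ hη₀)
  have hβmem : η₀ - (q₀ : ℤ) • χ₀ ∈ zspanOn S {1}ᶜ := by
    apply mem_zspanOn_compl_one
    · exact zspan_sub_mem (mem_zspan_of_mem (hYS hη₀))
        (zspan_zsmul_mem (mem_zspan_of_mem (hXS hχ₀)) _)
    · simp [hχ₀deg, hη₀deg]; ring
  apply hfin
  refine ⟨χ₀, hχ₀, η₀, hη₀, ?_⟩
  have hnorm : classInner (α (η₀ - (q₀ : ℤ) • χ₀)) (α (η₀ - (q₀ : ℤ) • χ₀)) = 1 + (q₀ : ℂ) ^ 2 := by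
    rw [lio_inner hα' hβmem hβmem, classInner_sub_left, classInner_sub_right, classInner_sub_right,
      classInner_zsmul_left, classInner_zsmul_left, classInner_zsmul_right, classInner_zsmul_right,
      classInner_irr_self hiη, classInner_irr_self hiχ, classInner_irr_ne hiη hiχ hne,
      classInner_irr_ne hiχ hiη (Ne.symm hne)]
    push_cast
    ring
  have hV : classInner (τ η₀ - (q₀ : ℤ) • σ χ₀) (τ η₀ - (q₀ : ℤ) • σ χ₀) = 1 + (q₀ : ℂ) ^ 2 := by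
    rw [classInner_sub_left, classInner_sub_right, classInner_sub_right,
      classInner_zsmul_left, classInner_zsmul_left, classInner_zsmul_right, classInner_zsmul_right,
      lio_inner hτ' hmη hmη, lio_inner hσ' hmχ hmχ, horth χ₀ hχ₀ η₀ hη₀,
      classInner_comm_of_eq_zero (horth χ₀ hχ₀ η₀ hη₀),
      classInner_irr_self hiη, classInner_irr_self hiχ]
    push_cast
    ring
  have hΘV : classInner (α (η₀ - (q₀ : ℤ) • χ₀)) (τ η₀ - (q₀ : ℤ) • σ χ₀) = 1 + (q₀ : ℂ) ^ 2 := by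
    rw [classInner_sub_right, classInner_zsmul_right, h1, h2]
    push_cast
    ring
  have hVΘ : classInner (τ η₀ - (q₀ : ℤ) • σ χ₀) (α (η₀ - (q₀ : ℤ) • χ₀)) = 1 + (q₀ : ℂ) ^ 2 := by
    have h3 := classInner_conj_symm (α (η₀ - (q₀ : ℤ) • χ₀)) (τ η₀ - (q₀ : ℤ) • σ χ₀)
    rw [hΘV] at h3
    rw [← h3]
    simp
  have hΘ : α (η₀ - (q₀ : ℤ) • χ₀) = τ η₀ - (q₀ : ℤ) • σ χ₀ := by
    apply sub_eq_zero.mp
    apply classInner_self_eq_zero
    have hexp : ∀ f g : G → ℂ, classInner (f - g) (f - g)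
        = classInner f f - classInner f g - classInner g f + classInner g g := by
      intro f g
      rw [classInner_sub_left, classInner_sub_right, classInner_sub_right]
      ring
    rw [hexp, hnorm, hV, hΘV, hVΘ]
    ring
  have hL : χ₀ 1 • η₀ - η₀ 1 • χ₀ = (e : ℤ) • (η₀ - (q₀ : ℤ) • χ₀) := by
    rw [hχ₀deg, hη₀deg]
    funext g
    simp
    ring
  have hR : χ₀ 1 • τ η₀ - η₀ 1 • σ χ₀ = (e : ℤ) • (τ η₀ - (q₀ : ℤ) • σ χ₀) := by
    rw [hχ₀deg, hη₀deg]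
    funext g
    simp
    ring
  rw [hL, hR, lio_zsmul hα' hβmem, hΘ]

/-- **Sibley's argument** (abstract form): two disjoint coherent sets `X` (all of degree `e`)
and `Y` (degrees `e q₀ r`, with `η₀` of degree `e q₀`) have coherent union as soon as `q₀`
divides `⟨α(η₀ - q₀ χ₀), σ χ₁⟩` for some `χ₁ ≠ χ₀` in `X`. -/
theorem sibley_abstract (S : Set (N → ℂ)) (X Y : Finset (N → ℂ))
    (hirr : ∀ ξ ∈ S, IsIrrCharacter N ξ) (hXS : (↑X : Set (N → ℂ)) ⊆ S)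
    (hYS : (↑Y : Set (N → ℂ)) ⊆ S) (hXY : Disjoint X Y) (hX2 : 2 ≤ X.card) (hY2 : 2 ≤ Y.card)
    (α : (N → ℂ) → (G → ℂ)) (hα : IsLinearIsometryOn (zspanOn S {1}ᶜ) α)
    (hα1 : ∀ θ ∈ zspanOn S {1}ᶜ, α θ 1 = 0)
    (σ τ : (N → ℂ) → (G → ℂ)) (hσ : IsLinearIsometryOn (zspan (↑X : Set (N → ℂ))) σ)
    (hσα : ∀ θ ∈ zspanOn (↑X : Set (N → ℂ)) {1}ᶜ, σ θ = α θ)
    (hτ : IsLinearIsometryOn (zspan (↑Y : Set (N → ℂ))) τ)
    (hτα : ∀ θ ∈ zspanOn (↑Y : Set (N → ℂ)) {1}ᶜ, τ θ = α θ)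
    (e q₀ : ℕ) (r : (N → ℂ) → ℕ)
    (hXdeg : ∀ χ ∈ X, χ 1 = (e : ℂ)) (hYdeg : ∀ η ∈ Y, η 1 = ((e * q₀ * r η : ℕ) : ℂ))
    (χ₀ η₀ : N → ℂ) (hχ₀ : χ₀ ∈ X) (hη₀ : η₀ ∈ Y) (hr₀ : r η₀ = 1)
    (hdiv : ∃ χ₁ ∈ X, χ₁ ≠ χ₀ ∧ ∃ t : ℤ,
      classInner (α (η₀ - (q₀ : ℤ) • χ₀)) (σ χ₁) = (((q₀ : ℤ) * t : ℤ) : ℂ)) :
    IsCoherent ((↑X : Set (N → ℂ)) ∪ ↑Y) {1}ᶜ α := by
  classical
  have hσ' : IsLinearIsometryOn
      ((Submodule.span ℤ (↑X : Set (N → ℂ)) : Submodule ℤ (N → ℂ)) : Set (N → ℂ)) σ := hσ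
  have hτ' : IsLinearIsometryOn
      ((Submodule.span ℤ (↑Y : Set (N → ℂ)) : Submodule ℤ (N → ℂ)) : Set (N → ℂ)) τ := hτ
  have hα' : IsLinearIsometryOn ((zspanOnSub S {1}ᶜ : Submodule ℤ (N → ℂ)) : Set (N → ℂ)) α := hα
  have hXirr : ∀ χ ∈ X, IsIrrCharacter N χ := fun χ hχ => hirr χ (hXS (Finset.mem_coe.mpr hχ))
  have hYirr : ∀ η ∈ Y, IsIrrCharacter N η := fun η hη => hirr η (hYS (Finset.mem_coe.mpr hη))
  have hXm : ∀ χ ∈ X, χ ∈ (Submodule.span ℤ (↑X : Set (N → ℂ)) : Submodule ℤ (N → ℂ)) :=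
    fun χ hχ => Submodule.subset_span (Finset.mem_coe.mpr hχ)
  have hYm : ∀ η ∈ Y, η ∈ (Submodule.span ℤ (↑Y : Set (N → ℂ)) : Submodule ℤ (N → ℂ)) :=
    fun η hη => Submodule.subset_span (Finset.mem_coe.mpr hη)
  have hXYne : ∀ χ ∈ X, ∀ η ∈ Y, χ ≠ η := fun χ hχ η hη h =>
    Finset.disjoint_left.mp hXY hχ (h ▸ hη)
  have hXYset : Disjoint (↑X : Set (N → ℂ)) ↑Y := Finset.disjoint_coe.mpr hXY
  have hX2' : ∃ a ∈ (↑X : Set (N → ℂ)), ∃ b ∈ (↑X : Set (N → ℂ)), a ≠ b := by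
    obtain ⟨a, ha, b, hb, hab⟩ := Finset.one_lt_card.mp (by omega : 1 < X.card)
    exact ⟨a, Finset.mem_coe.mpr ha, b, Finset.mem_coe.mpr hb, hab⟩
  have hY2' : ∃ a ∈ (↑Y : Set (N → ℂ)), ∃ b ∈ (↑Y : Set (N → ℂ)), a ≠ b := by
    obtain ⟨a, ha, b, hb, hab⟩ := Finset.one_lt_card.mp (by omega : 1 < Y.card)
    exact ⟨a, Finset.mem_coe.mpr ha, b, Finset.mem_coe.mpr hb, hab⟩
  have hq₀r : ∀ η ∈ Y, 0 < q₀ ∧ 0 < r η := by
    intro η hη
    have h1 := signed_irr_degree_ne_zero η (Or.inl (hYirr η hη))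
    rw [hYdeg η hη] at h1
    have h2 : e * q₀ * r η ≠ 0 := by exact_mod_cast h1
    constructor
    · exact Nat.pos_of_ne_zero (fun h => h2 (by rw [h]; simp))
    · exact Nat.pos_of_ne_zero (fun h => h2 (by rw [h]; simp))
  have hq₀ : 0 < q₀ := (hq₀r η₀ hη₀).1
  have hη₀deg : η₀ 1 = ((e * q₀ : ℕ) : ℂ) := by rw [hYdeg η₀ hη₀, hr₀, mul_one]
  obtain ⟨β₀, hβ₀⟩ : ∃ β₀ : N → ℂ, β₀ = η₀ - (q₀ : ℤ) • χ₀ := ⟨_, rfl⟩
  have hβmem : β₀ ∈ zspanOn S {1}ᶜ := by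
    rw [hβ₀]
    apply mem_zspanOn_compl_one
    · exact zspan_sub_mem (mem_zspan_of_mem (hYS (Finset.mem_coe.mpr hη₀)))
        (zspan_zsmul_mem (mem_zspan_of_mem (hXS (Finset.mem_coe.mpr hχ₀))) _)
    · simp [hXdeg χ₀ hχ₀, hη₀deg]; ring
  obtain ⟨Θ, hΘ⟩ : ∃ Θ : G → ℂ, Θ = α β₀ := ⟨_, rfl⟩
  have hΘgen : IsGeneralizedCharacter G Θ := by rw [hΘ]; exact lio_gen hα' hβmem
  have hiχ := hXirr χ₀ hχ₀
  have hiη := hYirr η₀ hη₀
  have hβin : ∀ f : N → ℂ, classInner β₀ f = classInner η₀ f - (q₀ : ℂ) * classInner χ₀ f := by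
    intro f
    rw [hβ₀, classInner_sub_left, classInner_zsmul_left]
    push_cast
    ring
  have hnorm : classInner Θ Θ = 1 + (q₀ : ℂ) ^ 2 := by
    rw [hΘ, lio_inner hα' hβmem hβmem, hβin, hβ₀, classInner_sub_right, classInner_sub_right,
      classInner_zsmul_right, classInner_zsmul_right,
      classInner_irr_self hiη, classInner_irr_self hiχ,
      classInner_irr_ne hiη hiχ (Ne.symm (hXYne χ₀ hχ₀ η₀ hη₀)),
      classInner_irr_ne hiχ hiη (hXYne χ₀ hχ₀ η₀ hη₀)]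
    push_cast
    ring
  -- Claim A
  have hA : ∀ χ ∈ X, χ ≠ χ₀ → classInner Θ (σ χ) = classInner Θ (σ χ₀) + (q₀ : ℂ) := by
    intro χ hχ hne
    have hmem : χ - χ₀ ∈ zspanOn (↑X : Set (N → ℂ)) {1}ᶜ :=
      mem_zspanOn_compl_one (zspan_sub_mem (mem_zspan_of_mem (Finset.mem_coe.mpr hχ))
        (mem_zspan_of_mem (Finset.mem_coe.mpr hχ₀))) (by simp [hXdeg χ hχ, hXdeg χ₀ hχ₀])
    have h1 : σ (χ - χ₀) = σ χ - σ χ₀ := lio_sub hσ' (hXm χ hχ) (hXm χ₀ hχ₀)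
    have h2 := hσα _ hmem
    have h3 : classInner Θ (α (χ - χ₀)) = classInner β₀ (χ - χ₀) := by
      rw [hΘ]; exact lio_inner hα' hβmem (zspanOn_mono hXS _ hmem)
    rw [← h2, h1, classInner_sub_right, hβin, classInner_sub_right, classInner_sub_right,
      classInner_irr_ne hiη (hXirr χ hχ) (Ne.symm (hXYne χ hχ η₀ hη₀)),
      classInner_irr_ne hiη hiχ (Ne.symm (hXYne χ₀ hχ₀ η₀ hη₀)),
      classInner_irr_ne hiχ (hXirr χ hχ) (Ne.symm hne), classInner_irr_self hiχ] at h3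
    linear_combination h3
  -- Claim B
  have hB : ∀ η ∈ Y, η ≠ η₀ →
      classInner Θ (τ η) = (r η : ℂ) * (classInner Θ (τ η₀) - 1) := by
    intro η hη hne
    have hmem : η - (r η : ℤ) • η₀ ∈ zspanOn (↑Y : Set (N → ℂ)) {1}ᶜ :=
      mem_zspanOn_compl_one (zspan_sub_mem (mem_zspan_of_mem (Finset.mem_coe.mpr hη))
        (zspan_zsmul_mem (mem_zspan_of_mem (Finset.mem_coe.mpr hη₀)) _))
        (by simp [hYdeg η hη, hη₀deg]; ring)
    have h1 : τ (η - (r η : ℤ) • η₀) = τ η - (r η : ℤ) • τ η₀ := by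
      rw [lio_sub hτ' (hYm η hη) (Submodule.smul_mem _ _ (hYm η₀ hη₀)),
        lio_zsmul hτ' (hYm η₀ hη₀)]
    have h2 := hτα _ hmem
    have h3 : classInner Θ (α (η - (r η : ℤ) • η₀)) = classInner β₀ (η - (r η : ℤ) • η₀) := by
      rw [hΘ]; exact lio_inner hα' hβmem (zspanOn_mono hYS _ hmem)
    rw [← h2, h1, classInner_sub_right, classInner_zsmul_right, hβin, classInner_sub_right,
      classInner_sub_right, classInner_zsmul_right, classInner_zsmul_right,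
      classInner_irr_ne hiη (hYirr η hη) (Ne.symm hne), classInner_irr_self hiη,
      classInner_irr_ne hiχ (hYirr η hη) (hXYne χ₀ hχ₀ η hη),
      classInner_irr_ne hiχ hiη (hXYne χ₀ hχ₀ η₀ hη₀)] at h3
    push_cast at h3 ⊢
    linear_combination h3
  obtain ⟨a₀, ha₀⟩ := exists_int_classInner hΘgen (lio_gen hσ' (hXm χ₀ hχ₀))
  obtain ⟨b₀, hb₀⟩ := exists_int_classInner hΘgen (lio_gen hτ' (hYm η₀ hη₀))
  obtain ⟨χ₁, hχ₁, hχ₁ne, t, ht⟩ := hdiv
  rw [← hβ₀, ← hΘ] at ht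
  have ha₀t : a₀ = q₀ * (t - 1) := by
    have h := hA χ₁ hχ₁ hχ₁ne
    rw [ht, ha₀] at h
    have h' : ((a₀ : ℤ) : ℂ) = ((q₀ * (t - 1) : ℤ) : ℂ) := by
      push_cast at h ⊢
      linear_combination -h
    exact_mod_cast h'
  obtain ⟨horthXY, -⟩ := Cfsg.Agent.S1531.result N S ↑X ↑Y hirr hXS hYS hXYset hX2' hY2' α hα hα1
    σ τ hσ hσα hτ hτα
  have hbes := bessel_le (X.disjSum Y) (Sum.elim σ τ) Θ
    (Sum.elim (fun χ => if χ = χ₀ then a₀ else a₀ + q₀)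
      (fun η => if η = η₀ then b₀ else (r η : ℤ) * (b₀ - 1)))
    (by
      intro i hi j hj
      rcases i with χ | η <;> rcases j with χ' | η'
      · have hχ := Finset.inl_mem_disjSum.mp hi
        have hχ' := Finset.inl_mem_disjSum.mp hj
        simp only [Sum.elim_inl, Sum.inl.injEq]
        rw [lio_inner hσ' (hXm χ hχ) (hXm χ' hχ')]
        by_cases h : χ = χ'
        · rw [if_pos h, h, classInner_irr_self (hXirr χ' hχ')]
        · rw [if_neg h, classInner_irr_ne (hXirr χ hχ) (hXirr χ' hχ') h]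
      · have hχ := Finset.inl_mem_disjSum.mp hi
        have hη' := Finset.inr_mem_disjSum.mp hj
        simp only [Sum.elim_inl, Sum.elim_inr, reduceCtorEq, if_false]
        exact horthXY χ (Finset.mem_coe.mpr hχ) η' (Finset.mem_coe.mpr hη')
      · have hη := Finset.inr_mem_disjSum.mp hi
        have hχ' := Finset.inl_mem_disjSum.mp hj
        simp only [Sum.elim_inl, Sum.elim_inr, reduceCtorEq, if_false]
        exact classInner_comm_of_eq_zero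
          (horthXY χ' (Finset.mem_coe.mpr hχ') η (Finset.mem_coe.mpr hη))
      · have hη := Finset.inr_mem_disjSum.mp hi
        have hη' := Finset.inr_mem_disjSum.mp hj
        simp only [Sum.elim_inr, Sum.inr.injEq]
        rw [lio_inner hτ' (hYm η hη) (hYm η' hη')]
        by_cases h : η = η'
        · rw [if_pos h, h, classInner_irr_self (hYirr η' hη')]
        · rw [if_neg h, classInner_irr_ne (hYirr η hη) (hYirr η' hη') h])
    (by
      intro i hi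
      rcases i with χ | η
      · have hχ := Finset.inl_mem_disjSum.mp hi
        simp only [Sum.elim_inl]
        by_cases h : χ = χ₀
        · rw [if_pos h, h, ha₀]
        · rw [if_neg h, hA χ hχ h, ha₀]
          push_cast
          ring
      · have hη := Finset.inr_mem_disjSum.mp hi
        simp only [Sum.elim_inr]
        by_cases h : η = η₀
        · rw [if_pos h, h, hb₀]
        · rw [if_neg h, hB η hη h, hb₀]
          push_cast
          ring)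
  rw [Finset.sum_disjSum] at hbes
  simp only [Sum.elim_inl, Sum.elim_inr] at hbes
  have hsumX : ∑ χ ∈ X, (if χ = χ₀ then a₀ else a₀ + q₀) ^ 2
      = a₀ ^ 2 + ((X.card : ℤ) - 1) * (a₀ + q₀) ^ 2 := by
    rw [← Finset.add_sum_erase X _ hχ₀, if_pos rfl]
    congr 1
    rw [Finset.sum_congr rfl (fun χ hχ => by rw [if_neg (Finset.ne_of_mem_erase hχ)]),
      Finset.sum_const, Finset.card_erase_of_mem hχ₀, nsmul_eq_mul,
      Nat.cast_sub (by omega), Nat.cast_one]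
  obtain ⟨R', hR'⟩ : ∃ R' : ℤ, R' = ∑ η ∈ Y.erase η₀, (r η : ℤ) ^ 2 := ⟨_, rfl⟩
  have hsumY : ∑ η ∈ Y, (if η = η₀ then b₀ else (r η : ℤ) * (b₀ - 1)) ^ 2
      = b₀ ^ 2 + (b₀ - 1) ^ 2 * R' := by
    rw [← Finset.add_sum_erase Y _ hη₀, if_pos rfl, hR', Finset.mul_sum]
    congr 1
    apply Finset.sum_congr rfl
    intro η hη
    rw [if_neg (Finset.ne_of_mem_erase hη)]
    ring
  have hcardY : 1 ≤ (Y.erase η₀).card := by
    rw [Finset.card_erase_of_mem hη₀]; omega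
  have hterm : ∀ η ∈ Y.erase η₀, (1 : ℤ) ≤ (r η : ℤ) ^ 2 := by
    intro η hη
    have h1 := (hq₀r η (Finset.mem_of_mem_erase hη)).2
    have h2 : (1 : ℤ) ≤ (r η : ℤ) := by exact_mod_cast h1
    nlinarith
  have hR'1 : 1 ≤ R' := by
    obtain ⟨η₁, hη₁⟩ := Finset.card_pos.mp hcardY
    rw [hR']
    have h1 := Finset.single_le_sum (f := fun η => (r η : ℤ) ^ 2)
      (fun η _ => by positivity) hη₁
    exact (hterm η₁ hη₁).trans h1
  have hre : (classInner Θ Θ).re = ((1 + (q₀ : ℤ) ^ 2 : ℤ) : ℝ) := by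
    rw [hnorm]
    have : (1 + (q₀ : ℂ) ^ 2) = (((1 + (q₀ : ℤ) ^ 2 : ℤ) : ℝ) : ℂ) := by push_cast; ring
    rw [this, Complex.ofReal_re]
  rw [hre] at hbes
  have hbesZ : ∑ χ ∈ X, (if χ = χ₀ then a₀ else a₀ + q₀) ^ 2
      + ∑ η ∈ Y, (if η = η₀ then b₀ else (r η : ℤ) * (b₀ - 1)) ^ 2 ≤ 1 + (q₀ : ℤ) ^ 2 := by
    exact_mod_cast hbes
  rw [hsumX, hsumY, ha₀t] at hbesZ
  have harith := sib_arith q₀ t b₀ X.card R' (by exact_mod_cast hq₀) (by exact_mod_cast hX2) hR'1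
    (by
      have heq : ((q₀ : ℤ) * (t - 1)) ^ 2 + ((X.card : ℤ) - 1) * ((q₀ : ℤ) * t) ^ 2
          + (b₀ ^ 2 + (b₀ - 1) ^ 2 * R')
          = ((q₀ : ℤ) * (t - 1)) ^ 2 + ((X.card : ℤ) - 1) * ((q₀ : ℤ) * (t - 1) + q₀) ^ 2
            + (b₀ ^ 2 + (b₀ - 1) ^ 2 * R') := by ring
      rw [heq]
      exact hbesZ)
  have hXside : ∃ σ₂ : (N → ℂ) → (G → ℂ), IsLinearIsometryOn (zspan (↑X : Set (N → ℂ))) σ₂ ∧
      (∀ θ ∈ zspanOn (↑X : Set (N → ℂ)) {1}ᶜ, σ₂ θ = α θ) ∧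
      classInner Θ (σ₂ χ₀) = -(q₀ : ℂ) := by
    rcases harith.1 with ht0 | ⟨ht1, hn2⟩
    · refine ⟨σ, hσ, hσα, ?_⟩
      rw [ha₀, ha₀t, ht0]
      push_cast
      ring
    · have hXeq : (↑X : Set (N → ℂ)) = {χ₀, χ₁} := by
        have hsub : ({χ₀, χ₁} : Finset (N → ℂ)) ⊆ X := by
          intro x hx
          rw [Finset.mem_insert, Finset.mem_singleton] at hx
          rcases hx with rfl | rfl <;> assumption
        have hcard : ({χ₀, χ₁} : Finset (N → ℂ)).card = 2 := Finset.card_pair (Ne.symm hχ₁ne)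
        have hXc : X.card = 2 := by exact_mod_cast hn2
        have := Finset.eq_of_subset_of_card_le hsub (by rw [hcard, hXc])
        rw [← this]
        simp
      obtain ⟨σ', hσ'iso, hσ'α, hσ'0, -⟩ := sib_swap N ↑X χ₀ χ₁ hXeq (Ne.symm hχ₁ne)
        (hXirr χ₀ hχ₀) (hXirr χ₁ hχ₁) (by rw [hXdeg χ₀ hχ₀, hXdeg χ₁ hχ₁]) α σ hσ hσα
      refine ⟨σ', hσ'iso, hσ'α, ?_⟩
      rw [hσ'0, classInner_neg_right, ht, ht1]
      push_cast
      ring
  have hYside : ∃ τ₂ : (N → ℂ) → (G → ℂ), IsLinearIsometryOn (zspan (↑Y : Set (N → ℂ))) τ₂ ∧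
      (∀ θ ∈ zspanOn (↑Y : Set (N → ℂ)) {1}ᶜ, τ₂ θ = α θ) ∧
      classInner Θ (τ₂ η₀) = 1 := by
    rcases harith.2 with hb1 | ⟨hb0, hR1⟩
    · refine ⟨τ, hτ, hτα, ?_⟩
      rw [hb₀, hb1]
      simp
    · obtain ⟨η₁, hη₁⟩ := Finset.card_pos.mp hcardY
      have hη₁Y := Finset.mem_of_mem_erase hη₁
      have hη₁ne := Finset.ne_of_mem_erase hη₁
      have hsplit := Finset.add_sum_erase (Y.erase η₀) (fun η => (r η : ℤ) ^ 2) hη₁
      rw [← hR', hR1] at hsplit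
      have hrestnn : 0 ≤ ∑ η ∈ (Y.erase η₀).erase η₁, (r η : ℤ) ^ 2 :=
        Finset.sum_nonneg (fun η _ => by positivity)
      have h1 := hterm η₁ hη₁
      have hrη₁sq : (r η₁ : ℤ) ^ 2 = 1 := by
        omega
      have hrη₁ : r η₁ = 1 := by
        have h2 : (0 : ℤ) ≤ (r η₁ : ℤ) := by positivity
        have h3 : (r η₁ : ℤ) = 1 := by nlinarith
        exact_mod_cast h3
      have hrest : (Y.erase η₀).erase η₁ = ∅ := by
        by_contra hne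
        obtain ⟨η₂, hη₂⟩ := Finset.nonempty_iff_ne_empty.mpr hne
        have h2 := Finset.single_le_sum (f := fun η => (r η : ℤ) ^ 2)
          (fun η _ => by positivity) hη₂
        have h3 := hterm η₂ (Finset.mem_of_mem_erase hη₂)
        omega
      have hYeq : (↑Y : Set (N → ℂ)) = {η₀, η₁} := by
        ext η
        simp only [Finset.mem_coe, Set.mem_insert_iff, Set.mem_singleton_iff]
        constructor
        · intro hη
          by_cases h0 : η = η₀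
          · left; exact h0
          · right
            by_contra h1'
            have : η ∈ (Y.erase η₀).erase η₁ :=
              Finset.mem_erase.mpr ⟨h1', Finset.mem_erase.mpr ⟨h0, hη⟩⟩
            rw [hrest] at this
            exact absurd this (Finset.notMem_empty _)
        · rintro (rfl | rfl) <;> assumption
      obtain ⟨τ', hτ'iso, hτ'α, hτ'0, -⟩ := sib_swap N ↑Y η₀ η₁ hYeq (Ne.symm hη₁ne)
        (hYirr η₀ hη₀) (hYirr η₁ hη₁Y) (by rw [hη₀deg, hYdeg η₁ hη₁Y, hrη₁, mul_one]) α τ hτ hτα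
      refine ⟨τ', hτ'iso, hτ'α, ?_⟩
      rw [hτ'0, classInner_neg_right, hB η₁ hη₁Y hη₁ne, hb₀, hb0, hrη₁]
      simp
  obtain ⟨σ₂, h1, h2, h3⟩ := hXside
  obtain ⟨τ₂, h4, h5, h6⟩ := hYside
  rw [hΘ, hβ₀] at h3 h6
  exact sib_finish N S ↑X ↑Y hirr hXS hYS hXYset hX2' hY2' α hα hα1 σ₂ τ₂ h1 h2 h4 h5 e q₀ χ₀ η₀
    (Finset.mem_coe.mpr hχ₀) (Finset.mem_coe.mpr hη₀) (hXdeg χ₀ hχ₀) hη₀deg h3 h6

end

end Cfsg.Agent.Lib.helper32
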