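import Mathlib

set_option autoImplicit false

/-!
# Orbit sums, rational algebraic integers, odd order (helper32 library)

* `sum_eq_card_mul_of_free_on_support`: the sum of an invariant function with algebraic integer
  values, over a finite set on which a finite group acts freely on the support of the function,
  is `|Γ|` times an algebraic integer;
* `int_of_isIntegral_of_mul_eq`: an algebraic integer `x` with `b * x = a`, `a b : ℤ`, `b ≠ 0`, is
  an integer;
* `conj_ne_inv_of_odd`: in a group of odd order no non-identity element is conjugate to its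
  inverse.
-/

namespace Cfsg.Agent.Lib.helper32

/-- Orbit sum: if `f` is invariant under the action of the finite group `Γ`, the action is free
on the support of `f`, and the values of `f` are algebraic integers, then the sum of `f` is
`|Γ|` times an algebraic integer. -/
theorem sum_eq_card_mul_of_free_on_support {Γ X : Type*} [Group Γ] [Fintype Γ] [MulAction Γ X]
    [Fintype X] (f : X → ℂ) (hinv : ∀ (a : Γ) (x : X), f (a • x) = f x)
    (hfree : ∀ (a : Γ) (x : X), f x ≠ 0 → a • x = x → a = 1)
    (hint : ∀ x, IsIntegral ℤ (f x)) :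
    ∃ A : ℂ, IsIntegral ℤ A ∧ ∑ x, f x = (Fintype.card Γ : ℂ) * A := by
  classical
  obtain ⟨π, hπ⟩ : ∃ π : X → MulAction.orbitRel.Quotient Γ X, π = Quotient.mk'' := ⟨_, rfl⟩
  have key : ∀ ω : MulAction.orbitRel.Quotient Γ X,
      ∑ x : {x : X // π x = ω}, f x = (Fintype.card Γ : ℂ) * f ω.out := by
    intro ω
    have hmem : ∀ x : X, π x = ω ↔ ∃ a : Γ, a • ω.out = x := by
      intro x
      have h1 : π x = ω ↔ (Quotient.mk'' x : MulAction.orbitRel.Quotient Γ X)
          = Quotient.mk'' ω.out := by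
        rw [Quotient.out_eq', hπ]
      rw [h1, Quotient.eq'', MulAction.orbitRel_apply, MulAction.mem_orbit_iff]
    by_cases h0 : f ω.out = 0
    · rw [h0, mul_zero]
      apply Finset.sum_eq_zero
      intro x _
      obtain ⟨a, ha⟩ := (hmem x.1).mp x.2
      rw [← ha, hinv, h0]
    · have hinj : Function.Injective
          (fun a : Γ => (⟨a • ω.out, (hmem _).mpr ⟨a, rfl⟩⟩ : {x : X // π x = ω})) := by
        intro a b hab
        have h1 : a • ω.out = b • ω.out := congrArg Subtype.val hab
        have h2 : (b⁻¹ * a) • ω.out = ω.out := by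
          rw [mul_smul, h1, inv_smul_smul]
        have h3 := hfree (b⁻¹ * a) ω.out h0 h2
        calc a = b * (b⁻¹ * a) := by group
          _ = b := by rw [h3, mul_one]
      have hsurj : Function.Surjective
          (fun a : Γ => (⟨a • ω.out, (hmem _).mpr ⟨a, rfl⟩⟩ : {x : X // π x = ω})) := by
        intro x
        obtain ⟨a, ha⟩ := (hmem x.1).mp x.2
        exact ⟨a, Subtype.ext ha⟩
      rw [← Fintype.sum_bijective _ (And.intro hinj hsurj) (fun _ : Γ => f ω.out)
        (fun x : {x : X // π x = ω} => f x) (fun a => (hinv a _).symm)]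
      rw [Finset.sum_const, Finset.card_univ, nsmul_eq_mul]
  refine ⟨∑ ω : MulAction.orbitRel.Quotient Γ X, f ω.out,
    IsIntegral.sum _ (fun ω _ => hint _), ?_⟩
  rw [← Fintype.sum_fiberwise π f, Finset.mul_sum]
  exact Finset.sum_congr rfl (fun ω _ => key ω)

/-- An algebraic integer that is a quotient of two integers is an integer. -/
theorem int_of_isIntegral_of_mul_eq (x : ℂ) (hx : IsIntegral ℤ x) (a b : ℤ) (hb : b ≠ 0)
    (h : (b : ℂ) * x = a) : ∃ n : ℤ, x = n := by
  have hbC : (b : ℂ) ≠ 0 := by exact_mod_cast hb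
  have hxq : x = (((a : ℚ) / (b : ℚ) : ℚ) : ℂ) := by
    push_cast
    rw [eq_div_iff hbC, mul_comm]
    exact h
  rw [hxq] at hx
  have hq : IsIntegral ℤ ((a : ℚ) / (b : ℚ)) :=
    (isIntegral_algebraMap_iff (algebraMap ℚ ℂ).injective).mp hx
  obtain ⟨n, hn⟩ := IsIntegrallyClosed.isIntegral_iff.mp hq
  refine ⟨n, ?_⟩
  rw [hxq, ← hn]
  simp

/-- In a finite subgroup of odd order, no non-identity element is conjugate to its inverse. -/
theorem conj_ne_inv_of_odd {G : Type*} [Group G] (L : Subgroup G) [Finite L]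
    (hodd : Odd (Nat.card L)) {g z : G} (hg : g ∈ L) (hz : z ∈ L) (hz1 : z ≠ 1) :
    g * z * g⁻¹ ≠ z⁻¹ := by
  intro h
  have hog : Odd (orderOf g) := by
    have h1 : orderOf (⟨g, hg⟩ : L) ∣ Nat.card L := orderOf_dvd_natCard _
    rw [Subgroup.orderOf_mk] at h1
    exact hodd.of_dvd_nat h1
  have hoz : Odd (orderOf z) := by
    have h1 : orderOf (⟨z, hz⟩ : L) ∣ Nat.card L := orderOf_dvd_natCard _
    rw [Subgroup.orderOf_mk] at h1
    exact hodd.of_dvd_nat h1
  obtain ⟨k, hk⟩ := hog
  have e1 : g * z = z⁻¹ * g := by rw [← h]; group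
  have e2 : g * z⁻¹ = z * g := by
    have h' : g * z⁻¹ * g⁻¹ = z := by
      have h2 := congrArg (fun t => t⁻¹) h
      simp only [mul_inv_rev, inv_inv] at h2
      rw [mul_assoc]; exact h2
    calc g * z⁻¹ = g * z⁻¹ * g⁻¹ * g := by group
      _ = z * g := by rw [h']
  have h2 : Commute (g ^ 2) z := by
    show g ^ 2 * z = z * g ^ 2
    rw [pow_two, mul_assoc, e1, ← mul_assoc, e2, mul_assoc]
  have h3 : g = (g ^ 2) ^ (k + 1) := by
    rw [← pow_mul]
    have h4 : 2 * (k + 1) = orderOf g + 1 := by omega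
    rw [h4, pow_succ, pow_orderOf_eq_one, one_mul]
  have h4 : Commute g z := by
    rw [h3]; exact h2.pow_left _
  have h5 : z = z⁻¹ := by
    rw [← h, h4.eq]; group
  have h6 : z ^ 2 = 1 := by
    rw [pow_two]
    nth_rewrite 2 [h5]
    exact mul_inv_cancel z
  have h7 : orderOf z ∣ 2 := orderOf_dvd_of_pow_eq_one h6
  have h8 : orderOf z = 1 := by
    rcases (Nat.dvd_prime Nat.prime_two).mp h7 with h | h
    · exact h
    · rw [h] at hoz
      exact absurd hoz (by decide)
  exact hz1 (orderOf_eq_one_iff.mp h8)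

end Cfsg.Agent.Lib.helper32
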