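import Mathlib
import Cfsg.Prelude.Def_Characters
import Cfsg.Prelude.Def_OddOrderChar
import Cfsg.Prelude.Def_OddOrderLocal
import Cfsg.Agent.Lib.helper32.Sib2
import Cfsg.Agent.Lib.helper32.Sib3
import Cfsg.Agent.Lib.helper72.TIHall
import Cfsg.Agent.S1523

/-!
# Sibley's divisibility (helper32)

`FrobTI H L` with `H` a `p`-group, `Z ≠ 1` a normal subgroup of `L` central in `H`, `Y` the
irreducible characters of `L` not trivial on `Z`, coherent via `τ`.  If a virtual character `ψ`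
of `G` of norm `1` is orthogonal to all `τ η`, then `q₀` divides `⟨η₀, ψ|_L⟩`.
-/

set_option autoImplicit false
set_option linter.unusedSectionVars false

namespace Cfsg.Agent.Lib.helper32

open Cfsg
open Cfsg.Agent.Lib.helper4
open scoped ComplexConjugate

universe u

section

variable {G : Type u} [Group G] {H L : Subgroup G}

theorem FrobTI.card_K (F : FrobTI H L) : Nat.card (H.subgroupOf L) = Nat.card H :=
  Nat.card_congr (Subgroup.subgroupOfEquivOfLe F.lt.le).toEquiv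

theorem FrobTI.coprime [Finite G] (F : FrobTI H L) : (Nat.card H).Coprime H.index := by
  have _iK := F.normalK
  apply helper72.ti_hall F.ti
  rw [F.norm, ← F.card_K]
  exact frobC_coprime _ F.centK

theorem FrobTI.sylow [Finite G] (F : FrobTI H L) (p : ℕ) [Fact p.Prime] (hHp : IsPGroup p H) :
    ∃ P : Sylow p G, (P : Subgroup G) = H := by
  have hp : p.Prime := Fact.out
  have hnd : ¬ p ∣ H.index := by
    intro h
    have h1 : p ∣ Nat.card H := by
      obtain ⟨n, hn⟩ := IsPGroup.iff_card.mp hHp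
      have hn0 : n ≠ 0 := by
        rintro rfl
        rw [pow_zero] at hn
        exact F.ne_bot (Subgroup.eq_bot_of_card_eq H hn)
      rw [hn]
      exact dvd_pow_self p hn0
    have h3 : p ∣ Nat.gcd (Nat.card H) H.index := Nat.dvd_gcd h1 h
    rw [Nat.Coprime.gcd_eq_one F.coprime] at h3
    exact hp.one_lt.ne' (Nat.dvd_one.mp h3)
  exact ⟨hHp.toSylow hnd, IsPGroup.toSylow_coe hHp hnd⟩

end

section

variable {G : Type u} [Group G] [Fintype G] {H L : Subgroup G} [Fintype L]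

/-- Peterfalvi (6.6) in the Frobenius TI set-up: an irreducible character of `G` constant on
`Z ∖ {1}` satisfies `ψ 1 ≡ ψ z` modulo `|H|`. -/
theorem sib_S1523 (F : FrobTI H L) (hodd : Odd (Nat.card L)) (p : ℕ) [Fact p.Prime]
    (hHp : IsPGroup p H) (Z : Subgroup L) [hZ : Z.Normal] (hZ1 : Z ≠ ⊥)
    (hZK : Z ≤ H.subgroupOf L) (hZc : ∀ z ∈ Z, ∀ k ∈ H.subgroupOf L, z * k = k * z)
    (ψ : G → ℂ) (hψ : IsIrrCharacter G ψ)
    (hconst : ∀ z ∈ Z, ∀ z' ∈ Z, z ≠ 1 → z' ≠ 1 → ψ (z : G) = ψ (z' : G))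
    (z : L) (hz : z ∈ Z) (hz1 : z ≠ 1) :
    ∃ w : ℤ, ψ 1 - ψ (z : G) = (((Nat.card H : ℤ) * w : ℤ) : ℂ) := by
  classical
  obtain ⟨P, hP⟩ := F.sylow p hHp
  have hNP : Subgroup.normalizer ((P : Subgroup G) : Set G) = L := by rw [hP]; exact F.norm
  have h := Cfsg.Agent.S1523.result p P (by rw [hP]; exact F.ti) (by rw [hNP]; exact hodd)
    (Z.map L.subtype)
    (by
      intro h0
      apply hZ1
      exact (Subgroup.map_eq_bot_iff_of_injective Z (Subgroup.subtype_injective L)).mp h0)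
    (by
      rw [hP]
      rintro g ⟨z, hz, rfl⟩
      exact Subgroup.mem_subgroupOf.mp (hZK hz))
    (by
      rw [hNP]
      rintro x hx g ⟨z, hz, rfl⟩
      exact ⟨⟨x, hx⟩ * z * ⟨x, hx⟩⁻¹, hZ.conj_mem z hz ⟨x, hx⟩, rfl⟩)
    (by
      rw [hP]
      rintro g ⟨z, hz, rfl⟩ y hy
      have := hZc z hz ⟨y, F.lt.le hy⟩ (Subgroup.mem_subgroupOf.mpr hy)
      exact congrArg Subtype.val this)
    (by
      have key : ∀ g ∈ Z.map L.subtype, g ≠ 1 →
          Subgroup.normalizer ((P : Subgroup G) : Set G) ⊓ Subgroup.centralizer ({g} : Set G)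
            = H := by
        rintro g ⟨z, hz, rfl⟩ hg1
        rw [hNP]
        apply le_antisymm
        · rintro x ⟨hxL, hxc⟩
          have hxc' : x ∈ Subgroup.centralizer ({L.subtype z} : Set G) := hxc
          rw [Subgroup.mem_centralizer_iff] at hxc'
          have h1 := hxc' _ (Set.mem_singleton _)
          exact F.cent _ (Subgroup.mem_subgroupOf.mp (hZK hz)) hg1 x hxL h1.symm
        · intro x hx
          refine ⟨F.lt.le hx, ?_⟩
          show x ∈ Subgroup.centralizer ({L.subtype z} : Set G)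
          rw [Subgroup.mem_centralizer_iff]
          intro y hy
          rw [Set.mem_singleton_iff] at hy
          subst hy
          have := hZc z hz ⟨x, F.lt.le hx⟩ (Subgroup.mem_subgroupOf.mpr hx)
          exact congrArg Subtype.val this
      intro g hg g' hg' hg1 hg'1
      rw [key g hg hg1, key g' hg' hg'1])
    ψ hψ
    (by
      rintro g ⟨z, hz, rfl⟩ g' ⟨z', hz', rfl⟩ hg1 hg'1
      exact hconst z hz z' hz' (fun h => hg1 (by rw [h]; rfl)) (fun h => hg'1 (by rw [h]; rfl)))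
    (z : G) ⟨z, hz, rfl⟩ (fun h => hz1 (Subtype.ext h))
  obtain ⟨n, d, hn, hd, hdvd⟩ := h
  rw [hP] at hdvd
  obtain ⟨w, hw⟩ := hdvd
  refine ⟨w, ?_⟩
  rw [hn, hd, ← hw]
  push_cast
  ring

/-- **Sibley's divisibility**: `q₀` divides the multiplicity `⟨η₀, ψ|_L⟩`. -/
theorem sib_div (F : FrobTI H L) (hodd : Odd (Nat.card L)) (p : ℕ) [Fact p.Prime]
    (hHp : IsPGroup p H) (Z : Subgroup L) [hZ : Z.Normal] (hZ1 : Z ≠ ⊥)
    (hZK : Z ≤ H.subgroupOf L) (hZc : ∀ z ∈ Z, ∀ k ∈ H.subgroupOf L, z * k = k * z)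
    (Y : Finset (L → ℂ)) (hY : ∀ ξ : L → ℂ, ξ ∈ Y ↔ (IsIrrCharacter L ξ ∧ ∃ z ∈ Z, ξ z ≠ ξ 1))
    (τ : (L → ℂ) → (G → ℂ)) (hτ : IsLinearIsometryOn (zspan (↑Y : Set (L → ℂ))) τ)
    (hτα : ∀ θ ∈ zspanOn (↑Y : Set (L → ℂ)) {1}ᶜ, τ θ = indFun L θ)
    (q₀ : ℕ) (r : (L → ℂ) → ℕ)
    (hYdeg : ∀ η ∈ Y, η 1 = (((H.subgroupOf L).index * q₀ * r η : ℕ) : ℂ))
    (η₀ : L → ℂ) (hη₀ : η₀ ∈ Y) (hr₀ : r η₀ = 1)
    (ψ : G → ℂ) (hψ : IsGeneralizedCharacter G ψ) (hψn : classInner ψ ψ = 1)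
    (horth : ∀ η ∈ Y, classInner ψ (τ η) = 0) :
    ∃ k : ℤ, classInner η₀ (fun x : L => ψ x) = (((q₀ : ℤ) * k : ℤ) : ℂ) := by
  classical
  let _iI : Fintype (IrrCharacter L) := Fintype.ofFinite _
  have hτ' : IsLinearIsometryOn
      ((Submodule.span ℤ (↑Y : Set (L → ℂ)) : Submodule ℤ (L → ℂ)) : Set (L → ℂ)) τ := hτ
  have hYirr : ∀ η ∈ Y, IsIrrCharacter L η := fun η hη => ((hY η).mp hη).1
  have hYm : ∀ η ∈ Y, η ∈ (Submodule.span ℤ (↑Y : Set (L → ℂ)) : Submodule ℤ (L → ℂ)) :=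
    fun η hη => Submodule.subset_span (Finset.mem_coe.mpr hη)
  obtain ⟨e, he⟩ : ∃ e : ℕ, e = (H.subgroupOf L).index := ⟨_, rfl⟩
  rw [← he] at hYdeg
  have hepos : 0 < e := by rw [he]; exact Nat.pos_of_ne_zero Subgroup.index_ne_zero_of_finite
  have hη₀deg : η₀ 1 = ((e * q₀ : ℕ) : ℂ) := by rw [hYdeg η₀ hη₀, hr₀, mul_one]
  have hq₀ : 0 < q₀ := by
    have h1 := signed_irr_degree_ne_zero η₀ (Or.inl (hYirr η₀ hη₀))
    rw [hη₀deg] at h1
    have h2 : e * q₀ ≠ 0 := by exact_mod_cast h1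
    exact Nat.pos_of_ne_zero (fun h => h2 (by rw [h]; simp))
  have hψcl : IsClassFunction G ψ := isClassFunction_of_isGeneralizedCharacter hψ
  obtain ⟨ψL, hψL⟩ : ∃ ψL : L → ℂ, ψL = fun x : L => ψ x := ⟨_, rfl⟩
  have hψLgen : IsGeneralizedCharacter L ψL := by
    rw [hψL]; exact isGeneralizedCharacter_restrict L hψ
  have hψLcl : IsClassFunction L ψL := isClassFunction_of_isGeneralizedCharacter hψLgen
  obtain ⟨m₀, hm₀⟩ := exists_int_classInner
    (zspan_isGeneralizedCharacter (S := (↑Y : Set (L → ℂ)))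
      (fun ξ hξ => isCharacter_of_isIrrCharacter (hYirr ξ (Finset.mem_coe.mp hξ)))
      (mem_zspan_of_mem (Finset.mem_coe.mpr hη₀))) hψLgen
  have hstep2 : ∀ η ∈ Y, classInner η ψL = (r η : ℂ) * m₀ := by
    intro η hη
    have hmem : η - (r η : ℤ) • η₀ ∈ zspanOn (↑Y : Set (L → ℂ)) {1}ᶜ :=
      mem_zspanOn_compl_one (zspan_sub_mem (mem_zspan_of_mem (Finset.mem_coe.mpr hη))
        (zspan_zsmul_mem (mem_zspan_of_mem (Finset.mem_coe.mpr hη₀)) _))
        (by simp [hYdeg η hη, hη₀deg]; ring)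
    have h1 : τ (η - (r η : ℤ) • η₀) = τ η - (r η : ℤ) • τ η₀ := by
      rw [lio_sub hτ' (hYm η hη) (Submodule.smul_mem _ _ (hYm η₀ hη₀)),
        lio_zsmul hτ' (hYm η₀ hη₀)]
    have h2 := hτα _ hmem
    have h3 : classInner (indFun L (η - (r η : ℤ) • η₀)) ψ
        = classInner (η - (r η : ℤ) • η₀) ψL := by
      rw [hψL]; exact frobenius_reciprocity L _ hψcl
    rw [← h2, h1, classInner_sub_left, classInner_zsmul_left,
      classInner_comm_of_eq_zero (horth η hη), classInner_comm_of_eq_zero (horth η₀ hη₀),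
      classInner_sub_left, classInner_zsmul_left, hm₀] at h3
    push_cast at h3 ⊢
    linear_combination -h3
  have hexp := classFunction_eq_sum_irr hψLcl
  have hval : ∀ g : L, ψL g
      = ∑ ξ : IrrCharacter L, classInner ψL (ξ : L → ℂ) * (ξ : L → ℂ) g := by
    intro g
    have h1 := congrFun hexp g
    rw [Finset.sum_apply] at h1
    simpa using h1
  have hcoef : ∀ ξ : IrrCharacter L, (ξ : L → ℂ) ∈ Y →
      classInner ψL (ξ : L → ℂ) = (r (ξ : L → ℂ) : ℂ) * m₀ := by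
    intro ξ hξ
    rw [← classInner_conj_symm (ξ : L → ℂ) ψL, hstep2 _ hξ]
    simp
  have hterm : ∀ z ∈ Z, ∀ ξ : IrrCharacter L,
      (classInner ψL (ξ : L → ℂ) * (ξ : L → ℂ) 1 - classInner ψL (ξ : L → ℂ) * (ξ : L → ℂ) z)
          * ((e : ℂ) * q₀)
        = m₀ * ((ξ : L → ℂ) 1 * conj ((ξ : L → ℂ) 1) - (ξ : L → ℂ) z * conj ((ξ : L → ℂ) 1)) := by
    intro z hz ξ
    obtain ⟨n, hn, hn1⟩ := exists_pos_nat_degree ξ.2
    have hconj1 : conj ((ξ : L → ℂ) 1) = (ξ : L → ℂ) 1 := by rw [hn1]; simp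
    rw [hconj1]
    by_cases hξ : (ξ : L → ℂ) ∈ Y
    · rw [hcoef ξ hξ, hYdeg _ hξ]
      push_cast
      ring
    · have h1 : (ξ : L → ℂ) z = (ξ : L → ℂ) 1 := by
        by_contra hne
        exact hξ ((hY _).mpr ⟨ξ.2, z, hz, hne⟩)
      rw [h1]
      ring
  have hcol1 : ∑ ξ : IrrCharacter L, (ξ : L → ℂ) 1 * conj ((ξ : L → ℂ) 1)
      = (Nat.card L : ℂ) := by
    rw [sum_irr_mul_conj_of_isConj (IsConj.refl (1 : L))]
    have h1 : Subgroup.centralizer ({(1 : L)} : Set L) = ⊤ := by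
      ext x; simp [Subgroup.mem_centralizer_iff]
    rw [h1, Subgroup.card_top]
  have hcolz : ∀ z : L, z ≠ 1 →
      ∑ ξ : IrrCharacter L, (ξ : L → ℂ) z * conj ((ξ : L → ℂ) 1) = 0 := by
    intro z hz
    exact sum_irr_mul_conj_of_not_isConj (fun h => hz (isConj_one_left.mp h))
  have hcardL : (Nat.card L : ℂ) = (Nat.card H : ℂ) * e := by
    rw [he, ← F.card_K]
    exact_mod_cast (Subgroup.card_mul_index (H.subgroupOf L)).symm
  have he0 : (e : ℂ) ≠ 0 := by exact_mod_cast hepos.ne'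
  have hmain : ∀ z ∈ Z, z ≠ 1 → (ψL 1 - ψL z) * (q₀ : ℂ) = m₀ * (Nat.card H : ℂ) := by
    intro z hz hz1
    have h1 : (ψL 1 - ψL z) * ((e : ℂ) * q₀) = m₀ * (Nat.card L : ℂ) := by
      rw [hval 1, hval z, ← Finset.sum_sub_distrib, Finset.sum_mul,
        Finset.sum_congr rfl (fun ξ _ => hterm z hz ξ), ← Finset.mul_sum,
        Finset.sum_sub_distrib, hcol1, hcolz z hz1, sub_zero]
    rw [hcardL] at h1
    have h2 : (e : ℂ) * ((ψL 1 - ψL z) * (q₀ : ℂ)) = (e : ℂ) * (m₀ * (Nat.card H : ℂ)) := by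
      linear_combination h1
    exact mul_left_cancel₀ he0 h2
  have hq0C : (q₀ : ℂ) ≠ 0 := by exact_mod_cast hq₀.ne'
  have hconstψ : ∀ z ∈ Z, ∀ z' ∈ Z, z ≠ 1 → z' ≠ 1 → ψ (z : G) = ψ (z' : G) := by
    intro z hz z' hz' h1 h1'
    have e1 := hmain z hz h1
    have e2 := hmain z' hz' h1'
    have h3 : ψL z * (q₀ : ℂ) = ψL z' * (q₀ : ℂ) := by linear_combination e2 - e1
    have h4 := mul_right_cancel₀ hq0C h3
    rw [hψL] at h4
    exact h4
  obtain ⟨z, hz, hz1⟩ : ∃ z ∈ Z, z ≠ 1 := by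
    by_contra hcon
    push Not at hcon
    apply hZ1
    rw [Subgroup.eq_bot_iff_forall]
    exact hcon
  have hw : ∃ w : ℤ, ψ 1 - ψ (z : G) = (((Nat.card H : ℤ) * w : ℤ) : ℂ) := by
    rcases isIrrCharacter_or_neg_of_norm_one hψ hψn with h | h
    · exact sib_S1523 F hodd p hHp Z hZ1 hZK hZc ψ h hconstψ z hz hz1
    · obtain ⟨w, hw⟩ := sib_S1523 F hodd p hHp Z hZ1 hZK hZc (-ψ) h (by
        intro z hz z' hz' h1 h1'
        simp only [Pi.neg_apply]
        rw [hconstψ z hz z' hz' h1 h1']) z hz hz1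
      refine ⟨-w, ?_⟩
      simp only [Pi.neg_apply] at hw
      push_cast at hw ⊢
      linear_combination -hw
  obtain ⟨w, hw⟩ := hw
  have e1 := hmain z hz hz1
  rw [hψL] at e1
  have hH0 : (Nat.card H : ℂ) ≠ 0 := by exact_mod_cast (Nat.card_pos (α := H)).ne'
  refine ⟨w, ?_⟩
  rw [← hψL, hm₀]
  have e1' : (ψ 1 - ψ (z : G)) * (q₀ : ℂ) = m₀ * (Nat.card H : ℂ) := e1
  rw [hw] at e1'
  have h5 : (Nat.card H : ℂ) * (m₀ : ℂ) = (Nat.card H : ℂ) * ((q₀ : ℂ) * w) := by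
    push_cast at e1'
    linear_combination -e1'
  have h6 := mul_left_cancel₀ hH0 h5
  rw [h6]
  push_cast
  ring

end

end Cfsg.Agent.Lib.helper32
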