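import Mathlib
import Cfsg.Prelude.Def_Characters
import Cfsg.Prelude.Def_OddOrderChar
import Cfsg.Prelude.Def_OddOrderLocal
import Cfsg.Prelude.Def_Blocks
import Cfsg.Agent.Lib.helper32.Sib4
import Cfsg.Agent.Lib.helper32.Coh12
import Cfsg.Agent.Lib.helper32.FrobKer
import Cfsg.Agent.Lib.helper19.AbelianOver
import Cfsg.Agent.S1517
import Cfsg.Agent.S1519
import Cfsg.Agent.S1521
import Cfsg.Agent.S1522
import Cfsg.Agent.S1531

/-!
# Sibley's coherence theorem for a TI Frobenius kernel (helper32)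

`sibley`: for `FrobTI H L` with `|L|` odd and `H` nilpotent, the characters of `L` induced from
the non-principal irreducible characters of `H` form a coherent set (w.r.t. induction to `G`).
-/

set_option autoImplicit false
set_option linter.unusedSectionVars false

namespace Cfsg.Agent.Lib.helper32

open Cfsg
open Cfsg.Agent.Lib.helper4
open scoped ComplexConjugate

universe u

theorem commutator_lt_of_solvable {L : Type u} [Group L] (K : Subgroup L)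
    (hsolv : Group.IsSolvable K) (hK1 : K ≠ ⊥) : ⁅K, K⁆ < K := by
  have hle : ⁅K, K⁆ ≤ K := by
    rw [Subgroup.commutator_le]
    intro a ha b hb
    exact K.mul_mem (K.mul_mem (K.mul_mem ha hb) (K.inv_mem ha)) (K.inv_mem hb)
  refine lt_of_le_of_ne hle ?_
  intro heq
  have _i1 : Nontrivial K := (Subgroup.nontrivial_iff_ne_bot K).mpr hK1
  have _i2 : Group.IsSolvable K := hsolv
  have hlt := Group.IsSolvable.commutator_lt_top_of_nontrivial K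
  have h1 : (_root_.commutator K).map K.subtype = ⁅K, K⁆ := Subgroup.map_subtype_commutator K
  rw [heq] at h1
  apply hlt.ne
  rw [eq_top_iff]
  intro x _
  have hx : (x : L) ∈ (_root_.commutator K).map K.subtype := by rw [h1]; exact x.2
  obtain ⟨y, hy, hyx⟩ := hx
  have : y = x := Subtype.ext hyx
  rw [← this]; exact hy

theorem exists_central_normal {L : Type u} [Group L] [Finite L] (K : Subgroup L) [K.Normal]
    (hnil : Group.IsNilpotent K) (hK' : ⁅K, K⁆ ≠ ⊥) :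
    ∃ Z : Subgroup L, Z.Normal ∧ Z ≠ ⊥ ∧ Z ≤ ⁅K, K⁆ ∧ ∀ z ∈ Z, ∀ k ∈ K, z * k = k * z := by
  classical
  have _i1 : Group.IsNilpotent K := hnil
  have hq : Group.IsNilpotent (↥K ⧸ (⊥ : Subgroup L).subgroupOf K) := inferInstance
  have hKK : ⁅K, K⁆ ≤ K := by
    rw [Subgroup.commutator_le]
    intro a ha b hb
    exact K.mul_mem (K.mul_mem (K.mul_mem ha hb) (K.inv_mem ha)) (K.inv_mem hb)
  have hex : ∃ n, descChain ⊥ ⁅K, K⁆ K n = ⊥ := descChain_eventually ⊥ ⁅K, K⁆ K bot_le hKK hq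
  obtain ⟨n₀, hn₀def⟩ : ∃ n₀, n₀ = Nat.find hex := ⟨_, rfl⟩
  have hn₀ : descChain ⊥ ⁅K, K⁆ K n₀ = ⊥ := by rw [hn₀def]; exact Nat.find_spec hex
  have hn₀pos : n₀ ≠ 0 := by
    intro h0
    rw [h0, descChain_zero] at hn₀
    exact hK' hn₀
  obtain ⟨k, hk⟩ : ∃ k, n₀ = k + 1 := Nat.exists_eq_succ_of_ne_zero hn₀pos
  refine ⟨descChain ⊥ ⁅K, K⁆ K k, descChain_normal _ _ _ k, ?_, descChain_le _ _ _ bot_le k, ?_⟩
  · intro h
    exact Nat.find_min hex (by omega : k < Nat.find hex) h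
  · intro z hz y hy
    have h1 := commutator_mem_descChain_succ ⊥ ⁅K, K⁆ K k hz hy
    rw [← hk, hn₀, Subgroup.mem_bot] at h1
    have h2 : z * y = (z * y * z⁻¹ * y⁻¹) * (y * z) := by group
    rw [h2, h1, one_mul]

section

variable {G : Type u} [Group G] [Fintype G] {H L : Subgroup G} [Fintype L]

/-- **Sibley's coherence theorem** for a nilpotent TI Frobenius kernel `H` of `L` in a group
of odd order: the characters of `L` induced from the non-principal irreducible characters of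
`H` are coherent with respect to induction from `L` to `G`. -/
theorem sibley (F : FrobTI H L) (hodd : Odd (Nat.card L)) (hnilH : Group.IsNilpotent H) :
    IsCoherent (inducedIrrAbove (H.subgroupOf L) ⊥) {1}ᶜ (fun α : L → ℂ => indFun L α) := by
  classical
  obtain ⟨K, hK⟩ : ∃ K : Subgroup L, K = H.subgroupOf L := ⟨_, rfl⟩
  have _iK : K.Normal := by rw [hK]; exact F.normalK
  have hC : ∀ k ∈ K, k ≠ 1 → ∀ x : L, x * k = k * x → x ∈ K := by rw [hK]; exact F.centK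
  have hKL : K < ⊤ := by rw [hK]; exact F.ltK
  have hK1 : K ≠ ⊥ := by rw [hK]; exact F.ne_botK
  have hcardK : Nat.card K = Nat.card H := by rw [hK]; exact F.card_K
  have hnil : Group.IsNilpotent K := by
    rw [hK]
    have _i : Group.IsNilpotent H := hnilH
    exact Group.nilpotent_of_mulEquiv (Subgroup.subgroupOfEquivOfLe F.lt.le).symm
  have _inil : Group.IsNilpotent K := hnil
  have hsolv : Group.IsSolvable K := inferInstance
  obtain ⟨R, hS⟩ := sib_cs F hodd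
  rw [← hK] at hS ⊢
  obtain ⟨τ, hτdef⟩ : ∃ τ : (L → ℂ) → (G → ℂ), τ = fun α : L → ℂ => indFun L α := ⟨_, rfl⟩
  rw [← hτdef] at hS ⊢
  have hH₁K : ⁅K, K⁆ < K := commutator_lt_of_solvable K hsolv hK1
  have hfrob := frobC_quot K hC ⁅K, K⁆ hH₁K.le
  have hirr : ∀ χ ∈ inducedIrrAbove K ⊥, IsIrrCharacter L χ := by
    rintro χ ⟨θ, hθ, hne, -, rfl⟩
    exact frobC_irr K hC hθ hne
  by_cases hpp : ∃ p m : ℕ, p.Prime ∧ Nat.card K = p ^ m
  swap
  · exact Cfsg.Agent.S1521.result K hsolv τ R hS hodd (⊥ : Subgroup L) bot_le inferInstance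
      (⁅K, K⁆ ⊔ ⊥) rfl (by rw [sup_bot_eq]; exact hH₁K) hKL (by rw [sup_bot_eq]; exact hfrob)
      (Or.inr (Or.inr (Or.inl (by rw [Subgroup.relIndex_bot_left]; exact hpp))))
  obtain ⟨p, m, hp, hcard⟩ := hpp
  by_cases hab : ⁅K, K⁆ = ⊥
  · exact Cfsg.Agent.S1521.result K hsolv τ R hS hodd (⊥ : Subgroup L) bot_le inferInstance
      (⁅K, K⁆ ⊔ ⊥) rfl (by rw [sup_bot_eq]; exact hH₁K) hKL (by rw [sup_bot_eq]; exact hfrob)
      (Or.inr (Or.inr (Or.inr (Or.inl (by rw [hab])))))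
  have _ip : Fact p.Prime := ⟨hp⟩
  have hHp : IsPGroup p H := IsPGroup.of_card (by rw [← hcardK, hcard])
  obtain ⟨Z, hZn, hZ1, hZK', hZc⟩ := exists_central_normal K hnil hab
  have _iZ : Z.Normal := hZn
  have hZK : Z ≤ K := hZK'.trans hH₁K.le
  obtain ⟨hYset, hYcoh⟩ := Cfsg.Agent.S1522.result K hsolv τ R hS hodd hnil hH₁K hKL hfrob Z hZ1
    hZK hZc (fun χ hχ => hirr χ hχ.1)
  obtain ⟨e, he⟩ : ∃ e : ℕ, e = K.index := ⟨_, rfl⟩
  have hepos : 0 < e := by rw [he]; exact Nat.pos_of_ne_zero Subgroup.index_ne_zero_of_finite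
  have hXdeg₀ : ∀ φ ∈ inducedIrrAbove K ⁅K, K⁆, φ 1 = (e : ℂ) := by
    rintro φ ⟨θ, hθ, -, hθH, rfl⟩
    have h1 : θ 1 = 1 := Cfsg.Agent.Lib.helper19.linear_of_abelian_quot
      ((⁅K, K⁆ : Subgroup L).subgroupOf K) (by
        intro x y
        rw [Subgroup.mem_subgroupOf]
        exact Subgroup.commutator_mem_commutator x.2 y.2) θ hθ
      (fun x hx => hθH x (Subgroup.mem_subgroupOf.mp hx))
    rw [indFun_one, h1, mul_one, he]
  obtain ⟨χ₀, hχ₀X, -⟩ := Cfsg.Agent.S1519.exists_induced_linear K hsolv ⁅K, K⁆ hH₁K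
  have hXS : inducedIrrAbove K ⁅K, K⁆ ⊆ inducedIrrAbove K ⊥ := inducedIrrAbove_subset_bot K _
  have hXcs := cs_restrict hS hXS ⟨χ₀, hχ₀X⟩ (fun χ hχ => inducedIrrAbove_conj_mem K _ hχ)
  have hXcoh : IsCoherent (inducedIrrAbove K ⁅K, K⁆) {1}ᶜ τ :=
    Cfsg.Agent.S1517.result _ τ R hXcs (by
      intro φ hφ ψ hψ
      rw [hXdeg₀ φ hφ, hXdeg₀ ψ hψ])
  obtain ⟨-, σ, hσ, hσα⟩ := hXcoh
  obtain ⟨-, τY, hτY, hτYα⟩ := hYcoh
  have hSfin : (inducedIrrAbove K ⊥).Finite := orthogonal_set_finite _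
    (fun χ hχ => by rw [classInner_irr_self (hirr χ hχ)]; exact one_ne_zero)
    (fun χ hχ ψ hψ h => classInner_irr_ne (hirr χ hχ) (hirr ψ hψ) h)
  obtain ⟨X, hXcoe⟩ : ∃ X : Finset (L → ℂ), (↑X : Set (L → ℂ)) = inducedIrrAbove K ⁅K, K⁆ :=
    ⟨(hSfin.subset hXS).toFinset, Set.Finite.coe_toFinset _⟩
  obtain ⟨Sf, hSfcoe⟩ : ∃ Sf : Finset (L → ℂ), (↑Sf : Set (L → ℂ)) = inducedIrrAbove K ⊥ :=
    ⟨hSfin.toFinset, Set.Finite.coe_toFinset _⟩
  let _iI : Fintype (IrrCharacter L) := Fintype.ofFinite _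
  obtain ⟨Y, hYdef⟩ : ∃ Y : Finset (L → ℂ), Y = (Finset.univ.filter
      (fun χ : IrrCharacter L => ¬ ∀ x ∈ Z, (χ : L → ℂ) x = (χ : L → ℂ) 1)).image
        Subtype.val := ⟨_, rfl⟩
  have hYcoe : (↑Y : Set (L → ℂ)) = inducedIrrAbove K ⊥ \ inducedIrrAbove K Z := by
    rw [hYset, hYdef]
    ext φ
    simp only [Finset.coe_image, Finset.coe_filter, Finset.mem_univ, true_and, Set.mem_image,
      Set.mem_ofPred_eq]
    constructor
    · rintro ⟨χ, hχ, rfl⟩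
      push Not at hχ
      obtain ⟨z, hz, hne⟩ := hχ
      exact ⟨χ.2, z, hz, hne⟩
    · rintro ⟨hφ, z, hz, hne⟩
      refine ⟨⟨φ, hφ⟩, ?_, rfl⟩
      intro hall
      exact hne (hall z hz)
  have hXmem : ∀ φ, φ ∈ X ↔ φ ∈ inducedIrrAbove K ⁅K, K⁆ := by
    intro φ; rw [← hXcoe]; exact Finset.mem_coe.symm
  have hYmem₀ : ∀ φ, φ ∈ Y ↔ φ ∈ inducedIrrAbove K ⊥ \ inducedIrrAbove K Z := by
    intro φ; rw [← hYcoe]; exact Finset.mem_coe.symm
  have hSfmem : ∀ φ, φ ∈ Sf ↔ φ ∈ inducedIrrAbove K ⊥ := by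
    intro φ; rw [← hSfcoe]; exact Finset.mem_coe.symm
  have hYmem : ∀ ξ : L → ℂ, ξ ∈ Y ↔ (IsIrrCharacter L ξ ∧ ∃ z ∈ Z, ξ z ≠ ξ 1) := by
    intro ξ
    rw [hYmem₀, hYset]
    rfl
  have hsumAll := sum_irr_degree_sq (K := L)
  have hsumZ := sum_irr_degree_sq_above (K := L) Z
  have hsplit := Finset.sum_filter_add_sum_filter_not (Finset.univ : Finset (IrrCharacter L))
      (fun χ : IrrCharacter L => ∀ x ∈ Z, (χ : L → ℂ) x = (χ : L → ℂ) 1)
      (fun χ => charDegree (χ : L → ℂ) ^ 2)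
  rw [hsumZ, hsumAll] at hsplit
  have hsumY : ∑ φ ∈ Y, charDegree φ ^ 2 + Z.index = Nat.card L := by
    rw [hYdef, Finset.sum_image (fun x _ y _ h => Subtype.ext h), add_comm]
    exact hsplit
  rw [← hXcoe] at hσ hσα
  rw [← hYcoe] at hτY hτYα
  have hXS' : (↑X : Set (L → ℂ)) ⊆ inducedIrrAbove K ⊥ := by rw [hXcoe]; exact hXS
  have hYS' : (↑Y : Set (L → ℂ)) ⊆ inducedIrrAbove K ⊥ := by rw [hYcoe]; exact Set.sdiff_subset
  have hSdeg : ∀ φ ∈ inducedIrrAbove K ⊥, ∃ j : ℕ, φ 1 = ((e * p ^ j : ℕ) : ℂ) := by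
    rintro φ ⟨θ, hθ, -, -, rfl⟩
    obtain ⟨dθ, hdpos, hd1, hddvd⟩ := irr_degree_nat_dvd hθ
    rw [hcard] at hddvd
    obtain ⟨j, -, rfl⟩ := (Nat.dvd_prime_pow hp).mp hddvd
    exact ⟨j, by rw [indFun_one, hd1, he]; push_cast; ring⟩
  have hdval : ∀ φ : L → ℂ, ∀ k : ℕ, φ 1 = (k : ℂ) → charDegree φ = k := by
    intro φ k h
    show ⌊(φ 1).re⌋₊ = k
    rw [h]; simp
  have hZcard : 1 < Nat.card Z := (Subgroup.one_lt_card_iff_ne_bot Z).mpr hZ1
  have hZidx : Z.index < Nat.card L := by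
    have h := Z.card_mul_index
    have hpos : 0 < Z.index := Nat.pos_of_ne_zero Subgroup.index_ne_zero_of_finite
    nlinarith
  have hYne : Y.Nonempty := by
    by_contra hcon
    rw [Finset.not_nonempty_iff_eq_empty] at hcon
    rw [hcon, Finset.sum_empty] at hsumY
    omega
  obtain ⟨η₀, hη₀, hη₀min⟩ := Finset.exists_min_image Y charDegree hYne
  obtain ⟨j₀, hj₀⟩ := hSdeg η₀ (hYS' (Finset.mem_coe.mpr hη₀))
  obtain ⟨q₀, hq₀def⟩ : ∃ q₀ : ℕ, q₀ = p ^ j₀ := ⟨_, rfl⟩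
  have hq₀pos : 0 < q₀ := by rw [hq₀def]; exact Nat.pow_pos hp.pos
  obtain ⟨r, hrdef⟩ : ∃ r : (L → ℂ) → ℕ, r = fun η => charDegree η / (e * q₀) := ⟨_, rfl⟩
  have hYdeg : ∀ η ∈ Y, η 1 = ((e * q₀ * r η : ℕ) : ℂ) := by
    intro η hη
    obtain ⟨j, hj⟩ := hSdeg η (hYS' (Finset.mem_coe.mpr hη))
    have hle := hη₀min η hη
    rw [hdval _ _ hj₀, hdval _ _ hj] at hle
    have h1 : p ^ j₀ ≤ p ^ j := Nat.le_of_mul_le_mul_left hle hepos
    have h2 : j₀ ≤ j := (Nat.pow_le_pow_iff_right hp.one_lt).mp h1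
    have h3 : e * q₀ ∣ e * p ^ j := by
      rw [hq₀def]
      exact Nat.mul_dvd_mul_left e (pow_dvd_pow p h2)
    have h4 : e * q₀ * r η = e * p ^ j := by
      rw [hrdef]
      show e * q₀ * (charDegree η / (e * q₀)) = e * p ^ j
      rw [hdval _ _ hj]
      exact Nat.mul_div_cancel' h3
    rw [h4, hj]
  have hr₀ : r η₀ = 1 := by
    rw [hrdef]
    show charDegree η₀ / (e * q₀) = 1
    rw [hdval _ _ hj₀, hq₀def]
    exact Nat.div_self (Nat.mul_pos hepos (Nat.pow_pos hp.pos))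
  have hXdeg : ∀ χ ∈ X, χ 1 = (e : ℂ) := fun χ hχ => hXdeg₀ χ ((hXmem χ).mp hχ)
  have hχ₀ : χ₀ ∈ X := (hXmem χ₀).mpr hχ₀X
  have hχ₁ : conjFun χ₀ ∈ X := (hXmem _).mpr (inducedIrrAbove_conj_mem K _ hχ₀X)
  have hχ₁ne : conjFun χ₀ ≠ χ₀ := hS.conj_ne χ₀ (hXS hχ₀X)
  have hX2 : 2 ≤ X.card := Finset.one_lt_card.mpr ⟨_, hχ₁, _, hχ₀, hχ₁ne⟩
  have hYc : ∀ χ ∈ Y, conjFun χ ∈ Y := by
    intro χ hχ
    rw [hYmem₀] at hχ ⊢
    obtain ⟨h1, h2⟩ := hχ
    refine ⟨inducedIrrAbove_conj_mem K ⊥ h1, fun h3 => h2 ?_⟩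
    have h4 := inducedIrrAbove_conj_mem K Z h3
    rwa [conjFun_conjFun] at h4
  have hY2 : 2 ≤ Y.card := Finset.one_lt_card.mpr
    ⟨_, hYc η₀ hη₀, _, hη₀, hS.conj_ne η₀ (hYS' (Finset.mem_coe.mpr hη₀))⟩
  have hXZ : inducedIrrAbove K ⁅K, K⁆ ⊆ inducedIrrAbove K Z := by
    rintro φ ⟨θ, hθ, hne, htriv, rfl⟩
    exact ⟨θ, hθ, hne, fun a ha => htriv a (hZK' ha), rfl⟩
  have hXY : Disjoint X Y := by
    rw [Finset.disjoint_left]
    intro a haX haY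
    exact ((hYmem₀ a).mp haY).2 (hXZ ((hXmem a).mp haX))
  have hXYset : Disjoint (↑X : Set (L → ℂ)) ↑Y := Finset.disjoint_coe.mpr hXY
  have hσ' : IsLinearIsometryOn
      ((Submodule.span ℤ (↑X : Set (L → ℂ)) : Submodule ℤ (L → ℂ)) : Set (L → ℂ)) σ := hσ
  have hmχ₁ : conjFun χ₀ ∈ (Submodule.span ℤ (↑X : Set (L → ℂ)) : Submodule ℤ (L → ℂ)) :=
    Submodule.subset_span (Finset.mem_coe.mpr hχ₁)
  -- Sibley's divisibility
  have hdiv : ∃ χ₁ ∈ X, χ₁ ≠ χ₀ ∧ ∃ t : ℤ,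
      classInner (τ (η₀ - (q₀ : ℤ) • χ₀)) (σ χ₁) = (((q₀ : ℤ) * t : ℤ) : ℂ) := by
    refine ⟨conjFun χ₀, hχ₁, hχ₁ne, ?_⟩
    obtain ⟨ψ, hψdef⟩ : ∃ ψ : G → ℂ, ψ = σ (conjFun χ₀) := ⟨_, rfl⟩
    have hψ : IsGeneralizedCharacter G ψ := by rw [hψdef]; exact lio_gen hσ' hmχ₁
    have hψn : classInner ψ ψ = 1 := by
      rw [hψdef, lio_inner hσ' hmχ₁ hmχ₁]
      exact classInner_irr_self (hirr _ (hXS' (Finset.mem_coe.mpr hχ₁)))
    obtain ⟨horthXY, -⟩ := Cfsg.Agent.S1531.result L (inducedIrrAbove K ⊥) ↑X ↑Y hirr hXS' hYS'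
      hXYset
      (by
        obtain ⟨a, ha, b, hb, hab'⟩ := Finset.one_lt_card.mp (by omega : 1 < X.card)
        exact ⟨a, Finset.mem_coe.mpr ha, b, Finset.mem_coe.mpr hb, hab'⟩)
      (by
        obtain ⟨a, ha, b, hb, hab'⟩ := Finset.one_lt_card.mp (by omega : 1 < Y.card)
        exact ⟨a, Finset.mem_coe.mpr ha, b, Finset.mem_coe.mpr hb, hab'⟩)
      τ hS.isometry hS.map_one σ τY hσ hσα hτY hτYα
    have horth : ∀ η ∈ Y, classInner ψ (τY η) = 0 := fun η hη => by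
      rw [hψdef]
      exact horthXY _ (Finset.mem_coe.mpr hχ₁) η (Finset.mem_coe.mpr hη)
    obtain ⟨k, hk⟩ := sib_div F hodd p hHp Z hZ1 (hK ▸ hZK) (by rw [← hK]; exact hZc) Y hYmem τY
      hτY (by rw [hτdef] at hτYα; exact hτYα) q₀ r (by rw [← hK, ← he]; exact hYdeg) η₀ hη₀ hr₀
      ψ hψ hψn horth
    have hψLgen : IsGeneralizedCharacter L (fun x : L => ψ x) :=
      isGeneralizedCharacter_restrict L hψ
    obtain ⟨j, hj⟩ := exists_int_classInner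
      (zspan_isGeneralizedCharacter (S := inducedIrrAbove K ⊥)
        (fun ξ hξ => isCharacter_of_isIrrCharacter (hirr ξ hξ))
        (mem_zspan_of_mem (hXS hχ₀X))) hψLgen
    refine ⟨k - j, ?_⟩
    rw [← hψdef, hτdef]
    show classInner (indFun L (η₀ - (q₀ : ℤ) • χ₀)) ψ = _
    rw [frobenius_reciprocity L _ (isClassFunction_of_isGeneralizedCharacter hψ),
      classInner_sub_left, classInner_zsmul_left, hk, hj]
    push_cast
    ring
  have hcoh₀ := sibley_abstract L (inducedIrrAbove K ⊥) X Y hirr hXS' hYS' hXY hX2 hY2 τ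
    hS.isometry hS.map_one σ τY hσ hσα hτY hτYα e q₀ r hXdeg hYdeg χ₀ η₀ hχ₀ hη₀ hr₀ hdiv
  -- the remaining characters
  have hd : ∀ φ ∈ inducedIrrAbove K ⊥, φ 1 = (charDegree φ : ℂ) := by
    intro φ hφ
    obtain ⟨j, hj⟩ := hSdeg φ hφ
    rw [hdval φ _ hj, hj]
  have hn : ∀ φ ∈ inducedIrrAbove K ⊥, classInner φ φ = ((1 : ℕ) : ℂ) := by
    intro φ hφ
    rw [classInner_irr_self (hirr φ hφ)]; simp
  have hS₀ : (↑(X ∪ Y) : Set (L → ℂ)) ⊆ inducedIrrAbove K ⊥ := by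
    rw [Finset.coe_union]; exact Set.union_subset hXS' hYS'
  have hS₀c : ∀ φ ∈ X ∪ Y, conjFun φ ∈ X ∪ Y := by
    intro φ hφ
    rcases Finset.mem_union.mp hφ with h | h
    · exact Finset.mem_union_left _
        ((hXmem _).mpr (inducedIrrAbove_conj_mem K _ ((hXmem φ).mp h)))
    · exact Finset.mem_union_right _ (hYc φ h)
  have hsub : X ∪ Y ⊆ Sf := by
    intro φ hφ
    rw [hSfmem]
    exact hS₀ (Finset.mem_coe.mpr hφ)
  have hT : (↑(Sf \ (X ∪ Y)) : Set (L → ℂ)) ⊆ inducedIrrAbove K ⊥ := by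
    intro φ hφ
    exact (hSfmem φ).mp (Finset.mem_sdiff.mp (Finset.mem_coe.mp hφ)).1
  have hTc : ∀ φ ∈ Sf \ (X ∪ Y), conjFun φ ∈ Sf \ (X ∪ Y) := by
    intro φ hφ
    obtain ⟨h1, h2⟩ := Finset.mem_sdiff.mp hφ
    refine Finset.mem_sdiff.mpr
      ⟨(hSfmem _).mpr (hS.conj_mem φ ((hSfmem φ).mp h1)), fun h3 => h2 ?_⟩
    have h4 := hS₀c _ h3
    rwa [conjFun_conjFun] at h4
  have hdχ₀ : charDegree χ₀ = e := hdval χ₀ e (hXdeg χ₀ hχ₀)
  obtain ⟨c, hc⟩ : ∃ c : ℕ, c = Z.relIndex K := ⟨_, rfl⟩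
  have hZc1 : Nat.card Z * c = Nat.card K := by
    rw [hc]; exact helper72.card_mul_relIndex' hZK
  have hKe : Nat.card K * e = Nat.card L := by rw [he]; exact K.card_mul_index
  have hZidx2 : Z.index = c * e := by
    rw [hc, he]; exact (Subgroup.relIndex_mul_index hZK).symm
  have hoddK : Odd e := by rw [he]; exact Odd.of_dvd_nat hodd (Subgroup.index_dvd_card K)
  have hoddZ : Odd (Nat.card Z) := Odd.of_dvd_nat hodd (Subgroup.card_subgroup_dvd_card Z)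
  have h2e : 2 * e + 1 ≤ Nat.card Z :=
    two_mul_add_one_le_of_dvd hoddK hoddZ hZcard (by rw [he]; exact frobC_index_dvd K hC Z hZK)
  have hsumXY : 2 * e ^ 2 + 2 * e ^ 2 * c ≤ ∑ φ ∈ X ∪ Y, charDegree φ ^ 2 := by
    rw [Finset.sum_union hXY]
    have h1 : ∑ φ ∈ X, charDegree φ ^ 2 = X.card * e ^ 2 := by
      rw [Finset.sum_congr rfl (fun φ hφ => by rw [hdval φ e (hXdeg φ hφ)]), Finset.sum_const,
        smul_eq_mul]
    have h2 : ∑ φ ∈ Y, charDegree φ ^ 2 = Nat.card L - Z.index := by omega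
    rw [h1, h2]
    have h3 : Nat.card L = Nat.card Z * c * e := by rw [hZc1, hKe]
    rw [h3, hZidx2]
    have h4 : (2 * e + 1) * (c * e) ≤ Nat.card Z * c * e := by
      rw [mul_assoc]; exact Nat.mul_le_mul_right _ h2e
    have h5 : 2 * e ^ 2 ≤ X.card * e ^ 2 := Nat.mul_le_mul_right _ hX2
    have h6 : (2 * e + 1) * (c * e) = 2 * e ^ 2 * c + c * e := by ring
    omega
  have hfin := coherent_union_of_bound (inducedIrrAbove K ⊥) τ R hS charDegree (fun _ => 1) hd hn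
    (X ∪ Y) hS₀ hS₀c (by rw [Finset.coe_union]; exact hcoh₀) χ₀ (Finset.mem_union_left _ hχ₀)
    (Sf \ (X ∪ Y)) hT hTc ?_ ?_
  · have hunion : (↑((X ∪ Y) ∪ (Sf \ (X ∪ Y))) : Set (L → ℂ)) = inducedIrrAbove K ⊥ := by
      rw [Finset.union_sdiff_of_subset hsub, hSfcoe]
    rw [hunion] at hfin
    exact hfin
  · intro χ hχ
    obtain ⟨j, hj⟩ := hSdeg χ (hT (Finset.mem_coe.mpr hχ))
    rw [hdχ₀, hdval χ _ hj]
    exact Dvd.intro _ rfl
  · intro χ hχ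
    have hχS := hT (Finset.mem_coe.mpr hχ)
    obtain ⟨θ, hθ, -, -, rfl⟩ := hχS
    obtain ⟨m', hm', hle⟩ := irr_degree_sq_le (Z.subgroupOf K) ⊤ le_top (by
        intro z hz c' _
        apply Subtype.ext
        exact hZc z hz c' c'.2) hθ
    rw [Subgroup.index_top, one_mul] at hle
    have hrel : (Z.subgroupOf K).index = Z.relIndex K := rfl
    rw [hrel, ← hc] at hle
    have hdχ : charDegree (indFun K θ) = e * m' :=
      hdval _ _ (by rw [indFun_one, hm', he]; push_cast; ring)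
    have hm'c : m' ≤ c := (Nat.le_self_pow (by norm_num) m').trans hle
    have hcast : ∑ φ ∈ X ∪ Y, ((charDegree φ : ℝ) ^ 2 / ((1 : ℕ) : ℝ))
        = ((∑ φ ∈ X ∪ Y, charDegree φ ^ 2 : ℕ) : ℝ) := by
      push_cast; simp
    refine lt_of_lt_of_eq ?_ hcast.symm
    rw [hdχ, hdχ₀]
    have h7 : 2 * (e * m') * e < ∑ φ ∈ X ∪ Y, charDegree φ ^ 2 := by
      have h8 : 2 * (e * m') * e ≤ 2 * e ^ 2 * c := by
        have : 2 * (e * m') * e = 2 * e ^ 2 * m' := by ring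
        rw [this]; exact Nat.mul_le_mul_left _ hm'c
      have h9 : 0 < 2 * e ^ 2 := by positivity
      omega
    exact_mod_cast h7

end

end Cfsg.Agent.Lib.helper32
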