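import Mathlib
import Cfsg.Prelude.Def_Characters
import Cfsg.Prelude.Def_OddOrderChar
import Cfsg.Prelude.Def_OddOrderLocal
import Cfsg.Agent.Lib.helper32.Sib5
import Cfsg.Agent.Lib.helper83.CharBasic2

/-!
# Exceptional characters of a TI Frobenius kernel: values (helper32)

In the set-up `FrobTI H L` with a coherent isometry `τ₁` on `zspan S`, `S` the characters of `L`
induced from non-principal irreducible characters of `H`:

* `frobTI_values`: a class function `φ` of `L` whose multiplicities on `S` are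
  `a δ_{ξ χ} + κ ξ(1)` satisfies `φ y = φ 1 + a (χ y - χ 1) - κ |L|` on `H ∖ {1}`;
* `frobTI_exc_values`: a virtual character `ψ` of `G` with `⟨τ₁ ξ, ψ⟩ = a ⟨ξ, χ⟩` on `S`
  satisfies `ψ y = a χ y + u` on `H ∖ {1}` for an integer `u`;
* `frobTI_exc_orth`: exceptional characters of two TI Frobenius kernels of coprime orders are
  orthogonal;
* `frobTI_exc_orth_one`: exceptional characters are orthogonal to the principal character.
-/

set_option autoImplicit false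
set_option linter.unusedSectionVars false

namespace Cfsg.Agent.Lib.helper32

open Cfsg
open Cfsg.Agent.Lib.helper4
open scoped ComplexConjugate

universe u

section

variable {G : Type u} [Group G] [Fintype G] {H L : Subgroup G} [Fintype L]

theorem frobTI_irr (F : FrobTI H L) :
    ∀ χ ∈ inducedIrrAbove (H.subgroupOf L) ⊥, IsIrrCharacter L χ := by
  have _iK := F.normalK
  rintro χ ⟨θ, hθ, hne, -, rfl⟩
  exact frobC_irr _ F.centK hθ hne

theorem frobTI_vanish (F : FrobTI H L) {χ : L → ℂ}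
    (hχ : χ ∈ inducedIrrAbove (H.subgroupOf L) ⊥) (x : L) (hx : (x : G) ∉ H) : χ x = 0 := by
  have _iK := F.normalK
  obtain ⟨θ, -, -, -, rfl⟩ := hχ
  exact helper82.indFun_apply_not_mem _ θ (fun h => hx (Subgroup.mem_subgroupOf.mp h))

/-- Values on `H ∖ {1}` of a class function of `L` with prescribed multiplicities on `S`. -/
theorem frobTI_values (F : FrobTI H L) (φ : L → ℂ) (hφ : IsClassFunction L φ) (χ : L → ℂ)
    (hχ : χ ∈ inducedIrrAbove (H.subgroupOf L) ⊥) (a κ : ℂ)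
    (hc : ∀ ξ ∈ inducedIrrAbove (H.subgroupOf L) ⊥,
      classInner φ ξ = (if ξ = χ then a else 0) + κ * ξ 1)
    (y : L) (hy : (y : G) ∈ H) (hy1 : y ≠ 1) :
    φ y = φ 1 + a * (χ y - χ 1) - κ * (Nat.card L : ℂ) := by
  classical
  have _iK := F.normalK
  let _iI : Fintype (IrrCharacter L) := Fintype.ofFinite _
  have hirr := frobTI_irr F
  have hset := inducedIrr_diff_eq (H.subgroupOf L) (H.subgroupOf L) le_rfl
    (fun χ hχ => hirr χ hχ.1)
  have hnotS : ∀ ξ : IrrCharacter L, (ξ : L → ℂ) ∉ inducedIrrAbove (H.subgroupOf L) ⊥ →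
      (ξ : L → ℂ) y = (ξ : L → ℂ) 1 := by
    intro ξ hξ
    by_contra hne
    apply hξ
    have h1 : (ξ : L → ℂ) ∈ inducedIrrAbove (H.subgroupOf L) ⊥ \
        inducedIrrAbove (H.subgroupOf L) (H.subgroupOf L) := by
      rw [hset]; exact ⟨ξ.2, y, Subgroup.mem_subgroupOf.mpr hy, hne⟩
    exact h1.1
  have hexp := classFunction_eq_sum_irr hφ
  have hval : ∀ g : L, φ g
      = ∑ ξ : IrrCharacter L, classInner φ (ξ : L → ℂ) * (ξ : L → ℂ) g := by
    intro g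
    have h1 := congrFun hexp g
    rw [Finset.sum_apply] at h1
    simpa using h1
  have hterm : ∀ ξ : IrrCharacter L,
      classInner φ (ξ : L → ℂ) * (ξ : L → ℂ) y - classInner φ (ξ : L → ℂ) * (ξ : L → ℂ) 1
        = (if (ξ : L → ℂ) = χ then a else 0) * ((ξ : L → ℂ) y - (ξ : L → ℂ) 1)
          + κ * ((ξ : L → ℂ) y * conj ((ξ : L → ℂ) 1)
            - (ξ : L → ℂ) 1 * conj ((ξ : L → ℂ) 1)) := by
    intro ξ
    obtain ⟨n, hn, hn1⟩ := exists_pos_nat_degree ξ.2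
    have hconj1 : conj ((ξ : L → ℂ) 1) = (ξ : L → ℂ) 1 := by rw [hn1]; simp
    rw [hconj1]
    by_cases hξ : (ξ : L → ℂ) ∈ inducedIrrAbove (H.subgroupOf L) ⊥
    · rw [hc _ hξ]; ring
    · rw [hnotS ξ hξ]; ring
  have hcol1 : ∑ ξ : IrrCharacter L, (ξ : L → ℂ) 1 * conj ((ξ : L → ℂ) 1)
      = (Nat.card L : ℂ) := by
    rw [sum_irr_mul_conj_of_isConj (IsConj.refl (1 : L))]
    have h1 : Subgroup.centralizer ({(1 : L)} : Set L) = ⊤ := by
      ext x; simp [Subgroup.mem_centralizer_iff]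
    rw [h1, Subgroup.card_top]
  have hcoly : ∑ ξ : IrrCharacter L, (ξ : L → ℂ) y * conj ((ξ : L → ℂ) 1) = 0 :=
    sum_irr_mul_conj_of_not_isConj (fun h => hy1 (isConj_one_left.mp h))
  have hsingle : ∑ ξ : IrrCharacter L, (if (ξ : L → ℂ) = χ then a else 0)
      * ((ξ : L → ℂ) y - (ξ : L → ℂ) 1) = a * (χ y - χ 1) := by
    rw [Finset.sum_eq_single (⟨χ, hirr χ hχ⟩ : IrrCharacter L)]
    · simp
    · intro b _ hb
      have h1 : (b : L → ℂ) ≠ χ := fun h => hb (Subtype.ext h)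
      simp [h1]
    · intro h; exact absurd (Finset.mem_univ _) h
  have hmain : φ y - φ 1 = a * (χ y - χ 1) + κ * (0 - (Nat.card L : ℂ)) := by
    rw [hval y, hval 1, ← Finset.sum_sub_distrib, Finset.sum_congr rfl (fun ξ _ => hterm ξ),
      Finset.sum_add_distrib, hsingle, ← Finset.mul_sum, Finset.sum_sub_distrib, hcoly, hcol1]
  linear_combination hmain

/-- Values on `H ∖ {1}` of a virtual character of `G` with prescribed inner products with the
exceptional characters `τ₁ ξ`. -/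
theorem frobTI_exc_values (F : FrobTI H L) (τ₁ : (L → ℂ) → (G → ℂ))
    (hτ₁ : IsLinearIsometryOn (zspan (inducedIrrAbove (H.subgroupOf L) ⊥)) τ₁)
    (hτ₁α : ∀ α ∈ zspanOn (inducedIrrAbove (H.subgroupOf L) ⊥) {1}ᶜ, τ₁ α = indFun L α)
    (χ : L → ℂ) (hχ : χ ∈ inducedIrrAbove (H.subgroupOf L) ⊥)
    (hχ1 : χ 1 = ((H.subgroupOf L).index : ℂ))
    (ψ : G → ℂ) (hψ : IsGeneralizedCharacter G ψ) (a : ℤ)
    (hψτ : ∀ ξ ∈ inducedIrrAbove (H.subgroupOf L) ⊥,
      classInner (τ₁ ξ) ψ = a * classInner ξ χ) :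
    ∃ u : ℤ, ∀ y : L, (y : G) ∈ H → y ≠ 1 → ψ (y : G) = a * χ y + u := by
  classical
  have _iK := F.normalK
  have hirr := frobTI_irr F
  have hτ' : IsLinearIsometryOn ((Submodule.span ℤ (inducedIrrAbove (H.subgroupOf L) ⊥) :
      Submodule ℤ (L → ℂ)) : Set (L → ℂ)) τ₁ := hτ₁
  have hSm : ∀ ξ ∈ inducedIrrAbove (H.subgroupOf L) ⊥,
      ξ ∈ (Submodule.span ℤ (inducedIrrAbove (H.subgroupOf L) ⊥) : Submodule ℤ (L → ℂ)) :=
    fun ξ hξ => Submodule.subset_span hξ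
  obtain ⟨e, he⟩ : ∃ e : ℕ, e = (H.subgroupOf L).index := ⟨_, rfl⟩
  rw [← he] at hχ1
  have hepos : 0 < e := by rw [he]; exact Nat.pos_of_ne_zero Subgroup.index_ne_zero_of_finite
  have he0 : (e : ℂ) ≠ 0 := by exact_mod_cast hepos.ne'
  have hψcl : IsClassFunction G ψ := isClassFunction_of_isGeneralizedCharacter hψ
  obtain ⟨ψL, hψL⟩ : ∃ ψL : L → ℂ, ψL = fun x : L => ψ x := ⟨_, rfl⟩
  have hψLgen : IsGeneralizedCharacter L ψL := by
    rw [hψL]; exact isGeneralizedCharacter_restrict L hψ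
  have hψLcl : IsClassFunction L ψL := isClassFunction_of_isGeneralizedCharacter hψLgen
  have hSgen : ∀ ξ ∈ inducedIrrAbove (H.subgroupOf L) ⊥, IsGeneralizedCharacter L ξ :=
    fun ξ hξ => zspan_isGeneralizedCharacter (S := inducedIrrAbove (H.subgroupOf L) ⊥)
      (fun ζ hζ => isCharacter_of_isIrrCharacter (hirr ζ hζ)) (mem_zspan_of_mem hξ)
  obtain ⟨m, hm⟩ := exists_int_classInner (hSgen χ hχ) hψLgen
  obtain ⟨w, hw⟩ := exists_int_degree hψ
  have hcardL : (Nat.card L : ℂ) = (Nat.card H : ℂ) * e := by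
    rw [he, ← F.card_K]
    exact_mod_cast (Subgroup.card_mul_index (H.subgroupOf L)).symm
  have hc : ∀ ξ ∈ inducedIrrAbove (H.subgroupOf L) ⊥,
      classInner ψL ξ = (if ξ = χ then (a : ℂ) else 0) + (((m - a : ℤ) : ℂ) / e) * ξ 1 := by
    intro ξ hξ
    obtain ⟨θ, hθ, hne, htriv, hξdef⟩ := id hξ
    obtain ⟨d, hd, hd1⟩ := exists_pos_nat_degree hθ
    have hξ1 : ξ 1 = (e : ℂ) * d := by rw [hξdef, indFun_one, hd1, he]
    have hmem : ξ - (d : ℤ) • χ ∈ zspanOn (inducedIrrAbove (H.subgroupOf L) ⊥) {1}ᶜ :=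
      mem_zspanOn_compl_one (zspan_sub_mem (mem_zspan_of_mem hξ)
        (zspan_zsmul_mem (mem_zspan_of_mem hχ) _)) (by simp [hξ1, hχ1]; ring)
    have h1 : τ₁ (ξ - (d : ℤ) • χ) = τ₁ ξ - (d : ℤ) • τ₁ χ := by
      rw [lio_sub hτ' (hSm ξ hξ) (Submodule.smul_mem _ _ (hSm χ hχ)), lio_zsmul hτ' (hSm χ hχ)]
    have h2 := hτ₁α _ hmem
    have h3 : classInner (indFun L (ξ - (d : ℤ) • χ)) ψ = classInner (ξ - (d : ℤ) • χ) ψL := by
      rw [hψL]; exact frobenius_reciprocity L _ hψcl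
    rw [← h2, h1, classInner_sub_left, classInner_zsmul_left, hψτ ξ hξ, hψτ χ hχ,
      classInner_irr_self (hirr χ hχ), classInner_sub_left, classInner_zsmul_left, hm] at h3
    have h4 : classInner ξ χ = if ξ = χ then 1 else 0 := by
      by_cases h : ξ = χ
      · rw [if_pos h, h, classInner_irr_self (hirr χ hχ)]
      · rw [if_neg h, classInner_irr_ne (hirr ξ hξ) (hirr χ hχ) h]
    rw [h4] at h3
    have h5 : classInner ξ ψL = (if ξ = χ then (a : ℂ) else 0) + (d : ℂ) * ((m - a : ℤ) : ℂ) := by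
      push_cast at h3 ⊢
      by_cases h : ξ = χ
      · simp only [h, if_true] at h3 ⊢
        linear_combination -h3
      · simp only [h, if_false] at h3 ⊢
        linear_combination -h3
    rw [← classInner_conj_symm ξ ψL, h5, hξ1]
    have h6 : (starRingEnd ℂ) ((if ξ = χ then (a : ℂ) else 0) + (d : ℂ) * ((m - a : ℤ) : ℂ))
        = (if ξ = χ then (a : ℂ) else 0) + (d : ℂ) * ((m - a : ℤ) : ℂ) := by
      by_cases h : ξ = χ <;> simp [h]
    rw [h6]
    field_simp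
  refine ⟨w - a * e - (m - a) * Nat.card H, ?_⟩
  intro y hy hy1
  have h7 := frobTI_values F ψL hψLcl χ hχ (a : ℂ) (((m - a : ℤ) : ℂ) / e) hc y hy hy1
  rw [hψL] at h7
  have h8 : ψ (y : G) = ψ 1 + (a : ℂ) * (χ y - χ 1)
      - (((m - a : ℤ) : ℂ) / e) * (Nat.card L : ℂ) := h7
  rw [h8, hw, hχ1, hcardL]
  push_cast
  field_simp
  ring

/-- A nonzero value of an induced function comes from a nonzero value at a conjugate. -/
theorem indFun_ne_zero_conj (L : Subgroup G) (α : L → ℂ) (g : G) (h : indFun L α g ≠ 0) :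
    ∃ x : G, ∃ hx : x⁻¹ * g * x ∈ L, α ⟨x⁻¹ * g * x, hx⟩ ≠ 0 := by
  classical
  by_contra hcon
  push Not at hcon
  apply h
  rw [indFun_apply]
  have h1 : ∀ x : G, extendByZero L α (x⁻¹ * g * x) = 0 := by
    intro x
    by_cases hx : x⁻¹ * g * x ∈ L
    · rw [extendByZero_apply_mem L α hx]
      exact hcon x hx
    · exact extendByZero_apply_of_not_mem L α hx
  simp [h1]

/-- The pair `τ₁ χ`, `τ₁ χ̄` attached to a member `χ` of `S`. -/
theorem frobTI_exc_pair (F : FrobTI H L) (hodd : Odd (Nat.card L)) (τ₁ : (L → ℂ) → (G → ℂ))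
    (hτ₁ : IsLinearIsometryOn (zspan (inducedIrrAbove (H.subgroupOf L) ⊥)) τ₁)
    (hτ₁α : ∀ α ∈ zspanOn (inducedIrrAbove (H.subgroupOf L) ⊥) {1}ᶜ, τ₁ α = indFun L α)
    (χ : L → ℂ) (hχ : χ ∈ inducedIrrAbove (H.subgroupOf L) ⊥) :
    (IsIrrCharacter G (τ₁ χ) ∨ IsIrrCharacter G (-τ₁ χ)) ∧
    (IsIrrCharacter G (τ₁ (conjFun χ)) ∨ IsIrrCharacter G (-τ₁ (conjFun χ))) ∧
    classInner (τ₁ χ) (τ₁ (conjFun χ)) = 0 ∧ τ₁ χ 1 = τ₁ (conjFun χ) 1 ∧
    τ₁ χ - τ₁ (conjFun χ) = indFun L (χ - conjFun χ) ∧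
    (∀ g : G, indFun L (χ - conjFun χ) g ≠ 0 → g ≠ 1 ∧ orderOf g ∣ Nat.card H) := by
  classical
  have _iK := F.normalK
  have hirr := frobTI_irr F
  have hτ' : IsLinearIsometryOn ((Submodule.span ℤ (inducedIrrAbove (H.subgroupOf L) ⊥) :
      Submodule ℤ (L → ℂ)) : Set (L → ℂ)) τ₁ := hτ₁
  have hχ' : conjFun χ ∈ inducedIrrAbove (H.subgroupOf L) ⊥ := inducedIrrAbove_conj_mem _ _ hχ
  have hne : conjFun χ ≠ χ := frobC_not_real _ F.centK hodd F.ltK hχ
  have hm : χ ∈ (Submodule.span ℤ (inducedIrrAbove (H.subgroupOf L) ⊥) :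
      Submodule ℤ (L → ℂ)) := Submodule.subset_span hχ
  have hm' : conjFun χ ∈ (Submodule.span ℤ (inducedIrrAbove (H.subgroupOf L) ⊥) :
      Submodule ℤ (L → ℂ)) := Submodule.subset_span hχ'
  have hdeg : conjFun χ 1 = χ 1 :=
    conjFun_degree_of_isCharacter (isCharacter_of_isIrrCharacter (hirr χ hχ))
  have hmem : χ - conjFun χ ∈ zspanOn (inducedIrrAbove (H.subgroupOf L) ⊥) {1}ᶜ :=
    mem_zspanOn_compl_one (zspan_sub_mem (mem_zspan_of_mem hχ) (mem_zspan_of_mem hχ'))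
      (by rw [Pi.sub_apply, hdeg, sub_self])
  have hdiff : τ₁ χ - τ₁ (conjFun χ) = indFun L (χ - conjFun χ) := by
    rw [← lio_sub hτ' hm hm', hτ₁α _ hmem]
  refine ⟨?_, ?_, ?_, ?_, hdiff, ?_⟩
  · apply isIrrCharacter_or_neg_of_norm_one (lio_gen hτ' hm)
    rw [lio_inner hτ' hm hm, classInner_irr_self (hirr χ hχ)]
  · apply isIrrCharacter_or_neg_of_norm_one (lio_gen hτ' hm')
    rw [lio_inner hτ' hm' hm', classInner_irr_self (hirr _ hχ')]
  · rw [lio_inner hτ' hm hm', classInner_irr_ne (hirr χ hχ) (hirr _ hχ') (Ne.symm hne)]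
  · have h1 := congrFun hdiff 1
    rw [Pi.sub_apply, indFun_one, Pi.sub_apply, hdeg, sub_self, mul_zero] at h1
    exact sub_eq_zero.mp h1
  · intro g hg
    obtain ⟨x, hx, hne0⟩ := indFun_ne_zero_conj L _ g hg
    have hxH : x⁻¹ * g * x ∈ H := by
      by_contra hnot
      apply hne0
      rw [Pi.sub_apply, frobTI_vanish F hχ _ hnot, frobTI_vanish F hχ' _ hnot, sub_zero]
    have hx1 : x⁻¹ * g * x ≠ 1 := by
      intro h1
      apply hne0
      have h2 : (⟨x⁻¹ * g * x, hx⟩ : L) = 1 := Subtype.ext h1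
      rw [h2, Pi.sub_apply, hdeg, sub_self]
    have hord : orderOf (x⁻¹ * g * x) = orderOf g := by
      have h3 : x⁻¹ * g * x = MulAut.conj x⁻¹ g := by simp
      rw [h3]
      exact MulEquiv.orderOf_eq _ _
    refine ⟨?_, ?_⟩
    · intro hg1
      apply hx1
      rw [hg1]; group
    · rw [← hord]
      exact Subgroup.orderOf_dvd_natCard H hxH

/-- Exceptional characters are orthogonal to the principal character. -/
theorem frobTI_exc_orth_one (F : FrobTI H L) (hodd : Odd (Nat.card L))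
    (τ₁ : (L → ℂ) → (G → ℂ))
    (hτ₁ : IsLinearIsometryOn (zspan (inducedIrrAbove (H.subgroupOf L) ⊥)) τ₁)
    (hτ₁α : ∀ α ∈ zspanOn (inducedIrrAbove (H.subgroupOf L) ⊥) {1}ᶜ, τ₁ α = indFun L α)
    (χ : L → ℂ) (hχ : χ ∈ inducedIrrAbove (H.subgroupOf L) ⊥) :
    classInner (τ₁ χ) (fun _ : G => (1 : ℂ)) = 0 := by
  classical
  have _iK := F.normalK
  have hirr := frobTI_irr F
  obtain ⟨hA, hB, hAB, -, hdiff, -⟩ := frobTI_exc_pair F hodd τ₁ hτ₁ hτ₁α χ hχ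
  have hχ' : conjFun χ ∈ inducedIrrAbove (H.subgroupOf L) ⊥ := inducedIrrAbove_conj_mem _ _ hχ
  have hone : IsIrrCharacter G (fun _ : G => (1 : ℂ)) := helper83.isIrrCharacter_one
  have honeL : IsIrrCharacter L (fun _ : L => (1 : ℂ)) := helper83.isIrrCharacter_one
  have hneq : ∀ ξ ∈ inducedIrrAbove (H.subgroupOf L) ⊥, ξ ≠ (fun _ : L => (1 : ℂ)) := by
    intro ξ hξ h
    obtain ⟨x, -, hx⟩ := SetLike.exists_of_lt F.ltK
    have h1 := frobTI_vanish F hξ x (fun hh => hx (Subgroup.mem_subgroupOf.mpr hh))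
    rw [h] at h1
    exact one_ne_zero h1
  have h1 : classInner (τ₁ χ - τ₁ (conjFun χ)) (fun _ : G => (1 : ℂ)) = 0 := by
    rw [hdiff, frobenius_reciprocity L _ (isClassFunction_of_isIrrCharacter hone),
      classInner_sub_left, classInner_irr_ne (hirr χ hχ) honeL (hneq χ hχ),
      classInner_irr_ne (hirr _ hχ') honeL (hneq _ hχ'), sub_zero]
  rw [classInner_sub_left] at h1
  rcases signed_irr_inner (τ₁ χ) (fun _ : G => (1 : ℂ)) hA (Or.inl hone) with h | ⟨h, -⟩ | ⟨h, -⟩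
  · exact h
  · have h2 : classInner (τ₁ (conjFun χ)) (fun _ : G => (1 : ℂ)) = 0 := by
      rw [h]; exact classInner_comm_of_eq_zero hAB
    rw [h2, sub_zero] at h1
    exact h1
  · have h2 : classInner (τ₁ (conjFun χ)) (fun _ : G => (1 : ℂ)) = 0 := by
      rw [h, classInner_neg_right, classInner_comm_of_eq_zero hAB, neg_zero]
    rw [h2, sub_zero] at h1
    exact h1

/-- The degree of a signed irreducible character of a group of odd order is an odd integer. -/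
theorem signed_irr_degree_odd (hodd : Odd (Nat.card G)) (x : G → ℂ)
    (hx : IsIrrCharacter G x ∨ IsIrrCharacter G (-x)) : ∃ k : ℤ, x 1 = k ∧ Odd k := by
  rcases hx with h | h
  · obtain ⟨d, -, hd1, hdvd⟩ := irr_degree_nat_dvd h
    refine ⟨d, by rw [hd1]; simp, ?_⟩
    have := Odd.of_dvd_nat hodd hdvd
    exact_mod_cast this
  · obtain ⟨d, -, hd1, hdvd⟩ := irr_degree_nat_dvd h
    refine ⟨-(d : ℤ), ?_, ?_⟩
    · have h1 : x 1 = -((-x) 1) := by simp
      rw [h1, hd1]; simp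
    · have := Odd.of_dvd_nat hodd hdvd
      exact Odd.neg (by exact_mod_cast this)

open Classical in
/-- The sums of `χ` and `|χ|²` over `H ∖ {1}` for a member `χ` of `S` of degree `|L:H|`. -/
theorem frobTI_sum_chi (F : FrobTI H L) {χ : L → ℂ}
    (hχ : χ ∈ inducedIrrAbove (H.subgroupOf L) ⊥)
    (hχ1 : χ 1 = ((H.subgroupOf L).index : ℂ)) :
    ∑ y : G, (if y ∈ H ∧ y ≠ 1 then extendByZero L χ y else 0)
        = -((H.subgroupOf L).index : ℂ) ∧
      ∑ y : G, (if y ∈ H ∧ y ≠ 1 then extendByZero L χ y * conj (extendByZero L χ y) else 0)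
        = (Nat.card L : ℂ) - ((H.subgroupOf L).index : ℂ) ^ 2 := by
  have hirr := frobTI_irr F χ hχ
  have hvan : ∀ y : G, y ∉ H → extendByZero L χ y = 0 := by
    intro y hy
    by_cases hL : y ∈ L
    · rw [extendByZero_apply_mem L χ hL]
      exact frobTI_vanish F hχ ⟨y, hL⟩ hy
    · exact extendByZero_apply_of_not_mem L χ hL
  have hone : extendByZero L χ 1 = χ 1 := extendByZero_apply_mem L χ L.one_mem
  have hgen : ∀ f : G → ℂ, (∀ y : G, y ∉ H → f y = 0) →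
      ∑ y : G, (if y ∈ H ∧ y ≠ 1 then f y else 0) = ∑ y : G, f y - f 1 := by
    intro f hf
    have h1 : ∀ y : G, (if y ∈ H ∧ y ≠ 1 then f y else 0)
        = f y - (if y = 1 then f 1 else 0) := by
      intro y
      by_cases h1 : y = 1
      · simp [h1]
      · by_cases hH : y ∈ H
        · simp [h1, hH]
        · simp [h1, hH, hf y hH]
    rw [Finset.sum_congr rfl (fun y _ => h1 y), Finset.sum_sub_distrib]
    simp
  constructor
  · rw [hgen _ hvan, sum_extendByZero, hone, hχ1]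
    have hne : (⟨χ, hirr⟩ : IrrCharacter L) ≠ helper83.trivIrr L := by
      intro h
      obtain ⟨x, -, hx⟩ := SetLike.exists_of_lt F.ltK
      have h1 := frobTI_vanish F hχ x (fun hh => hx (Subgroup.mem_subgroupOf.mpr hh))
      have h2 := congrArg (fun φ : IrrCharacter L => (φ : L → ℂ) x) h
      simp only [helper83.trivIrr_apply] at h2
      rw [h1] at h2
      exact zero_ne_one h2
    have h3 := helper83.irr_sum_eq_zero (⟨χ, hirr⟩ : IrrCharacter L) hne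
    simp only at h3
    rw [h3, zero_sub]
  · rw [hgen _ (fun y hy => by rw [hvan y hy, zero_mul]),
      sum_extendByZero_mul L χ (fun y => conj (extendByZero L χ y)), hone, hχ1]
    have h1 : ∑ x : L, χ x * conj (extendByZero L χ (x : G)) = (Nat.card L : ℂ) := by
      have h2 := classInner_irr_self hirr
      unfold classInner at h2
      have h3 : (Nat.card L : ℂ) ≠ 0 := by exact_mod_cast (Nat.card_pos (α := L)).ne'
      rw [Finset.sum_congr rfl (fun x _ => by rw [extendByZero_apply_coe])]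
      field_simp at h2
      exact h2
    rw [h1]
    simp [pow_two]

/-- The values of `τ₁ χ` on `H ∖ {1}`. -/
theorem frobTI_exc_self (F : FrobTI H L) (τ₁ : (L → ℂ) → (G → ℂ))
    (hτ₁ : IsLinearIsometryOn (zspan (inducedIrrAbove (H.subgroupOf L) ⊥)) τ₁)
    (hτ₁α : ∀ α ∈ zspanOn (inducedIrrAbove (H.subgroupOf L) ⊥) {1}ᶜ, τ₁ α = indFun L α)
    (χ : L → ℂ) (hχ : χ ∈ inducedIrrAbove (H.subgroupOf L) ⊥)
    (hχ1 : χ 1 = ((H.subgroupOf L).index : ℂ)) :
    ∃ u : ℤ, ∀ y : G, y ∈ H → y ≠ 1 → τ₁ χ y = extendByZero L χ y + u := by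
  have hτ' : IsLinearIsometryOn ((Submodule.span ℤ (inducedIrrAbove (H.subgroupOf L) ⊥) :
      Submodule ℤ (L → ℂ)) : Set (L → ℂ)) τ₁ := hτ₁
  have hm : χ ∈ (Submodule.span ℤ (inducedIrrAbove (H.subgroupOf L) ⊥) :
      Submodule ℤ (L → ℂ)) := Submodule.subset_span hχ
  obtain ⟨u, hu⟩ := frobTI_exc_values F τ₁ hτ₁ hτ₁α χ hχ hχ1 (τ₁ χ) (lio_gen hτ' hm) 1 (by
    intro ξ hξ
    rw [lio_inner hτ' (Submodule.subset_span hξ) hm]
    simp)
  refine ⟨u, ?_⟩
  intro y hy hy1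
  have h1 := hu ⟨y, F.lt.le hy⟩ hy (fun h => hy1 (congrArg Subtype.val h))
  rw [extendByZero_apply_mem L χ (F.lt.le hy)]
  simpa using h1

/-- A virtual character orthogonal to all the `τ₁ ξ` is constant on `H ∖ {1}`. -/
theorem frobTI_exc_other (F : FrobTI H L) (τ₁ : (L → ℂ) → (G → ℂ))
    (hτ₁ : IsLinearIsometryOn (zspan (inducedIrrAbove (H.subgroupOf L) ⊥)) τ₁)
    (hτ₁α : ∀ α ∈ zspanOn (inducedIrrAbove (H.subgroupOf L) ⊥) {1}ᶜ, τ₁ α = indFun L α)
    (χ : L → ℂ) (hχ : χ ∈ inducedIrrAbove (H.subgroupOf L) ⊥)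
    (hχ1 : χ 1 = ((H.subgroupOf L).index : ℂ))
    (ψ : G → ℂ) (hψ : IsGeneralizedCharacter G ψ)
    (horth : ∀ ξ ∈ inducedIrrAbove (H.subgroupOf L) ⊥, classInner (τ₁ ξ) ψ = 0) :
    ∃ v : ℤ, ∀ y : G, y ∈ H → y ≠ 1 → ψ y = v := by
  obtain ⟨u, hu⟩ := frobTI_exc_values F τ₁ hτ₁ hτ₁α χ hχ hχ1 ψ hψ 0 (by
    intro ξ hξ
    rw [horth ξ hξ]
    simp)
  refine ⟨u, ?_⟩
  intro y hy hy1
  have h1 := hu ⟨y, F.lt.le hy⟩ hy (fun h => hy1 (congrArg Subtype.val h))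
  simpa using h1

end

section Two

variable {G : Type u} [Group G] [Fintype G] {H₁ L₁ H₂ L₂ : Subgroup G} [Fintype L₁] [Fintype L₂]

/-- Exceptional characters attached to two TI Frobenius kernels of coprime orders are
orthogonal. -/
theorem frobTI_exc_orth (F₁ : FrobTI H₁ L₁) (F₂ : FrobTI H₂ L₂) (hodd₁ : Odd (Nat.card L₁))
    (hodd₂ : Odd (Nat.card L₂)) (hcop : Nat.Coprime (Nat.card H₁) (Nat.card H₂))
    (τ₁ : (L₁ → ℂ) → (G → ℂ))
    (hτ₁ : IsLinearIsometryOn (zspan (inducedIrrAbove (H₁.subgroupOf L₁) ⊥)) τ₁)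
    (hτ₁α : ∀ α ∈ zspanOn (inducedIrrAbove (H₁.subgroupOf L₁) ⊥) {1}ᶜ, τ₁ α = indFun L₁ α)
    (τ₂ : (L₂ → ℂ) → (G → ℂ))
    (hτ₂ : IsLinearIsometryOn (zspan (inducedIrrAbove (H₂.subgroupOf L₂) ⊥)) τ₂)
    (hτ₂α : ∀ α ∈ zspanOn (inducedIrrAbove (H₂.subgroupOf L₂) ⊥) {1}ᶜ, τ₂ α = indFun L₂ α)
    (χ : L₁ → ℂ) (hχ : χ ∈ inducedIrrAbove (H₁.subgroupOf L₁) ⊥)
    (ξ : L₂ → ℂ) (hξ : ξ ∈ inducedIrrAbove (H₂.subgroupOf L₂) ⊥) :
    classInner (τ₁ χ) (τ₂ ξ) = 0 := by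
  obtain ⟨hA, hB, hAB, hA1, hd₁, hs₁⟩ := frobTI_exc_pair F₁ hodd₁ τ₁ hτ₁ hτ₁α χ hχ
  obtain ⟨hC, hD, hCD, hC1, hd₂, hs₂⟩ := frobTI_exc_pair F₂ hodd₂ τ₂ hτ₂ hτ₂α ξ hξ
  have hmix : classInner (((1 : ℝ) : ℂ) • τ₁ χ - ((1 : ℝ) : ℂ) • τ₁ (conjFun χ))
      (((1 : ℝ) : ℂ) • τ₂ ξ - ((1 : ℝ) : ℂ) • τ₂ (conjFun ξ)) = 0 := by
    have e1 : ((1 : ℝ) : ℂ) • τ₁ χ - ((1 : ℝ) : ℂ) • τ₁ (conjFun χ)
        = indFun L₁ (χ - conjFun χ) := by rw [← hd₁]; simp
    have e2 : ((1 : ℝ) : ℂ) • τ₂ ξ - ((1 : ℝ) : ℂ) • τ₂ (conjFun ξ)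
        = indFun L₂ (ξ - conjFun ξ) := by rw [← hd₂]; simp
    rw [e1, e2]
    have key : ∀ g : G, indFun L₁ (χ - conjFun χ) g
        * conj (indFun L₂ (ξ - conjFun ξ) g) = 0 := by
      intro g
      by_contra hne
      have h1 : indFun L₁ (χ - conjFun χ) g ≠ 0 := fun h => hne (by rw [h, zero_mul])
      have h2 : indFun L₂ (ξ - conjFun ξ) g ≠ 0 := fun h => hne (by rw [h, map_zero, mul_zero])
      obtain ⟨hg1, hg2⟩ := hs₁ g h1
      obtain ⟨-, hg3⟩ := hs₂ g h2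
      have h3 := Nat.dvd_gcd hg2 hg3
      rw [Nat.Coprime.gcd_eq_one hcop] at h3
      exact hg1 (orderOf_eq_one_iff.mp (Nat.dvd_one.mp h3))
    unfold classInner
    rw [Finset.sum_eq_zero (fun g _ => key g), mul_zero]
  exact (four_signed_orthogonal (τ₁ χ) (τ₁ (conjFun χ)) (τ₂ ξ) (τ₂ (conjFun ξ)) hA hB hC hD
    1 1 1 1 one_ne_zero one_ne_zero one_ne_zero one_ne_zero hAB hCD hmix (by rw [hA1])
    (by rw [hC1])).1

end Two

end Cfsg.Agent.Lib.helper32
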