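import Mathlib
import Cfsg.Prelude.Def_Characters
import Cfsg.Prelude.Def_OddOrderChar
import Cfsg.Agent.Lib.helper4.CharDecomp
import Cfsg.Agent.Lib.helper4.Exceptional
import Cfsg.Agent.Lib.helper32.Coh
import Cfsg.Agent.Lib.helper32.Coh2
import Cfsg.Agent.Lib.helper32.Coh3
import Cfsg.Agent.Lib.helper32.Coh5

/-!
# Coherence of a set of irreducible characters of equal degree (helper32)

No closure under complex conjugation is needed.

* `coherent_of_base`: the abstract extension step from a base vector `Z₀`.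
* `coherent_of_equal_degree`: a set of at least two irreducible characters of the same degree
  is coherent for every linear isometry on `ℤ[S, L ∖ 1]` whose values vanish at `1`.
-/

set_option autoImplicit false

namespace Cfsg.Agent.Lib.helper32

open Cfsg
open Cfsg.Agent.Lib.helper4
open scoped ComplexConjugate

universe u v

variable {L : Type u} [Group L] [Fintype L] {G : Type v} [Group G] [Fintype G]

/-- Coherence from a base vector: if `Z₀` is a virtual character of norm one with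
`⟨Z₀, τ (χ₀ - ψ)⟩ = 1` for all other `ψ ∈ S`, then `S` is coherent. -/
theorem coherent_of_base (S : Set (L → ℂ)) (hirr : ∀ χ ∈ S, IsIrrCharacter L χ)
    (hdeg : ∀ φ ∈ S, ∀ ψ ∈ S, φ 1 = ψ 1) (τ : (L → ℂ) → (G → ℂ))
    (hτ₀ : IsLinearIsometryOn (zspanOn S {1}ᶜ) τ) (χ₀ : L → ℂ) (hχ₀ : χ₀ ∈ S)
    (hne : ∃ ψ ∈ S, ψ ≠ χ₀) (Z₀ : G → ℂ) (hZ₀virt : IsGeneralizedCharacter G Z₀)
    (hZ₀norm : classInner Z₀ Z₀ = 1)
    (hZ₀τ : ∀ ψ ∈ S, ψ ≠ χ₀ → classInner Z₀ (τ (χ₀ - ψ)) = 1) :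
    IsCoherent S {1}ᶜ τ := by
  classical
  have hτ : IsLinearIsometryOn ((zspanOnSub S {1}ᶜ : Submodule ℤ (L → ℂ)) : Set (L → ℂ)) τ := by
    rw [coe_zspanOnSub]; exact hτ₀
  obtain ⟨d₀, hd₀pos, hd₀⟩ := exists_pos_nat_degree (hirr χ₀ hχ₀)
  have hmemsub : ∀ χ ∈ S, ∀ ψ ∈ S, χ - ψ ∈ zspanOnSub S {1}ᶜ := by
    intro χ hχ ψ hψ
    have h : χ - ψ ∈ zspanOn S {1}ᶜ :=
      mem_zspanOn_compl_one (zspan_sub_mem (mem_zspan_of_mem hχ) (mem_zspan_of_mem hψ))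
        (by rw [Pi.sub_apply, hdeg χ hχ ψ hψ, sub_self])
    rw [← coe_zspanOnSub] at h
    exact h
  have hmem : ∀ χ ∈ S, χ₀ - χ ∈ zspanOnSub S {1}ᶜ := fun χ hχ => hmemsub χ₀ hχ₀ χ hχ
  have horth : ∀ χ ∈ S, ∀ φ ∈ S, χ ≠ φ → classInner χ φ = 0 :=
    fun χ hχ φ hφ h => classInner_irr_ne (hirr χ hχ) (hirr φ hφ) h
  have h11 : classInner χ₀ χ₀ = 1 := classInner_irr_self (hirr χ₀ hχ₀)
  have hZ₀τ' : ∀ ψ ∈ S, ψ ≠ χ₀ → classInner (τ (χ₀ - ψ)) Z₀ = 1 := by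
    intro ψ hψ h3
    rw [← classInner_conj_symm, hZ₀τ ψ hψ h3]
    simp
  let Z : (L → ℂ) → (G → ℂ) := fun χ => Z₀ - τ (χ₀ - χ)
  have hZvirt : ∀ χ ∈ S, IsGeneralizedCharacter G (Z χ) :=
    fun χ hχ => isGeneralizedCharacter_sub hZ₀virt (lio_gen hτ (hmem χ hχ))
  have hZi : ∀ χ ∈ S, ∀ ψ ∈ S, classInner (Z χ) (Z ψ) = classInner χ ψ := by
    intro χ hχ ψ hψ
    show classInner (Z₀ - τ (χ₀ - χ)) (Z₀ - τ (χ₀ - ψ)) = classInner χ ψ
    rw [classInner_sub_left, classInner_sub_right, classInner_sub_right,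
      lio_inner hτ (hmem χ hχ) (hmem ψ hψ), hZ₀norm]
    by_cases e1 : χ = χ₀
    · by_cases e2 : ψ = χ₀
      · rw [e1, e2, sub_self, lio_zero hτ, classInner_zero_left, classInner_zero_right,
          classInner_zero_left, h11]
        ring
      · rw [e1, sub_self, lio_zero hτ, classInner_zero_left, classInner_zero_left,
          hZ₀τ ψ hψ e2, horth χ₀ hχ₀ ψ hψ (Ne.symm e2)]
        ring
    · by_cases e2 : ψ = χ₀
      · rw [e2, sub_self, lio_zero hτ, classInner_zero_right, classInner_zero_right,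
          hZ₀τ' χ hχ e1, horth χ hχ χ₀ hχ₀ e1]
        ring
      · rw [hZ₀τ ψ hψ e2, hZ₀τ' χ hχ e1, classInner_sub_left, classInner_sub_right,
          classInner_sub_right, horth χ₀ hχ₀ ψ hψ (Ne.symm e2),
          horth χ hχ χ₀ hχ₀ e1, h11]
        ring
  obtain ⟨τ₁, hτ₁, hτ₁S⟩ := lio_of_orthogonal S Z
    (fun χ hχ => by rw [classInner_irr_self (hirr χ hχ)]; exact one_ne_zero)
    horth hZvirt hZi
  obtain ⟨ψ₁, hψ₁, hψ₁ne⟩ := hne
  refine ⟨⟨χ₀ - ψ₁, ?_, ?_⟩, τ₁, hτ₁, ?_⟩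
  · have h := hmem ψ₁ hψ₁
    rw [← SetLike.mem_coe, coe_zspanOnSub] at h
    exact h
  · intro h
    exact hψ₁ne (sub_eq_zero.mp h).symm
  · have hτ₁' : IsLinearIsometryOn
        ((Submodule.span ℤ S : Submodule ℤ (L → ℂ)) : Set (L → ℂ)) τ₁ := hτ₁
    have key : ∀ θ ∈ Submodule.span ℤ S, ∃ k : ℤ, θ - k • χ₀ ∈ zspanOnSub S {1}ᶜ ∧
        τ₁ θ = τ (θ - k • χ₀) + k • Z₀ := by
      intro θ hθ
      induction hθ using Submodule.span_induction with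
      | mem x hx =>
        refine ⟨1, ?_, ?_⟩
        · rw [one_smul]; exact hmemsub x hx χ₀ hχ₀
        · rw [one_smul, one_smul, hτ₁S x hx]
          show Z₀ - τ (χ₀ - x) = τ (x - χ₀) + Z₀
          have : x - χ₀ = -(χ₀ - x) := by abel
          rw [this, lio_neg hτ (hmem x hx)]
          abel
      | zero =>
        refine ⟨0, ?_, ?_⟩
        · rw [zero_smul, sub_zero]; exact Submodule.zero_mem _
        · rw [zero_smul, sub_zero, zero_smul, add_zero, lio_zero hτ₁', lio_zero hτ]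
      | add a b ha hb iha ihb =>
        obtain ⟨k, hk, hk'⟩ := iha
        obtain ⟨l, hl, hl'⟩ := ihb
        have e : a + b - (k + l) • χ₀ = (a - k • χ₀) + (b - l • χ₀) := by
          rw [add_smul]; abel
        refine ⟨k + l, ?_, ?_⟩
        · rw [e]; exact Submodule.add_mem _ hk hl
        · rw [e, lio_add hτ hk hl, lio_add hτ₁' ha hb, hk', hl', add_smul]
          abel
      | smul n a ha iha =>
        obtain ⟨k, hk, hk'⟩ := iha
        have e : n • a - (n * k) • χ₀ = n • (a - k • χ₀) := by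
          rw [smul_sub, mul_smul]
        refine ⟨n * k, ?_, ?_⟩
        · rw [e]; exact Submodule.smul_mem _ n hk
        · rw [e, lio_zsmul hτ hk, lio_zsmul hτ₁' ha, hk', smul_add, mul_smul]
    intro θ hθ
    obtain ⟨k, hk, hk'⟩ := key θ hθ.1
    have hk0 : k = 0 := by
      have h1 := apply_one_of_mem_zspanOn_compl_one hθ
      have hk2 : θ - k • χ₀ ∈ zspanOn S {1}ᶜ := by
        rw [← coe_zspanOnSub]; exact hk
      have h2 : (θ - k • χ₀) 1 = 0 := apply_one_of_mem_zspanOn_compl_one hk2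
      rw [Pi.sub_apply, h1, Pi.smul_apply, hd₀] at h2
      have h3 : (k : ℂ) * (d₀ : ℂ) = 0 := by
        simpa using h2
      rcases mul_eq_zero.mp h3 with h | h
      · exact_mod_cast h
      · exfalso
        have : d₀ = 0 := by exact_mod_cast h
        omega
    rw [hk', hk0, zero_smul, sub_zero, zero_smul, add_zero]

/-- **Equal degrees**: a set of at least two irreducible characters of the same degree is
coherent for every linear isometry on `ℤ[S, L ∖ 1]` whose values vanish at `1`. -/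
theorem coherent_of_equal_degree (S : Set (L → ℂ)) (hirr : ∀ χ ∈ S, IsIrrCharacter L χ)
    (hdeg : ∀ φ ∈ S, ∀ ψ ∈ S, φ 1 = ψ 1) (htwo : ∃ χ ∈ S, ∃ ψ ∈ S, χ ≠ ψ)
    (τ : (L → ℂ) → (G → ℂ)) (hτ₀ : IsLinearIsometryOn (zspanOn S {1}ᶜ) τ)
    (hτ1 : ∀ α ∈ zspanOn S {1}ᶜ, τ α 1 = 0) : IsCoherent S {1}ᶜ τ := by
  classical
  obtain ⟨χ₀, hχ₀, ψ₁, hψ₁, hne01⟩ := htwo
  have hτ : IsLinearIsometryOn ((zspanOnSub S {1}ᶜ : Submodule ℤ (L → ℂ)) : Set (L → ℂ)) τ := by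
    rw [coe_zspanOnSub]; exact hτ₀
  have hmem₀ : ∀ χ ∈ S, χ₀ - χ ∈ zspanOn S {1}ᶜ := by
    intro χ hχ
    exact mem_zspanOn_compl_one (zspan_sub_mem (mem_zspan_of_mem hχ₀) (mem_zspan_of_mem hχ))
        (by rw [Pi.sub_apply, hdeg χ₀ hχ₀ χ hχ, sub_self])
  have hmem : ∀ χ ∈ S, χ₀ - χ ∈ zspanOnSub S {1}ᶜ := by
    intro χ hχ
    have h := hmem₀ χ hχ
    rw [← coe_zspanOnSub] at h
    exact h
  have hdec : ∀ ψ ∈ S, ψ ≠ χ₀ → ∃ μ₁ μ₂ : G → ℂ, IsIrrCharacter G μ₁ ∧ IsIrrCharacter G μ₂ ∧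
      μ₁ ≠ μ₂ ∧ τ (χ₀ - ψ) = μ₁ - μ₂ := by
    intro ψ hψ hne
    apply norm_two_degree_zero (lio_gen hτ (hmem ψ hψ))
    · rw [lio_inner hτ (hmem ψ hψ) (hmem ψ hψ),
        classInner_irr_sub_irr (hirr χ₀ hχ₀) (hirr ψ hψ) (hirr χ₀ hχ₀) (hirr ψ hψ)]
      rw [if_pos rfl, if_pos rfl, if_neg (Ne.symm hne), if_neg hne]
      norm_num
    · exact hτ1 _ (hmem₀ ψ hψ)
  choose! P Q hP hQ hPQ hτPQ using hdec
  have hpair : ∀ ψ ∈ S, ψ ≠ χ₀ → ∀ ψ' ∈ S, ψ' ≠ χ₀ → ψ ≠ ψ' →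
      (P ψ = P ψ' ∧ Q ψ ≠ Q ψ') ∨ (Q ψ = Q ψ' ∧ P ψ ≠ P ψ') := by
    intro ψ hψ hn ψ' hψ' hn' hne
    have h1 : classInner (τ (χ₀ - ψ)) (τ (χ₀ - ψ')) = 1 := by
      rw [lio_inner hτ (hmem ψ hψ) (hmem ψ' hψ'),
        classInner_irr_sub_irr (hirr χ₀ hχ₀) (hirr ψ hψ) (hirr χ₀ hχ₀) (hirr ψ' hψ')]
      rw [if_pos rfl, if_neg (Ne.symm hn'), if_neg hn, if_neg hne]
      norm_num
    rw [hτPQ ψ hψ hn, hτPQ ψ' hψ' hn', classInner_irr_sub_irr (hP ψ hψ hn) (hQ ψ hψ hn)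
      (hP ψ' hψ' hn') (hQ ψ' hψ' hn')] at h1
    have hPQ1 := hPQ ψ hψ hn
    have hPQ2 := hPQ ψ' hψ' hn'
    by_cases e3 : P ψ = Q ψ'
    · exfalso
      have e1 : P ψ ≠ P ψ' := fun h => hPQ2 (h.symm.trans e3)
      have e2 : Q ψ ≠ Q ψ' := fun h => hPQ1 (e3.trans h.symm)
      rw [if_neg e1, if_pos e3, if_neg e2] at h1
      by_cases e4 : Q ψ = P ψ'
      · rw [if_pos e4] at h1; norm_num at h1
      · rw [if_neg e4] at h1; norm_num at h1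
    · by_cases e4 : Q ψ = P ψ'
      · exfalso
        have e1 : P ψ ≠ P ψ' := fun h => hPQ1 (h.trans e4.symm)
        have e2 : Q ψ ≠ Q ψ' := fun h => hPQ2 (e4.symm.trans h)
        rw [if_neg e1, if_neg e3, if_pos e4, if_neg e2] at h1
        norm_num at h1
      · rw [if_neg e3, if_neg e4] at h1
        by_cases e1 : P ψ = P ψ'
        · by_cases e2 : Q ψ = Q ψ'
          · rw [if_pos e1, if_pos e2] at h1; norm_num at h1
          · exact Or.inl ⟨e1, e2⟩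
        · by_cases e2 : Q ψ = Q ψ'
          · exact Or.inr ⟨e2, e1⟩
          · rw [if_neg e1, if_neg e2] at h1; norm_num at h1
  have hψ₁' : ψ₁ ≠ χ₀ := Ne.symm hne01
  have hdich : (∀ ψ ∈ S, ψ ≠ χ₀ → P ψ = P ψ₁) ∨ (∀ ψ ∈ S, ψ ≠ χ₀ → Q ψ = Q ψ₁) := by
    by_contra hcon
    push Not at hcon
    obtain ⟨⟨ψ, hψ, hn, hPne⟩, ⟨ψ', hψ', hn', hQne⟩⟩ := hcon
    have h1 : ψ ≠ ψ₁ := fun h => hPne (by rw [h])
    have h2 : ψ' ≠ ψ₁ := fun h => hQne (by rw [h])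
    have hQeq : Q ψ = Q ψ₁ := by
      rcases hpair ψ hψ hn ψ₁ hψ₁ hψ₁' h1 with ⟨h, -⟩ | ⟨h, -⟩
      · exact absurd h hPne
      · exact h
    have hPeq : P ψ' = P ψ₁ := by
      rcases hpair ψ' hψ' hn' ψ₁ hψ₁ hψ₁' h2 with ⟨h, -⟩ | ⟨h, -⟩
      · exact h
      · exact absurd h hQne
    have h3 : ψ ≠ ψ' := fun h => hQne (by rw [← h]; exact hQeq)
    rcases hpair ψ hψ hn ψ' hψ' hn' h3 with ⟨h, -⟩ | ⟨h, -⟩
    · exact hPne (h.trans hPeq)
    · exact hQne (h.symm.trans hQeq)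
  rcases hdich with hA | hB
  · apply coherent_of_base S hirr hdeg τ hτ₀ χ₀ hχ₀ ⟨ψ₁, hψ₁, hψ₁'⟩ (P ψ₁)
      (isGeneralizedCharacter_of_isIrrCharacter (hP ψ₁ hψ₁ hψ₁'))
      (classInner_irr_self (hP ψ₁ hψ₁ hψ₁'))
    intro ψ hψ hn
    rw [hτPQ ψ hψ hn, ← hA ψ hψ hn, classInner_sub_right, classInner_irr_self (hP ψ hψ hn),
      classInner_irr_ne (hP ψ hψ hn) (hQ ψ hψ hn) (hPQ ψ hψ hn), sub_zero]
  · apply coherent_of_base S hirr hdeg τ hτ₀ χ₀ hχ₀ ⟨ψ₁, hψ₁, hψ₁'⟩ (-Q ψ₁)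
      (isGeneralizedCharacter_neg (isGeneralizedCharacter_of_isIrrCharacter (hQ ψ₁ hψ₁ hψ₁')))
      (by rw [classInner_neg_left, classInner_neg_right, neg_neg]
          exact classInner_irr_self (hQ ψ₁ hψ₁ hψ₁'))
    intro ψ hψ hn
    rw [hτPQ ψ hψ hn, ← hB ψ hψ hn, classInner_neg_left, classInner_sub_right,
      classInner_irr_self (hQ ψ hψ hn),
      classInner_irr_ne (hQ ψ hψ hn) (hP ψ hψ hn) (Ne.symm (hPQ ψ hψ hn))]
    ring

end Cfsg.Agent.Lib.helper32
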