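import Mathlib
import Cfsg.Prelude.Def_Characters
import Cfsg.Prelude.Def_OddOrderChar
import Cfsg.Prelude.Def_OddOrderLocal
import Cfsg.Agent.Lib.helper32.Sib5

/-!
# TI Frobenius kernels: parity (helper32)

`FrobTI.abelian_of_even`: if `|L|` is even and `|H|` is odd, the kernel `H` is abelian (it is
inverted by an involution). Hence `FrobTI.odd_of_nonabelian`.
-/

set_option autoImplicit false

namespace Cfsg.Agent.Lib.helper32

open Cfsg

universe u

/-- A group normalised by a fixed-point-free involution is abelian. -/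
theorem comm_of_fpf_involution {G : Type u} [Group G] (H : Subgroup G) [Finite H] (t : G)
    (ht : t * t = 1) (hn : ∀ h ∈ H, t * h * t⁻¹ ∈ H)
    (hfpf : ∀ h ∈ H, t * h = h * t → h = 1) : ∀ a ∈ H, ∀ b ∈ H, a * b = b * a := by
  have htinv : t⁻¹ = t := inv_eq_of_mul_eq_one_right ht
  let φ : H → H := fun x => ⟨(x : G)⁻¹ * (t * x * t⁻¹), H.mul_mem (H.inv_mem x.2) (hn x x.2)⟩
  have hinj : Function.Injective φ := by
    intro x y hxy
    have h1 : (x : G)⁻¹ * (t * x * t⁻¹) = (y : G)⁻¹ * (t * y * t⁻¹) := congrArg Subtype.val hxy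
    have h2 : t * ((y : G) * (x : G)⁻¹) = ((y : G) * (x : G)⁻¹) * t := by
      have h3 : (y : G) * (x : G)⁻¹ = t * y * t⁻¹ * (t * x * t⁻¹)⁻¹ := by
        have : (y : G) * ((x : G)⁻¹ * (t * x * t⁻¹)) = t * y * t⁻¹ := by rw [h1]; group
        calc (y : G) * (x : G)⁻¹ = (y : G) * ((x : G)⁻¹ * (t * x * t⁻¹)) * (t * x * t⁻¹)⁻¹ := by
              group
          _ = t * y * t⁻¹ * (t * x * t⁻¹)⁻¹ := by rw [this]
      have h4 : t * y * t⁻¹ * (t * x * t⁻¹)⁻¹ = t * ((y : G) * (x : G)⁻¹) * t⁻¹ := by group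
      rw [h4] at h3
      calc t * ((y : G) * (x : G)⁻¹) = t * ((y : G) * (x : G)⁻¹) * t⁻¹ * t := by group
        _ = ((y : G) * (x : G)⁻¹) * t := by rw [← h3]
    have h5 := hfpf _ (H.mul_mem y.2 (H.inv_mem x.2)) h2
    have h6 : (y : G) = x := by
      calc (y : G) = (y : G) * (x : G)⁻¹ * x := by group
        _ = x := by rw [h5, one_mul]
    exact Subtype.ext h6.symm
  have hsurj : Function.Surjective φ := Finite.surjective_of_injective hinj
  have hinv : ∀ a ∈ H, t * a * t⁻¹ = a⁻¹ := by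
    intro a ha
    obtain ⟨x, hx⟩ := hsurj ⟨a, ha⟩
    have h1 : (x : G)⁻¹ * (t * x * t⁻¹) = a := congrArg Subtype.val hx
    rw [← h1]
    have ht2 : t⁻¹ * t⁻¹ = 1 := by rw [htinv, ht]
    calc t * ((x : G)⁻¹ * (t * x * t⁻¹)) * t⁻¹ = t * (x : G)⁻¹ * t * x * (t⁻¹ * t⁻¹) := by group
      _ = t * (x : G)⁻¹ * t * x := by rw [ht2, mul_one]
      _ = t * (x : G)⁻¹ * t⁻¹ * x := by rw [htinv]
      _ = ((x : G)⁻¹ * (t * x * t⁻¹))⁻¹ := by group
  intro a ha b hb
  have h1 := hinv (a * b) (H.mul_mem ha hb)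
  have h2 : t * (a * b) * t⁻¹ = (t * a * t⁻¹) * (t * b * t⁻¹) := by group
  rw [h2, hinv a ha, hinv b hb] at h1
  have h3 : a⁻¹ * b⁻¹ = b⁻¹ * a⁻¹ := by rw [h1]; group
  have h4 := congrArg (fun z => z⁻¹) h3
  simp only [mul_inv_rev, inv_inv] at h4
  exact h4.symm

section

variable {G : Type u} [Group G] {H L : Subgroup G}

/-- The kernel of a TI Frobenius pair `(H, L)` with `|H|` odd and `|L|` even is abelian. -/
theorem FrobTI.comm_of_even [Finite G] (F : FrobTI H L) (hH : Odd (Nat.card H))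
    (hL : ¬ Odd (Nat.card L)) : ∀ a ∈ H, ∀ b ∈ H, a * b = b * a := by
  have h2 : 2 ∣ Nat.card L := by
    rcases Nat.even_or_odd (Nat.card L) with h | h
    · exact even_iff_two_dvd.mp h
    · exact absurd h hL
  have _i2 : Fact (Nat.Prime 2) := ⟨Nat.prime_two⟩
  obtain ⟨t, ht⟩ := exists_prime_orderOf_dvd_card' 2 h2
  have htt : (t : G) * (t : G) = 1 := by
    have h1 : t ^ 2 = 1 := by rw [← ht]; exact pow_orderOf_eq_one t
    have h2 : ((t ^ 2 : L) : G) = 1 := by rw [h1]; rfl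
    rw [← h2, pow_two]; rfl
  have htH : (t : G) ∉ H := by
    intro h
    have h1 : orderOf (t : G) ∣ Nat.card H := Subgroup.orderOf_dvd_natCard H h
    rw [Subgroup.orderOf_coe, ht] at h1
    exact (Nat.not_even_iff_odd.mpr hH) (even_iff_two_dvd.mpr h1)
  apply comm_of_fpf_involution H (t : G) htt (fun h hh => F.normal t t.2 h hh)
  intro h hh hcomm
  by_contra h1
  exact htH (F.cent h hh h1 t t.2 hcomm)

end

end Cfsg.Agent.Lib.helper32
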