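import Mathlib
import Cfsg.Prelude.Def_Characters
import Cfsg.Prelude.Def_OddOrderChar
import Cfsg.Prelude.Def_OddOrderLocal
import Cfsg.Agent.Lib.helper32.Sib5
import Cfsg.Agent.Lib.helper32.Sib6
import Cfsg.Agent.Lib.helper32.CN2
import Cfsg.Agent.Lib.helper32.EqDeg
import Cfsg.Agent.Lib.helper32.FrobKer
import Cfsg.Agent.Lib.helper82.CharQuot
import Cfsg.Agent.Lib.helper19.AbelianOver

/-!
# TI Frobenius kernels: the set of relevant characters (helper32)

* `frobTI_relevant_eq`: the irreducible characters of `L` nontrivial on `H` are exactly the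
  characters induced from the non-principal irreducible characters of `H`.
* `sibley'`: Sibley's theorem stated for the set of relevant characters.
* `frobTI_abelian_main`: for abelian `H`, either there is just one relevant character,
  `|H| = e + 1` and `L` is transitive on `H ∖ 1`, or the relevant characters are coherent.
-/

set_option autoImplicit false
set_option linter.unusedSectionVars false

namespace Cfsg.Agent.Lib.helper32

open Cfsg
open Cfsg.Agent.Lib.helper4

universe u

section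

variable {G : Type u} [Group G] [Fintype G] {H L : Subgroup G} [Fintype L]

theorem FrobTI.centK' (F : FrobTI H L) : ∀ n ∈ H.subgroupOf L, n ≠ 1 →
    Subgroup.centralizer ({n} : Set L) ≤ H.subgroupOf L := by
  intro n hn hn1 x hx
  rw [Subgroup.mem_centralizer_singleton_iff] at hx
  exact F.centK n hn hn1 x hx

/-- The irreducible characters of `L` nontrivial on `H` are the characters induced from the
non-principal irreducible characters of `H`. -/
theorem frobTI_relevant_eq (F : FrobTI H L) :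
    {χ : L → ℂ | IsIrrCharacter L χ ∧ ∃ x : L, (x : G) ∈ H ∧ χ x ≠ χ 1} =
      inducedIrrAbove (H.subgroupOf L) ⊥ := by
  classical
  have _iK := F.normalK
  ext χ
  constructor
  · rintro ⟨hχ, x, hx, hne⟩
    obtain ⟨φ, hφ, hφ1, rfl⟩ := relevant_eq_ind (H.subgroupOf L) F.centK' hχ
      ⟨x, Subgroup.mem_subgroupOf.mpr hx, hne⟩
    refine ⟨φ, hφ, hφ1, ?_, rfl⟩
    intro b hb
    rw [Subgroup.mem_bot] at hb
    have h : b = 1 := Subtype.ext hb
    rw [h]
  · rintro ⟨θ, hθ, hne, -, rfl⟩
    refine ⟨frobC_irr _ F.centK hθ hne, ?_⟩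
    by_contra hcon
    push Not at hcon
    apply hne
    have hconst : ∀ z : H.subgroupOf L, θ z = θ 1 := by
      intro z
      apply irr_apply_eq_of_indFun_eq (H.subgroupOf L) hθ z
      exact hcon (z : L) (Subgroup.mem_subgroupOf.mp z.2)
    have h1 : θ 1 = 1 := Cfsg.Agent.Lib.helper19.linear_of_abelian_quot
      (⊤ : Subgroup (H.subgroupOf L)) (fun _ _ => Subgroup.mem_top _) θ hθ
      (fun x _ => hconst x)
    funext z
    rw [hconst z, h1]

/-- **Sibley's coherence theorem**, for the set of relevant characters. -/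
theorem sibley' (F : FrobTI H L) (hodd : Odd (Nat.card L)) (hnilH : Group.IsNilpotent H) :
    IsCoherent {χ : L → ℂ | IsIrrCharacter L χ ∧ ∃ x : L, (x : G) ∈ H ∧ χ x ≠ χ 1} {1}ᶜ
      (fun α : L → ℂ => indFun L α) := by
  rw [frobTI_relevant_eq F]
  exact sibley F hodd hnilH

/-- The abelian case: either there is exactly one relevant character, `|H| = e + 1` and `L`
is transitive on the non-identity elements of `H`; or the relevant characters are coherent. -/
theorem frobTI_abelian_main (F : FrobTI H L) (hab : ∀ a ∈ H, ∀ b ∈ H, a * b = b * a) :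
    (Nat.card {χ : L → ℂ // IsIrrCharacter L χ ∧ ∃ x : L, (x : G) ∈ H ∧ χ x ≠ χ 1} = 1 ∧
      Nat.card H = (H.subgroupOf L).index + 1 ∧
      ∀ x ∈ H, ∀ y ∈ H, x ≠ 1 → y ≠ 1 → ∃ n ∈ L, y = n * x * n⁻¹) ∨
    IsCoherent {χ : L → ℂ | IsIrrCharacter L χ ∧ ∃ x : L, (x : G) ∈ H ∧ χ x ≠ χ 1} {1}ᶜ
      (fun α : L → ℂ => indFun L α) := by
  classical
  have _iK := F.normalK
  have hC := F.centK'
  let _iI : Fintype (IrrCharacter L) := Fintype.ofFinite _
  have hcomm : ∀ a b : ↥(H.subgroupOf L), a * b = b * a := by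
    intro a b
    apply Subtype.ext
    apply Subtype.ext
    exact hab _ a.2 _ b.2
  have hdeg : ∀ χ : L → ℂ, IsIrrCharacter L χ → (∃ x : L, (x : G) ∈ H ∧ χ x ≠ χ 1) →
      χ 1 = ((H.subgroupOf L).index : ℂ) := by
    rintro χ hχ ⟨x, hx, hne⟩
    obtain ⟨φ, hφ, -, rfl⟩ := relevant_eq_ind (H.subgroupOf L) hC hχ
      ⟨x, Subgroup.mem_subgroupOf.mpr hx, hne⟩
    rw [indFun_one, Cfsg.Agent.Lib.helper82.irr_one_of_commutative hcomm hφ, mul_one]
  by_cases htwo : ∃ χ ∈ {χ : L → ℂ | IsIrrCharacter L χ ∧ ∃ x : L, (x : G) ∈ H ∧ χ x ≠ χ 1},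
      ∃ ψ ∈ {χ : L → ℂ | IsIrrCharacter L χ ∧ ∃ x : L, (x : G) ∈ H ∧ χ x ≠ χ 1}, χ ≠ ψ
  · right
    have hiso := sib_isometry F
      {χ : L → ℂ | IsIrrCharacter L χ ∧ ∃ x : L, (x : G) ∈ H ∧ χ x ≠ χ 1}
      (fun χ hχ => isCharacter_of_isIrrCharacter hχ.1)
      (by
        rintro χ ⟨hχ, x, hx, hne⟩ y hy
        exact relevant_vanish (H.subgroupOf L) hC hχ
          ⟨x, Subgroup.mem_subgroupOf.mpr hx, hne⟩ (fun h => hy (Subgroup.mem_subgroupOf.mp h)))
    exact coherent_of_equal_degree _ (fun χ hχ => hχ.1)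
      (fun φ hφ ψ hψ => by rw [hdeg φ hφ.1 hφ.2, hdeg ψ hψ.1 hψ.2]) htwo _ hiso.1 hiso.2
  · left
    have hsub : ∀ χ ψ : L → ℂ, IsIrrCharacter L χ → (∃ x : L, (x : G) ∈ H ∧ χ x ≠ χ 1) →
        IsIrrCharacter L ψ → (∃ x : L, (x : G) ∈ H ∧ ψ x ≠ ψ 1) → χ = ψ := by
      intro χ ψ h1 h2 h3 h4
      by_contra hne
      exact htwo ⟨χ, ⟨h1, h2⟩, ψ, ⟨h3, h4⟩, hne⟩
    obtain ⟨e, he⟩ : ∃ e : ℕ, e = (H.subgroupOf L).index := ⟨_, rfl⟩
    have hepos : 0 < e := by rw [he]; exact Nat.pos_of_ne_zero Subgroup.index_ne_zero_of_finite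
    have hcardK : Nat.card (H.subgroupOf L) = Nat.card H := F.card_K
    have hK1 : 1 < Nat.card (H.subgroupOf L) := by
      rw [hcardK]
      exact (Subgroup.one_lt_card_iff_ne_bot H).mpr F.ne_bot
    have hsum := sum_relevant_sq (H.subgroupOf L) hC
    -- existence of a relevant character
    have hex : ∃ μ : IrrCharacter L, ∃ k ∈ H.subgroupOf L, (μ : L → ℂ) k ≠ (μ : L → ℂ) 1 := by
      by_contra hcon
      push Not at hcon
      rw [Finset.sum_eq_zero (fun μ _ => by
        rw [if_neg]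
        push Not
        exact hcon μ)] at hsum
      have h0 : ((H.subgroupOf L).index : ℂ) ≠ 0 := by
        rw [← he]; exact_mod_cast hepos.ne'
      have h1 : (Nat.card (H.subgroupOf L) : ℂ) - 1 ≠ 0 := by
        intro h
        have h2 : (Nat.card (H.subgroupOf L) : ℂ) = 1 := by linear_combination h
        have h3 : Nat.card (H.subgroupOf L) = 1 := by exact_mod_cast h2
        omega
      exact mul_ne_zero h0 h1 hsum.symm
    obtain ⟨μ₀, k₀, hk₀, hμ₀⟩ := hex
    have hμ₀rel : ∃ x : L, (x : G) ∈ H ∧ (μ₀ : L → ℂ) x ≠ (μ₀ : L → ℂ) 1 :=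
      ⟨k₀, Subgroup.mem_subgroupOf.mp hk₀, hμ₀⟩
    have hcard : Nat.card H = e + 1 := by
      rw [Finset.sum_eq_single μ₀] at hsum
      · rw [if_pos ⟨k₀, hk₀, hμ₀⟩, hdeg _ μ₀.2 hμ₀rel, ← he] at hsum
        have he0 : (e : ℂ) ≠ 0 := by exact_mod_cast hepos.ne'
        have h1 : (e : ℂ) = (Nat.card (H.subgroupOf L) : ℂ) - 1 := mul_left_cancel₀ he0 hsum
        have h2 : ((e + 1 : ℕ) : ℂ) = (Nat.card (H.subgroupOf L) : ℂ) := by
          push_cast; linear_combination h1
        have h3 : e + 1 = Nat.card (H.subgroupOf L) := by exact_mod_cast h2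
        rw [← hcardK, ← h3]
      · intro μ _ hne
        rw [if_neg]
        rintro ⟨k, hk, hμ⟩
        apply hne
        apply Subtype.ext
        exact hsub _ _ μ.2 ⟨k, Subgroup.mem_subgroupOf.mp hk, hμ⟩ μ₀.2 hμ₀rel
      · intro h
        exact absurd (Finset.mem_univ _) h
    refine ⟨?_, by rw [hcard, he], ?_⟩
    · rw [Nat.card_eq_one_iff_unique]
      refine ⟨⟨?_⟩, ⟨⟨(μ₀ : L → ℂ), μ₀.2, hμ₀rel⟩⟩⟩
      rintro ⟨χ, h1, h2⟩ ⟨ψ, h3, h4⟩
      apply Subtype.ext
      exact hsub χ ψ h1 h2 h3 h4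
    · intro x hx y hy hx1 hy1
      obtain ⟨x', hx'⟩ : ∃ x' : L, (x' : G) = x := ⟨⟨x, F.lt.le hx⟩, rfl⟩
      obtain ⟨T, hT⟩ : ∃ T : Set L, T = {t : L | ∃ n : L, t = n * x' * n⁻¹} := ⟨_, rfl⟩
      have hTK : T ⊆ ((H.subgroupOf L : Subgroup L) : Set L) \ {1} := by
        rw [hT]
        rintro t ⟨n, rfl⟩
        refine ⟨?_, ?_⟩
        · show n * x' * n⁻¹ ∈ H.subgroupOf L
          apply _iK.conj_mem
          rw [Subgroup.mem_subgroupOf, hx']
          exact hx
        · intro h
          rw [Set.mem_singleton_iff] at h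
          apply hx1
          have h2 : x' = 1 := by
            have := congrArg (fun z => n⁻¹ * z * n) h
            simpa [mul_assoc] using this
          rw [← hx', h2]; rfl
      have hdvd : e ∣ T.ncard := by
        apply dvd_ncard_of_conj_invariant' e T
        · rw [hT]
          rintro g t ⟨n, rfl⟩
          exact ⟨g * n, by group⟩
        · intro t ht
          have htK := hTK ht
          have hcen : Subgroup.centralizer ({t} : Set L) = H.subgroupOf L := by
            apply le_antisymm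
            · exact hC t htK.1 (fun h => htK.2 (by rw [h]; rfl))
            · intro z hz
              rw [Subgroup.mem_centralizer_singleton_iff]
              have := hcomm ⟨z, hz⟩ ⟨t, htK.1⟩
              exact congrArg Subtype.val this
          rw [hcen, he]
      have hTne : T.Nonempty := by
        rw [hT]
        exact ⟨x', 1, by group⟩
      have hfin : (((H.subgroupOf L : Subgroup L) : Set L) \ {1}).Finite := Set.toFinite _
      have hTpos : 0 < T.ncard := (Set.ncard_pos (hfin.subset hTK)).mpr hTne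
      have hcardK' : (((H.subgroupOf L : Subgroup L) : Set L) \ {1}).ncard = e := by
        rw [Set.ncard_sdiff (by
          rw [Set.singleton_subset_iff]; exact (H.subgroupOf L).one_mem) (Set.finite_singleton _),
          Set.ncard_singleton]
        have : ((H.subgroupOf L : Subgroup L) : Set L).ncard = Nat.card (H.subgroupOf L) := by
          rw [← Nat.card_coe_set_eq]; rfl
        rw [this, hcardK, hcard]
        omega
      have hTeq : T = ((H.subgroupOf L : Subgroup L) : Set L) \ {1} := by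
        apply Set.eq_of_subset_of_ncard_le hTK _ hfin
        rw [hcardK']
        exact Nat.le_of_dvd hTpos hdvd
      have hy' : (⟨y, F.lt.le hy⟩ : L) ∈ T := by
        rw [hTeq]
        refine ⟨Subgroup.mem_subgroupOf.mpr hy, ?_⟩
        intro h
        rw [Set.mem_singleton_iff] at h
        apply hy1
        exact congrArg Subtype.val h
      rw [hT] at hy'
      obtain ⟨n, hn⟩ := hy'
      refine ⟨n, n.2, ?_⟩
      have := congrArg Subtype.val hn
      rw [← hx']
      exact this

end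

end Cfsg.Agent.Lib.helper32
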