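import Mathlib
import Cfsg.Prelude.Def_OddOrderLocal

/-!
# Sums over a group partitioned by conjugates of TI-subgroups (helper32)

`ti_partition_sum`: if the subgroups `H i` have pairwise coprime orders, are TI-subsets, and every
non-identity element of `G` is conjugate into some `H i`, then for a class function `F`
`∑_g F g = F 1 + ∑_i |G : N(H i)| ∑_{y ∈ H i, y ≠ 1} F y`.
-/

set_option autoImplicit false

namespace Cfsg.Agent.Lib.helper32

open Cfsg

open Classical in
/-- Weighted partition formula for a family of TI-subgroups of coprime orders covering `G`. -/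
theorem ti_partition_sum {G : Type*} [Group G] [Fintype G] {ι : Type*} [Fintype ι]
    (H : ι → Subgroup G)
    (hcop : ∀ i j, i ≠ j → Nat.Coprime (Nat.card (H i)) (Nat.card (H j)))
    (hTI : ∀ i, Cfsg.IsTISubset (H i : Set G))
    (hcover : ∀ g : G, g ≠ 1 → ∃ i, ∃ x : G, x * g * x⁻¹ ∈ H i)
    (F : G → ℂ) (hF : ∀ g x : G, F (x * g * x⁻¹) = F g) :
    ∑ g : G, F g = F 1 + ∑ i, ((Subgroup.normalizer (H i : Set G)).index : ℂ) *
      ∑ y : G, (if y ∈ H i ∧ y ≠ 1 then F y else 0) := by
  classical
  let T := Σ i : ι, (G ⧸ Subgroup.normalizer (H i : Set G)) × {h : H i // h ≠ 1}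
  let Φ : T → {g : G // g ≠ 1} := fun t =>
    ⟨t.2.1.out * (t.2.2.1 : G) * t.2.1.out⁻¹, by
      intro h
      apply t.2.2.2
      have h2 : (t.2.2.1 : G) = 1 := by
        have := congrArg (fun z => t.2.1.out⁻¹ * z * t.2.1.out) h
        simpa [mul_assoc] using this
      exact Subtype.ext h2⟩
  have hΦ : Function.Bijective Φ := by
    constructor
    · rintro ⟨i, q, h, hh⟩ ⟨j, q', h', hh'⟩ heq
      have heq' : q.out * (h : G) * q.out⁻¹ = q'.out * (h' : G) * q'.out⁻¹ :=
        congrArg Subtype.val heq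
      have hij : i = j := by
        by_contra hne
        have h1 : orderOf (h : G) ∣ Nat.card (H i) := Subgroup.orderOf_dvd_natCard (H i) h.2
        have h2 : orderOf (h' : G) ∣ Nat.card (H j) := Subgroup.orderOf_dvd_natCard (H j) h'.2
        have h3 : orderOf (h : G) = orderOf (h' : G) := by
          have e1 : orderOf (q.out * (h : G) * q.out⁻¹) = orderOf (h : G) := by
            rw [← MulAut.conj_apply]; exact MulEquiv.orderOf_eq _ _
          have e2 : orderOf (q'.out * (h' : G) * q'.out⁻¹) = orderOf (h' : G) := by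
            rw [← MulAut.conj_apply]; exact MulEquiv.orderOf_eq _ _
          rw [← e1, ← e2, heq']
        rw [← h3] at h2
        have h4 := Nat.dvd_gcd h1 h2
        rw [hcop i j hne] at h4
        have h5 : (h : G) = 1 := orderOf_eq_one_iff.mp (Nat.dvd_one.mp h4)
        exact hh (Subtype.ext h5)
      subst hij
      have hq : q = q' := by
        have hconj : (q'.out⁻¹ * q.out) * (h : G) * (q'.out⁻¹ * q.out)⁻¹ = (h' : G) := by
          have := congrArg (fun z => q'.out⁻¹ * z * q'.out) heq'
          simpa [mul_assoc] using this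
        have hmem : q'.out⁻¹ * q.out ∈ Subgroup.normalizer (H i : Set G) := by
          by_contra hn
          have := hTI i _ hn (h : G) h.2 (by rw [hconj]; exact h'.2)
          exact hh (Subtype.ext this)
        have : (QuotientGroup.mk q'.out : G ⧸ Subgroup.normalizer (H i : Set G)) =
            QuotientGroup.mk q.out := QuotientGroup.eq.mpr hmem
        rw [QuotientGroup.out_eq', QuotientGroup.out_eq'] at this
        exact this.symm
      subst hq
      have hh2 : (h : G) = (h' : G) := by
        have := congrArg (fun z => q.out⁻¹ * z * q.out) heq'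
        simpa [mul_assoc] using this
      have hh3 : h = h' := Subtype.ext hh2
      subst hh3
      rfl
    · rintro ⟨g, hg⟩
      obtain ⟨i, x, hx⟩ := hcover g hg
      obtain ⟨n, hn⟩ := QuotientGroup.mk_out_eq_mul (Subgroup.normalizer (H i : Set G)) x⁻¹
      set q : G ⧸ Subgroup.normalizer (H i : Set G) := QuotientGroup.mk x⁻¹ with hq
      have hmem : q.out⁻¹ * g * q.out ∈ H i := by
        rw [hn]
        have h1 : (n : G)⁻¹ ∈ Subgroup.normalizer (H i : Set G) := inv_mem n.2
        have h2 := (Subgroup.mem_set_normalizer_iff.mp h1 (x * g * x⁻¹)).mp hx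
        have h3 : (x⁻¹ * (n : G))⁻¹ * g * (x⁻¹ * (n : G))
            = (n : G)⁻¹ * (x * g * x⁻¹) * (n : G)⁻¹⁻¹ := by
          simp [mul_assoc]
        rw [h3]
        exact h2
      have hne : (⟨q.out⁻¹ * g * q.out, hmem⟩ : H i) ≠ 1 := by
        intro h
        have h2 : q.out⁻¹ * g * q.out = 1 := congrArg Subtype.val h
        apply hg
        have := congrArg (fun z => q.out * z * q.out⁻¹) h2
        simpa [mul_assoc] using this
      refine ⟨⟨i, q, ⟨⟨q.out⁻¹ * g * q.out, hmem⟩, hne⟩⟩, ?_⟩
      apply Subtype.ext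
      show q.out * (q.out⁻¹ * g * q.out) * q.out⁻¹ = g
      simp [mul_assoc]
  have h1 : ∑ g : G, F g = F 1 + ∑ g : {g : G // g ≠ 1}, F g := by
    rw [← Finset.add_sum_erase Finset.univ F (Finset.mem_univ 1)]
    congr 1
    exact Finset.sum_subtype _ (by intro x; simp) F
  have h2 : ∑ g : {g : G // g ≠ 1}, F g = ∑ t : T, F (Φ t) :=
    (Fintype.sum_bijective Φ hΦ _ _ (fun _ => rfl)).symm
  rw [h1, h2, Fintype.sum_sigma]
  congr 1
  apply Finset.sum_congr rfl
  intro i _
  rw [Fintype.sum_prod_type]
  have h3 : ∀ q : G ⧸ Subgroup.normalizer (H i : Set G), ∀ h : {h : H i // h ≠ 1},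
      F (Φ ⟨i, q, h⟩) = F (h.1 : G) := fun q h => hF _ _
  simp only [h3]
  rw [Finset.sum_const, Finset.card_univ, nsmul_eq_mul]
  have h4 : (Fintype.card (G ⧸ Subgroup.normalizer (H i : Set G)) : ℂ)
      = ((Subgroup.normalizer (H i : Set G)).index : ℂ) := by
    rw [Subgroup.index_eq_card, Nat.card_eq_fintype_card]
  rw [h4]
  congr 1
  rw [← Finset.sum_filter]
  rw [Finset.sum_subtype (Finset.univ.filter (fun y : G => y ∈ H i ∧ y ≠ 1))
    (p := fun y : G => y ∈ H i ∧ y ≠ 1) (by intro x; simp) F]
  let e : {h : H i // h ≠ 1} ≃ {y : G // y ∈ H i ∧ y ≠ 1} :=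
    { toFun := fun h => ⟨h.1.1, h.1.2, fun hh => h.2 (Subtype.ext hh)⟩
      invFun := fun y => ⟨⟨y.1, y.2.1⟩, fun hh => y.2.2 (congrArg Subtype.val hh)⟩
      left_inv := fun h => rfl
      right_inv := fun y => rfl }
  exact Fintype.sum_equiv e _ _ (fun _ => rfl)

end Cfsg.Agent.Lib.helper32
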