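import Mathlib

/-!
# Numerical core of the CN-type partition argument (helper32)

* `orth_matrix_col`: second orthogonality for a square "truncated character table";
* `cn_final`: the final arithmetic contradiction;
* `cn_numeric`: from the integer row relations to a contradiction.
-/

set_option autoImplicit false

namespace Cfsg.Agent.Lib.helper32

/-- Column orthogonality from row orthogonality for a square weighted table. -/
theorem orth_matrix_col {ι : Type*} [Fintype ι] [DecidableEq ι] {𝕜 : Type*} [Field 𝕜]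
    (g : 𝕜) (W ν w : ι → 𝕜) (R : ι → ι → 𝕜)
    (hg : g ≠ 0) (hν : ∀ i, ν i ≠ 0)
    (ha : 1 + ∑ l, W l = g)
    (hb : ∀ i, w i + ∑ l, W l * R i l = 0)
    (hc : ∀ i, w i ^ 2 + ∑ l, W l * R i l ^ 2 = ν i)
    (hd : ∀ i j, i ≠ j → w i * w j + ∑ l, W l * R i l * R j l = 0) (l : ι) :
    W l * (g⁻¹ + ∑ i, R i l ^ 2 / ν i) = 1 := by
  classical
  let M : Matrix (Option ι) (Option ι) 𝕜 := fun a b =>
    Option.elim a 1 (fun i => Option.elim b (w i) (fun l => R i l))
  let dW : Option ι → 𝕜 := fun b => Option.elim b 1 W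
  let dN : Option ι → 𝕜 := fun a => Option.elim a g ν
  have hdN : ∀ a, dN a ≠ 0 := by
    intro a
    cases a with
    | none => exact hg
    | some i => exact hν i
  have h1 : M * Matrix.diagonal dW * M.transpose = Matrix.diagonal dN := by
    ext a b
    rw [Matrix.mul_apply]
    simp only [Matrix.mul_diagonal, Matrix.transpose_apply, Fintype.sum_option]
    cases a with
    | none =>
      cases b with
      | none =>
        simp only [M, dW, dN, Option.elim_none, Matrix.diagonal_apply_eq]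
        rw [← ha]; simp
      | some j =>
        simp only [M, dW, dN, Option.elim_none, Option.elim_some]
        rw [Matrix.diagonal_apply_ne _ (by simp)]
        have := hb j
        simp only [one_mul, mul_one]
        linear_combination this
    | some i =>
      cases b with
      | none =>
        simp only [M, dW, dN, Option.elim_none, Option.elim_some]
        rw [Matrix.diagonal_apply_ne _ (by simp)]
        have := hb i
        simp only [mul_one]
        rw [Finset.sum_congr rfl (fun l _ => mul_comm (R i l) (W l))]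
        linear_combination this
      | some j =>
        simp only [M, dW, dN, Option.elim_none, Option.elim_some]
        by_cases hij : i = j
        · subst hij
          rw [Matrix.diagonal_apply_eq]
          have := hc i
          simp only [mul_one, Option.elim_some]
          rw [Finset.sum_congr rfl (fun l _ => by
            show R i l * W l * R i l = W l * R i l ^ 2
            ring)]
          linear_combination this
        · rw [Matrix.diagonal_apply_ne _ (by simpa using hij)]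
          have := hd i j hij
          simp only [mul_one]
          rw [Finset.sum_congr rfl (fun l _ => by
            show R i l * W l * R j l = W l * R i l * R j l
            ring)]
          linear_combination this
  have h2 : M * (Matrix.diagonal dW * M.transpose * Matrix.diagonal (fun a => (dN a)⁻¹)) = 1 := by
    rw [← Matrix.mul_assoc, ← Matrix.mul_assoc, h1, Matrix.diagonal_mul_diagonal]
    ext a b
    by_cases hab : a = b
    · subst hab
      simp [hdN a]
    · simp [hab]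
  have h3 := mul_eq_one_comm.mp h2
  have h4 := congrFun (congrFun h3 (some l)) (some l)
  rw [Matrix.mul_apply] at h4
  simp only [Matrix.mul_diagonal, Matrix.diagonal_mul, Matrix.transpose_apply, Fintype.sum_option,
    Matrix.one_apply_eq] at h4
  simp only [M, dW, dN, Option.elim_none, Option.elim_some] at h4
  rw [← h4, mul_add, Finset.mul_sum]
  congr 1
  · ring
  · apply Finset.sum_congr rfl
    intro i _
    ring

theorem cn_arith1 (E N : ℚ) (hE : 3 ≤ E) (hN : 3 ≤ N) :
    (N + E) / (E * N + 1) + (E - 1) / (2 * E + 1) < 1 - 1 / (E * (E * N + 1)) := by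
  have h3 : (0:ℚ) < E := by linarith
  have h1 : (0:ℚ) < E * N + 1 := by nlinarith
  have h2 : (0:ℚ) < 2 * E + 1 := by linarith
  have key : 1 - 1 / (E * (E * N + 1)) - ((N + E) / (E * N + 1) + (E - 1) / (2 * E + 1))
      = (E * (E - 1) * (E + 1) * (N - 2) - (2 * E + 1)) / (E * (E * N + 1) * (2 * E + 1)) := by
    field_simp
    ring
  have hE2 : 9 ≤ E * E := by nlinarith
  have hA : 8 * E ≤ E * (E - 1) * (E + 1) := by
    nlinarith [mul_nonneg h3.le (sub_nonneg.mpr hE2)]
  have hB : E * (E - 1) * (E + 1) ≤ E * (E - 1) * (E + 1) * (N - 2) := by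
    have : 0 ≤ E * (E - 1) * (E + 1) := by linarith
    nlinarith
  have hpos : 0 < (E * (E - 1) * (E + 1) * (N - 2) - (2 * E + 1)) /
      (E * (E * N + 1) * (2 * E + 1)) := by
    apply div_pos
    · linarith
    · positivity
  linarith

theorem cn_arith2 (E : ℚ) (hE : 3 ≤ E) :
    (2 + E) / (E * 2 + 1) + (E - 1) / (2 * E + 3) < 1 - 1 / (E * (E * 2 + 1)) := by
  have h3 : (0:ℚ) < E := by linarith
  have key : 1 - 1 / (E * (E * 2 + 1)) - ((2 + E) / (E * 2 + 1) + (E - 1) / (2 * E + 3))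
      = (2 * E ^ 2 - 4 * E - 3) / (E * (E * 2 + 1) * (2 * E + 3)) := by
    field_simp
    ring
  have hpos : 0 < (2 * E ^ 2 - 4 * E - 3) / (E * (E * 2 + 1) * (2 * E + 3)) := by
    apply div_pos
    · nlinarith
    · positivity
  linarith

theorem cn_final_aux {ι : Type*} [Fintype ι] [DecidableEq ι] (g : ℕ) (e h n : ι → ℕ)
    (v : ι → ι → ℤ) (i₀ : ι) (b : ℚ) (hb0 : 0 < b) (hbl : ∀ l, l ≠ i₀ → b ≤ h l)
    (hg : e i₀ * h i₀ ≤ g) (he0 : 0 < e i₀) (hh0 : 0 < h i₀)
    (hstar : ∑ l, (n l : ℚ) / h l = 1 - 1 / g)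
    (ha : ∀ l, l ≠ i₀ → v i₀ l ≠ 0 ∨ v l i₀ ≠ 0)
    (hb : ∑ l ∈ Finset.univ.erase i₀, (n l : ℚ) * (v l i₀ : ℚ) ^ 2 ≤ e i₀ - 1)
    (hc : ∑ l ∈ Finset.univ.erase i₀, (n l : ℚ) / h l * (v i₀ l : ℚ) ^ 2 < e i₀ / h i₀) :
    1 - 1 / ((e i₀ : ℚ) * h i₀) < ((n i₀ : ℚ) + e i₀) / h i₀ + (e i₀ - 1) / b := by
  have hsq : ∀ z : ℤ, z ≠ 0 → (1:ℚ) ≤ (z : ℚ) ^ 2 := by
    intro z hz
    have h1 : (1:ℤ) ≤ z ^ 2 := by
      have := Int.one_le_abs hz
      nlinarith [sq_abs z]
    exact_mod_cast h1
  have h1 : (n i₀ : ℚ) / h i₀ + ∑ l ∈ Finset.univ.erase i₀, (n l : ℚ) / h l = 1 - 1 / g := by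
    rw [Finset.add_sum_erase Finset.univ (fun l => (n l : ℚ) / h l) (Finset.mem_univ i₀)]; exact hstar
  have h2 : ∑ l ∈ Finset.univ.erase i₀, (n l : ℚ) / h l ≤
      ∑ l ∈ Finset.univ.erase i₀, ((n l : ℚ) / h l * (v i₀ l : ℚ) ^ 2 +
        (n l : ℚ) * (v l i₀ : ℚ) ^ 2 / b) := by
    apply Finset.sum_le_sum
    intro l hl
    have hl' : l ≠ i₀ := Finset.ne_of_mem_erase hl
    have hbl' := hbl l hl'
    have hhl : (0:ℚ) < h l := lt_of_lt_of_le hb0 hbl'
    have hnn : (0:ℚ) ≤ (n l : ℚ) / h l := by positivity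
    rcases ha l hl' with hv | hv
    · have h1 := hsq _ hv
      have h' : (0:ℚ) ≤ (n l : ℚ) * (v l i₀ : ℚ) ^ 2 / b := by positivity
      nlinarith
    · have h1 := hsq _ hv
      have h' : (n l : ℚ) / h l ≤ (n l : ℚ) * (v l i₀ : ℚ) ^ 2 / b := by
        calc (n l : ℚ) / h l ≤ (n l : ℚ) / b :=
              div_le_div_of_nonneg_left (by positivity) hb0 hbl'
          _ ≤ (n l : ℚ) * (v l i₀ : ℚ) ^ 2 / b := by
              apply div_le_div_of_nonneg_right _ hb0.le
              have : (0:ℚ) ≤ n l := by positivity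
              nlinarith
      have : 0 ≤ (n l : ℚ) / h l * (v i₀ l : ℚ) ^ 2 := by positivity
      linarith
  rw [Finset.sum_add_distrib, ← Finset.sum_div] at h2
  have h3 : (∑ l ∈ Finset.univ.erase i₀, (n l : ℚ) * (v l i₀ : ℚ) ^ 2) / b ≤ (e i₀ - 1) / b :=
    div_le_div_of_nonneg_right hb hb0.le
  have h4 : (1:ℚ) / g ≤ 1 / ((e i₀ : ℚ) * h i₀) := by
    apply div_le_div_of_nonneg_left zero_le_one (by positivity)
    exact_mod_cast hg
  have h5 : ((n i₀ : ℚ) + e i₀) / h i₀ = (n i₀ : ℚ) / h i₀ + e i₀ / h i₀ := add_div _ _ _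
  linarith

/-- The final arithmetic contradiction. -/
theorem cn_final {ι : Type*} [Fintype ι] [DecidableEq ι] (g : ℕ) (e h n : ι → ℕ)
    (v : ι → ι → ℤ) (i₀ : ι) (hmin : ∀ l, e i₀ ≤ e l)
    (he : ∀ l, 3 ≤ e l) (hn : ∀ l, 2 ≤ n l) (hh : ∀ l, h l = e l * n l + 1)
    (hodd : ∀ l, Odd (h l)) (hg : ∀ l, e l * h l ≤ g)
    (hcop : ∀ i j, i ≠ j → Nat.Coprime (h i) (h j))
    (hstar : ∑ l, (n l : ℚ) / h l = 1 - 1 / g)
    (ha : ∀ l, l ≠ i₀ → v i₀ l ≠ 0 ∨ v l i₀ ≠ 0)
    (hb : ∑ l ∈ Finset.univ.erase i₀, (n l : ℚ) * (v l i₀ : ℚ) ^ 2 ≤ e i₀ - 1)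
    (hc : ∑ l ∈ Finset.univ.erase i₀, (n l : ℚ) / h l * (v i₀ l : ℚ) ^ 2 < e i₀ / h i₀) :
    False := by
  have hE : (3:ℚ) ≤ e i₀ := by exact_mod_cast he i₀
  have hhq : (h i₀ : ℚ) = e i₀ * n i₀ + 1 := by rw [hh i₀]; push_cast; ring
  have hbase : ∀ l, 2 * e i₀ + 1 ≤ h l := by
    intro l
    rw [hh l]
    have := Nat.mul_le_mul (hmin l) (hn l)
    omega
  have he0 : 0 < e i₀ := by have := he i₀; omega
  have hh0 : 0 < h i₀ := by have := hbase i₀; omega
  rcases Nat.lt_or_ge 2 (n i₀) with h3 | h2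
  · have key := cn_final_aux g e h n v i₀ (2 * (e i₀ : ℚ) + 1) (by positivity)
      (fun l _ => by exact_mod_cast hbase l) (hg i₀) he0 hh0 hstar ha hb hc
    rw [hhq] at key
    have h' := cn_arith1 (e i₀) (n i₀) hE (by exact_mod_cast h3)
    linarith
  · have hn2 : n i₀ = 2 := le_antisymm h2 (hn i₀)
    have hbl : ∀ l, l ≠ i₀ → 2 * e i₀ + 3 ≤ h l := by
      intro l hl
      have h1 := hbase l
      obtain ⟨k, hk⟩ := hodd l
      have hi : h i₀ = 2 * e i₀ + 1 := by rw [hh i₀, hn2]; ring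
      have hne : h l ≠ h i₀ := by
        intro heq
        have hc' := hcop l i₀ hl
        rw [heq, Nat.coprime_self] at hc'
        omega
      omega
    have key := cn_final_aux g e h n v i₀ (2 * (e i₀ : ℚ) + 3) (by positivity)
      (fun l hl => by exact_mod_cast hbl l hl) (hg i₀) he0 hh0 hstar ha hb hc
    rw [hhq, hn2] at key
    have h' := cn_arith2 (e i₀) hE
    push_cast at key
    linarith

/-- From the integer row relations of the truncated table to a contradiction. -/
theorem cn_numeric {ι : Type*} [Fintype ι] [DecidableEq ι] [Nonempty ι] (g : ℕ) (hgodd : Odd g)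
    (e h n m : ι → ℕ) (w u : ι → ℤ) (v : ι → ι → ℤ)
    (he : ∀ l, 3 ≤ e l) (hn : ∀ l, 2 ≤ n l) (hh : ∀ l, h l = e l * n l + 1)
    (hm : ∀ l, m l * (e l * h l) = g)
    (hcop : ∀ i j, i ≠ j → Nat.Coprime (h i) (h j))
    (hw : ∀ i, Odd (w i))
    (Ra : (g : ℤ) - 1 = ∑ l, (m l : ℤ) * ((h l : ℤ) - 1))
    (Rb : ∀ i, w i + ∑ l, (m l : ℤ) *
      (if l = i then (-(e i : ℤ) + ((h i : ℤ) - 1) * u i) else ((h l : ℤ) - 1) * v i l) = 0)
    (Rc : ∀ i, w i ^ 2 + ∑ l, (m l : ℤ) *
      (if l = i then ((e i : ℤ) * h i - (e i : ℤ) ^ 2 - 2 * e i * u i + ((h i : ℤ) - 1) * u i ^ 2)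
        else ((h l : ℤ) - 1) * v i l ^ 2) = g)
    (Rd : ∀ i j, i ≠ j → w i * w j + ∑ l, (m l : ℤ) *
      (if l = i then (-(e i : ℤ) + ((h i : ℤ) - 1) * u i) * v j i
        else if l = j then (-(e j : ℤ) + ((h j : ℤ) - 1) * u j) * v i j
        else ((h l : ℤ) - 1) * v i l * v j l) = 0) : False := by
  classical
  have hg0 : 0 < g := hgodd.pos
  have hgq : (0:ℚ) < g := by exact_mod_cast hg0
  have hm0 : ∀ l, 0 < m l := by
    intro l
    rcases Nat.eq_zero_or_pos (m l) with h0 | h0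
    · have := hm l; rw [h0, zero_mul] at this; omega
    · exact h0
  have hhodd : ∀ l, Odd (h l) := fun l => by
    have : h l ∣ g := ⟨m l * e l, by rw [← hm l]; ring⟩
    exact Odd.of_dvd_nat hgodd this
  have eq : ∀ l, (0:ℚ) < e l := fun l => by
    have := he l
    exact_mod_cast (by omega : 0 < e l)
  have nq : ∀ l, (0:ℚ) < n l := fun l => by
    have := hn l
    exact_mod_cast (by omega : 0 < n l)
  have mq : ∀ l, (0:ℚ) < m l := fun l => by exact_mod_cast hm0 l
  have hhq : ∀ l, (h l : ℚ) = e l * n l + 1 := fun l => by rw [hh l]; push_cast; ring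
  have hgq' : ∀ l, (g : ℚ) = m l * (e l * (e l * n l + 1)) := fun l => by
    rw [← hm l, hh l]; push_cast; ring
  have hu : ∀ l, (0:ℚ) ≤ u l * (n l * u l - 2) := by
    intro l
    have h1 : (0:ℤ) ≤ u l * (n l * u l - 2) := by
      have hn' : (2:ℤ) ≤ n l := by exact_mod_cast hn l
      rcases le_or_gt (u l) 0 with h0 | h0
      · exact mul_nonneg_of_nonpos_of_nonpos h0 (by nlinarith)
      · exact mul_nonneg h0.le (by nlinarith)
    exact_mod_cast h1
  -- rational versions of the relations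
  have Raq : (g : ℚ) - 1 = ∑ l, (m l : ℚ) * ((h l : ℚ) - 1) := by exact_mod_cast Ra
  have Rbq : ∀ i, (w i : ℚ) + ∑ l, (m l : ℚ) *
      (if l = i then (-(e i : ℚ) + ((h i : ℚ) - 1) * u i) else ((h l : ℚ) - 1) * v i l) = 0 := by
    intro i; exact_mod_cast Rb i
  have Rcq : ∀ i, (w i : ℚ) ^ 2 + ∑ l, (m l : ℚ) *
      (if l = i then ((e i : ℚ) * h i - (e i : ℚ) ^ 2 - 2 * e i * u i + ((h i : ℚ) - 1) * u i ^ 2)
        else ((h l : ℚ) - 1) * v i l ^ 2) = g := by
    intro i; exact_mod_cast Rc i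
  have Rdq : ∀ i j, i ≠ j → (w i : ℚ) * w j + ∑ l, (m l : ℚ) *
      (if l = i then (-(e i : ℚ) + ((h i : ℚ) - 1) * u i) * v j i
        else if l = j then (-(e j : ℚ) + ((h j : ℚ) - 1) * u j) * v i j
        else ((h l : ℚ) - 1) * v i l * v j l) = 0 := by
    intro i j hij; exact_mod_cast Rd i j hij
  -- (★)
  have hstar : ∑ l, (n l : ℚ) / h l = 1 - 1 / g := by
    have h2 : ∀ l, (n l : ℚ) / h l = (m l : ℚ) * ((h l : ℚ) - 1) / g := by
      intro l
      rw [hhq l, hgq' l]
      have := eq l; have := nq l; have := mq l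
      field_simp
      ring
    rw [Finset.sum_congr rfl (fun l _ => h2 l), ← Finset.sum_div, ← Raq]
    field_simp
  -- the truncated table
  let W : ι → ℚ := fun l => (m l : ℚ) * ((e l : ℚ) * n l)
  let ν : ι → ℚ := fun i => (g : ℚ) / n i
  let R : ι → ι → ℚ := fun i l =>
    if l = i then (-(e i : ℚ) + (e i : ℚ) * n i * u i) / ((e i : ℚ) * n i) else (v i l : ℚ)
  have hνne : ∀ i, ν i ≠ 0 := fun i => (div_pos hgq (nq i)).ne'
  have hA : 1 + ∑ l, W l = (g : ℚ) := by
    have : ∑ l, W l = ∑ l, (m l : ℚ) * ((h l : ℚ) - 1) := by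
      apply Finset.sum_congr rfl
      intro l _
      show (m l : ℚ) * ((e l : ℚ) * n l) = _
      rw [hhq l]; ring
    rw [this, ← Raq]; ring
  have hB : ∀ i, (w i : ℚ) + ∑ l, W l * R i l = 0 := by
    intro i
    rw [← Rbq i]
    congr 1
    apply Finset.sum_congr rfl
    intro l _
    show (m l : ℚ) * ((e l : ℚ) * n l) *
      (if l = i then (-(e i : ℚ) + (e i : ℚ) * n i * u i) / ((e i : ℚ) * n i) else (v i l : ℚ)) = _
    split_ifs with hli
    · subst hli
      rw [hhq l]
      have := eq l; have := nq l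
      field_simp
      ring
    · rw [hhq l]; ring
  have hC : ∀ i, (w i : ℚ) ^ 2 + ∑ l, W l * R i l ^ 2 = ν i := by
    intro i
    have h2 : ∀ l, W l * R i l ^ 2 = (m l : ℚ) *
        (if l = i then ((e i : ℚ) * h i - (e i : ℚ) ^ 2 - 2 * e i * u i + ((h i : ℚ) - 1) * u i ^ 2)
          else ((h l : ℚ) - 1) * v i l ^ 2) + (if l = i then ν i - g else 0) := by
      intro l
      show (m l : ℚ) * ((e l : ℚ) * n l) *
        (if l = i then (-(e i : ℚ) + (e i : ℚ) * n i * u i) / ((e i : ℚ) * n i)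
          else (v i l : ℚ)) ^ 2 = _ + (if l = i then (g : ℚ) / n i - g else 0)
      split_ifs with hli
      · subst hli
        rw [hhq l, hgq' l]
        have := eq l; have := nq l
        field_simp
        ring
      · rw [hhq l]; ring
    rw [Finset.sum_congr rfl (fun l _ => h2 l), Finset.sum_add_distrib,
      Finset.sum_ite_eq' Finset.univ i (fun _ => ν i - (g : ℚ)), if_pos (Finset.mem_univ i)]
    have := Rcq i
    linarith
  have hD : ∀ i j, i ≠ j → (w i : ℚ) * w j + ∑ l, W l * R i l * R j l = 0 := by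
    intro i j hij
    rw [← Rdq i j hij]
    congr 1
    apply Finset.sum_congr rfl
    intro l _
    show (m l : ℚ) * ((e l : ℚ) * n l) *
      (if l = i then (-(e i : ℚ) + (e i : ℚ) * n i * u i) / ((e i : ℚ) * n i) else (v i l : ℚ)) *
      (if l = j then (-(e j : ℚ) + (e j : ℚ) * n j * u j) / ((e j : ℚ) * n j) else (v j l : ℚ)) = _
    by_cases hli : l = i
    · subst hli
      rw [if_pos rfl, if_neg hij, if_pos rfl, hhq l]
      have := eq l; have := nq l
      field_simp
      ring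
    · by_cases hlj : l = j
      · subst hlj
        rw [if_neg hli, if_pos rfl, if_neg hli, if_pos rfl, hhq l]
        have := eq l; have := nq l
        field_simp
        ring
      · rw [if_neg hli, if_neg hlj, if_neg hli, if_neg hlj, hhq l]
        ring
  have col := orth_matrix_col (g : ℚ) W ν (fun i => (w i : ℚ)) R hgq.ne' hνne hA hB hC hD
  -- column relation
  have hT : ∀ l, ∑ i ∈ Finset.univ.erase l, (n i : ℚ) * (v i l : ℚ) ^ 2
      = e l - 1 - u l * (n l * u l - 2) := by
    intro l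
    have c := col l
    rw [← Finset.add_sum_erase Finset.univ (fun i => R i l ^ 2 / ν i) (Finset.mem_univ l)] at c
    have h1 : ∑ i ∈ Finset.univ.erase l, R i l ^ 2 / ν i
        = (∑ i ∈ Finset.univ.erase l, (n i : ℚ) * (v i l : ℚ) ^ 2) / g := by
      rw [Finset.sum_div]
      apply Finset.sum_congr rfl
      intro i hi
      have hil : l ≠ i := (Finset.ne_of_mem_erase hi).symm
      show (if l = i then (-(e i : ℚ) + (e i : ℚ) * n i * u i) / ((e i : ℚ) * n i)
          else (v i l : ℚ)) ^ 2 / ((g : ℚ) / n i) = _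
      rw [if_neg hil]
      have := nq i
      field_simp
    rw [h1] at c
    have hRll : R l l = (-(e l : ℚ) + (e l : ℚ) * n l * u l) / ((e l : ℚ) * n l) := if_pos rfl
    rw [hRll] at c
    obtain ⟨T, hTdef⟩ : ∃ T : ℚ, T = ∑ i ∈ Finset.univ.erase l, (n i : ℚ) * (v i l : ℚ) ^ 2 :=
      ⟨_, rfl⟩
    rw [← hTdef] at c ⊢
    have c' : (m l : ℚ) * ((e l : ℚ) * n l) * ((g : ℚ)⁻¹ +
        (((-(e l : ℚ) + (e l : ℚ) * n l * u l) / ((e l : ℚ) * n l)) ^ 2 / ((g : ℚ) / n l)
          + T / g)) = 1 := c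
    have key : (m l : ℚ) * ((e l : ℚ) * n l) * ((g : ℚ)⁻¹ +
        (((-(e l : ℚ) + (e l : ℚ) * n l * u l) / ((e l : ℚ) * n l)) ^ 2 / ((g : ℚ) / n l)
          + T / g)) - 1
        = ((n l : ℚ) / (e l * n l + 1)) * (T - (e l - 1 - u l * (n l * u l - 2))) := by
      rw [hgq' l]
      have := eq l; have := nq l; have := mq l
      field_simp
      ring
    rw [c', sub_self] at key
    have hne : (n l : ℚ) / (e l * n l + 1) ≠ 0 := by
      have := eq l; have := nq l
      positivity
    have := (mul_eq_zero.mp key.symm).resolve_left hne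
    linarith
  -- row relation
  have hRow : ∀ i, ∑ l ∈ Finset.univ.erase i, (n l : ℚ) / h l * (v i l : ℚ) ^ 2 < e i / h i := by
    intro i
    have h1 := Rcq i
    rw [← Finset.add_sum_erase Finset.univ _ (Finset.mem_univ i), if_pos rfl] at h1
    have h2 : ∑ l ∈ Finset.univ.erase i, (m l : ℚ) *
        (if l = i then ((e i : ℚ) * h i - (e i : ℚ) ^ 2 - 2 * e i * u i + ((h i : ℚ) - 1) * u i ^ 2)
          else ((h l : ℚ) - 1) * v i l ^ 2)
        = g * ∑ l ∈ Finset.univ.erase i, (n l : ℚ) / h l * (v i l : ℚ) ^ 2 := by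
      rw [Finset.mul_sum]
      apply Finset.sum_congr rfl
      intro l hl
      rw [if_neg (Finset.ne_of_mem_erase hl), hhq l, hgq' l]
      have := eq l; have := nq l; have := mq l
      field_simp
      ring
    rw [h2] at h1
    obtain ⟨T, hTdef⟩ : ∃ T : ℚ, T = ∑ l ∈ Finset.univ.erase i, (n l : ℚ) / h l * (v i l : ℚ) ^ 2 :=
      ⟨_, rfl⟩
    rw [← hTdef] at h1 ⊢
    have hwpos : (0:ℚ) < (w i : ℚ) ^ 2 := by
      have : w i ≠ 0 := by
        intro h0
        have := hw i
        rw [h0] at this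
        exact absurd this (by decide)
      have : (w i : ℚ) ≠ 0 := by exact_mod_cast this
      positivity
    have e1 : (e i : ℚ) / h i * g = m i * (e i : ℚ) ^ 2 := by
      rw [hgq' i, hhq i]
      have := eq i; have := nq i
      field_simp
    have hg' := hgq' i
    have hh' := hhq i
    have key : ((e i : ℚ) / h i - T) * g
        = (w i : ℚ) ^ 2 + (m i : ℚ) * e i * (u i * (n i * u i - 2)) := by
      rw [sub_mul, e1]
      linear_combination (-1 : ℚ) * h1 - hg' + ((m i : ℚ) * e i + m i * (u i : ℚ) ^ 2) * hh'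
    have hpos : 0 < ((e i : ℚ) / h i - T) * g := by
      rw [key]
      have := hu i
      have := mq i; have := eq i
      positivity
    have := (pos_iff_pos_of_mul_pos hpos).mpr hgq
    linarith
  -- parity
  have hPar : ∀ i j, i ≠ j → v i j ≠ 0 ∨ v j i ≠ 0 := by
    intro i j hij
    by_contra hcon
    push Not at hcon
    obtain ⟨h1, h2⟩ := hcon
    have hd : (2:ℤ) ∣ ∑ l, (m l : ℤ) *
      (if l = i then (-(e i : ℤ) + ((h i : ℤ) - 1) * u i) * v j i
        else if l = j then (-(e j : ℤ) + ((h j : ℤ) - 1) * u j) * v i j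
        else ((h l : ℤ) - 1) * v i l * v j l) := by
      apply Finset.dvd_sum
      intro l _
      split_ifs with hli hlj
      · rw [h2]; simp
      · rw [h1]; simp
      · obtain ⟨k, hk⟩ := hhodd l
        have : (2:ℤ) ∣ ((h l : ℤ) - 1) := ⟨k, by rw [hk]; push_cast; ring⟩
        exact Dvd.dvd.mul_left (Dvd.dvd.mul_right (Dvd.dvd.mul_right this _) _) _
    have h3 : w i * w j = -∑ l, (m l : ℤ) *
      (if l = i then (-(e i : ℤ) + ((h i : ℤ) - 1) * u i) * v j i
        else if l = j then (-(e j : ℤ) + ((h j : ℤ) - 1) * u j) * v i j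
        else ((h l : ℤ) - 1) * v i l * v j l) := by
      have := Rd i j hij
      linarith
    have h4 : (2:ℤ) ∣ w i * w j := by rw [h3]; exact (dvd_neg.mpr hd)
    have h5 : Odd (w i * w j) := (hw i).mul (hw j)
    rw [← Int.not_even_iff_odd] at h5
    exact h5 (even_iff_two_dvd.mpr h4)
  obtain ⟨i₀, -, hmin⟩ := Finset.exists_min_image Finset.univ e Finset.univ_nonempty
  refine cn_final g e h n v i₀ (fun l => hmin l (Finset.mem_univ l)) he hn hh hhodd ?_ hcop hstar
    (fun l hl => hPar i₀ l (Ne.symm hl)) ?_ (hRow i₀)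
  · intro l
    rw [← hm l]
    exact Nat.le_mul_of_pos_left _ (hm0 l)
  · rw [hT i₀]
    have := hu i₀
    linarith

end Cfsg.Agent.Lib.helper32
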