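import Mathlib
import Cfsg.Prelude.Def_Characters
import Cfsg.Prelude.Def_OddOrderChar
import Cfsg.Prelude.Def_OddOrderLocal
import Cfsg.Agent.Lib.helper32.CN1
import Cfsg.Agent.Lib.helper32.CN2
import Cfsg.Agent.Lib.helper32.CN3
import Cfsg.Agent.Lib.helper12.FrobTools
import Cfsg.Agent.S1519

/-!
# Groups of odd order partitioned by TI Frobenius kernels of coprime orders (helper32)

Assembly of the character-theoretic contradiction: `cn_main`.
-/

set_option autoImplicit false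
set_option linter.unusedSectionVars false

namespace Cfsg.Agent.Lib.helper32

open Cfsg
open Cfsg.Agent.Lib.helper4
open scoped ComplexConjugate

universe u

/-- Uniform version of `cn_numeric`. -/
theorem cn_numeric' {ι : Type*} [Fintype ι] [DecidableEq ι] [Nonempty ι] (g : ℕ) (hgodd : Odd g)
    (e h n m : ι → ℕ) (w : ι → ℤ) (p : ι → ι → ℤ)
    (he : ∀ l, 3 ≤ e l) (hn : ∀ l, 2 ≤ n l) (hh : ∀ l, h l = e l * n l + 1)
    (hm : ∀ l, m l * (e l * h l) = g)
    (hcop : ∀ i j, i ≠ j → Nat.Coprime (h i) (h j))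
    (hw : ∀ i, Odd (w i))
    (Ra : (g : ℤ) - 1 = ∑ l, (m l : ℤ) * ((h l : ℤ) - 1))
    (Rb : ∀ i, w i + ∑ l, (m l : ℤ) *
      ((if l = i then 1 else 0) * (-(e l : ℤ)) + ((h l : ℤ) - 1) * p i l) = 0)
    (Rc : ∀ i j, w i * w j + ∑ l, (m l : ℤ) *
      ((if l = i then 1 else 0) * (if l = j then 1 else 0) * ((e l : ℤ) * h l - (e l : ℤ) ^ 2)
        - (e l : ℤ) * ((if l = i then 1 else 0) * p j l + p i l * (if l = j then 1 else 0))
        + ((h l : ℤ) - 1) * p i l * p j l) = if i = j then (g : ℤ) else 0) : False := by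
  refine cn_numeric g hgodd e h n m w (fun i => p i i) p he hn hh hm hcop hw Ra ?_ ?_ ?_
  · intro i
    rw [← Rb i]
    congr 1
    apply Finset.sum_congr rfl
    intro l _
    by_cases hli : l = i
    · subst hli
      rw [if_pos rfl, if_pos rfl]; ring
    · rw [if_neg hli, if_neg hli]; ring
  · intro i
    have h1 := Rc i i
    rw [if_pos rfl] at h1
    rw [← h1, sq]
    congr 1
    apply Finset.sum_congr rfl
    intro l _
    by_cases hli : l = i
    · subst hli
      rw [if_pos rfl, if_pos rfl]; ring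
    · rw [if_neg hli, if_neg hli]; ring
  · intro i j hij
    have h1 := Rc i j
    rw [if_neg hij] at h1
    rw [← h1]
    congr 1
    apply Finset.sum_congr rfl
    intro l _
    by_cases hli : l = i
    · subst hli
      rw [if_pos rfl, if_pos rfl, if_neg hij]; ring
    · by_cases hlj : l = j
      · subst hlj
        rw [if_neg hli, if_pos rfl, if_neg hli, if_pos rfl]; ring
      · rw [if_neg hli, if_neg hlj, if_neg hli, if_neg hlj]; ring

section

variable {G : Type u} [Group G] {H L : Subgroup G}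

/-- The kernel of a TI Frobenius pair is nilpotent (Thompson). -/
theorem FrobTI.nilpotent [Finite G] (F : FrobTI H L) : Group.IsNilpotent H := by
  have _iK := F.normalK
  obtain ⟨K, hK⟩ : ∃ K : Subgroup L, K = H.subgroupOf L := ⟨_, rfl⟩
  have _iK' : K.Normal := by rw [hK]; exact F.normalK
  have hC : ∀ k ∈ K, k ≠ 1 → ∀ x : L, x * k = k * x → x ∈ K := by rw [hK]; exact F.centK
  have hKL : K < ⊤ := by rw [hK]; exact F.ltK
  have hidx : K.index ≠ 1 := by
    intro h
    exact hKL.ne (Subgroup.index_eq_one.mp h)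
  obtain ⟨r, hr, hrdvd⟩ := Nat.exists_prime_and_dvd hidx
  have hrL : r ∣ Nat.card L := hrdvd.trans (Subgroup.index_dvd_card K)
  have _ir : Fact r.Prime := ⟨hr⟩
  obtain ⟨y, hy⟩ := exists_prime_orderOf_dvd_card' r hrL
  have hyK : y ∉ K := by
    intro hyK
    have h1 : r ∣ Nat.card K := by
      rw [← hy]
      exact Subgroup.orderOf_dvd_natCard K hyK
    have h2 := frobC_coprime K hC
    have h3 := Nat.dvd_gcd h1 hrdvd
    rw [h2] at h3
    exact hr.one_lt.ne' (Nat.dvd_one.mp h3)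
  have hnil : Group.IsNilpotent K := by
    apply helper12.isNilpotent_of_fpf_conj (G := L) K y r hr
    · rw [← hy]; exact pow_orderOf_eq_one y
    · intro n hn hcomm
      by_contra hn1
      exact hyK (hC n hn hn1 y hcomm)
  rw [hK] at hnil
  exact (Group.nilpotent_of_mulEquiv (Subgroup.subgroupOfEquivOfLe F.lt.le)) 

end

section

variable {G : Type u} [Group G] [Fintype G] {H L : Subgroup G} [Fintype L]

/-- Arithmetic of a TI Frobenius pair in a group of odd order. -/
theorem FrobTI.arith (F : FrobTI H L) (hodd : Odd (Nat.card G)) :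
    ∃ n : ℕ, 3 ≤ (H.subgroupOf L).index ∧ 2 ≤ n ∧
      Nat.card H = (H.subgroupOf L).index * n + 1 ∧
      (Subgroup.normalizer (H : Set G)).index * ((H.subgroupOf L).index * Nat.card H)
        = Nat.card G ∧
      Nat.card L = (H.subgroupOf L).index * Nat.card H := by
  have _iK := F.normalK
  have hcardL : Nat.card L = (H.subgroupOf L).index * Nat.card H := by
    rw [← F.card_K, Subgroup.index_mul_card]
  have hG : (Subgroup.normalizer (H : Set G)).index * ((H.subgroupOf L).index * Nat.card H)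
      = Nat.card G := by
    rw [← hcardL, F.norm, Subgroup.index_mul_card]
  have hoddL : Odd (Nat.card L) := Odd.of_dvd_nat hodd (Subgroup.card_subgroup_dvd_card L)
  have hoddH : Odd (Nat.card H) := Odd.of_dvd_nat hodd (Subgroup.card_subgroup_dvd_card H)
  have hodde : Odd (H.subgroupOf L).index :=
    Odd.of_dvd_nat hoddL (Subgroup.index_dvd_card _)
  have he1 : (H.subgroupOf L).index ≠ 1 := by
    intro h
    exact F.ltK.ne (Subgroup.index_eq_one.mp h)
  have he0 : (H.subgroupOf L).index ≠ 0 := Subgroup.index_ne_zero_of_finite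
  obtain ⟨n, hn⟩ := frobC_index_dvd (H.subgroupOf L) F.centK (H.subgroupOf L) le_rfl
  rw [F.card_K] at hn
  have hH2 : 1 < Nat.card H := (Subgroup.one_lt_card_iff_ne_bot H).mpr F.ne_bot
  have hH : Nat.card H = (H.subgroupOf L).index * n + 1 := by omega
  refine ⟨n, ?_, ?_, hH, hG, hcardL⟩
  · obtain ⟨k, hk⟩ := hodde
    omega
  · have hn0 : n ≠ 0 := by
      rintro rfl
      rw [mul_zero] at hH
      omega
    have hev : Even ((H.subgroupOf L).index * n) := by
      obtain ⟨k, hk⟩ := hoddH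
      exact ⟨k, by omega⟩
    rcases Nat.even_mul.mp hev with h | h
    · exact absurd h (Nat.not_even_iff_odd.mpr hodde)
    · obtain ⟨k, hk⟩ := h
      omega

open Classical in
/-- The number of non-identity elements of a subgroup, as a sum. -/
theorem card_sum_ite (H : Subgroup G) :
    ∑ y : G, (if y ∈ H ∧ y ≠ 1 then (1:ℂ) else 0) = (Nat.card H : ℂ) - 1 := by
  have h1 : ∀ y : G, (if y ∈ H ∧ y ≠ 1 then (1:ℂ) else 0)
      = (if y ∈ H then (1:ℂ) else 0) - (if y = 1 then 1 else 0) := by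
    intro y
    by_cases h1 : y = 1
    · simp [h1, H.one_mem]
    · simp [h1]
  rw [Finset.sum_congr rfl (fun y _ => h1 y), Finset.sum_sub_distrib, Finset.sum_boole]
  congr 1
  · rw [Nat.card_eq_fintype_card, Fintype.card_subtype]
  · simp

/-- Coherence data for a TI Frobenius pair: an isometry `τ` extending induction and a character
`χ` of degree `|L : H|` induced from `H`. -/
structure ExcData (H L : Subgroup G) [Fintype L] (τ : (L → ℂ) → (G → ℂ)) (χ : L → ℂ) :
    Prop where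
  frob : FrobTI H L
  iso : IsLinearIsometryOn (zspan (inducedIrrAbove (H.subgroupOf L) ⊥)) τ
  ind : ∀ α ∈ zspanOn (inducedIrrAbove (H.subgroupOf L) ⊥) {1}ᶜ, τ α = indFun L α
  mem : χ ∈ inducedIrrAbove (H.subgroupOf L) ⊥
  deg : χ 1 = ((H.subgroupOf L).index : ℂ)

theorem exists_excData (F : FrobTI H L) (hodd : Odd (Nat.card G)) :
    ∃ (τ : (L → ℂ) → (G → ℂ)) (χ : L → ℂ), ExcData H L τ χ := by
  have hoddL : Odd (Nat.card L) := Odd.of_dvd_nat hodd (Subgroup.card_subgroup_dvd_card L)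
  have hnil := F.nilpotent
  obtain ⟨-, τ, hτ, hτα⟩ := sibley F hoddL hnil
  have _iK := F.normalK
  have hnilK : Group.IsNilpotent (H.subgroupOf L) :=
    Group.nilpotent_of_mulEquiv (Subgroup.subgroupOfEquivOfLe F.lt.le).symm
  have hsolv : Group.IsSolvable (H.subgroupOf L) := inferInstance
  obtain ⟨χ, hχ, hχ1⟩ := Cfsg.Agent.S1519.exists_induced_linear (H.subgroupOf L) hsolv ⊥
    (bot_lt_iff_ne_bot.mpr F.ne_botK)
  exact ⟨τ, χ, F, hτ, hτα, hχ, hχ1⟩

theorem ExcData.self_data {τ : (L → ℂ) → (G → ℂ)} {χ : L → ℂ} (D : ExcData H L τ χ)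
    (hodd : Odd (Nat.card G)) :
    ∃ w u : ℤ, Odd w ∧ τ χ 1 = w ∧
      (∀ y : G, y ∈ H → y ≠ 1 → τ χ y = extendByZero L χ y + u) ∧
      (∀ g x : G, τ χ (x * g * x⁻¹) = τ χ g) ∧
      classInner (τ χ) (τ χ) = 1 ∧ classInner (τ χ) (fun _ : G => (1:ℂ)) = 0 := by
  have hoddL : Odd (Nat.card L) := Odd.of_dvd_nat hodd (Subgroup.card_subgroup_dvd_card L)
  have hτ' : IsLinearIsometryOn ((Submodule.span ℤ (inducedIrrAbove (H.subgroupOf L) ⊥) :
      Submodule ℤ (L → ℂ)) : Set (L → ℂ)) τ := D.iso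
  have hm : χ ∈ (Submodule.span ℤ (inducedIrrAbove (H.subgroupOf L) ⊥) :
      Submodule ℤ (L → ℂ)) := Submodule.subset_span D.mem
  obtain ⟨hA, -, -, -, -, -⟩ := frobTI_exc_pair D.frob hoddL τ D.iso D.ind χ D.mem
  obtain ⟨w, hw1, hwodd⟩ := signed_irr_degree_odd hodd (τ χ) hA
  obtain ⟨u, hu⟩ := frobTI_exc_self D.frob τ D.iso D.ind χ D.mem D.deg
  have hgen := lio_gen hτ' hm
  have hcl := isClassFunction_of_isGeneralizedCharacter hgen
  refine ⟨w, u, hwodd, hw1, hu, fun g x => hcl g x, ?_,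
    frobTI_exc_orth_one D.frob hoddL τ D.iso D.ind χ D.mem⟩
  rw [lio_inner hτ' hm hm]
  exact classInner_irr_self (frobTI_irr D.frob χ D.mem)

theorem ExcData.cross_data {H₁ L₁ H₂ L₂ : Subgroup G} [Fintype L₁] [Fintype L₂]
    {τ₁ : (L₁ → ℂ) → (G → ℂ)} {χ₁ : L₁ → ℂ} {τ₂ : (L₂ → ℂ) → (G → ℂ)} {χ₂ : L₂ → ℂ}
    (D₁ : ExcData H₁ L₁ τ₁ χ₁) (D₂ : ExcData H₂ L₂ τ₂ χ₂) (hodd : Odd (Nat.card G))
    (hcop : Nat.Coprime (Nat.card H₁) (Nat.card H₂)) :
    classInner (τ₁ χ₁) (τ₂ χ₂) = 0 ∧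
      ∃ v : ℤ, ∀ y : G, y ∈ H₂ → y ≠ 1 → τ₁ χ₁ y = v := by
  have hoddL₁ : Odd (Nat.card L₁) := Odd.of_dvd_nat hodd (Subgroup.card_subgroup_dvd_card L₁)
  have hoddL₂ : Odd (Nat.card L₂) := Odd.of_dvd_nat hodd (Subgroup.card_subgroup_dvd_card L₂)
  refine ⟨frobTI_exc_orth D₁.frob D₂.frob hoddL₁ hoddL₂ hcop τ₁ D₁.iso D₁.ind τ₂ D₂.iso D₂.ind
    χ₁ D₁.mem χ₂ D₂.mem, ?_⟩
  have hτ' : IsLinearIsometryOn ((Submodule.span ℤ (inducedIrrAbove (H₁.subgroupOf L₁) ⊥) :
      Submodule ℤ (L₁ → ℂ)) : Set (L₁ → ℂ)) τ₁ := D₁.iso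
  have hm : χ₁ ∈ (Submodule.span ℤ (inducedIrrAbove (H₁.subgroupOf L₁) ⊥) :
      Submodule ℤ (L₁ → ℂ)) := Submodule.subset_span D₁.mem
  apply frobTI_exc_other D₂.frob τ₂ D₂.iso D₂.ind χ₂ D₂.mem D₂.deg (τ₁ χ₁) (lio_gen hτ' hm)
  intro ξ hξ
  exact frobTI_exc_orth D₂.frob D₁.frob hoddL₂ hoddL₁ hcop.symm τ₂ D₂.iso D₂.ind τ₁ D₁.iso D₁.ind
    ξ hξ χ₁ D₁.mem

open Classical in
/-- Sums over `H ∖ {1}` of functions of the shape `c χ + p`. -/
theorem ExcData.sums {τ : (L → ℂ) → (G → ℂ)} {χ : L → ℂ} (D : ExcData H L τ χ)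
    (a b : G → ℂ) (c d p q : ℤ)
    (ha : ∀ y : G, y ∈ H → y ≠ 1 → a y = c * extendByZero L χ y + p)
    (hb : ∀ y : G, y ∈ H → y ≠ 1 → b y = d * extendByZero L χ y + q) :
    ∑ y : G, (if y ∈ H ∧ y ≠ 1 then a y else 0)
      = (c : ℂ) * (-((H.subgroupOf L).index : ℂ)) + ((Nat.card H : ℂ) - 1) * p ∧
    ∑ y : G, (if y ∈ H ∧ y ≠ 1 then a y * conj (b y) else 0)
      = (c : ℂ) * d * ((Nat.card L : ℂ) - ((H.subgroupOf L).index : ℂ) ^ 2)
        - ((H.subgroupOf L).index : ℂ) * (c * q + p * d)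
        + ((Nat.card H : ℂ) - 1) * p * q := by
  obtain ⟨s1, s2⟩ := frobTI_sum_chi D.frob D.mem D.deg
  have s4 := card_sum_ite H
  have s3 : ∑ y : G, (if y ∈ H ∧ y ≠ 1 then conj (extendByZero L χ y) else 0)
      = -((H.subgroupOf L).index : ℂ) := by
    have h1 := congrArg (starRingEnd ℂ) s1
    rw [map_sum] at h1
    simp only [apply_ite (starRingEnd ℂ), map_zero, map_neg, map_natCast] at h1
    exact h1
  simp only [← Finset.sum_filter] at s1 s2 s3 s4 ⊢
  constructor
  · rw [Finset.sum_congr rfl (fun y hy => ha y (Finset.mem_filter.mp hy).2.1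
      (Finset.mem_filter.mp hy).2.2)]
    have h5 : ∀ y ∈ Finset.univ.filter (fun y : G => y ∈ H ∧ y ≠ 1),
        (c : ℂ) * extendByZero L χ y + (p : ℂ) = (c : ℂ) * extendByZero L χ y + (p : ℂ) * 1 :=
      fun y _ => by ring
    rw [Finset.sum_congr rfl h5, Finset.sum_add_distrib, ← Finset.mul_sum, ← Finset.mul_sum,
      s1, s4]
    ring
  · have hterm : ∀ y ∈ Finset.univ.filter (fun y : G => y ∈ H ∧ y ≠ 1),
        a y * conj (b y) = (c:ℂ) * d * (extendByZero L χ y * conj (extendByZero L χ y))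
          + (c:ℂ) * q * extendByZero L χ y + (p:ℂ) * d * conj (extendByZero L χ y)
          + (p:ℂ) * q * 1 := by
      intro y hy
      rw [ha y (Finset.mem_filter.mp hy).2.1 (Finset.mem_filter.mp hy).2.2,
        hb y (Finset.mem_filter.mp hy).2.1 (Finset.mem_filter.mp hy).2.2, map_add, map_mul,
        map_intCast, map_intCast]
      ring
    rw [Finset.sum_congr rfl hterm, Finset.sum_add_distrib, Finset.sum_add_distrib,
      Finset.sum_add_distrib, ← Finset.mul_sum, ← Finset.mul_sum, ← Finset.mul_sum,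
      ← Finset.mul_sum, s1, s2, s3, s4]
    ring

end

/-- **Main contradiction**: a group of odd order is not partitioned by the conjugates of
TI Frobenius kernels of pairwise coprime orders. -/
theorem cn_main {G : Type u} [Group G] [Fintype G] (hodd : Odd (Nat.card G)) {ι : Type*}
    [Fintype ι] [Nonempty ι] (L H : ι → Subgroup G) (F : ∀ i, FrobTI (H i) (L i))
    (hcop : ∀ i j, i ≠ j → Nat.Coprime (Nat.card (H i)) (Nat.card (H j)))
    (hcover : ∀ g : G, g ≠ 1 → ∃ i, ∃ x : G, x * g * x⁻¹ ∈ H i) : False := by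
  classical
  choose τ χ D using fun i => exists_excData (F i) hodd
  choose w u hwodd hw1 hu hcl hself hone using fun i => (D i).self_data hodd
  have hcross : ∀ i j, i ≠ j → classInner (τ i (χ i)) (τ j (χ j)) = 0 := fun i j hij =>
    ((D i).cross_data (D j) hodd (hcop i j hij)).1
  have hv : ∀ i l, ∃ v : ℤ, l ≠ i → ∀ y : G, y ∈ H l → y ≠ 1 → τ i (χ i) y = v := by
    intro i l
    by_cases hli : l = i
    · exact ⟨0, fun h => absurd hli h⟩
    · obtain ⟨v, hv⟩ := ((D i).cross_data (D l) hodd (hcop i l (Ne.symm hli))).2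
      exact ⟨v, fun _ => hv⟩
  choose v hv using hv
  choose n he hn hh hm hL using fun i => (F i).arith hodd
  obtain ⟨p, hp⟩ : ∃ p : ι → ι → ℤ, p = fun i l => if l = i then u i else v i l := ⟨_, rfl⟩
  have hval : ∀ i l, ∀ y : G, y ∈ H l → y ≠ 1 → τ i (χ i) y
      = ((if l = i then 1 else 0 : ℤ) : ℂ) * extendByZero (L l) (χ l) y + (p i l : ℂ) := by
    intro i l y hy hy1
    rw [hp]
    by_cases hli : l = i
    · subst hli
      rw [hu l y hy hy1]; simp
    · simp only [if_neg hli]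
      rw [hv i l hli y hy hy1]; simp
  have hG0 : (Nat.card G : ℂ) ≠ 0 := by exact_mod_cast (Nat.card_pos (α := G)).ne'
  have hinner : ∀ a b : G → ℂ, ∑ g : G, a g * conj (b g) = (Nat.card G : ℂ) * classInner a b := by
    intro a b
    unfold classInner
    field_simp
  apply cn_numeric' (Nat.card G) hodd (fun l => ((H l).subgroupOf (L l)).index)
    (fun l => Nat.card (H l)) n (fun l => (Subgroup.normalizer (H l : Set G)).index) w p he hn hh
    hm hcop hwodd
  · -- (Ra)
    have h1 := ti_partition_sum H hcop (fun i => (F i).ti) hcover (fun _ => (1:ℂ)) (fun _ _ => rfl)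
    simp only [card_sum_ite, Finset.sum_const, Finset.card_univ, nsmul_eq_mul, mul_one] at h1
    rw [← Nat.card_eq_fintype_card] at h1
    have h2 : ((Nat.card G : ℤ) : ℂ) - 1 = ∑ l, (((Subgroup.normalizer (H l : Set G)).index : ℤ) : ℂ)
        * (((Nat.card (H l) : ℤ) : ℂ) - 1) := by
      push_cast
      rw [h1]; ring
    exact_mod_cast h2
  · -- (Rb)
    intro i
    have h1 := ti_partition_sum H hcop (fun i => (F i).ti) hcover (τ i (χ i)) (hcl i)
    have h2 : ∑ g : G, τ i (χ i) g = 0 := by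
      have h3 := hinner (τ i (χ i)) (fun _ => (1:ℂ))
      rw [hone i, mul_zero] at h3
      rw [← h3]
      apply Finset.sum_congr rfl
      intro g _
      simp
    rw [h2, hw1 i] at h1
    have h3 : ∀ l, ∑ y : G, (if y ∈ H l ∧ y ≠ 1 then τ i (χ i) y else 0)
        = ((if l = i then 1 else 0 : ℤ) : ℂ) * (-(((H l).subgroupOf (L l)).index : ℂ))
          + ((Nat.card (H l) : ℂ) - 1) * (p i l : ℂ) := fun l =>
      ((D l).sums (τ i (χ i)) (τ i (χ i)) _ _ _ _ (hval i l) (hval i l)).1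
    rw [Finset.sum_congr rfl (fun l _ => by rw [h3 l])] at h1
    have h4 : ((w i : ℤ) : ℂ) + ∑ l, (((Subgroup.normalizer (H l : Set G)).index : ℤ) : ℂ) *
        (((if l = i then 1 else 0 : ℤ) : ℂ) * (-((((H l).subgroupOf (L l)).index : ℤ) : ℂ))
          + (((Nat.card (H l) : ℤ) : ℂ) - 1) * (p i l : ℂ)) = 0 := by
      push_cast
      push_cast at h1
      exact h1.symm
    exact_mod_cast h4
  · -- (Rc)
    intro i j
    have h1 := ti_partition_sum H hcop (fun i => (F i).ti) hcover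
      (fun g => τ i (χ i) g * conj (τ j (χ j) g)) (fun g x => by
        show τ i (χ i) (x * g * x⁻¹) * conj (τ j (χ j) (x * g * x⁻¹)) = _
        rw [hcl i, hcl j])
    have h2 : ∑ g : G, τ i (χ i) g * conj (τ j (χ j) g)
        = if i = j then (Nat.card G : ℂ) else 0 := by
      rw [hinner]
      by_cases hij : i = j
      · subst hij
        rw [hself i, if_pos rfl, mul_one]
      · rw [hcross i j hij, if_neg hij, mul_zero]
    have h3 : ∀ l, ∑ y : G, (if y ∈ H l ∧ y ≠ 1 then τ i (χ i) y * conj (τ j (χ j) y) else 0)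
        = ((if l = i then 1 else 0 : ℤ) : ℂ) * ((if l = j then 1 else 0 : ℤ) : ℂ)
            * ((Nat.card (L l) : ℂ) - (((H l).subgroupOf (L l)).index : ℂ) ^ 2)
          - (((H l).subgroupOf (L l)).index : ℂ) * (((if l = i then 1 else 0 : ℤ) : ℂ) * (p j l : ℂ)
            + (p i l : ℂ) * ((if l = j then 1 else 0 : ℤ) : ℂ))
          + ((Nat.card (H l) : ℂ) - 1) * (p i l : ℂ) * (p j l : ℂ) := fun l =>
      ((D l).sums (τ i (χ i)) (τ j (χ j)) _ _ _ _ (hval i l) (hval j l)).2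
    rw [h2] at h1
    simp only [hw1, map_intCast] at h1
    rw [Finset.sum_congr rfl (fun l _ => by rw [h3 l])] at h1
    have hL' : ∀ l, (Nat.card (L l) : ℂ) = (((H l).subgroupOf (L l)).index : ℂ) * (Nat.card (H l) : ℂ) :=
      fun l => by rw [hL l]; push_cast; ring
    simp only [hL'] at h1
    have h4 : ((w i : ℤ) : ℂ) * ((w j : ℤ) : ℂ) + ∑ l, (((Subgroup.normalizer (H l : Set G)).index : ℤ) : ℂ) *
        (((if l = i then 1 else 0 : ℤ) : ℂ) * ((if l = j then 1 else 0 : ℤ) : ℂ)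
            * (((((H l).subgroupOf (L l)).index : ℤ) : ℂ) * ((Nat.card (H l) : ℤ) : ℂ)
              - ((((H l).subgroupOf (L l)).index : ℤ) : ℂ) ^ 2)
          - ((((H l).subgroupOf (L l)).index : ℤ) : ℂ) * (((if l = i then 1 else 0 : ℤ) : ℂ) * (p j l : ℂ)
            + (p i l : ℂ) * ((if l = j then 1 else 0 : ℤ) : ℂ))
          + (((Nat.card (H l) : ℤ) : ℂ) - 1) * (p i l : ℂ) * (p j l : ℂ))
        = ((if i = j then (Nat.card G : ℤ) else 0 : ℤ) : ℂ) := by
      push_cast
      push_cast at h1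
      exact h1.symm
    exact_mod_cast h4

end Cfsg.Agent.Lib.helper32
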