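import Mathlib
import Cfsg.Prelude.Def_Characters
import Cfsg.Prelude.Def_OddOrderChar
import Cfsg.Agent.Lib.helper32.Gen1
import Cfsg.Agent.Lib.helper32.Coh5
import Cfsg.Agent.Lib.helper32.Coh8
import Cfsg.Agent.Lib.helper32.Coh10
import Cfsg.Agent.Lib.helper82.CharQuot
import Cfsg.Agent.S1519

/-!
# Level and chain criteria for coherence of irreducible induced characters (helper32)

Analogues of Peterfalvi (6.3) for sets of irreducible characters that need not be closed under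
complex conjugation.

* `coherent_level`: one level.
* `coherent_chain`: a descending chain, with an extra subgroup `E` central modulo `M`.
-/

set_option autoImplicit false

namespace Cfsg.Agent.Lib.helper32

open Cfsg
open Cfsg.Agent.Lib.helper4

universe u v

variable {L : Type u} [Group L] [Fintype L] {G : Type v} [Group G] [Fintype G]

theorem inducedIrrAbove_anti (K : Subgroup L) {A B : Subgroup L} (h : B ≤ A) :
    inducedIrrAbove K A ⊆ inducedIrrAbove K B := by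
  rintro φ ⟨θ, hθ, hne, hA, rfl⟩
  exact ⟨θ, hθ, hne, fun a ha => hA a (h ha), rfl⟩

/-- One level of Peterfalvi (6.3) for irreducible induced characters. -/
theorem coherent_level (K : Subgroup L) [K.Normal] (hsolv : Group.IsSolvable K)
    (hirr : ∀ φ ∈ inducedIrrAbove K ⊥, IsIrrCharacter L φ)
    (τ : (L → ℂ) → (G → ℂ))
    (hτ : IsLinearIsometryOn (zspanOn (inducedIrrAbove K ⊥) {1}ᶜ) τ)
    (hτ1 : ∀ α ∈ zspanOn (inducedIrrAbove K ⊥) {1}ᶜ, τ α 1 = 0)
    (A B C D : Subgroup L) [A.Normal] [B.Normal] [C.Normal] [D.Normal] (hAK : A < K)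
    (hBA : B ≤ A) (hBD : B ≤ D) (hDC : D ≤ C) (hCK : C ≤ K)
    (hcent : ∀ x ∈ D, ∀ y ∈ C, x * y * x⁻¹ * y⁻¹ ∈ B)
    (hA : IsCoherent (inducedIrrAbove K A) {1}ᶜ τ)
    (hlt : 4 * C.index ^ 2 * D.relIndex C < (A.relIndex K - 1) ^ 2) :
    IsCoherent (inducedIrrAbove K B) {1}ᶜ τ := by
  classical
  obtain ⟨S, hSdef⟩ : ∃ S : Set (L → ℂ), S = inducedIrrAbove K ⊥ := ⟨_, rfl⟩
  rw [← hSdef] at hirr hτ hτ1
  have hdex : ∀ φ : L → ℂ, ∃ k : ℕ, φ ∈ S → φ 1 = (k : ℂ) := by
    intro φ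
    by_cases h : φ ∈ S
    · obtain ⟨k, -, hk⟩ := exists_pos_nat_degree (hirr φ h)
      exact ⟨k, fun _ => hk⟩
    · exact ⟨0, fun h' => absurd h' h⟩
  choose d hd using hdex
  have hSfin : S.Finite :=
    orthogonal_set_finite S
      (fun χ hχ => by rw [classInner_irr_self (hirr χ hχ)]; exact one_ne_zero)
      (fun χ hχ ψ hψ h => classInner_irr_ne (hirr χ hχ) (hirr ψ hψ) h)
  have hAS : inducedIrrAbove K A ⊆ S := hSdef ▸ inducedIrrAbove_subset_bot K A
  have hBS : inducedIrrAbove K B ⊆ S := hSdef ▸ inducedIrrAbove_subset_bot K B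
  obtain ⟨SA, hSA⟩ : ∃ SA : Finset (L → ℂ), (↑SA : Set (L → ℂ)) = inducedIrrAbove K A :=
    ⟨(hSfin.subset hAS).toFinset, Set.Finite.coe_toFinset _⟩
  obtain ⟨SB, hSB⟩ : ∃ SB : Finset (L → ℂ), (↑SB : Set (L → ℂ)) = inducedIrrAbove K B :=
    ⟨(hSfin.subset hBS).toFinset, Set.Finite.coe_toFinset _⟩
  have hSA_S : (↑SA : Set (L → ℂ)) ⊆ S := hSA ▸ hAS
  have hSB_S : (↑SB : Set (L → ℂ)) ⊆ S := hSB ▸ hBS
  have hmemA : ∀ φ, φ ∈ SA ↔ φ ∈ inducedIrrAbove K A := by
    intro φ; rw [← hSA]; exact Iff.rfl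
  have hmemB : ∀ φ, φ ∈ SB ↔ φ ∈ inducedIrrAbove K B := by
    intro φ; rw [← hSB]; exact Iff.rfl
  obtain ⟨χ₁, hχ₁A, hχ₁deg⟩ := Cfsg.Agent.S1519.exists_induced_linear K hsolv A hAK
  have hχ₁ : χ₁ ∈ SA := (hmemA χ₁).mpr hχ₁A
  have hdχ₁ : d χ₁ = K.index := by
    have h := hd χ₁ (hAS hχ₁A)
    rw [hχ₁deg] at h
    exact_mod_cast h.symm
  have hKpos : 0 < K.index := Nat.pos_of_ne_zero Subgroup.index_ne_zero_of_finite
  have hdegB : ∀ χ ∈ SB, ∃ m : ℕ, d χ = K.index * m ∧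
      m ^ 2 ≤ C.relIndex K * D.relIndex K := by
    intro χ hχ
    have hχ' := (hmemB χ).mp hχ
    obtain ⟨θ, hθ, hne, hB, rfl⟩ := hχ'
    obtain ⟨ψ, hψ, hψθ⟩ := Cfsg.Agent.Lib.helper82.isIrrCharacter_deflation (B.subgroupOf K) hθ
      (fun x hx => hB x (Subgroup.mem_subgroupOf.mp hx))
    have hπ : Function.Surjective (QuotientGroup.mk' (B.subgroupOf K)) :=
      QuotientGroup.mk'_surjective _
    have _i : ((D.subgroupOf K).map (QuotientGroup.mk' (B.subgroupOf K))).Normal :=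
      Subgroup.Normal.map inferInstance _ hπ
    let _j : Fintype (↥K ⧸ B.subgroupOf K) := Fintype.ofFinite _
    obtain ⟨m, hm, hmle⟩ := irr_degree_sq_le
      ((D.subgroupOf K).map (QuotientGroup.mk' (B.subgroupOf K)))
      ((C.subgroupOf K).map (QuotientGroup.mk' (B.subgroupOf K)))
      (Subgroup.map_mono (Subgroup.comap_mono hDC))
      (by
        rintro z ⟨x, hx, rfl⟩ c ⟨y, hy, rfl⟩
        have h := hcent x (Subgroup.mem_subgroupOf.mp hx) y (Subgroup.mem_subgroupOf.mp hy)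
        have h1 : (QuotientGroup.mk' (B.subgroupOf K)) (x * y * x⁻¹ * y⁻¹) = 1 :=
          (QuotientGroup.eq_one_iff _).mpr (Subgroup.mem_subgroupOf.mpr h)
        rw [map_mul, map_mul, map_mul, map_inv, map_inv] at h1
        calc (QuotientGroup.mk' (B.subgroupOf K)) x * (QuotientGroup.mk' (B.subgroupOf K)) y
            = ((QuotientGroup.mk' (B.subgroupOf K)) x * (QuotientGroup.mk' (B.subgroupOf K)) y
                * ((QuotientGroup.mk' (B.subgroupOf K)) x)⁻¹
                * ((QuotientGroup.mk' (B.subgroupOf K)) y)⁻¹)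
              * ((QuotientGroup.mk' (B.subgroupOf K)) y * (QuotientGroup.mk' (B.subgroupOf K)) x) := by
              group
          _ = (QuotientGroup.mk' (B.subgroupOf K)) y * (QuotientGroup.mk' (B.subgroupOf K)) x := by
              rw [h1, one_mul])
      hψ
    refine ⟨m, ?_, ?_⟩
    · have h1 := hd _ (hBS ⟨θ, hθ, hne, hB, rfl⟩)
      have h2 : θ 1 = (m : ℂ) := by
        rw [← hψθ 1]; exact hm
      rw [indFun_one, h2] at h1
      exact_mod_cast h1.symm
    · have hker : (QuotientGroup.mk' (B.subgroupOf K)).ker = B.subgroupOf K :=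
        QuotientGroup.ker_mk' _
      have hk1 : (QuotientGroup.mk' (B.subgroupOf K)).ker ≤ C.subgroupOf K := by
        rw [hker]; exact Subgroup.comap_mono (hBD.trans hDC)
      have hk2 : (QuotientGroup.mk' (B.subgroupOf K)).ker ≤ D.subgroupOf K := by
        rw [hker]; exact Subgroup.comap_mono hBD
      rw [Subgroup.index_map_eq _ hπ hk1, Subgroup.index_map_eq _ hπ hk2] at hmle
      exact hmle
  have hbound := sum_induced_bound K A SA (hSA ▸ subset_rfl) d (fun _ => 1)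
    (fun φ hφ => hd φ (hSA_S hφ))
    (fun φ hφ => by rw [classInner_irr_self (hirr φ (hSA_S hφ))]; simp)
    (fun φ hφ => Nat.one_pos)
  have hbound' : K.index * (A.relIndex K - 1) ≤ ∑ φ ∈ SA, d φ ^ 2 := by
    have h : ∑ φ ∈ SA, ((d φ : ℝ) ^ 2 / (((1 : ℕ)) : ℝ)) = ((∑ φ ∈ SA, d φ ^ 2 : ℕ) : ℝ) := by
      push_cast
      apply Finset.sum_congr rfl
      intro φ _
      simp
    rw [h] at hbound
    exact_mod_cast hbound
  have hineq : ∀ χ ∈ SB, 2 * d χ₁ * d χ < ∑ φ ∈ SA, d φ ^ 2 := by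
    intro χ hχ
    obtain ⟨m, hm, hmle⟩ := hdegB χ hχ
    refine lt_of_lt_of_le ?_ hbound'
    rw [hm, hdχ₁]
    have h1 : D.relIndex K = D.relIndex C * C.relIndex K :=
      (Subgroup.relIndex_mul_relIndex D C K hDC hCK).symm
    have h2 : C.relIndex K * K.index = C.index := Subgroup.relIndex_mul_index hCK
    have h3 : (2 * K.index * m) ^ 2 < (A.relIndex K - 1) ^ 2 := by
      calc (2 * K.index * m) ^ 2 = 4 * K.index ^ 2 * m ^ 2 := by ring
        _ ≤ 4 * K.index ^ 2 * (C.relIndex K * D.relIndex K) := Nat.mul_le_mul_left _ hmle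
        _ = 4 * (C.relIndex K * K.index) ^ 2 * D.relIndex C := by rw [h1]; ring
        _ = 4 * C.index ^ 2 * D.relIndex C := by rw [h2]
        _ < (A.relIndex K - 1) ^ 2 := hlt
    have h4 : 2 * K.index * m < A.relIndex K - 1 := lt_of_pow_lt_pow_left₀ 2 (Nat.zero_le _) h3
    calc 2 * K.index * (K.index * m) = K.index * (2 * K.index * m) := by ring
      _ < K.index * (A.relIndex K - 1) := Nat.mul_lt_mul_of_pos_left h4 hKpos
  have hunion := coherent_union_irr S hirr τ hτ hτ1 d hd SA hSA_S (hSA ▸ hA) χ₁ hχ₁ SB hSB_S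
    (fun χ hχ => by
      obtain ⟨m, hm, -⟩ := hdegB χ hχ
      rw [hm, hdχ₁]; exact Dvd.intro _ rfl)
    hineq
  refine coherent_of_subset hunion ?_ ?_
  · rw [Finset.coe_union, hSB]; exact Set.subset_union_right
  · obtain ⟨α, hα, hα0⟩ := hA.1
    exact ⟨α, zspanOn_mono (inducedIrrAbove_anti K hBA) _ hα, hα0⟩

omit [Fintype L] in
/-- Elements centralising `K` modulo a normal subgroup `B` form a subgroup. -/
theorem comm_mem_of_mem_sup (B K X E : Subgroup L) [hB : B.Normal]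
    (hX : ∀ x ∈ X, ∀ y ∈ K, x * y * x⁻¹ * y⁻¹ ∈ B)
    (hE : ∀ x ∈ E, ∀ y ∈ K, x * y * x⁻¹ * y⁻¹ ∈ B) :
    ∀ x ∈ X ⊔ E, ∀ y ∈ K, x * y * x⁻¹ * y⁻¹ ∈ B := by
  let T : Subgroup L :=
    { carrier := {x | ∀ y ∈ K, x * y * x⁻¹ * y⁻¹ ∈ B}
      mul_mem' := by
        intro a b ha hb y hy
        have h1 := hB.conj_mem _ (hb y hy) a
        have h2 := B.mul_mem h1 (ha y hy)
        have e : a * b * y * (a * b)⁻¹ * y⁻¹ =
            a * (b * y * b⁻¹ * y⁻¹) * a⁻¹ * (a * y * a⁻¹ * y⁻¹) := by group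
        rw [e]
        exact h2
      one_mem' := by
        intro y _
        have e : (1 : L) * y * (1 : L)⁻¹ * y⁻¹ = 1 := by group
        rw [e]
        exact B.one_mem
      inv_mem' := by
        intro a ha y hy
        have h1 := B.inv_mem (ha y hy)
        have h2 := hB.conj_mem _ h1 a⁻¹
        have e : a⁻¹ * y * a⁻¹⁻¹ * y⁻¹ = a⁻¹ * (a * y * a⁻¹ * y⁻¹)⁻¹ * a⁻¹⁻¹ := by group
        rw [e]
        exact h2 }
  have hle : X ⊔ E ≤ T := sup_le (fun x hx => hX x hx) (fun x hx => hE x hx)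
  intro x hx
  exact hle hx

/-- A descending chain of levels, with an extra normal subgroup `E` that is central in `K`
modulo `M`. -/
theorem coherent_chain (K : Subgroup L) [hK : K.Normal] (hsolv : Group.IsSolvable K)
    (hirr : ∀ φ ∈ inducedIrrAbove K ⊥, IsIrrCharacter L φ)
    (τ : (L → ℂ) → (G → ℂ))
    (hτ : IsLinearIsometryOn (zspanOn (inducedIrrAbove K ⊥) {1}ᶜ) τ)
    (hτ1 : ∀ α ∈ zspanOn (inducedIrrAbove K ⊥) {1}ᶜ, τ α 1 = 0)
    (M H₁ E : Subgroup L) [M.Normal] [H₁.Normal] [E.Normal] (hMH₁ : M ≤ H₁) (hH₁K : H₁ < K)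
    (hEK : E ≤ K) [(M.subgroupOf K).Normal]
    (hnil : Group.IsNilpotent (↥K ⧸ M.subgroupOf K))
    (hE : ∀ x ∈ E, ∀ y ∈ K, x * y * x⁻¹ * y⁻¹ ∈ M)
    (hcoh : IsCoherent (inducedIrrAbove K H₁) {1}ᶜ τ)
    (harith : ∀ X : Subgroup L, X.Normal → M ≤ X → X ≤ H₁ →
      4 * K.index ^ 2 * (X ⊔ E).relIndex K < (X.relIndex K - 1) ^ 2) :
    IsCoherent (inducedIrrAbove K M) {1}ᶜ τ := by
  classical
  have step : ∀ i, IsCoherent (inducedIrrAbove K (descChain M H₁ K i)) {1}ᶜ τ := by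
    intro i
    induction i with
    | zero => exact hcoh
    | succ i ih =>
      have _i1 := descChain_normal M H₁ K i
      have _i2 := descChain_normal M H₁ K (i + 1)
      have hle := descChain_le M H₁ K hMH₁ i
      have hMle := le_descChain M H₁ K hMH₁ i
      have hMle' := le_descChain M H₁ K hMH₁ (i + 1)
      have hsucc := descChain_succ_le M H₁ K hMH₁ i
      refine coherent_level K hsolv hirr τ hτ hτ1 (descChain M H₁ K i)
        (descChain M H₁ K (i + 1)) K (descChain M H₁ K i ⊔ E)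
        (lt_of_le_of_lt hle hH₁K) hsucc (hsucc.trans le_sup_left)
        (sup_le (hle.trans hH₁K.le) hEK) le_rfl ?_ ih ?_
      · exact comm_mem_of_mem_sup (descChain M H₁ K (i + 1)) K (descChain M H₁ K i) E
          (fun x hx y hy => commutator_mem_descChain_succ M H₁ K i hx hy)
          (fun x hx y hy => hMle' (hE x hx y hy))
      · exact harith _ _i1 hMle hle
  obtain ⟨n, hn⟩ := descChain_eventually M H₁ K hMH₁ hH₁K.le hnil
  rw [← hn]; exact step n

/-- The arithmetic of the two-factor chain. -/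
theorem frob_arith (e m r : ℕ) (he : 1 ≤ e) (hm : e + 1 ≤ m) (hr : e + 1 ≤ r) :
    4 * e ^ 2 * m < (m * r - 1) ^ 2 := by
  obtain ⟨t, ht⟩ : ∃ t, m * r = t + 1 := by
    refine ⟨m * r - 1, ?_⟩
    have : 1 ≤ m * r := Nat.mul_pos (by omega) (by omega)
    omega
  rw [ht, Nat.add_sub_cancel]
  have h1 : (m : ℤ) * r = t + 1 := by exact_mod_cast ht
  have h2 : (e : ℤ) + 1 ≤ m := by exact_mod_cast hm
  have h3 : (e : ℤ) + 1 ≤ r := by exact_mod_cast hr
  have h4 : (1 : ℤ) ≤ e := by exact_mod_cast he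
  have h5 : (m : ℤ) * e + e ≤ t := by nlinarith
  have h6 : (4 : ℤ) * e ^ 2 * m < t ^ 2 := by
    have h7 : ((m : ℤ) * e + e) ^ 2 ≤ t ^ 2 := by
      apply pow_le_pow_left₀ (by positivity) h5
    have h8 : (4 : ℤ) * e ^ 2 * m < ((m : ℤ) * e + e) ^ 2 := by
      have : ((m : ℤ) * e + e) ^ 2 - 4 * e ^ 2 * m = e ^ 2 * (m - 1) ^ 2 := by ring
      have hpos : (0 : ℤ) < e ^ 2 * (m - 1) ^ 2 := by
        have : (0 : ℤ) < m - 1 := by linarith
        positivity
      linarith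
    linarith
  exact_mod_cast h6

end Cfsg.Agent.Lib.helper32
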