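import Mathlib
import Cfsg.Prelude.Def_Characters
import Cfsg.Prelude.Def_OddOrderChar
import Cfsg.Agent.Lib.helper32.Gen2
import Cfsg.Agent.Lib.helper32.EqDeg
import Cfsg.Agent.Lib.helper32.Sib1
import Cfsg.Agent.Lib.helper32.Sib5
import Cfsg.Agent.Lib.helper32.FrobKer
import Cfsg.Agent.Lib.helper32.Coh12
import Cfsg.Agent.Lib.helper12.FrobTools
import Cfsg.Agent.Lib.helper28.BenderMax
import Cfsg.Agent.Lib.helper19.AbelianOver
import Cfsg.Agent.Lib.helper82.CharQuot

/-!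
# Frobenius kernels: group-theoretic facts for the general coherence theorem (helper32)
-/

set_option autoImplicit false
set_option linter.unusedSectionVars false

namespace Cfsg.Agent.Lib.helper32

open Cfsg
open Cfsg.Agent.Lib.helper4

universe u

section Grp

variable {L : Type u} [Group L]

/-- If `N < K` is normal and `K` is solvable then `K' N < K`. -/
theorem sup_commutator_lt (K N : Subgroup L) [hN : N.Normal] (hsolv : Group.IsSolvable K)
    (hNK : N < K) : ⁅K, K⁆ ⊔ N < K := by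
  have hle : ⁅K, K⁆ ≤ K := by
    rw [Subgroup.commutator_le]
    intro a ha b hb
    exact K.mul_mem (K.mul_mem (K.mul_mem ha hb) (K.inv_mem ha)) (K.inv_mem hb)
  refine lt_of_le_of_ne (sup_le hle hNK.le) ?_
  intro heq
  have _i : Group.IsSolvable K := hsolv
  have hsolv' : Group.IsSolvable (K.map (QuotientGroup.mk' N)) :=
    Group.isSolvable_of_surjective (MonoidHom.subgroupMap_surjective (QuotientGroup.mk' N) K)
  have hNbot : N.map (QuotientGroup.mk' N) = ⊥ := by
    rw [eq_bot_iff]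
    rintro x ⟨n, hn, rfl⟩
    rw [Subgroup.mem_bot]
    exact (QuotientGroup.eq_one_iff n).mpr hn
  have h1 : ⁅K.map (QuotientGroup.mk' N), K.map (QuotientGroup.mk' N)⁆ =
      K.map (QuotientGroup.mk' N) := by
    rw [← Subgroup.map_commutator]
    conv_rhs => rw [← heq]
    rw [Subgroup.map_sup, hNbot, sup_bot_eq]
  have h2 : K.map (QuotientGroup.mk' N) = ⊥ := by
    by_contra hne
    exact (commutator_lt_of_solvable _ hsolv' hne).ne h1
  apply (not_le_of_gt hNK)
  intro k hk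
  have h3 : (QuotientGroup.mk' N) k ∈ K.map (QuotientGroup.mk' N) := Subgroup.mem_map_of_mem _ hk
  rw [h2, Subgroup.mem_bot] at h3
  exact (QuotientGroup.eq_one_iff k).mp h3

/-- A nontrivial normal subgroup `Q ≤ K` of `L`, `K` nilpotent, contains a nontrivial normal
subgroup of `L` central in `K`. -/
theorem exists_central_normal_le [Finite L] (K Q : Subgroup L) [K.Normal] [Q.Normal]
    (hnil : Group.IsNilpotent K) (hQK : Q ≤ K) (hQ : Q ≠ ⊥) :
    ∃ Z : Subgroup L, Z.Normal ∧ Z ≠ ⊥ ∧ Z ≤ Q ∧ ∀ z ∈ Z, ∀ k ∈ K, z * k = k * z := by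
  classical
  have _i1 : Group.IsNilpotent K := hnil
  have hq : Group.IsNilpotent (↥K ⧸ (⊥ : Subgroup L).subgroupOf K) := inferInstance
  have hex : ∃ n, descChain ⊥ Q K n = ⊥ := descChain_eventually ⊥ Q K bot_le hQK hq
  obtain ⟨n₀, hn₀def⟩ : ∃ n₀, n₀ = Nat.find hex := ⟨_, rfl⟩
  have hn₀ : descChain ⊥ Q K n₀ = ⊥ := by rw [hn₀def]; exact Nat.find_spec hex
  have hn₀pos : n₀ ≠ 0 := by
    intro h0
    rw [h0, descChain_zero] at hn₀
    exact hQ hn₀
  obtain ⟨k, hk⟩ : ∃ k, n₀ = k + 1 := Nat.exists_eq_succ_of_ne_zero hn₀pos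
  refine ⟨descChain ⊥ Q K k, descChain_normal _ _ _ k, ?_, descChain_le _ _ _ bot_le k, ?_⟩
  · intro h
    exact Nat.find_min hex (by omega : k < Nat.find hex) h
  · intro z hz y hy
    have h1 := commutator_mem_descChain_succ ⊥ Q K k hz hy
    rw [← hk, hn₀, Subgroup.mem_bot] at h1
    have h2 : z * y = (z * y * z⁻¹ * y⁻¹) * (y * z) := by group
    rw [h2, h1, one_mul]

/-- In an internal direct product `K = P × Q` of normal subgroups, `[P, K] ≤ P'`. -/
theorem comm_mem_of_direct (P Q K : Subgroup L) [hP : P.Normal] [hQ : Q.Normal]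
    (hinf : P ⊓ Q = ⊥) (hsup : P ⊔ Q = K) :
    ∀ x ∈ P, ∀ y ∈ K, x * y * x⁻¹ * y⁻¹ ∈ ⁅P, P⁆ := by
  intro x hx y hy
  rw [← hsup, ← SetLike.mem_coe, Subgroup.mul_normal] at hy
  obtain ⟨a, ha, b, hb, rfl⟩ := Set.mem_mul.mp hy
  have hcomm : Commute x b :=
    Subgroup.commute_of_normal_of_disjoint P Q hP hQ (disjoint_iff.mpr hinf) x b hx hb
  have hcomm' : b * x⁻¹ = x⁻¹ * b := by
    have h := hcomm.eq
    have : b * x⁻¹ = x⁻¹ * (x * b) * x⁻¹ := by group
    rw [this, h]; group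
  have e : x * (a * b) * x⁻¹ * (a * b)⁻¹ = x * a * x⁻¹ * a⁻¹ := by
    have : x * (a * b) * x⁻¹ * (a * b)⁻¹ = x * a * (b * x⁻¹) * b⁻¹ * a⁻¹ := by group
    rw [this, hcomm']; group
  rw [e]
  exact Subgroup.commutator_mem_commutator hx ha

/-- A nilpotent normal subgroup whose order is not a prime power splits as an internal direct
product of two nontrivial normal subgroups of `L`. -/
theorem exists_direct_factors [Finite L] (K : Subgroup L) [hK : K.Normal]
    (hnil : Group.IsNilpotent K) (hK1 : K ≠ ⊥)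
    (hpp : ¬ ∃ p m : ℕ, p.Prime ∧ Nat.card K = p ^ m) :
    ∃ P Q : Subgroup L, P.Normal ∧ Q.Normal ∧ P ≠ ⊥ ∧ Q ≠ ⊥ ∧ P ⊓ Q = ⊥ ∧ P ⊔ Q = K := by
  have _i : Group.IsNilpotent K := hnil
  have hcard : Nat.card K ≠ 1 := fun h => hK1 (Subgroup.card_eq_one.mp h)
  obtain ⟨p, hp, hpdvd⟩ := Nat.exists_prime_and_dvd hcard
  have _ip : Fact p.Prime := ⟨hp⟩
  obtain ⟨S, S', hSc, hS'c, hSp, hS'p, hSS', hSne⟩ :=
    Cfsg.Agent.Lib.helper28.exists_sylow_hall_of_isNilpotent ↥K p
  have hsup : S.map K.subtype ⊔ S'.map K.subtype = K := by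
    rw [← Subgroup.map_sup, hSS', ← MonoidHom.range_eq_map, Subgroup.range_subtype]
  have hPp : IsPGroup p ↥(S.map K.subtype) := hSp.map _
  have hQp : (Nat.card ↥(S'.map K.subtype)).Coprime p := by
    rw [Subgroup.card_map_of_injective K.subtype_injective]
    exact hS'p
  refine ⟨S.map K.subtype, S'.map K.subtype, inferInstance, inferInstance, ?_, ?_, ?_, hsup⟩
  · intro h
    exact hSne hpdvd ((Subgroup.map_eq_bot_iff_of_injective _ K.subtype_injective).mp h)
  · intro h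
    rw [h, sup_bot_eq] at hsup
    apply hpp
    obtain ⟨n, hn⟩ := IsPGroup.iff_card.mp hPp
    exact ⟨p, n, hp, by rw [← hsup]; exact hn⟩
  · apply Disjoint.eq_bot
    apply Subgroup.disjoint_of_coprime_natCard
    obtain ⟨n, hn⟩ := IsPGroup.iff_card.mp hPp
    rw [hn]
    exact Nat.Coprime.pow_left n hQp.symm

end Grp

section FrobC

variable {L : Type u} [Group L] [Finite L] (K : Subgroup L) [hK : K.Normal]

theorem frobC_centralizer_le (hC : ∀ k ∈ K, k ≠ 1 → ∀ x : L, x * k = k * x → x ∈ K) :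
    ∀ n ∈ K, n ≠ 1 → Subgroup.centralizer ({n} : Set L) ≤ K := by
  intro n hn hn1 x hx
  rw [Subgroup.mem_centralizer_singleton_iff] at hx
  exact hC n hn hn1 x hx

/-- `|L:K|` divides `|Y:X| - 1` for normal subgroups `X ≤ Y ≤ K` of `L`. -/
theorem frobC_relIndex_dvd (hC : ∀ k ∈ K, k ≠ 1 → ∀ x : L, x * k = k * x → x ∈ K)
    (X Y : Subgroup L) [X.Normal] [Y.Normal] (hXY : X ≤ Y) (hYK : Y ≤ K) :
    K.index ∣ X.relIndex Y - 1 := by
  have h1 := frobC_index_dvd K hC Y hYK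
  have h2 := frobC_index_dvd K hC X (hXY.trans hYK)
  have h3 : Nat.card X * X.relIndex Y = Nat.card Y := by
    have h := (X.subgroupOf Y).card_mul_index
    rw [Nat.card_congr (Subgroup.subgroupOfEquivOfLe hXY).toEquiv] at h
    exact h
  have hXpos : 0 < Nat.card X := Nat.card_pos
  have hrpos : 0 < X.relIndex Y :=
    Nat.pos_of_ne_zero (Subgroup.index_ne_zero_of_finite (H := X.subgroupOf Y))
  have h4 : Nat.card Y - 1 = (Nat.card X - 1) * X.relIndex Y + (X.relIndex Y - 1) := by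
    rw [← h3]
    obtain ⟨a, ha⟩ : ∃ a, Nat.card X = a + 1 := ⟨Nat.card X - 1, by omega⟩
    obtain ⟨b, hb⟩ : ∃ b, X.relIndex Y = b + 1 := ⟨X.relIndex Y - 1, by omega⟩
    rw [ha, hb]
    simp only [Nat.add_sub_cancel]
    have : (a + 1) * (b + 1) = a * (b + 1) + b + 1 := by ring
    omega
  rw [h4] at h1
  exact (Nat.dvd_add_right (Dvd.dvd.mul_right h2 _)).mp h1

/-- `|Y:X| ≥ |L:K| + 1` for normal subgroups `X < Y ≤ K` of `L`. -/
theorem frobC_relIndex_ge (hC : ∀ k ∈ K, k ≠ 1 → ∀ x : L, x * k = k * x → x ∈ K)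
    (X Y : Subgroup L) [X.Normal] [Y.Normal] (hXY : X < Y) (hYK : Y ≤ K) :
    K.index + 1 ≤ X.relIndex Y := by
  have h1 := frobC_relIndex_dvd K hC X Y hXY.le hYK
  have h2 : X.relIndex Y ≠ 1 := by
    intro h
    rw [Subgroup.relIndex_eq_one] at h
    exact (not_le_of_gt hXY) h
  have h3 : 0 < X.relIndex Y :=
    Nat.pos_of_ne_zero (Subgroup.index_ne_zero_of_finite (H := X.subgroupOf Y))
  have h4 := Nat.le_of_dvd (by omega) h1
  omega

/-- A proper Frobenius kernel is nilpotent (Thompson). -/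
theorem frobC_nilpotent (hC : ∀ k ∈ K, k ≠ 1 → ∀ x : L, x * k = k * x → x ∈ K)
    (hKL : K < ⊤) : Group.IsNilpotent K := by
  have hidx : K.index ≠ 1 := by
    intro h
    exact hKL.ne (Subgroup.index_eq_one.mp h)
  obtain ⟨r, hr, hrdvd⟩ := Nat.exists_prime_and_dvd hidx
  have hrL : r ∣ Nat.card L := hrdvd.trans (Subgroup.index_dvd_card K)
  have _ir : Fact r.Prime := ⟨hr⟩
  obtain ⟨y, hy⟩ := exists_prime_orderOf_dvd_card' r hrL
  have hyK : y ∉ K := by
    intro hyK
    have h1 : r ∣ Nat.card K := by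
      rw [← hy]
      exact Subgroup.orderOf_dvd_natCard K hyK
    have h2 := frobC_coprime K hC
    have h3 := Nat.dvd_gcd h1 hrdvd
    rw [h2] at h3
    exact hr.one_lt.ne' (Nat.dvd_one.mp h3)
  apply helper12.isNilpotent_of_fpf_conj (G := L) K y r hr
  · rw [← hy]; exact pow_orderOf_eq_one y
  · intro n hn hcomm
    by_contra hn1
    exact hyK (hC n hn hn1 y hcomm)

end FrobC

section FrobChar

variable {L : Type u} [Group L] [Fintype L] (K : Subgroup L) [hK : K.Normal]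

/-- The irreducible characters of `L` nontrivial on the Frobenius kernel `K` are the
characters induced from the non-principal irreducible characters of `K`. -/
theorem frobC_relevant_eq (hC : ∀ k ∈ K, k ≠ 1 → ∀ x : L, x * k = k * x → x ∈ K) :
    {χ : L → ℂ | IsIrrCharacter L χ ∧ ∃ k ∈ K, χ k ≠ χ 1} = inducedIrrAbove K ⊥ := by
  classical
  ext χ
  constructor
  · rintro ⟨hχ, x, hx, hne⟩
    obtain ⟨φ, hφ, hφ1, rfl⟩ := relevant_eq_ind K (frobC_centralizer_le K hC) hχ ⟨x, hx, hne⟩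
    refine ⟨φ, hφ, hφ1, ?_, rfl⟩
    intro b hb
    rw [Subgroup.mem_bot] at hb
    have h : b = 1 := Subtype.ext hb
    rw [h]
  · rintro ⟨θ, hθ, hne, -, rfl⟩
    refine ⟨frobC_irr K hC hθ hne, ?_⟩
    by_contra hcon
    push Not at hcon
    apply hne
    have hconst : ∀ z : K, θ z = θ 1 := by
      intro z
      apply irr_apply_eq_of_indFun_eq K hθ z
      exact hcon (z : L) z.2
    have h1 : θ 1 = 1 := Cfsg.Agent.Lib.helper19.linear_of_abelian_quot
      (⊤ : Subgroup K) (fun _ _ => Subgroup.mem_top _) θ hθ (fun x _ => hconst x)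
    funext z
    rw [hconst z, h1]

omit hK in
/-- Characters induced from linear characters have degree `|L:K|`. -/
theorem inducedIrrAbove_commutator_degree :
    ∀ φ ∈ inducedIrrAbove K ⁅K, K⁆, φ 1 = (K.index : ℂ) := by
  rintro φ ⟨θ, hθ, -, hθH, rfl⟩
  have h1 : θ 1 = 1 := Cfsg.Agent.Lib.helper19.linear_of_abelian_quot
    ((⁅K, K⁆ : Subgroup L).subgroupOf K) (by
      intro x y
      rw [Subgroup.mem_subgroupOf]
      exact Subgroup.commutator_mem_commutator x.2 y.2) θ hθ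
    (fun x hx => hθH x (Subgroup.mem_subgroupOf.mp hx))
  rw [indFun_one, h1, mul_one]

/-- If `|K:K'| > |L:K| + 1` there are two distinct characters induced from non-principal linear
characters of `K`. -/
theorem frobC_two_linear (hirr : ∀ φ ∈ inducedIrrAbove K ⊥, IsIrrCharacter L φ)
    (hbig : K.index + 1 < (⁅K, K⁆ : Subgroup L).relIndex K) :
    ∃ χ ∈ inducedIrrAbove K ⁅K, K⁆, ∃ ψ ∈ inducedIrrAbove K ⁅K, K⁆, χ ≠ ψ := by
  classical
  have hsub : inducedIrrAbove K ⁅K, K⁆ ⊆ inducedIrrAbove K ⊥ := inducedIrrAbove_subset_bot K _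
  have hSfin : (inducedIrrAbove K (⊥ : Subgroup L)).Finite :=
    orthogonal_set_finite _
      (fun χ hχ => by rw [classInner_irr_self (hirr χ hχ)]; exact one_ne_zero)
      (fun χ hχ ψ hψ h => classInner_irr_ne (hirr χ hχ) (hirr ψ hψ) h)
  obtain ⟨SA, hSA⟩ : ∃ SA : Finset (L → ℂ),
      (↑SA : Set (L → ℂ)) = inducedIrrAbove K ⁅K, K⁆ :=
    ⟨(hSfin.subset hsub).toFinset, Set.Finite.coe_toFinset _⟩
  have hmemA : ∀ φ, φ ∈ SA ↔ φ ∈ inducedIrrAbove K ⁅K, K⁆ := by
    intro φ; rw [← hSA]; exact Iff.rfl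
  have hbound := sum_induced_bound K ⁅K, K⁆ SA (hSA ▸ subset_rfl) (fun _ => K.index)
    (fun _ => 1)
    (fun φ hφ => inducedIrrAbove_commutator_degree K φ ((hmemA φ).mp hφ))
    (fun φ hφ => by rw [classInner_irr_self (hirr φ (hsub ((hmemA φ).mp hφ)))]; simp)
    (fun φ hφ => Nat.one_pos)
  have hbound' : K.index * ((⁅K, K⁆ : Subgroup L).relIndex K - 1) ≤ SA.card * K.index ^ 2 := by
    have h : ∑ φ ∈ SA, ((K.index : ℝ) ^ 2 / (((1 : ℕ)) : ℝ)) =
        ((SA.card * K.index ^ 2 : ℕ) : ℝ) := by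
      rw [Finset.sum_const]
      push_cast
      simp
    rw [h] at hbound
    exact_mod_cast hbound
  have hKpos : 0 < K.index := Nat.pos_of_ne_zero Subgroup.index_ne_zero_of_finite
  have hcard : 1 < SA.card := by
    by_contra hle
    have hle' : SA.card ≤ 1 := by omega
    have h1 : K.index * ((⁅K, K⁆ : Subgroup L).relIndex K - 1) ≤ K.index * K.index := by
      calc K.index * ((⁅K, K⁆ : Subgroup L).relIndex K - 1) ≤ SA.card * K.index ^ 2 := hbound'
        _ ≤ 1 * K.index ^ 2 := Nat.mul_le_mul_right _ hle'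
        _ = K.index * K.index := by ring
    have h2 := Nat.le_of_mul_le_mul_left h1 hKpos
    omega
  obtain ⟨a, ha, b, hb, hab⟩ := Finset.one_lt_card.mp hcard
  exact ⟨a, (hmemA a).mp ha, b, (hmemA b).mp hb, hab⟩

end FrobChar

end Cfsg.Agent.Lib.helper32
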