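import Mathlib
import Cfsg.Prelude.Def_Characters
import Cfsg.Prelude.Def_OddOrderChar
import Cfsg.Agent.Lib.helper32.Gen3

/-!
# The general coherence theorem for Frobenius kernels (helper32)

`frobC_coherent_main`: let `K` be a proper nontrivial normal subgroup of `L` containing the
centraliser of each of its non-identity elements (a Frobenius kernel), `e = |L:K|`, `S` the set
of irreducible characters of `L` induced from non-principal irreducible characters of `K`, and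
`τ` a linear isometry on `ℤ[S, L ∖ 1]` with values virtual characters vanishing at `1`.  Then
`S` is coherent, or `K` is abelian of order `e + 1`, or `K` is a non-abelian `p`-group with
`|K:K'| ≤ 4e² + 1`.  No parity assumption.
-/

set_option autoImplicit false
set_option linter.unusedSectionVars false

namespace Cfsg.Agent.Lib.helper32

open Cfsg
open Cfsg.Agent.Lib.helper4

universe u v

variable {L : Type u} [Group L] [Fintype L] {G : Type v} [Group G] [Fintype G]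

/-- The abelian case. -/
theorem frobC_abelian_main (K : Subgroup L) [hK : K.Normal]
    (hC : ∀ k ∈ K, k ≠ 1 → ∀ x : L, x * k = k * x → x ∈ K) (hK1 : K ≠ ⊥)
    (hcomm : ∀ a b : K, a * b = b * a) (τ : (L → ℂ) → (G → ℂ))
    (hτ : IsLinearIsometryOn (zspanOn (inducedIrrAbove K ⊥) {1}ᶜ) τ)
    (hτ1 : ∀ α ∈ zspanOn (inducedIrrAbove K ⊥) {1}ᶜ, τ α 1 = 0) :
    IsCoherent (inducedIrrAbove K ⊥) {1}ᶜ τ ∨ Nat.card K = K.index + 1 := by
  classical
  let _iI : Fintype (IrrCharacter L) := Fintype.ofFinite _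
  have hC' := frobC_centralizer_le K hC
  have hrel := frobC_relevant_eq K hC
  have hirr : ∀ φ ∈ inducedIrrAbove K ⊥, IsIrrCharacter L φ := by
    rintro χ ⟨θ, hθ, hne, -, rfl⟩
    exact frobC_irr K hC hθ hne
  have hdeg : ∀ φ ∈ inducedIrrAbove K ⊥, φ 1 = (K.index : ℂ) := by
    rintro φ ⟨θ, hθ, -, -, rfl⟩
    rw [indFun_one, Cfsg.Agent.Lib.helper82.irr_one_of_commutative hcomm hθ, mul_one]
  by_cases htwo : ∃ χ ∈ inducedIrrAbove K ⊥, ∃ ψ ∈ inducedIrrAbove K ⊥, χ ≠ ψ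
  · left
    exact coherent_of_equal_degree _ hirr (fun φ hφ ψ hψ => by rw [hdeg φ hφ, hdeg ψ hψ]) htwo
      τ hτ hτ1
  · right
    have hmemS : ∀ μ : IrrCharacter L, (∃ k ∈ K, (μ : L → ℂ) k ≠ (μ : L → ℂ) 1) →
        (μ : L → ℂ) ∈ inducedIrrAbove K ⊥ := by
      intro μ h
      rw [← hrel]
      exact ⟨μ.2, h⟩
    have hsub : ∀ μ ν : IrrCharacter L, (∃ k ∈ K, (μ : L → ℂ) k ≠ (μ : L → ℂ) 1) →
        (∃ k ∈ K, (ν : L → ℂ) k ≠ (ν : L → ℂ) 1) → μ = ν := by
      intro μ ν h1 h2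
      by_contra hne
      exact htwo ⟨_, hmemS μ h1, _, hmemS ν h2, fun h => hne (Subtype.ext h)⟩
    obtain ⟨e, he⟩ : ∃ e : ℕ, e = K.index := ⟨_, rfl⟩
    have hepos : 0 < e := by rw [he]; exact Nat.pos_of_ne_zero Subgroup.index_ne_zero_of_finite
    have hK1' : 1 < Nat.card K := (Subgroup.one_lt_card_iff_ne_bot K).mpr hK1
    have hsum := sum_relevant_sq K hC'
    have hex : ∃ μ : IrrCharacter L, ∃ k ∈ K, (μ : L → ℂ) k ≠ (μ : L → ℂ) 1 := by
      by_contra hcon
      push Not at hcon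
      rw [Finset.sum_eq_zero (fun μ _ => by
        rw [if_neg]
        push Not
        exact hcon μ)] at hsum
      have h0 : (K.index : ℂ) ≠ 0 := by
        rw [← he]; exact_mod_cast hepos.ne'
      have h1 : (Nat.card K : ℂ) - 1 ≠ 0 := by
        intro h
        have h2 : (Nat.card K : ℂ) = 1 := by linear_combination h
        have h3 : Nat.card K = 1 := by exact_mod_cast h2
        omega
      exact mul_ne_zero h0 h1 hsum.symm
    obtain ⟨μ₀, hμ₀⟩ := hex
    rw [Finset.sum_eq_single μ₀] at hsum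
    · rw [if_pos hμ₀, hdeg _ (hmemS μ₀ hμ₀), ← he] at hsum
      have he0 : (e : ℂ) ≠ 0 := by exact_mod_cast hepos.ne'
      have h1 : (e : ℂ) = (Nat.card K : ℂ) - 1 := mul_left_cancel₀ he0 hsum
      have h2 : ((e + 1 : ℕ) : ℂ) = (Nat.card K : ℂ) := by
        push_cast; linear_combination h1
      have h3 : e + 1 = Nat.card K := by exact_mod_cast h2
      rw [← he]
      exact h3.symm
    · intro μ _ hne
      rw [if_neg]
      intro hμ
      exact hne (hsub μ μ₀ hμ hμ₀)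
    · intro h
      exact absurd (Finset.mem_univ _) h

/-- **The general coherence theorem for Frobenius kernels.** -/
theorem frobC_coherent_main (K : Subgroup L) [hK : K.Normal]
    (hC : ∀ k ∈ K, k ≠ 1 → ∀ x : L, x * k = k * x → x ∈ K) (hK1 : K ≠ ⊥) (hKL : K < ⊤)
    (τ : (L → ℂ) → (G → ℂ))
    (hτ : IsLinearIsometryOn (zspanOn (inducedIrrAbove K ⊥) {1}ᶜ) τ)
    (hτ1 : ∀ α ∈ zspanOn (inducedIrrAbove K ⊥) {1}ᶜ, τ α 1 = 0) :
    IsCoherent (inducedIrrAbove K ⊥) {1}ᶜ τ ∨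
    ((∀ a ∈ K, ∀ b ∈ K, a * b = b * a) ∧ Nat.card K = K.index + 1) ∨
    (∃ p m : ℕ, p.Prime ∧ Nat.card K = p ^ m ∧ ⁅K, K⁆ ≠ ⊥ ∧
      (⁅K, K⁆ : Subgroup L).relIndex K ≤ 4 * K.index ^ 2 + 1) := by
  classical
  have hnil := frobC_nilpotent K hC hKL
  have _inil : Group.IsNilpotent K := hnil
  have hsolv : Group.IsSolvable K := inferInstance
  have hirr : ∀ φ ∈ inducedIrrAbove K ⊥, IsIrrCharacter L φ := by
    rintro χ ⟨θ, hθ, hne, -, rfl⟩
    exact frobC_irr K hC hθ hne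
  obtain ⟨e, he⟩ : ∃ e : ℕ, e = K.index := ⟨_, rfl⟩
  have he1 : 1 ≤ e := by rw [he]; exact Nat.pos_of_ne_zero Subgroup.index_ne_zero_of_finite
  by_cases hab : ⁅K, K⁆ = ⊥
  · have hcomm : ∀ a ∈ K, ∀ b ∈ K, a * b = b * a := by
      intro a ha b hb
      have h := (Subgroup.commutator_eq_bot_iff_le_centralizer.mp hab) ha
      rw [Subgroup.mem_centralizer_iff] at h
      exact (h b hb).symm
    rcases frobC_abelian_main K hC hK1 (fun a b => Subtype.ext (hcomm a a.2 b b.2)) τ hτ hτ1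
      with h | h
    · exact Or.inl h
    · exact Or.inr (Or.inl ⟨hcomm, h⟩)
  have hKK : ⁅K, K⁆ < K := commutator_lt_of_solvable K hsolv hK1
  have hcohK' : K.index + 1 < (⁅K, K⁆ : Subgroup L).relIndex K →
      IsCoherent (inducedIrrAbove K ⁅K, K⁆) {1}ᶜ τ := by
    intro hlt
    have htwo := frobC_two_linear K hirr hlt
    exact coherent_of_equal_degree _
      (fun φ hφ => hirr φ (inducedIrrAbove_subset_bot K _ hφ))
      (fun φ hφ ψ hψ => by
        rw [inducedIrrAbove_commutator_degree K φ hφ, inducedIrrAbove_commutator_degree K ψ hψ])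
      htwo τ (lio_mono hτ (zspanOn_mono (inducedIrrAbove_subset_bot K _) _))
      (fun α hα => hτ1 α (zspanOn_mono (inducedIrrAbove_subset_bot K _) _ hα))
  by_cases hbig : 4 * e ^ 2 + 1 < (⁅K, K⁆ : Subgroup L).relIndex K
  · left
    have hcoh := hcohK' (by rw [← he]; nlinarith)
    refine coherent_chain K hsolv hirr τ hτ hτ1 ⊥ ⁅K, K⁆ ⊥ bot_le hKK bot_le inferInstance ?_
      hcoh ?_
    · intro x hx y _
      rw [Subgroup.mem_bot] at hx
      rw [hx, Subgroup.mem_bot]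
      group
    · intro X hXn _ hXle
      rw [sup_bot_eq]
      have h3 : (⁅K, K⁆ : Subgroup L).relIndex K ∣ X.relIndex K :=
        Subgroup.relIndex_dvd_of_le_left K hXle
      have h4 : (⁅K, K⁆ : Subgroup L).relIndex K ≤ X.relIndex K :=
        Nat.le_of_dvd (Nat.pos_of_ne_zero
          (Subgroup.index_ne_zero_of_finite (H := X.subgroupOf K))) h3
      have h5 := pf63_arith e 1 (X.relIndex K) le_rfl (lt_of_lt_of_le hbig h4)
      rw [one_mul, mul_one] at h5
      rw [← he]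
      exact h5
  by_cases hpp : ∃ p m : ℕ, p.Prime ∧ Nat.card K = p ^ m
  · obtain ⟨p, m, hp, hm⟩ := hpp
    right; right
    exact ⟨p, m, hp, hm, hab, by rw [← he]; omega⟩
  left
  obtain ⟨P, Q, hPn, hQn, hP1, hQ1, hinf, hsup⟩ := exists_direct_factors K hnil hK1 hpp
  have _iP : P.Normal := hPn
  have _iQ : Q.Normal := hQn
  have hPK : P ≤ K := hsup ▸ le_sup_left
  have hQK : Q ≤ K := hsup ▸ le_sup_right
  have hPltK : P < K := by
    refine lt_of_le_of_ne hPK ?_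
    intro h
    apply hQ1
    rw [eq_bot_iff, ← hinf]
    exact le_inf (h ▸ hQK) le_rfl
  have hQltK : Q < K := by
    refine lt_of_le_of_ne hQK ?_
    intro h
    apply hP1
    rw [eq_bot_iff, ← hinf]
    exact le_inf le_rfl (h ▸ hPK)
  have hK'P : ⁅K, K⁆ ⊔ P < K := sup_commutator_lt K P hsolv hPltK
  have hK'Q : ⁅K, K⁆ ⊔ Q < K := sup_commutator_lt K Q hsolv hQltK
  have hPK' : ¬ P ≤ ⁅K, K⁆ := by
    intro h
    apply hK'Q.ne
    apply le_antisymm hK'Q.le
    calc K = P ⊔ Q := hsup.symm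
      _ ≤ ⁅K, K⁆ ⊔ Q := sup_le_sup_right h Q
  have hPP : ⁅P, P⁆ ≤ ⁅K, K⁆ := Subgroup.commutator_mono hPK hPK
  have hPPP : ⁅P, P⁆ ≤ P := Subgroup.commutator_le_left P P
  have hge1 := frobC_relIndex_ge K hC ⁅K, K⁆ (⁅K, K⁆ ⊔ P)
    (lt_of_le_of_ne le_sup_left (fun h => hPK' (h ▸ le_sup_right))) hK'P.le
  have hge2 := frobC_relIndex_ge K hC (⁅K, K⁆ ⊔ P) K hK'P le_rfl
  have hmul : (⁅K, K⁆ : Subgroup L).relIndex (⁅K, K⁆ ⊔ P) * (⁅K, K⁆ ⊔ P).relIndex K =
      (⁅K, K⁆ : Subgroup L).relIndex K :=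
    Subgroup.relIndex_mul_relIndex _ _ _ le_sup_left hK'P.le
  have hcoh := hcohK' (by
    rw [← hmul]
    rw [← he] at hge1 hge2 ⊢
    nlinarith)
  have hph1 : IsCoherent (inducedIrrAbove K ⁅P, P⁆) {1}ᶜ τ := by
    refine coherent_chain K hsolv hirr τ hτ hτ1 ⁅P, P⁆ ⁅K, K⁆ P hPP hKK hPK inferInstance
      (comm_mem_of_direct P Q K hinf hsup) hcoh ?_
    intro X hXn _ hXle
    have _iX : X.Normal := hXn
    have hXP_lt : X ⊔ P < K := lt_of_le_of_lt (sup_le_sup_right hXle P) hK'P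
    have hX_lt : X < X ⊔ P :=
      lt_of_le_of_ne le_sup_left (fun h => hPK' ((h ▸ le_sup_right : P ≤ X).trans hXle))
    have hm := frobC_relIndex_ge K hC (X ⊔ P) K hXP_lt le_rfl
    have hr := frobC_relIndex_ge K hC X (X ⊔ P) hX_lt hXP_lt.le
    have hmul' : X.relIndex (X ⊔ P) * (X ⊔ P).relIndex K = X.relIndex K :=
      Subgroup.relIndex_mul_relIndex _ _ _ le_sup_left hXP_lt.le
    rw [← hmul', mul_comm (X.relIndex (X ⊔ P))]
    rw [← he] at hm hr ⊢
    exact frob_arith e _ _ he1 hm hr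
  obtain ⟨Z, hZn, hZ1, hZQ, hZc⟩ := exists_central_normal_le K Q hnil hQK hQ1
  have _iZ : Z.Normal := hZn
  have hP'K : ⁅P, P⁆ < K := lt_of_le_of_lt hPPP hPltK
  refine coherent_chain K hsolv hirr τ hτ hτ1 ⊥ ⁅P, P⁆ Z bot_le hP'K (hZQ.trans hQK)
    inferInstance ?_ hph1 ?_
  · intro x hx y hy
    rw [Subgroup.mem_bot]
    have h := hZc x hx y hy
    rw [h]
    group
  · intro X hXn _ hXle
    have _iX : X.Normal := hXn
    have hXZ_lt : X ⊔ Z < K :=
      lt_of_le_of_lt (sup_le ((hXle.trans hPP).trans le_sup_left) (hZQ.trans le_sup_right)) hK'Q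
    have hX_lt : X < X ⊔ Z :=
      lt_of_le_of_ne le_sup_left (fun h => hZ1 (by
        have hZX : Z ≤ X := h ▸ le_sup_right
        rw [eq_bot_iff, ← hinf]
        exact le_inf (hZX.trans (hXle.trans hPPP)) hZQ))
    have hm := frobC_relIndex_ge K hC (X ⊔ Z) K hXZ_lt le_rfl
    have hr := frobC_relIndex_ge K hC X (X ⊔ Z) hX_lt hXZ_lt.le
    have hmul' : X.relIndex (X ⊔ Z) * (X ⊔ Z).relIndex K = X.relIndex K :=
      Subgroup.relIndex_mul_relIndex _ _ _ le_sup_left hXZ_lt.le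
    rw [← hmul', mul_comm (X.relIndex (X ⊔ Z))]
    rw [← he] at hm hr ⊢
    exact frob_arith e _ _ he1 hm hr

end Cfsg.Agent.Lib.helper32
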