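import Mathlib
import Cfsg.Prelude.Def_Characters
import Cfsg.Prelude.Def_OddOrderChar
import Cfsg.Agent.Lib.helper32.Gen4
import Cfsg.Agent.Lib.helper32.Sib7

/-!
# TI Frobenius kernels of even order: the non-abelian case (helper32)
-/

set_option autoImplicit false
set_option linter.unusedSectionVars false

namespace Cfsg.Agent.Lib.helper32

open Cfsg
open Cfsg.Agent.Lib.helper4

universe u

/-- The index of the derived subgroup of `K` is the same computed inside a subgroup `N ≥ K`. -/
theorem relIndex_commutator_subgroupOf {G : Type u} [Group G] [Finite G] (K N : Subgroup G)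
    (hKN : K ≤ N) :
    (⁅K.subgroupOf N, K.subgroupOf N⁆ : Subgroup N).relIndex (K.subgroupOf N) =
      (⁅K, K⁆ : Subgroup G).relIndex K := by
  have hle1 : (⁅K.subgroupOf N, K.subgroupOf N⁆ : Subgroup N) ≤ K.subgroupOf N := by
    rw [Subgroup.commutator_le]
    intro a ha b hb
    exact (K.subgroupOf N).mul_mem ((K.subgroupOf N).mul_mem ((K.subgroupOf N).mul_mem ha hb)
      ((K.subgroupOf N).inv_mem ha)) ((K.subgroupOf N).inv_mem hb)
  have hle2 : (⁅K, K⁆ : Subgroup G) ≤ K := by
    rw [Subgroup.commutator_le]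
    intro a ha b hb
    exact K.mul_mem (K.mul_mem (K.mul_mem ha hb) (K.inv_mem ha)) (K.inv_mem hb)
  have h1 : Nat.card (⁅K.subgroupOf N, K.subgroupOf N⁆ : Subgroup N) *
      (⁅K.subgroupOf N, K.subgroupOf N⁆ : Subgroup N).relIndex (K.subgroupOf N) =
      Nat.card (K.subgroupOf N) := by
    have h := ((⁅K.subgroupOf N, K.subgroupOf N⁆ : Subgroup N).subgroupOf
      (K.subgroupOf N)).card_mul_index
    rw [Nat.card_congr (Subgroup.subgroupOfEquivOfLe hle1).toEquiv] at h
    exact h
  have h2 : Nat.card (⁅K, K⁆ : Subgroup G) * (⁅K, K⁆ : Subgroup G).relIndex K = Nat.card K := by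
    have h := ((⁅K, K⁆ : Subgroup G).subgroupOf K).card_mul_index
    rw [Nat.card_congr (Subgroup.subgroupOfEquivOfLe hle2).toEquiv] at h
    exact h
  have h3 : Nat.card (K.subgroupOf N) = Nat.card K :=
    Nat.card_congr (Subgroup.subgroupOfEquivOfLe hKN).toEquiv
  have h4 : Nat.card (⁅K.subgroupOf N, K.subgroupOf N⁆ : Subgroup N) =
      Nat.card (⁅K, K⁆ : Subgroup G) := by
    have hmap : (⁅K.subgroupOf N, K.subgroupOf N⁆ : Subgroup N).map N.subtype = ⁅K, K⁆ := by
      rw [Subgroup.map_commutator, Subgroup.map_subgroupOf_eq_of_le hKN]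
    rw [← hmap, Subgroup.card_map_of_injective N.subtype_injective]
  rw [h3, h4, ← h2] at h1
  have hpos : 0 < Nat.card (⁅K, K⁆ : Subgroup G) := Nat.card_pos
  exact Nat.eq_of_mul_eq_mul_left hpos h1

/-- Arithmetic for a `2`-group kernel. -/
theorem two_group_index_lt (e h m : ℕ) (he : 2 ≤ e) (hcop : Nat.Coprime (2 ^ m) e)
    (hm : m ≠ 0) (hdvd : h ∣ 2 ^ m) (hle : h ≤ 4 * e ^ 2 + 1) : h < 4 * e ^ 2 := by
  obtain ⟨j, -, rfl⟩ := (Nat.dvd_prime_pow Nat.prime_two).mp hdvd
  have hcop2 : Nat.Coprime 2 e := by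
    have := Nat.Coprime.coprime_dvd_left (dvd_pow_self 2 hm) hcop
    exact this
  by_contra hlt
  push Not at hlt
  have hcases : 2 ^ j = 4 * e ^ 2 ∨ 2 ^ j = 4 * e ^ 2 + 1 := by omega
  rcases hcases with h1 | h1
  · have hdvd' : e ∣ 2 ^ j := by
      rw [h1]
      exact Dvd.intro_left (4 * e) (by ring)
    have hcop' : Nat.Coprime e (2 ^ j) := (Nat.Coprime.pow_left j hcop2).symm
    have := Nat.Coprime.eq_one_of_dvd hcop' hdvd'
    omega
  · rcases Nat.eq_zero_or_pos j with hj | hj
    · rw [hj] at h1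
      have : 0 < e ^ 2 := by positivity
      omega
    · have h2 : 2 ∣ 2 ^ j := dvd_pow_self 2 hj.ne'
      rw [h1] at h2
      generalize e ^ 2 = x at h2
      omega

section

variable {G : Type u} [Group G] [Fintype G] {H L : Subgroup G} [Fintype L]

/-- The non-abelian case for a TI Frobenius kernel with `|L|` even: the relevant characters
are coherent, or `H` is a `2`-group with `|H:H'| < 4e²`. -/
theorem frobTI_nonabelian_even (F : FrobTI H L) (hodd : ¬ Odd (Nat.card L))
    (hna : ¬ ∀ a ∈ H, ∀ b ∈ H, a * b = b * a) :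
    IsCoherent {χ : L → ℂ | IsIrrCharacter L χ ∧ ∃ x : L, (x : G) ∈ H ∧ χ x ≠ χ 1} {1}ᶜ
      (fun α : L → ℂ => indFun L α) ∨
    ((∃ m : ℕ, Nat.card H = 2 ^ m) ∧
      (⁅H, H⁆ : Subgroup G).relIndex H < 4 * (H.subgroupOf L).index ^ 2) := by
  classical
  have _iK := F.normalK
  have hirr := frobTI_irr F
  have hiso := sib_isometry F (inducedIrrAbove (H.subgroupOf L) ⊥)
    (fun χ hχ => isCharacter_of_isIrrCharacter (hirr χ hχ))
    (fun χ hχ x hx => frobTI_vanish F hχ x hx)
  rcases frobC_coherent_main (H.subgroupOf L) F.centK F.ne_botK F.ltK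
    (fun α : L → ℂ => indFun L α) hiso.1 hiso.2 with h | ⟨hab, -⟩ | ⟨p, m, hp, hm, -, hle⟩
  · left
    rw [frobTI_relevant_eq F]
    exact h
  · exfalso
    apply hna
    intro a ha b hb
    have h := hab ⟨a, F.lt.le ha⟩ (Subgroup.mem_subgroupOf.mpr ha) ⟨b, F.lt.le hb⟩
      (Subgroup.mem_subgroupOf.mpr hb)
    exact congrArg Subtype.val h
  · right
    have hcardK : Nat.card (H.subgroupOf L) = Nat.card H := F.card_K
    have hp2 : p = 2 := by
      by_contra hne
      apply hna
      apply F.comm_of_even _ hodd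
      rw [← hcardK, hm]
      exact (hp.odd_of_ne_two hne).pow
    subst hp2
    have hm0 : m ≠ 0 := by
      rintro rfl
      rw [pow_zero] at hm
      exact F.ne_botK (Subgroup.card_eq_one.mp hm)
    have hcop := frobC_coprime (H.subgroupOf L) F.centK
    rw [hm] at hcop
    have he2 : 2 ≤ (H.subgroupOf L).index := by
      have h1 : (H.subgroupOf L).index ≠ 1 := fun h => F.ltK.ne (Subgroup.index_eq_one.mp h)
      have h0 : (H.subgroupOf L).index ≠ 0 := Subgroup.index_ne_zero_of_finite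
      omega
    have hdvd : (⁅H.subgroupOf L, H.subgroupOf L⁆ : Subgroup L).relIndex (H.subgroupOf L) ∣
        2 ^ m := by
      rw [← hm]
      exact Subgroup.relIndex_dvd_card _ _
    have hlt := two_group_index_lt _ _ m he2 hcop hm0 hdvd hle
    rw [relIndex_commutator_subgroupOf H L F.lt.le] at hlt
    exact ⟨⟨m, by rw [← hcardK, hm]⟩, hlt⟩

end

end Cfsg.Agent.Lib.helper32
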