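import Mathlib
import Cfsg.Agent.S0996
import Cfsg.Agent.Lib.helper6.SLCard

/-! S4700 split (architect helper14), piece APPLY: `apply_brauer`.
Application of S0996 (`Cfsg.Agent.S0996.result`) to a Sylow `p`-subgroup of order `p` which is
self-centralising, plus the isomorphism `PSL₂(F) ≃* SL₂(F)` for `|F| = 2^m`. -/

set_option autoImplicit false

namespace Cfsg.Agent.Lib.helper32.BR

universe u

theorem helper32_center_SL2_char2 {F : Type} [Field F] [Fintype F] (m : ℕ)
    (hF : Fintype.card F = 2 ^ m) :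
    Subgroup.center (Matrix.SpecialLinearGroup (Fin 2) F) = ⊥ := by
  have h := Cfsg.Agent.Lib.helper6.card_center_SL (F := F) 2 (by norm_num)
  rw [hF] at h
  have hm : 1 ≤ m := by
    rcases Nat.eq_zero_or_pos m with h0 | h0
    · subst h0
      have := Fintype.one_lt_card (α := F)
      omega
    · exact h0
  have hodd : Nat.gcd 2 (2 ^ m - 1) = 1 := by
    obtain ⟨k, rfl⟩ : ∃ k, m = k + 1 := ⟨m - 1, by omega⟩
    have h2 : 2 ^ (k + 1) - 1 = 2 * (2 ^ k - 1) + 1 := by
      have : 1 ≤ 2 ^ k := Nat.one_le_two_pow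
      rw [pow_succ]; omega
    rw [h2]
    have : Nat.Coprime 2 (2 * (2 ^ k - 1) + 1) := by
      rw [Nat.coprime_two_left]
      exact ⟨_, rfl⟩
    exact this
  rw [hodd] at h
  exact Subgroup.card_eq_one.mp h

theorem helper32_psl_to_sl {G : Type u} [Group G] {F : Type} [Field F] [Fintype F] (m : ℕ)
    (hF : Fintype.card F = 2 ^ m)
    (h : Nonempty (G ≃* Matrix.ProjectiveSpecialLinearGroup (Fin 2) F)) :
    Nonempty (G ≃* Matrix.SpecialLinearGroup (Fin 2) F) := by
  obtain ⟨f⟩ := h
  have hc := helper32_center_SL2_char2 m hF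
  exact ⟨f.trans ((QuotientGroup.quotientMulEquivOfEq hc).trans QuotientGroup.quotientBot)⟩

/-- A Sylow subgroup of prime order is generated by any of its nontrivial elements. -/
theorem helper32_sylow_gen {G : Type u} [Group G] [Finite G] (p : ℕ) [Fact p.Prime]
    (P : Sylow p G) (hP : Nat.card P = p) :
    ∃ z : G, orderOf z = p ∧ Subgroup.zpowers z = (P : Subgroup G) := by
  have hp : p.Prime := Fact.out
  have hPne : (P : Subgroup G) ≠ ⊥ := by
    intro h
    have h1 : Nat.card (P : Subgroup G) = 1 := by rw [h]; exact Subgroup.card_bot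
    have h2 : Nat.card (P : Subgroup G) = p := hP
    rw [h1] at h2
    exact hp.one_lt.ne h2
  obtain ⟨a, ha⟩ := (Subgroup.ne_bot_iff_exists_ne_one).mp hPne
  have hzP : (a : G) ∈ (P : Subgroup G) := a.2
  have ho : orderOf (a : G) = p := by
    have hd : orderOf (a : G) ∣ p := by
      have h2 : Nat.card (P : Subgroup G) = p := hP
      have h3 := Subgroup.orderOf_dvd_natCard _ hzP
      rw [h2] at h3
      exact h3
    rcases (Nat.dvd_prime hp).mp hd with h1 | h1
    · exfalso
      apply ha
      have : (a : G) = 1 := orderOf_eq_one_iff.mp h1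
      exact Subtype.ext this
    · exact h1
  refine ⟨(a : G), ho, ?_⟩
  apply Subgroup.eq_of_le_of_card_ge
  · exact (Subgroup.zpowers_le).mpr hzP
  · have h2 : Nat.card (P : Subgroup G) = p := hP
    rw [h2, Nat.card_zpowers, ho]

theorem apply_brauer {G : Type u} [Group G] [Finite G] (hperf : commutator G = ⊤) (p : ℕ)
    [Fact p.Prime] (P : Sylow p G) (hP : Nat.card P = p)
    (hC : Subgroup.centralizer ((P : Subgroup G) : Set G) = (P : Subgroup G)) (n : ℕ)
    (hn : Nat.card (Sylow p G) = 1 + n * p) (hn2 : 2 * n ≤ p + 1) :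
    (∃ (F : Type) (_ : Field F) (_ : Fintype F), Fintype.card F = p ∧ 3 < p ∧
      Nonempty (G ≃* Matrix.ProjectiveSpecialLinearGroup (Fin 2) F)) ∨
    (∃ (m : ℕ) (F : Type) (_ : Field F) (_ : Fintype F), Fintype.card F = 2 ^ m ∧
      p = 2 ^ m + 1 ∧ 3 < p ∧ Nonempty (G ≃* Matrix.SpecialLinearGroup (Fin 2) F)) := by
  have hp : p.Prime := Fact.out
  obtain ⟨z, hz, hzP⟩ := helper32_sylow_gen p P hP
  have hCz : Subgroup.centralizer ({z} : Set G) = Subgroup.zpowers z := by
    ext x
    constructor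
    · intro hx
      rw [hzP, ← hC]
      rw [Subgroup.mem_centralizer_iff]
      intro g hg
      have hg' : g ∈ Subgroup.zpowers z := by rw [hzP]; exact hg
      obtain ⟨k, rfl⟩ := Subgroup.mem_zpowers_iff.mp hg'
      have hzx : z * x = x * z := (Subgroup.mem_centralizer_iff.mp hx) z (Set.mem_singleton z)
      have hcomm : Commute z x := hzx
      exact (hcomm.zpow_left k)
    · intro hx
      obtain ⟨k, rfl⟩ := Subgroup.mem_zpowers_iff.mp hx
      rw [Subgroup.mem_centralizer_iff]
      intro g hg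
      rw [Set.mem_singleton_iff] at hg
      subst hg
      exact ((Commute.refl g).zpow_right k)
  have hn' : 2 * Nat.card (Sylow p G) < (p + 1) * (p + 2) := by
    rw [hn]
    have h1 := Nat.mul_le_mul_right p hn2
    have hp0 : 0 < p := hp.pos
    nlinarith
  rcases Cfsg.Agent.S0996.result hperf p z hz hCz hn' with h | ⟨m, F, i1, i2, hF, hpm, h3, hiso⟩
  · exact Or.inl h
  · exact Or.inr ⟨m, F, i1, i2, hF, hpm, h3, @helper32_psl_to_sl G _ F i1 i2 m hF hiso⟩

end Cfsg.Agent.Lib.helper32.BR
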