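import Mathlib
import Cfsg.Agent.Lib.helper24.SfuDefs

/-!
# S5982, piece EXT: a norm-one vector extends to an orthonormal basis (helper32)

Also contains the abstract orthonormal-basis lemma for non-degenerate subspaces (`h32_onb_sub`),
norm surjectivity (`h32_norm_surj`) and a copy of the orthonormal basis statement (`h32_sfu_onb`).
-/

set_option autoImplicit false

namespace Cfsg.Agent.Lib.helper24

open Module Matrix Cfsg.Geo

section h32base

variable {F : Type*} [Field F] [Fintype F]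

theorem h32_q0_pos (q₀ : ℕ) (hcard : Fintype.card F = q₀ ^ 2) : ∃ r, q₀ = r + 1 ∧ 0 < r := by
  have h1 : 1 < Fintype.card F := Fintype.one_lt_card
  rw [hcard] at h1
  rcases q₀ with _ | _ | r
  · simp at h1
  · simp at h1
  · exact ⟨r + 1, rfl, Nat.succ_pos r⟩

theorem h32_q0_ne_zero (q₀ : ℕ) (hcard : Fintype.card F = q₀ ^ 2) : q₀ ≠ 0 := by
  obtain ⟨r, rfl, -⟩ := h32_q0_pos q₀ hcard
  exact Nat.succ_ne_zero r

theorem h32_frob_inv (q₀ : ℕ) (hcard : Fintype.card F = q₀ ^ 2) (c : F) : (c ^ q₀) ^ q₀ = c := by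
  rw [← pow_mul, ← sq, ← hcard, FiniteField.pow_card]

theorem h32_frob_add (q₀ : ℕ) (hcard : Fintype.card F = q₀ ^ 2) (a b : F) :
    (a + b) ^ q₀ = a ^ q₀ + b ^ q₀ := by
  obtain ⟨p, hp⟩ := CharP.exists F
  have := hp
  obtain ⟨k, hpp, hk⟩ := FiniteField.card F p
  have hdvd : q₀ ∣ p ^ (k : ℕ) := by
    rw [← hk, hcard]; exact dvd_pow_self q₀ two_ne_zero
  obtain ⟨j, -, rfl⟩ := (Nat.dvd_prime_pow hpp).1 hdvd
  have : Fact p.Prime := ⟨hpp⟩
  exact add_pow_char_pow a b p j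

theorem h32_gen (q₀ : ℕ) (hcard : Fintype.card F = q₀ ^ 2) :
    ∃ (g : Fˣ) (r : ℕ), q₀ = r + 1 ∧ 0 < r ∧ orderOf g = (r + 2) * r ∧
      ∀ x : Fˣ, ∃ k : ℕ, g ^ k = x := by
  obtain ⟨r, rfl, hr⟩ := h32_q0_pos q₀ hcard
  obtain ⟨g, hg⟩ := IsCyclic.exists_monoid_generator (α := Fˣ)
  have hg' : ∀ x : Fˣ, ∃ k : ℕ, g ^ k = x := fun x => (Submonoid.mem_powers_iff x g).1 (hg x)
  refine ⟨g, r, rfl, hr, ?_, hg'⟩
  have h1 : orderOf g = Nat.card Fˣ := orderOf_eq_card_of_forall_mem_zpowers (fun x => by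
    obtain ⟨k, hk⟩ := hg' x
    exact ⟨k, by simpa using hk⟩)
  classical
  rw [h1, Nat.card_eq_fintype_card, Fintype.card_units, hcard]
  have : (r + 1) ^ 2 = (r + 2) * r + 1 := by ring
  omega

theorem h32_norm_surj (q₀ : ℕ) (hcard : Fintype.card F = q₀ ^ 2) (c : F) (hc : c ≠ 0)
    (hc₀ : c ^ q₀ = c) : ∃ x : F, x ^ (q₀ + 1) = c := by
  obtain ⟨g, r, rfl, hr, hord, hgen⟩ := h32_gen q₀ hcard
  obtain ⟨k, hk⟩ := hgen (Units.mk0 c hc)
  have h1 : c ^ r = 1 := by
    have : c ^ r * c = 1 * c := by rw [← pow_succ, hc₀, one_mul]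
    exact mul_right_cancel₀ hc this
  have h2 : g ^ (k * r) = 1 := by
    rw [pow_mul, hk]; ext; simp [h1]
  have h3 : (r + 2) * r ∣ k * r := by rw [← hord]; exact orderOf_dvd_of_pow_eq_one h2
  have h4 : r + 2 ∣ k := Nat.dvd_of_mul_dvd_mul_right hr h3
  obtain ⟨j, rfl⟩ := h4
  refine ⟨((g ^ j : Fˣ) : F), ?_⟩
  have h5 : (g ^ j) ^ (r + 1 + 1) = Units.mk0 c hc := by rw [← hk, ← pow_mul, mul_comm]
  have h6 := congrArg (fun u : Fˣ => (u : F)) h5
  simpa using h6

theorem h32_zeta (q₀ : ℕ) (hcard : Fintype.card F = q₀ ^ 2) :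
    ∃ ζ : F, ζ ≠ 1 ∧ ζ ^ (q₀ + 1) = 1 := by
  obtain ⟨g, r, rfl, hr, hord, hgen⟩ := h32_gen q₀ hcard
  have hlt : r < orderOf g := by rw [hord]; nlinarith
  refine ⟨((g ^ r : Fˣ) : F), ?_, ?_⟩
  · intro h
    have h' : g ^ r = 1 := by ext; simpa using h
    exact pow_ne_one_of_lt_orderOf hr.ne' hlt h'
  · have h5 : (g ^ r) ^ (r + 1 + 1) = 1 := by
      rw [← pow_mul, mul_comm, ← hord, pow_orderOf_eq_one]
    have h6 := congrArg (fun u : Fˣ => (u : F)) h5
    simpa using h6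

theorem h32_trace_ne (q₀ : ℕ) (hcard : Fintype.card F = q₀ ^ 2) : ∃ t : F, t + t ^ q₀ ≠ 0 := by
  by_contra hcon
  push Not at hcon
  obtain ⟨g, r, rfl, hr, hord, hgen⟩ := h32_gen q₀ hcard
  have hlt : r < orderOf g := by rw [hord]; nlinarith
  have h1 : (1 : F) + 1 = 0 := by simpa using hcon 1
  have h2 : ((g : F)) ^ (r + 1) = g := by
    have h3 := hcon (g : F)
    have h4 : (g : F) + g = 0 := by linear_combination (g : F) * h1
    linear_combination h3 - h4
  have h4 : g ^ r = 1 := by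
    ext
    have : ((g : F)) ^ r * g = 1 * g := by rw [← pow_succ, h2, one_mul]
    simpa using mul_right_cancel₀ (Units.ne_zero g) this
  exact pow_ne_one_of_lt_orderOf hr.ne' hlt h4

variable {n : ℕ} {q₀ : ℕ} {f : (Fin n → F) → (Fin n → F) → F}

set_option linter.unusedSectionVars false

/-- `x ↦ f x v` as a linear map. -/
def h32_sfuL (hf : IsUnitaryFormPow q₀ f) (v : Fin n → F) : (Fin n → F) →ₗ[F] F where
  toFun x := f x v
  map_add' x y := hf.add_left x y v
  map_smul' c x := by simp [hf.smul_left]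

theorem h32_sfuL_apply (hf : IsUnitaryFormPow q₀ f) (v x : Fin n → F) :
    h32_sfuL hf v x = f x v := rfl

theorem h32_f_add_right (hcard : Fintype.card F = q₀ ^ 2) (hf : IsUnitaryFormPow q₀ f)
    (v x y : Fin n → F) : f v (x + y) = f v x + f v y := by
  rw [hf.herm v (x + y), hf.add_left, h32_frob_add q₀ hcard, ← hf.herm, ← hf.herm]

theorem h32_f_smul_right (hf : IsUnitaryFormPow q₀ f) (c : F) (v x : Fin n → F) :
    f v (c • x) = c ^ q₀ * f v x := by
  rw [hf.herm v (c • x), hf.smul_left, mul_pow, ← hf.herm]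

theorem h32_f_sub_left (hf : IsUnitaryFormPow q₀ f) (x y v : Fin n → F) :
    f (x - y) v = f x v - f y v :=
  map_sub (h32_sfuL hf v) x y

/-- A family with Gram matrix a permutation matrix of an involution is linearly independent. -/
theorem h32_li_of_gram (hf : IsUnitaryFormPow q₀ f) {d : ℕ} (e : Fin d → (Fin n → F))
    (π : Fin d → Fin d) (hπ : ∀ i, π (π i) = i)
    (he : ∀ i j, f (e i) (e j) = if j = π i then 1 else 0) : LinearIndependent F e := by
  rw [Fintype.linearIndependent_iff]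
  intro c hc j
  have h1 : h32_sfuL hf (e (π j)) (∑ i, c i • e i) = 0 := by rw [hc, map_zero]
  rw [map_sum] at h1
  simp only [map_smul, h32_sfuL_apply, he, smul_eq_mul] at h1
  rw [Finset.sum_eq_single j] at h1
  · simpa using h1
  · intro i _ hij
    have : π j ≠ π i := fun h => hij (by
      have := congrArg π h; rw [hπ, hπ] at this; exact this.symm)
    simp [this]
  · simp

theorem h32_li_of_orthonormal (hf : IsUnitaryFormPow q₀ f) {d : ℕ} (e : Fin d → (Fin n → F))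
    (he : ∀ i j, f (e i) (e j) = if i = j then 1 else 0) : LinearIndependent F e := by
  refine h32_li_of_gram hf e id (fun _ => rfl) (fun i j => ?_)
  rw [he]
  by_cases h : i = j
  · subst h; simp
  · simp [h, Ne.symm h]

theorem h32_perp_step (hcard : Fintype.card F = q₀ ^ 2) (hf : IsUnitaryFormPow q₀ f) {d : ℕ}
    (W : Submodule F (Fin n → F)) (hW : Module.finrank F W = d + 1)
    (hnd : ∀ w ∈ W, w ≠ 0 → ∃ x ∈ W, f x w ≠ 0) (u : Fin n → F) (huW : u ∈ W)
    (hu : f u u = 1) :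
    Module.finrank F (W ⊓ LinearMap.ker (h32_sfuL hf u) : Submodule F (Fin n → F)) = d ∧
    ∀ w ∈ W ⊓ LinearMap.ker (h32_sfuL hf u), w ≠ 0 →
      ∃ x ∈ W ⊓ LinearMap.ker (h32_sfuL hf u), f x w ≠ 0 := by
  have hq0 : q₀ ≠ 0 := h32_q0_ne_zero q₀ hcard
  constructor
  · have h1 := LinearMap.finrank_range_add_finrank_ker ((h32_sfuL hf u) ∘ₗ W.subtype)
    have hsurj : LinearMap.range ((h32_sfuL hf u) ∘ₗ W.subtype) = ⊤ := by
      rw [LinearMap.range_eq_top]
      intro c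
      refine ⟨c • ⟨u, huW⟩, ?_⟩
      simp [h32_sfuL_apply, hu]
    rw [hsurj, finrank_top, Module.finrank_self, hW] at h1
    have h2 : (W ⊓ LinearMap.ker (h32_sfuL hf u)) =
        Submodule.map W.subtype (LinearMap.ker ((h32_sfuL hf u) ∘ₗ W.subtype)) := by
      rw [LinearMap.ker_comp, Submodule.map_comap_subtype]
    rw [h2, Submodule.finrank_map_subtype_eq]
    omega
  · intro w hw hw0
    obtain ⟨hwW, hwk⟩ := Submodule.mem_inf.1 hw
    obtain ⟨x, hxW, hx⟩ := hnd w hwW hw0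
    rw [LinearMap.mem_ker, h32_sfuL_apply] at hwk
    refine ⟨x - f x u • u, Submodule.mem_inf.2 ⟨W.sub_mem hxW (W.smul_mem _ huW), ?_⟩, ?_⟩
    · rw [LinearMap.mem_ker, h32_sfuL_apply, h32_f_sub_left hf, hf.smul_left, hu]
      ring
    · have huw : f u w = 0 := by rw [hf.herm, hwk, zero_pow hq0]
      rw [h32_f_sub_left hf, hf.smul_left, huw]
      simpa using hx

theorem h32_exists_unit_vec (hcard : Fintype.card F = q₀ ^ 2) (hf : IsUnitaryFormPow q₀ f)
    (W : Submodule F (Fin n → F)) (hW : W ≠ ⊥)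
    (hnd : ∀ w ∈ W, w ≠ 0 → ∃ x ∈ W, f x w ≠ 0) : ∃ u ∈ W, f u u = 1 := by
  have h1 : ∃ w ∈ W, f w w ≠ 0 := by
    by_contra hcon
    push Not at hcon
    obtain ⟨w₀, hw₀, hw₀0⟩ := (Submodule.ne_bot_iff W).1 hW
    obtain ⟨x, hxW, hx⟩ := hnd w₀ hw₀ hw₀0
    obtain ⟨t, ht⟩ := h32_trace_ne q₀ hcard
    have hat : t / f x w₀ * f x w₀ = t := div_mul_cancel₀ t hx
    have hy : (t / f x w₀) • x + w₀ ∈ W := W.add_mem (W.smul_mem _ hxW) hw₀
    have h2 := hcon _ hy
    rw [hf.add_left, hf.smul_left, h32_f_add_right hcard hf, h32_f_add_right hcard hf,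
      h32_f_smul_right hf, h32_f_smul_right hf, hcon x hxW, hcon w₀ hw₀, hf.herm w₀ x] at h2
    apply ht
    rw [← hat, mul_pow]
    linear_combination h2
  obtain ⟨w, hwW, hw⟩ := h1
  have hw0 : (f w w) ^ q₀ = f w w := (hf.herm w w).symm
  obtain ⟨a, ha⟩ := h32_norm_surj q₀ hcard (f w w)⁻¹ (inv_ne_zero hw) (by rw [inv_pow, hw0])
  refine ⟨a • w, W.smul_mem _ hwW, ?_⟩
  rw [hf.smul_left, h32_f_smul_right hf, ← mul_assoc, ← pow_succ', ha]
  exact inv_mul_cancel₀ hw

theorem h32_snoc_gram (hcard : Fintype.card F = q₀ ^ 2) (hf : IsUnitaryFormPow q₀ f) {d : ℕ}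
    (e' : Fin d → (Fin n → F)) (u : Fin n → F)
    (he : ∀ i j, f (e' i) (e' j) = if i = j then 1 else 0) (hu : f u u = 1)
    (hperp : ∀ i, f (e' i) u = 0) :
    ∀ i j, f (Fin.snoc (α := fun _ => Fin n → F) e' u i)
      (Fin.snoc (α := fun _ => Fin n → F) e' u j) = if i = j then 1 else 0 := by
  have hq0 : q₀ ≠ 0 := h32_q0_ne_zero q₀ hcard
  intro i j
  induction i using Fin.lastCases with
  | last =>
    induction j using Fin.lastCases with
    | last => simp [hu]
    | cast j =>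
      rw [Fin.snoc_last, Fin.snoc_castSucc, hf.herm, hperp, zero_pow hq0]
      simp [(Fin.castSucc_ne_last j).symm]
  | cast i =>
    induction j using Fin.lastCases with
    | last =>
      rw [Fin.snoc_last, Fin.snoc_castSucc, hperp]
      simp [Fin.castSucc_ne_last]
    | cast j =>
      rw [Fin.snoc_castSucc, Fin.snoc_castSucc, he]
      simp [Fin.castSucc_inj]

/-- Orthonormal family of the right size in any subspace on which the form is non-degenerate. -/
theorem h32_onb_sub (hcard : Fintype.card F = q₀ ^ 2) (hf : IsUnitaryFormPow q₀ f) :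
    ∀ (d : ℕ) (W : Submodule F (Fin n → F)), Module.finrank F W = d →
      (∀ w ∈ W, w ≠ 0 → ∃ x ∈ W, f x w ≠ 0) →
      ∃ e : Fin d → (Fin n → F), (∀ i, e i ∈ W) ∧
        ∀ i j, f (e i) (e j) = if i = j then 1 else 0 := by
  intro d
  induction d with
  | zero => intro W _ _; exact ⟨fun i => i.elim0, fun i => i.elim0, fun i => i.elim0⟩
  | succ d ih =>
    intro W hW hnd
    have hWne : W ≠ ⊥ := by
      rintro rfl
      simp at hW
    obtain ⟨u, huW, hu⟩ := h32_exists_unit_vec hcard hf W hWne hnd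
    obtain ⟨hfr, hnd'⟩ := h32_perp_step hcard hf W hW hnd u huW hu
    obtain ⟨e', he'W, he'⟩ := ih _ hfr hnd'
    refine ⟨Fin.snoc (α := fun _ => Fin n → F) e' u, ?_, ?_⟩
    · intro i
      induction i using Fin.lastCases with
      | last => simpa using huW
      | cast i => simpa using (Submodule.mem_inf.1 (he'W i)).1
    · exact h32_snoc_gram hcard hf e' u he' hu (fun i => by
        have := (Submodule.mem_inf.1 (he'W i)).2
        simpa [LinearMap.mem_ker, h32_sfuL_apply] using this)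

end h32base

/-- Racing copy of ONB. -/
theorem h32_sfu_onb {F : Type*} [Field F] [Fintype F] {n : ℕ} (q₀ : ℕ)
    (hcard : Fintype.card F = q₀ ^ 2) (f : (Fin n → F) → (Fin n → F) → F)
    (hf : IsUnitaryFormPow q₀ f) :
    ∃ e : Fin n → (Fin n → F), LinearIndependent F e ∧
      ∀ i j, f (e i) (e j) = if i = j then 1 else 0 := by
  obtain ⟨e, -, he⟩ := h32_onb_sub hcard hf n ⊤ (by simp) (fun w _ hw => by
    obtain ⟨x, hx⟩ := (hf.nondegenerate w hw).1
    exact ⟨x, Submodule.mem_top, hx⟩)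
  exact ⟨e, h32_li_of_orthonormal hf e he, he⟩

/-- EXT -/
theorem sfu_onb_extend {F : Type*} [Field F] [Fintype F] {m : ℕ} (q₀ : ℕ)
    (hcard : Fintype.card F = q₀ ^ 2) (f : (Fin (m + 1) → F) → (Fin (m + 1) → F) → F)
    (hf : IsUnitaryFormPow q₀ f) (v : Fin (m + 1) → F) (hv : f v v = 1) :
    ∃ e : Fin (m + 1) → (Fin (m + 1) → F), LinearIndependent F e ∧
      (∀ i j, f (e i) (e j) = if i = j then 1 else 0) ∧ e (Fin.last m) = v := by
  have hnd : ∀ w ∈ (⊤ : Submodule F (Fin (m + 1) → F)), w ≠ 0 →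
      ∃ x ∈ (⊤ : Submodule F (Fin (m + 1) → F)), f x w ≠ 0 := fun w _ hw => by
    obtain ⟨x, hx⟩ := (hf.nondegenerate w hw).1
    exact ⟨x, Submodule.mem_top, hx⟩
  have hfr : Module.finrank F (⊤ : Submodule F (Fin (m + 1) → F)) = m + 1 := by simp
  obtain ⟨hfr', hnd'⟩ := h32_perp_step hcard hf ⊤ hfr hnd v Submodule.mem_top hv
  obtain ⟨e', he'W, he'⟩ := h32_onb_sub hcard hf m _ hfr' hnd'
  have hgram := h32_snoc_gram hcard hf e' v he' hv (fun i => by
    have := (Submodule.mem_inf.1 (he'W i)).2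
    simpa [LinearMap.mem_ker, h32_sfuL_apply] using this)
  exact ⟨Fin.snoc (α := fun _ => Fin (m + 1) → F) e' v, h32_li_of_orthonormal hf _ hgram, hgram,
    by simp⟩

end Cfsg.Agent.Lib.helper24
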