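import Mathlib
import Cfsg.Prelude.Def_Characters
import Cfsg.Prelude.Def_OddOrderChar
import Cfsg.Prelude.Def_OddOrderLocal

set_option autoImplicit false

namespace Cfsg.Agent.Lib.helper32

open scoped ComplexConjugate

theorem extendByZero_apply_coe {G : Type*} [Group G] (H : Subgroup G) (α : H → ℂ) (h : H) :
    Cfsg.extendByZero H α (h : G) = α h := by
  unfold Cfsg.extendByZero
  exact Subtype.val_injective.extend_apply α 0 h

theorem extendByZero_apply_mem {G : Type*} [Group G] (H : Subgroup G) (α : H → ℂ) (g : G) (hg : g ∈ H) :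
    Cfsg.extendByZero H α g = α ⟨g, hg⟩ :=
  extendByZero_apply_coe H α ⟨g, hg⟩

theorem extendByZero_apply_not_mem {G : Type*} [Group G] (H : Subgroup G) (α : H → ℂ) (g : G) (hg : g ∉ H) :
    Cfsg.extendByZero H α g = 0 := by
  unfold Cfsg.extendByZero
  rw [Function.extend_apply']
  · rfl
  · rintro ⟨h, rfl⟩
    exact hg h.2

/-- Frobenius reciprocity for `indFun` against a class function, in "sum over `G`" form. -/
theorem classInner_indFun_right {G : Type*} [Group G] [Fintype G] (H : Subgroup G) (θ : G → ℂ)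
    (hθ : Cfsg.IsClassFunction G θ) (α : H → ℂ) :
    Cfsg.classInner θ (Cfsg.indFun H α) =
      (Nat.card H : ℂ)⁻¹ * ∑ g : G, θ g * conj (Cfsg.extendByZero H α g) := by
  have hG : (Nat.card G : ℂ) ≠ 0 := by
    exact_mod_cast Nat.card_pos.ne'
  unfold Cfsg.classInner Cfsg.indFun
  simp only [map_mul, map_inv₀, map_natCast, map_sum]
  have hswap : ∑ g : G, θ g * ((Nat.card H : ℂ)⁻¹ * ∑ x : G, conj (Cfsg.extendByZero H α (x⁻¹ * g * x)))
      = (Nat.card H : ℂ)⁻¹ * ∑ x : G, ∑ g : G, θ g * conj (Cfsg.extendByZero H α (x⁻¹ * g * x)) := by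
    have h1 : ∀ g : G, θ g * ((Nat.card H : ℂ)⁻¹ * ∑ x : G, conj (Cfsg.extendByZero H α (x⁻¹ * g * x)))
        = ∑ x : G, (Nat.card H : ℂ)⁻¹ * (θ g * conj (Cfsg.extendByZero H α (x⁻¹ * g * x))) := by
      intro g
      rw [Finset.mul_sum, Finset.mul_sum]
      apply Finset.sum_congr rfl
      intro x _
      ring
    rw [Finset.sum_congr rfl (fun g _ => h1 g), Finset.sum_comm, Finset.mul_sum]
    apply Finset.sum_congr rfl
    intro x _
    rw [Finset.mul_sum]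
  rw [hswap]
  have hinner : ∀ x : G, ∑ g : G, θ g * conj (Cfsg.extendByZero H α (x⁻¹ * g * x))
      = ∑ g : G, θ g * conj (Cfsg.extendByZero H α g) := by
    intro x
    rw [← Equiv.sum_comp (MulAut.conj x).toEquiv]
    apply Finset.sum_congr rfl
    intro g _
    simp only [MulEquiv.toEquiv_eq_coe, MulEquiv.coe_toEquiv, MulAut.conj_apply]
    rw [hθ]
    congr 3
    simp [mul_assoc]
  rw [Finset.sum_congr rfl (fun x _ => hinner x), Finset.sum_const, Finset.card_univ,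
    ← Nat.card_eq_fintype_card, nsmul_eq_mul]
  field_simp

theorem isClassFunction_indFun {G : Type*} [Group G] [Fintype G] (H : Subgroup G) (α : H → ℂ) :
    Cfsg.IsClassFunction G (Cfsg.indFun H α) := by
  intro g h
  unfold Cfsg.indFun
  congr 1
  rw [← Equiv.sum_comp (Equiv.mulLeft h)]
  apply Finset.sum_congr rfl
  intro x _
  congr 1
  simp [mul_assoc]

theorem classInner_conj_symm {G : Type*} [Group G] [Fintype G] (φ ψ : G → ℂ) :
    Cfsg.classInner φ ψ = conj (Cfsg.classInner ψ φ) := by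
  unfold Cfsg.classInner
  simp only [map_mul, map_inv₀, map_natCast, map_sum, Complex.conj_conj]
  congr 1
  apply Finset.sum_congr rfl
  intro g _
  ring

theorem classInner_add_right {G : Type*} [Group G] [Fintype G] (θ f g : G → ℂ) :
    Cfsg.classInner θ (f + g) = Cfsg.classInner θ f + Cfsg.classInner θ g := by
  unfold Cfsg.classInner
  simp only [Pi.add_apply, map_add, mul_add, Finset.sum_add_distrib]

theorem classInner_sub_right {G : Type*} [Group G] [Fintype G] (θ f g : G → ℂ) :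
    Cfsg.classInner θ (f - g) = Cfsg.classInner θ f - Cfsg.classInner θ g := by
  unfold Cfsg.classInner
  simp only [Pi.sub_apply, map_sub, mul_sub, Finset.sum_sub_distrib]

theorem classInner_add_left {G : Type*} [Group G] [Fintype G] (θ f g : G → ℂ) :
    Cfsg.classInner (f + g) θ = Cfsg.classInner f θ + Cfsg.classInner g θ := by
  unfold Cfsg.classInner
  simp only [Pi.add_apply, add_mul, mul_add, Finset.sum_add_distrib]

theorem classInner_sub_left {G : Type*} [Group G] [Fintype G] (θ f g : G → ℂ) :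
    Cfsg.classInner (f - g) θ = Cfsg.classInner f θ - Cfsg.classInner g θ := by
  unfold Cfsg.classInner
  simp only [Pi.sub_apply, sub_mul, mul_sub, Finset.sum_sub_distrib]

theorem classInner_eq_zero_of_forall {G : Type*} [Group G] [Fintype G] (φ ψ : G → ℂ)
    (h : ∀ g, φ g * conj (ψ g) = 0) : Cfsg.classInner φ ψ = 0 := by
  unfold Cfsg.classInner
  rw [Finset.sum_eq_zero (fun g _ => h g), mul_zero]

/-- A linear character of `W₁ ⊔ W₂` trivial on `W₁` and on `W₂` is trivial. -/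
theorem hom_eq_one_of_sup {G : Type*} [Group G] {M : Type*} [Monoid M] (W₁ W₂ : Subgroup G)
    (φ : ↥(W₁ ⊔ W₂) →* Mˣ)
    (h₁ : ∀ w : ↥(W₁ ⊔ W₂), (w : G) ∈ W₁ → φ w = 1)
    (h₂ : ∀ w : ↥(W₁ ⊔ W₂), (w : G) ∈ W₂ → φ w = 1) : φ = 1 := by
  have hle : W₁ ⊔ W₂ ≤ (φ.ker).map (W₁ ⊔ W₂).subtype := by
    apply sup_le
    · intro x hx
      exact ⟨⟨x, Subgroup.mem_sup_left hx⟩, h₁ _ hx, rfl⟩
    · intro x hx
      exact ⟨⟨x, Subgroup.mem_sup_right hx⟩, h₂ _ hx, rfl⟩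
  ext w
  obtain ⟨w', hw', hw'eq⟩ := hle w.2
  have : w' = w := Subtype.ext hw'eq
  rw [← this]
  have h3 : φ w' = 1 := hw'
  rw [h3]
  rfl

/-- Two linear characters of `W₁ ⊔ W₂` agreeing on `W₁` and on `W₂` are equal. -/
theorem hom_ext_of_sup {G : Type*} [Group G] {M : Type*} [CommMonoid M] (W₁ W₂ : Subgroup G)
    (φ φ' : ↥(W₁ ⊔ W₂) →* Mˣ)
    (h₁ : ∀ w : ↥(W₁ ⊔ W₂), (w : G) ∈ W₁ → φ w = φ' w)
    (h₂ : ∀ w : ↥(W₁ ⊔ W₂), (w : G) ∈ W₂ → φ w = φ' w) : φ = φ' := by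
  have h : φ * φ'⁻¹ = 1 := by
    apply hom_eq_one_of_sup
    · intro w hw
      rw [MonoidHom.mul_apply, MonoidHom.inv_apply, h₁ w hw, mul_inv_cancel]
    · intro w hw
      rw [MonoidHom.mul_apply, MonoidHom.inv_apply, h₂ w hw, mul_inv_cancel]
  exact mul_inv_eq_one.mp h

/-- `(1 - φ)(1 - ψ)` vanishes on `W₁ ∪ W₂` when `φ` is trivial on `W₂` and `ψ` on `W₁`. -/
theorem cyclicTI_alpha_eq_zero {G : Type*} [Group G] (W₁ W₂ : Subgroup G)
    (φ ψ : ↥(W₁ ⊔ W₂) →* ℂˣ)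
    (hφ₂ : ∀ w : ↥(W₁ ⊔ W₂), (w : G) ∈ W₂ → φ w = 1)
    (hψ₁ : ∀ w : ↥(W₁ ⊔ W₂), (w : G) ∈ W₁ → ψ w = 1)
    (w : ↥(W₁ ⊔ W₂)) (hw : (w : G) ∈ W₁ ∨ (w : G) ∈ W₂) :
    (1 - (φ w : ℂ) - (ψ w : ℂ) + (φ w : ℂ) * (ψ w : ℂ)) = 0 := by
  rcases hw with hw | hw
  · rw [hψ₁ w hw]; simp
  · rw [hφ₂ w hw]; simp

/-- If `θ` is a class function of `G` vanishing on `W \ (W₁ ∪ W₂)`, it is orthogonal to the function
induced from `(1 - φ)(1 - ψ)`. -/
theorem classInner_indFun_alpha_eq_zero {G : Type*} [Group G] [Fintype G] (W₁ W₂ : Subgroup G)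
    (θ : G → ℂ) (hθ : Cfsg.IsClassFunction G θ)
    (hθV : ∀ w : ↥(W₁ ⊔ W₂), (w : G) ∉ W₁ → (w : G) ∉ W₂ → θ w = 0)
    (φ ψ : ↥(W₁ ⊔ W₂) →* ℂˣ)
    (hφ₂ : ∀ w : ↥(W₁ ⊔ W₂), (w : G) ∈ W₂ → φ w = 1)
    (hψ₁ : ∀ w : ↥(W₁ ⊔ W₂), (w : G) ∈ W₁ → ψ w = 1) :
    Cfsg.classInner θ (Cfsg.indFun (W₁ ⊔ W₂)
      (fun w => 1 - (φ w : ℂ) - (ψ w : ℂ) + (φ w : ℂ) * (ψ w : ℂ))) = 0 := by
  rw [classInner_indFun_right _ θ hθ]
  rw [Finset.sum_eq_zero, mul_zero]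
  intro g _
  by_cases hg : g ∈ W₁ ⊔ W₂
  · rw [extendByZero_apply_mem _ _ g hg]
    by_cases h1 : g ∈ W₁
    · rw [cyclicTI_alpha_eq_zero W₁ W₂ φ ψ hφ₂ hψ₁ ⟨g, hg⟩ (Or.inl h1)]; simp
    · by_cases h2 : g ∈ W₂
      · rw [cyclicTI_alpha_eq_zero W₁ W₂ φ ψ hφ₂ hψ₁ ⟨g, hg⟩ (Or.inr h2)]; simp
      · have := hθV ⟨g, hg⟩ h1 h2
        simp only at this
        rw [this, zero_mul]
  · rw [extendByZero_apply_not_mem _ _ g hg]; simp

/-- The rectangle rule in additive form: `a(φψ) = a(φ) + a(ψ) - a(1)`. -/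
theorem cyclicTI_coeff_mul {G : Type*} [Group G] [Fintype G] (W₁ W₂ : Subgroup G)
    (χ : (↥(W₁ ⊔ W₂) →* ℂˣ) → (G → ℂ)) (hχ : Cfsg.IsCyclicTIFamily W₁ W₂ χ)
    (θ : G → ℂ) (hθ : Cfsg.IsClassFunction G θ)
    (hθV : ∀ w : ↥(W₁ ⊔ W₂), (w : G) ∉ W₁ → (w : G) ∉ W₂ → θ w = 0)
    (φ ψ : ↥(W₁ ⊔ W₂) →* ℂˣ)
    (hφ₂ : ∀ w : ↥(W₁ ⊔ W₂), (w : G) ∈ W₂ → φ w = 1)
    (hψ₁ : ∀ w : ↥(W₁ ⊔ W₂), (w : G) ∈ W₁ → ψ w = 1) :
    Cfsg.classInner θ (χ (φ * ψ)) =
      Cfsg.classInner θ (χ φ) + Cfsg.classInner θ (χ ψ) - Cfsg.classInner θ (χ 1) := by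
  by_cases hφ : φ = 1
  · have h : φ * ψ = ψ := by
      ext w
      simp [hφ]
    rw [h, hφ]; ring
  by_cases hψ : ψ = 1
  · have h : φ * ψ = φ := by
      ext w
      simp [hψ]
    rw [h, hψ]; ring
  have h0 := classInner_indFun_alpha_eq_zero W₁ W₂ θ hθ hθV φ ψ hφ₂ hψ₁
  rw [hχ.induced_eq φ ψ hφ hψ hφ₂ hψ₁] at h0
  have h1 : (fun g => 1 - χ φ g - χ ψ g + χ (φ * ψ) g) = χ 1 - χ φ - χ ψ + χ (φ * ψ) := by
    funext g
    simp only [Pi.add_apply, Pi.sub_apply, hχ.map_one]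
  rw [h1, classInner_add_right, classInner_sub_right, classInner_sub_right] at h0
  linear_combination h0

end Cfsg.Agent.Lib.helper32
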