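import Mathlib
import Cfsg.Agent.Lib.helper32.CyclicTI

set_option autoImplicit false

namespace Cfsg.Agent.Lib.helper32

open scoped Pointwise

section Decomp

variable {G : Type*} [Group G] (W₁ W₂ : Subgroup G)

theorem mem_sup_iff_exists_mul_of_comm (hcomm : ∀ a ∈ W₁, ∀ b ∈ W₂, a * b = b * a) (w : G) :
    w ∈ W₁ ⊔ W₂ ↔ ∃ a ∈ W₁, ∃ b ∈ W₂, a * b = w := by
  have hsupmul : ((W₁ ⊔ W₂ : Subgroup G) : Set G) = (W₁ : Set G) * (W₂ : Set G) := by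
    apply Subgroup.coe_mul_of_left_le_normalizer_right
    rw [Subgroup.le_normalizer_iff]
    intro h hh k hk
    rw [hcomm h hh k hk, mul_inv_cancel_right]
    exact hk
  rw [← SetLike.mem_coe, hsupmul]
  constructor
  · rintro ⟨a, ha, b, hb, h⟩
    exact ⟨a, ha, b, hb, h⟩
  · rintro ⟨a, ha, b, hb, h⟩
    exact ⟨a, ha, b, hb, h⟩

/-- The multiplication map `W₁ × W₂ → W₁ ⊔ W₂` for elementwise commuting subgroups. -/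
def supMulHom (hcomm : ∀ a ∈ W₁, ∀ b ∈ W₂, a * b = b * a) : W₁ × W₂ →* ↥(W₁ ⊔ W₂) where
  toFun p := ⟨(p.1 : G) * (p.2 : G),
    mul_mem (Subgroup.mem_sup_left p.1.2) (Subgroup.mem_sup_right p.2.2)⟩
  map_one' := by
    apply Subtype.ext
    simp
  map_mul' p q := by
    apply Subtype.ext
    show ((p.1 : G) * (q.1 : G)) * ((p.2 : G) * (q.2 : G)) = ((p.1 : G) * (p.2 : G)) * ((q.1 : G) * (q.2 : G))
    have h := hcomm q.1 q.1.2 p.2 p.2.2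
    calc ((p.1 : G) * (q.1 : G)) * ((p.2 : G) * (q.2 : G))
        = (p.1 : G) * ((q.1 : G) * (p.2 : G)) * (q.2 : G) := by simp [mul_assoc]
      _ = (p.1 : G) * ((p.2 : G) * (q.1 : G)) * (q.2 : G) := by rw [h]
      _ = ((p.1 : G) * (p.2 : G)) * ((q.1 : G) * (q.2 : G)) := by simp [mul_assoc]

theorem supMulHom_bijective (hdisj : W₁ ⊓ W₂ = ⊥) (hcomm : ∀ a ∈ W₁, ∀ b ∈ W₂, a * b = b * a) :
    Function.Bijective (supMulHom W₁ W₂ hcomm) := by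
  constructor
  · rw [injective_iff_map_eq_one]
    intro p hp
    have h : (p.1 : G) * (p.2 : G) = 1 := congrArg Subtype.val hp
    have h1 : (p.1 : G) = (p.2 : G)⁻¹ := eq_inv_of_mul_eq_one_left h
    have h2 : (p.1 : G) ∈ W₁ ⊓ W₂ := ⟨p.1.2, by rw [h1]; exact W₂.inv_mem p.2.2⟩
    rw [hdisj, Subgroup.mem_bot] at h2
    have h3 : (p.2 : G) = 1 := by rw [h2, one_mul] at h; exact h
    exact Prod.ext (Subtype.ext h2) (Subtype.ext h3)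
  · rintro ⟨w, hw⟩
    obtain ⟨a, ha, b, hb, h⟩ := (mem_sup_iff_exists_mul_of_comm W₁ W₂ hcomm w).mp hw
    exact ⟨(⟨a, ha⟩, ⟨b, hb⟩), Subtype.ext h⟩

/-- `W₁ × W₂ ≃* W₁ ⊔ W₂`. -/
noncomputable def supMulEquiv (hdisj : W₁ ⊓ W₂ = ⊥) (hcomm : ∀ a ∈ W₁, ∀ b ∈ W₂, a * b = b * a) :
    W₁ × W₂ ≃* ↥(W₁ ⊔ W₂) :=
  MulEquiv.ofBijective (supMulHom W₁ W₂ hcomm) (supMulHom_bijective W₁ W₂ hdisj hcomm)

/-- Projection of `W₁ ⊔ W₂` onto the first factor. -/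
noncomputable def supProj₁ (hdisj : W₁ ⊓ W₂ = ⊥) (hcomm : ∀ a ∈ W₁, ∀ b ∈ W₂, a * b = b * a) :
    ↥(W₁ ⊔ W₂) →* W₁ :=
  (MonoidHom.fst W₁ W₂).comp (supMulEquiv W₁ W₂ hdisj hcomm).symm.toMonoidHom

/-- Projection of `W₁ ⊔ W₂` onto the second factor. -/
noncomputable def supProj₂ (hdisj : W₁ ⊓ W₂ = ⊥) (hcomm : ∀ a ∈ W₁, ∀ b ∈ W₂, a * b = b * a) :
    ↥(W₁ ⊔ W₂) →* W₂ :=
  (MonoidHom.snd W₁ W₂).comp (supMulEquiv W₁ W₂ hdisj hcomm).symm.toMonoidHom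

theorem supProj_mul (hdisj : W₁ ⊓ W₂ = ⊥) (hcomm : ∀ a ∈ W₁, ∀ b ∈ W₂, a * b = b * a)
    (w : ↥(W₁ ⊔ W₂)) :
    ((supProj₁ W₁ W₂ hdisj hcomm w : W₁) : G) * ((supProj₂ W₁ W₂ hdisj hcomm w : W₂) : G) = (w : G) := by
  have h := (supMulEquiv W₁ W₂ hdisj hcomm).apply_symm_apply w
  exact congrArg Subtype.val h

theorem supProj₁_of_mem₁ (hdisj : W₁ ⊓ W₂ = ⊥) (hcomm : ∀ a ∈ W₁, ∀ b ∈ W₂, a * b = b * a)
    (w : ↥(W₁ ⊔ W₂)) (hw : (w : G) ∈ W₁) : supProj₁ W₁ W₂ hdisj hcomm w = ⟨w, hw⟩ := by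
  have h : supMulEquiv W₁ W₂ hdisj hcomm (⟨w, hw⟩, 1) = w := by
    apply Subtype.ext
    show (w : G) * ((1 : W₂) : G) = w
    simp
  have h2 : (supMulEquiv W₁ W₂ hdisj hcomm).symm w = (⟨w, hw⟩, 1) := by
    rw [MulEquiv.symm_apply_eq, h]
  show ((supMulEquiv W₁ W₂ hdisj hcomm).symm w).1 = _
  rw [h2]

theorem supProj₂_of_mem₁ (hdisj : W₁ ⊓ W₂ = ⊥) (hcomm : ∀ a ∈ W₁, ∀ b ∈ W₂, a * b = b * a)
    (w : ↥(W₁ ⊔ W₂)) (hw : (w : G) ∈ W₁) : supProj₂ W₁ W₂ hdisj hcomm w = 1 := by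
  have h : supMulEquiv W₁ W₂ hdisj hcomm (⟨w, hw⟩, 1) = w := by
    apply Subtype.ext
    show (w : G) * ((1 : W₂) : G) = w
    simp
  have h2 : (supMulEquiv W₁ W₂ hdisj hcomm).symm w = (⟨w, hw⟩, 1) := by
    rw [MulEquiv.symm_apply_eq, h]
  show ((supMulEquiv W₁ W₂ hdisj hcomm).symm w).2 = _
  rw [h2]

theorem supProj₂_of_mem₂ (hdisj : W₁ ⊓ W₂ = ⊥) (hcomm : ∀ a ∈ W₁, ∀ b ∈ W₂, a * b = b * a)
    (w : ↥(W₁ ⊔ W₂)) (hw : (w : G) ∈ W₂) : supProj₂ W₁ W₂ hdisj hcomm w = ⟨w, hw⟩ := by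
  have h : supMulEquiv W₁ W₂ hdisj hcomm (1, ⟨w, hw⟩) = w := by
    apply Subtype.ext
    show ((1 : W₁) : G) * (w : G) = w
    simp
  have h2 : (supMulEquiv W₁ W₂ hdisj hcomm).symm w = (1, ⟨w, hw⟩) := by
    rw [MulEquiv.symm_apply_eq, h]
  show ((supMulEquiv W₁ W₂ hdisj hcomm).symm w).2 = _
  rw [h2]

theorem supProj₁_of_mem₂ (hdisj : W₁ ⊓ W₂ = ⊥) (hcomm : ∀ a ∈ W₁, ∀ b ∈ W₂, a * b = b * a)
    (w : ↥(W₁ ⊔ W₂)) (hw : (w : G) ∈ W₂) : supProj₁ W₁ W₂ hdisj hcomm w = 1 := by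
  have h : supMulEquiv W₁ W₂ hdisj hcomm (1, ⟨w, hw⟩) = w := by
    apply Subtype.ext
    show ((1 : W₁) : G) * (w : G) = w
    simp
  have h2 : (supMulEquiv W₁ W₂ hdisj hcomm).symm w = (1, ⟨w, hw⟩) := by
    rw [MulEquiv.symm_apply_eq, h]
  show ((supMulEquiv W₁ W₂ hdisj hcomm).symm w).1 = _
  rw [h2]

/-- The `W₁`-part of a linear character of `W₁ ⊔ W₂`: agrees with `ω` on `W₁`, trivial on `W₂`. -/
noncomputable def charPart₁ (hdisj : W₁ ⊓ W₂ = ⊥) (hcomm : ∀ a ∈ W₁, ∀ b ∈ W₂, a * b = b * a)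
    (ω : ↥(W₁ ⊔ W₂) →* ℂˣ) : ↥(W₁ ⊔ W₂) →* ℂˣ :=
  ω.comp ((Subgroup.inclusion le_sup_left).comp (supProj₁ W₁ W₂ hdisj hcomm))

/-- The `W₂`-part of a linear character of `W₁ ⊔ W₂`: agrees with `ω` on `W₂`, trivial on `W₁`. -/
noncomputable def charPart₂ (hdisj : W₁ ⊓ W₂ = ⊥) (hcomm : ∀ a ∈ W₁, ∀ b ∈ W₂, a * b = b * a)
    (ω : ↥(W₁ ⊔ W₂) →* ℂˣ) : ↥(W₁ ⊔ W₂) →* ℂˣ :=
  ω.comp ((Subgroup.inclusion le_sup_right).comp (supProj₂ W₁ W₂ hdisj hcomm))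

theorem charPart₁_of_mem₁ (hdisj : W₁ ⊓ W₂ = ⊥) (hcomm : ∀ a ∈ W₁, ∀ b ∈ W₂, a * b = b * a)
    (ω : ↥(W₁ ⊔ W₂) →* ℂˣ) (w : ↥(W₁ ⊔ W₂)) (hw : (w : G) ∈ W₁) :
    charPart₁ W₁ W₂ hdisj hcomm ω w = ω w := by
  show ω (Subgroup.inclusion le_sup_left (supProj₁ W₁ W₂ hdisj hcomm w)) = ω w
  rw [supProj₁_of_mem₁ W₁ W₂ hdisj hcomm w hw]
  rfl

theorem charPart₁_of_mem₂ (hdisj : W₁ ⊓ W₂ = ⊥) (hcomm : ∀ a ∈ W₁, ∀ b ∈ W₂, a * b = b * a)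
    (ω : ↥(W₁ ⊔ W₂) →* ℂˣ) (w : ↥(W₁ ⊔ W₂)) (hw : (w : G) ∈ W₂) :
    charPart₁ W₁ W₂ hdisj hcomm ω w = 1 := by
  show ω (Subgroup.inclusion le_sup_left (supProj₁ W₁ W₂ hdisj hcomm w)) = 1
  rw [supProj₁_of_mem₂ W₁ W₂ hdisj hcomm w hw, map_one, map_one]

theorem charPart₂_of_mem₂ (hdisj : W₁ ⊓ W₂ = ⊥) (hcomm : ∀ a ∈ W₁, ∀ b ∈ W₂, a * b = b * a)
    (ω : ↥(W₁ ⊔ W₂) →* ℂˣ) (w : ↥(W₁ ⊔ W₂)) (hw : (w : G) ∈ W₂) :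
    charPart₂ W₁ W₂ hdisj hcomm ω w = ω w := by
  show ω (Subgroup.inclusion le_sup_right (supProj₂ W₁ W₂ hdisj hcomm w)) = ω w
  rw [supProj₂_of_mem₂ W₁ W₂ hdisj hcomm w hw]
  rfl

theorem charPart₂_of_mem₁ (hdisj : W₁ ⊓ W₂ = ⊥) (hcomm : ∀ a ∈ W₁, ∀ b ∈ W₂, a * b = b * a)
    (ω : ↥(W₁ ⊔ W₂) →* ℂˣ) (w : ↥(W₁ ⊔ W₂)) (hw : (w : G) ∈ W₁) :
    charPart₂ W₁ W₂ hdisj hcomm ω w = 1 := by
  show ω (Subgroup.inclusion le_sup_right (supProj₂ W₁ W₂ hdisj hcomm w)) = 1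
  rw [supProj₂_of_mem₁ W₁ W₂ hdisj hcomm w hw, map_one, map_one]

theorem charPart_mul (hdisj : W₁ ⊓ W₂ = ⊥) (hcomm : ∀ a ∈ W₁, ∀ b ∈ W₂, a * b = b * a)
    (ω : ↥(W₁ ⊔ W₂) →* ℂˣ) :
    charPart₁ W₁ W₂ hdisj hcomm ω * charPart₂ W₁ W₂ hdisj hcomm ω = ω := by
  apply hom_ext_of_sup
  · intro w hw
    rw [MonoidHom.mul_apply, charPart₁_of_mem₁ W₁ W₂ hdisj hcomm ω w hw,
      charPart₂_of_mem₁ W₁ W₂ hdisj hcomm ω w hw, mul_one]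
  · intro w hw
    rw [MonoidHom.mul_apply, charPart₁_of_mem₂ W₁ W₂ hdisj hcomm ω w hw,
      charPart₂_of_mem₂ W₁ W₂ hdisj hcomm ω w hw, one_mul]

theorem comm_of_isCyclic_sup (hcyc : IsCyclic ↥(W₁ ⊔ W₂)) (a b : G) (ha : a ∈ W₁ ⊔ W₂)
    (hb : b ∈ W₁ ⊔ W₂) : a * b = b * a := by
  have h := (IsCyclic.isMulCommutative (α := ↥(W₁ ⊔ W₂))).is_comm.comm ⟨a, ha⟩ ⟨b, hb⟩
  exact congrArg Subtype.val h

theorem card_monoidHom_units_of_comm [Finite G] (K : Subgroup G)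
    (hab : ∀ a ∈ K, ∀ b ∈ K, a * b = b * a) : Nat.card (K →* ℂˣ) = Nat.card K := by
  letI : CommGroup K := { (inferInstance : Group K) with
    mul_comm := fun a b => Subtype.ext (hab a a.2 b b.2) }
  have : NeZero (Monoid.exponent K) := ⟨Monoid.exponent_ne_zero_of_finite⟩
  exact CommGroup.card_monoidHom_of_hasEnoughRootsOfUnity K ℂ

/-- The linear characters of `W₁ ⊔ W₂` trivial on `W₂` correspond to the linear characters of `W₁`. -/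
noncomputable def charsTrivialOn₂Equiv (hdisj : W₁ ⊓ W₂ = ⊥)
    (hcomm : ∀ a ∈ W₁, ∀ b ∈ W₂, a * b = b * a) :
    {φ : ↥(W₁ ⊔ W₂) →* ℂˣ // ∀ w : ↥(W₁ ⊔ W₂), (w : G) ∈ W₂ → φ w = 1} ≃ (W₁ →* ℂˣ) where
  toFun φ := φ.1.comp (Subgroup.inclusion le_sup_left)
  invFun l := ⟨l.comp (supProj₁ W₁ W₂ hdisj hcomm), fun w hw => by
    rw [MonoidHom.comp_apply, supProj₁_of_mem₂ W₁ W₂ hdisj hcomm w hw, map_one]⟩
  left_inv φ := by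
    apply Subtype.ext
    apply hom_ext_of_sup
    · intro w hw
      show φ.1 (Subgroup.inclusion le_sup_left (supProj₁ W₁ W₂ hdisj hcomm w)) = φ.1 w
      rw [supProj₁_of_mem₁ W₁ W₂ hdisj hcomm w hw]
      rfl
    · intro w hw
      show φ.1 (Subgroup.inclusion le_sup_left (supProj₁ W₁ W₂ hdisj hcomm w)) = φ.1 w
      rw [supProj₁_of_mem₂ W₁ W₂ hdisj hcomm w hw, map_one, map_one, φ.2 w hw]
  right_inv l := by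
    ext a
    show ((l (supProj₁ W₁ W₂ hdisj hcomm (Subgroup.inclusion le_sup_left a)) : ℂˣ) : ℂ) = l a
    rw [supProj₁_of_mem₁ W₁ W₂ hdisj hcomm (Subgroup.inclusion le_sup_left a) a.2]
    rfl

/-- The linear characters of `W₁ ⊔ W₂` trivial on `W₁` correspond to the linear characters of `W₂`. -/
noncomputable def charsTrivialOn₁Equiv (hdisj : W₁ ⊓ W₂ = ⊥)
    (hcomm : ∀ a ∈ W₁, ∀ b ∈ W₂, a * b = b * a) :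
    {ψ : ↥(W₁ ⊔ W₂) →* ℂˣ // ∀ w : ↥(W₁ ⊔ W₂), (w : G) ∈ W₁ → ψ w = 1} ≃ (W₂ →* ℂˣ) where
  toFun ψ := ψ.1.comp (Subgroup.inclusion le_sup_right)
  invFun l := ⟨l.comp (supProj₂ W₁ W₂ hdisj hcomm), fun w hw => by
    rw [MonoidHom.comp_apply, supProj₂_of_mem₁ W₁ W₂ hdisj hcomm w hw, map_one]⟩
  left_inv ψ := by
    apply Subtype.ext
    apply hom_ext_of_sup
    · intro w hw
      show ψ.1 (Subgroup.inclusion le_sup_right (supProj₂ W₁ W₂ hdisj hcomm w)) = ψ.1 w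
      rw [supProj₂_of_mem₁ W₁ W₂ hdisj hcomm w hw, map_one, map_one, ψ.2 w hw]
    · intro w hw
      show ψ.1 (Subgroup.inclusion le_sup_right (supProj₂ W₁ W₂ hdisj hcomm w)) = ψ.1 w
      rw [supProj₂_of_mem₂ W₁ W₂ hdisj hcomm w hw]
      rfl
  right_inv l := by
    ext a
    show ((l (supProj₂ W₁ W₂ hdisj hcomm (Subgroup.inclusion le_sup_right a)) : ℂˣ) : ℂ) = l a
    rw [supProj₂_of_mem₂ W₁ W₂ hdisj hcomm (Subgroup.inclusion le_sup_right a) a.2]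
    rfl

theorem card_charsTrivialOn₂ [Finite G] (hdisj : W₁ ⊓ W₂ = ⊥)
    (hcomm : ∀ a ∈ W₁, ∀ b ∈ W₂, a * b = b * a) (hab : ∀ a ∈ W₁, ∀ b ∈ W₁, a * b = b * a) :
    Nat.card {φ : ↥(W₁ ⊔ W₂) →* ℂˣ // ∀ w : ↥(W₁ ⊔ W₂), (w : G) ∈ W₂ → φ w = 1} = Nat.card W₁ := by
  rw [Nat.card_congr (charsTrivialOn₂Equiv W₁ W₂ hdisj hcomm)]
  exact card_monoidHom_units_of_comm W₁ hab

theorem card_charsTrivialOn₁ [Finite G] (hdisj : W₁ ⊓ W₂ = ⊥)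
    (hcomm : ∀ a ∈ W₁, ∀ b ∈ W₂, a * b = b * a) (hab : ∀ a ∈ W₂, ∀ b ∈ W₂, a * b = b * a) :
    Nat.card {ψ : ↥(W₁ ⊔ W₂) →* ℂˣ // ∀ w : ↥(W₁ ⊔ W₂), (w : G) ∈ W₁ → ψ w = 1} = Nat.card W₂ := by
  rw [Nat.card_congr (charsTrivialOn₁Equiv W₁ W₂ hdisj hcomm)]
  exact card_monoidHom_units_of_comm W₂ hab

/-- Every linear character of `W₁ ⊔ W₂` is uniquely `φ * ψ` with `φ` trivial on `W₂`, `ψ` trivial on `W₁`. -/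
noncomputable def charDecompEquiv (hdisj : W₁ ⊓ W₂ = ⊥)
    (hcomm : ∀ a ∈ W₁, ∀ b ∈ W₂, a * b = b * a) :
    (↥(W₁ ⊔ W₂) →* ℂˣ) ≃
      {φ : ↥(W₁ ⊔ W₂) →* ℂˣ // ∀ w : ↥(W₁ ⊔ W₂), (w : G) ∈ W₂ → φ w = 1} ×
      {ψ : ↥(W₁ ⊔ W₂) →* ℂˣ // ∀ w : ↥(W₁ ⊔ W₂), (w : G) ∈ W₁ → ψ w = 1} where
  toFun ω := (⟨charPart₁ W₁ W₂ hdisj hcomm ω, charPart₁_of_mem₂ W₁ W₂ hdisj hcomm ω⟩,
    ⟨charPart₂ W₁ W₂ hdisj hcomm ω, charPart₂_of_mem₁ W₁ W₂ hdisj hcomm ω⟩)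
  invFun p := p.1.1 * p.2.1
  left_inv ω := charPart_mul W₁ W₂ hdisj hcomm ω
  right_inv p := by
    apply Prod.ext
    · apply Subtype.ext
      apply hom_ext_of_sup
      · intro w hw
        show charPart₁ W₁ W₂ hdisj hcomm (p.1.1 * p.2.1) w = p.1.1 w
        rw [charPart₁_of_mem₁ W₁ W₂ hdisj hcomm _ w hw, MonoidHom.mul_apply, p.2.2 w hw, mul_one]
      · intro w hw
        show charPart₁ W₁ W₂ hdisj hcomm (p.1.1 * p.2.1) w = p.1.1 w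
        rw [charPart₁_of_mem₂ W₁ W₂ hdisj hcomm _ w hw, p.1.2 w hw]
    · apply Subtype.ext
      apply hom_ext_of_sup
      · intro w hw
        show charPart₂ W₁ W₂ hdisj hcomm (p.1.1 * p.2.1) w = p.2.1 w
        rw [charPart₂_of_mem₁ W₁ W₂ hdisj hcomm _ w hw, p.2.2 w hw]
      · intro w hw
        show charPart₂ W₁ W₂ hdisj hcomm (p.1.1 * p.2.1) w = p.2.1 w
        rw [charPart₂_of_mem₂ W₁ W₂ hdisj hcomm _ w hw, MonoidHom.mul_apply, p.1.2 w hw, one_mul]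

theorem card_sup_eq_mul [Finite G] (hdisj : W₁ ⊓ W₂ = ⊥)
    (hcomm : ∀ a ∈ W₁, ∀ b ∈ W₂, a * b = b * a) :
    Nat.card ↥(W₁ ⊔ W₂) = Nat.card W₁ * Nat.card W₂ := by
  rw [← Nat.card_prod]
  exact (Nat.card_congr (supMulEquiv W₁ W₂ hdisj hcomm).toEquiv).symm

end Decomp

end Cfsg.Agent.Lib.helper32
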