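import Mathlib
import Cfsg.Agent.Lib.helper32.CyclicTI2
import Cfsg.Agent.Lib.helper32.Coh
import Cfsg.Agent.Lib.helper79.GaloisChar
import Cfsg.Agent.Lib.helper4.DefectZero

set_option autoImplicit false

/-!
# Galois action on a cyclic TI family (helper32 library)

`cyclicTI_pow`: for `m` coprime to `|G|`, `χ ω (g ^ m) = χ (ω ^ m) g`.
`cyclicTI_int`: `χ ω g ∈ ℤ` when the orders of `g` and `ω` are coprime.
-/

namespace Cfsg.Agent.Lib.helper32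

open Polynomial

/-- An algebraic integer of `ℂ` fixed by every field automorphism of `ℂ` is a rational integer. -/
theorem int_of_fixed_by_aut (x : ℂ) (hx : IsIntegral ℤ x) (h : ∀ τ : ℂ ≃+* ℂ, τ x = x) :
    ∃ n : ℤ, x = n := by
  have hxQ : IsIntegral ℚ x := hx.tower_top
  set p := minpoly ℚ x with hp
  have hsplit : (p.map (algebraMap ℚ ℂ)).Splits := IsAlgClosed.splits _
  let K : IntermediateField ℚ ℂ := IntermediateField.adjoin ℚ (p.rootSet ℂ)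
  have : p.IsSplittingField ℚ K := IntermediateField.adjoin_rootSet_isSplittingField hsplit
  have : Normal ℚ K := Normal.of_isSplittingField p
  have hp0 : p ≠ 0 := minpoly.ne_zero hxQ
  have hxroot : x ∈ p.rootSet ℂ := by
    rw [Polynomial.mem_rootSet]
    exact ⟨hp0, minpoly.aeval ℚ x⟩
  have hroots : ∀ y ∈ p.rootSet ℂ, y = x := by
    intro y hy
    have hxK : x ∈ K := IntermediateField.subset_adjoin ℚ _ hxroot
    have hyK : y ∈ K := IntermediateField.subset_adjoin ℚ _ hy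
    have hy0 : Polynomial.aeval y p = 0 := (Polynomial.mem_rootSet.mp hy).2
    have hmin : minpoly ℚ (⟨x, hxK⟩ : K) = p := by
      rw [hp]
      exact (IntermediateField.minpoly_eq (⟨x, hxK⟩ : K))
    have hev : Polynomial.aeval (⟨y, hyK⟩ : K) (minpoly ℚ (⟨x, hxK⟩ : K)) = 0 := by
      rw [hmin]
      apply Subtype.ext
      have := Polynomial.aeval_algebraMap_apply ℂ (⟨y, hyK⟩ : K) p
      simpa [hy0] using this.symm
    have halg : IsAlgebraic ℚ (⟨x, hxK⟩ : K) := (Algebra.IsAlgebraic.isAlgebraic _)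
    obtain ⟨σ, hσ⟩ := minpoly.exists_algEquiv_of_root halg hev
    obtain ⟨τ, hτ⟩ := Cfsg.Agent.Lib.helper79.exists_ringEquiv_complex_extending
      (K.val : K →+* ℂ) σ.toRingEquiv
    have h1 := hτ ⟨y, hyK⟩
    have h2 : τ y = x := by
      have : (K.val : K →+* ℂ) (σ.toRingEquiv ⟨y, hyK⟩) = x := by
        show ((σ ⟨y, hyK⟩ : K) : ℂ) = x
        rw [hσ]
      rw [← this]
      exact h1
    have h3 : τ.symm x = x := h τ.symm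
    rw [← h3, ← h2, RingEquiv.symm_apply_apply]
  have hsep : p.Separable := (minpoly.irreducible hxQ).separable
  have hcard := Polynomial.card_rootSet_eq_natDegree hsep hsplit
  have hdeg : p.natDegree = 1 := by
    rw [← hcard]
    rw [Fintype.card_eq_one_iff]
    exact ⟨⟨x, hxroot⟩, fun y => Subtype.ext (hroots y.1 y.2)⟩
  obtain ⟨q, hq⟩ := (minpoly.natDegree_eq_one_iff).mp hdeg
  have hq' : (q : ℂ) = x := hq
  have hqint : IsIntegral ℤ q := by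
    have : IsIntegral ℤ (algebraMap ℚ ℂ q) := by
      rw [show algebraMap ℚ ℂ q = x from hq]
      exact hx
    exact (isIntegral_algebraMap_iff (algebraMap ℚ ℂ).injective).mp this
  obtain ⟨n, hn⟩ := IsIntegrallyClosed.isIntegral_iff.mp hqint
  refine ⟨n, ?_⟩
  rw [← hq', ← hn]
  simp

/-- Lift a unit modulo `N₁` (and `1` modulo a coprime `N₂`) to something coprime to `n`. -/
theorem exists_coprime_lift (n N₁ N₂ m : ℕ) (hn : 0 < n) (h1 : N₁ ∣ n) (h2 : N₂ ∣ n)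
    (hcop : N₁.Coprime N₂) (hm : m.Coprime n) :
    ∃ m' : ℕ, m'.Coprime n ∧ m' ≡ m [MOD N₁] ∧ m' ≡ 1 [MOD N₂] := by
  have : NeZero n := ⟨hn.ne'⟩
  obtain ⟨k, hk1, hk2⟩ := Nat.chineseRemainder hcop m 1
  have hdvd : N₁ * N₂ ∣ n := hcop.mul_dvd_of_dvd_of_dvd h1 h2
  have hkc : k.Coprime (N₁ * N₂) := by
    apply Nat.Coprime.mul_right
    · rw [Nat.Coprime, hk1.gcd_eq]
      exact hm.coprime_dvd_right h1
    · rw [Nat.Coprime, hk2.gcd_eq]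
      exact Nat.gcd_one_left _
  obtain ⟨u, hu⟩ := ZMod.unitsMap_surjective hdvd (ZMod.unitOfCoprime k hkc)
  have hu' : ((u : ZMod n).cast : ZMod (N₁ * N₂)) = (k : ZMod (N₁ * N₂)) := by
    have := congrArg (fun x : (ZMod (N₁ * N₂))ˣ => (x : ZMod (N₁ * N₂))) hu
    simpa [ZMod.unitsMap_val, ZMod.coe_unitOfCoprime] using this
  have hmod : (u : ZMod n).val ≡ k [MOD N₁ * N₂] := by
    rw [← ZMod.natCast_eq_natCast_iff, ← hu']
    conv_rhs => rw [← ZMod.natCast_zmod_val (u : ZMod n)]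
    rw [ZMod.cast_natCast hdvd]
  refine ⟨(u : ZMod n).val, ZMod.val_coe_unit_coprime u, ?_, ?_⟩
  · exact (Nat.ModEq.of_mul_right N₂ hmod).trans hk1
  · exact (Nat.ModEq.of_mul_left N₁ hmod).trans hk2

theorem extendByZero_pow_coprime {G : Type*} [Group G] [Finite G] (H : Subgroup G) (f : H → ℂ)
    (m : ℕ) (hm : m.Coprime (Nat.card G)) (y : G) :
    Cfsg.extendByZero H f (y ^ m) = Cfsg.extendByZero H (fun h => f (h ^ m)) y := by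
  by_cases hy : y ∈ H
  · rw [extendByZero_apply_mem H _ y hy, extendByZero_apply_mem H f (y ^ m) (H.pow_mem hy m)]
    rfl
  · have hy' : y ^ m ∉ H := by
      intro h
      obtain ⟨k, hk⟩ := exists_pow_eq_self_of_coprime
        (hm.coprime_dvd_right (orderOf_dvd_natCard y))
      apply hy
      rw [← hk]
      exact H.pow_mem h k
    rw [extendByZero_apply_not_mem H _ y hy, extendByZero_apply_not_mem H f _ hy']

theorem indFun_pow_coprime {G : Type*} [Group G] [Fintype G] (H : Subgroup G) (f : H → ℂ)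
    (m : ℕ) (hm : m.Coprime (Nat.card G)) (g : G) :
    Cfsg.indFun H f (g ^ m) = Cfsg.indFun H (fun h => f (h ^ m)) g := by
  unfold Cfsg.indFun
  congr 1
  apply Finset.sum_congr rfl
  intro x _
  rw [← extendByZero_pow_coprime H f m hm]
  congr 1
  have := conj_pow (a := x⁻¹) (b := g) (i := m)
  simpa using this.symm

theorem hom_pow_card {A : Type*} [Group A] [Finite A] (ω : A →* ℂˣ) :
    ω ^ (Nat.card A) = 1 := by
  ext a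
  rw [MonoidHom.pow_apply, ← map_pow, pow_card_eq_one', map_one]
  rfl

theorem hom_pow_eq_one {A : Type*} [Group A] [Finite A] (ω : A →* ℂˣ) (m : ℕ)
    (hm : m.Coprime (Nat.card A)) (h : ω ^ m = 1) : ω = 1 := by
  have h3 : orderOf ω ∣ m := orderOf_dvd_of_pow_eq_one h
  have h4 : orderOf ω ∣ Nat.card A := orderOf_dvd_of_pow_eq_one (hom_pow_card ω)
  have h5 : orderOf ω = 1 := Nat.eq_one_of_dvd_coprimes hm h3 h4
  exact orderOf_eq_one_iff.mp h5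

theorem hom_pow_injective {A : Type*} [Group A] [Finite A] (m : ℕ)
    (hm : m.Coprime (Nat.card A)) (ω ω' : A →* ℂˣ) (h : ω ^ m = ω' ^ m) : ω = ω' := by
  have h1 : (ω * ω'⁻¹) ^ m = 1 := by
    ext a
    have := DFunLike.congr_fun h a
    rw [MonoidHom.pow_apply, MonoidHom.pow_apply] at this
    rw [MonoidHom.pow_apply, MonoidHom.mul_apply, MonoidHom.inv_apply, mul_pow, inv_pow, this,
      mul_inv_cancel]
    rfl
  exact mul_inv_eq_one.mp (hom_pow_eq_one _ m hm h1)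

theorem exists_two_ne {T : Type*} (h : 2 < Nat.card T) (t₀ : T) :
    ∃ a b : T, a ≠ t₀ ∧ b ≠ t₀ ∧ a ≠ b := by
  classical
  have : Finite T := Nat.finite_of_card_ne_zero (by omega)
  have := Fintype.ofFinite T
  rw [Nat.card_eq_fintype_card] at h
  obtain ⟨a, b, c, hab, hac, hbc⟩ := Fintype.two_lt_card_iff.mp h
  by_cases h1 : a = t₀
  · subst h1
    exact ⟨b, c, hab.symm, hac.symm, hbc⟩
  · by_cases h2 : b = t₀
    · subst h2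
      exact ⟨a, c, h1, hbc.symm, hac⟩
    · exact ⟨a, b, h1, h2, hab⟩

/-- In an orthogonal family of signed irreducible characters, a signed irreducible character `a`
satisfying two "triangle" relations with a common vertex `i₀` is `c i₀`. -/
theorem signed_family_unique {X : Type*} [Group X] [Fintype X] {ι : Type*} (c : ι → X → ℂ)
    (hc : ∀ i, Cfsg.IsIrrCharacter X (c i) ∨ Cfsg.IsIrrCharacter X (-c i))
    (horth : ∀ i j, i ≠ j → Cfsg.classInner (c i) (c j) = 0)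
    (a : X → ℂ) (ha : Cfsg.IsIrrCharacter X a ∨ Cfsg.IsIrrCharacter X (-a))
    (i₀ j₁ k₁ j₂ k₂ : ι) (h01 : i₀ ≠ j₁) (h02 : i₀ ≠ k₁) (h1 : j₁ ≠ j₂) (h2 : j₁ ≠ k₂)
    (h3 : k₁ ≠ j₂) (h4 : k₁ ≠ k₂)
    (e1 : Cfsg.classInner (c i₀) a + Cfsg.classInner (c j₁) a - Cfsg.classInner (c k₁) a = 1)
    (e2 : Cfsg.classInner (c i₀) a + Cfsg.classInner (c j₂) a - Cfsg.classInner (c k₂) a = 1) :
    a = c i₀ := by
  have nz : ∀ i j, i ≠ j → Cfsg.classInner (c j) a ≠ 0 → Cfsg.classInner (c i) a = 0 := by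
    intro i j hij hj
    rcases signed_irr_inner (c j) a (hc j) ha with h | ⟨h, -⟩ | ⟨h, -⟩
    · exact absurd h hj
    · rw [h]; exact horth i j hij
    · rw [h, classInner_neg_right, horth i j hij, neg_zero]
  rcases signed_irr_inner (c i₀) a (hc i₀) ha with h | ⟨h, -⟩ | ⟨-, h⟩
  · -- x₀ = 0
    rw [h, zero_add] at e1 e2
    by_cases hj : Cfsg.classInner (c j₁) a = 0
    · rw [hj, zero_sub] at e1
      have hk : Cfsg.classInner (c k₁) a ≠ 0 := by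
        intro h'
        rw [h'] at e1
        norm_num at e1
      rw [nz j₂ k₁ h3.symm hk, nz k₂ k₁ h4.symm hk] at e2
      norm_num at e2
    · rw [nz j₂ j₁ h1.symm hj, nz k₂ j₁ h2.symm hj] at e2
      norm_num at e2
  · exact h
  · have h0 : Cfsg.classInner (c i₀) a ≠ 0 := by rw [h]; norm_num
    rw [nz j₁ i₀ h01.symm h0, nz k₁ i₀ h02.symm h0, h] at e1
    norm_num at e1

/-- Uniqueness of the decomposition of a linear character of `W₁ ⊔ W₂`. -/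
theorem charDecomp_unique {G : Type*} [Group G] (W₁ W₂ : Subgroup G)
    (φ φ' ψ ψ' : ↥(W₁ ⊔ W₂) →* ℂˣ)
    (hφ : ∀ w : ↥(W₁ ⊔ W₂), (w : G) ∈ W₂ → φ w = 1)
    (hφ' : ∀ w : ↥(W₁ ⊔ W₂), (w : G) ∈ W₂ → φ' w = 1)
    (hψ : ∀ w : ↥(W₁ ⊔ W₂), (w : G) ∈ W₁ → ψ w = 1)
    (hψ' : ∀ w : ↥(W₁ ⊔ W₂), (w : G) ∈ W₁ → ψ' w = 1)
    (h : φ * ψ = φ' * ψ') : φ = φ' ∧ ψ = ψ' := by
  constructor
  · apply hom_ext_of_sup
    · intro w hw
      have := DFunLike.congr_fun h w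
      rw [MonoidHom.mul_apply, MonoidHom.mul_apply, hψ w hw, hψ' w hw, mul_one, mul_one] at this
      exact this
    · intro w hw
      rw [hφ w hw, hφ' w hw]
  · apply hom_ext_of_sup
    · intro w hw
      rw [hψ w hw, hψ' w hw]
    · intro w hw
      have := DFunLike.congr_fun h w
      rw [MonoidHom.mul_apply, MonoidHom.mul_apply, hφ w hw, hφ' w hw, one_mul, one_mul] at this
      exact this

theorem hom_mul_eq_left' {A : Type*} [Group A] (φ ψ : A →* ℂˣ) (h : φ * ψ = φ) : ψ = 1 :=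
  (mul_eq_left (a := φ) (b := ψ)).mp h

theorem hom_mul_eq_right' {A : Type*} [Group A] (φ ψ : A →* ℂˣ) (h : φ * ψ = ψ) : φ = 1 :=
  (mul_eq_right (a := φ) (b := ψ)).mp h

theorem hom_one_mul' {A : Type*} [Group A] (ψ : A →* ℂˣ) : 1 * ψ = ψ := one_mul ψ

theorem hom_mul_one' {A : Type*} [Group A] (ψ : A →* ℂˣ) : ψ * 1 = ψ := mul_one ψ

theorem hom_one_pow' {A : Type*} [Group A] (m : ℕ) : (1 : A →* ℂˣ) ^ m = 1 :=
  one_pow (M := A →* ℂˣ) m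

open Classical in
/-- Galois action on a cyclic TI family: for `m` coprime to `|G|`, `χ ω (g ^ m) = χ (ω ^ m) g`. -/
theorem cyclicTI_pow {G : Type*} [Group G] [Fintype G] (W₁ W₂ : Subgroup G)
    (hW : Cfsg.IsSelfNormalizingCyclic W₁ W₂) (hodd : Odd (Nat.card ↥(W₁ ⊔ W₂)))
    (χ : (↥(W₁ ⊔ W₂) →* ℂˣ) → (G → ℂ)) (hχ : Cfsg.IsCyclicTIFamily W₁ W₂ χ)
    (m : ℕ) (hm : m.Coprime (Nat.card G)) (ω : ↥(W₁ ⊔ W₂) →* ℂˣ) :
    (fun g => χ ω (g ^ m)) = χ (ω ^ m) := by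
  obtain ⟨hW₁, hW₂, hdisj, hcomm, hcyc, -⟩ := hW
  have hmW : m.Coprime (Nat.card ↥(W₁ ⊔ W₂)) :=
    hm.coprime_dvd_right (Subgroup.card_subgroup_dvd_card _)
  have hcard := card_sup_eq_mul W₁ W₂ hdisj hcomm
  have hodd₁ : Odd (Nat.card W₁) := by rw [hcard] at hodd; exact (Nat.odd_mul.mp hodd).1
  have hodd₂ : Odd (Nat.card W₂) := by rw [hcard] at hodd; exact (Nat.odd_mul.mp hodd).2
  have h3₁ : 2 < Nat.card W₁ := by
    have h1 : Nat.card W₁ ≠ 1 := fun h => hW₁ ((Subgroup.eq_bot_iff_card W₁).mpr h)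
    have h0 : 0 < Nat.card W₁ := Nat.card_pos
    obtain ⟨k, hk⟩ := hodd₁
    omega
  have h3₂ : 2 < Nat.card W₂ := by
    have h1 : Nat.card W₂ ≠ 1 := fun h => hW₂ ((Subgroup.eq_bot_iff_card W₂).mpr h)
    have h0 : 0 < Nat.card W₂ := Nat.card_pos
    obtain ⟨k, hk⟩ := hodd₂
    omega
  have hab₁ : ∀ a ∈ W₁, ∀ b ∈ W₁, a * b = b * a := fun a ha b hb =>
    comm_of_isCyclic_sup W₁ W₂ hcyc a b (Subgroup.mem_sup_left ha) (Subgroup.mem_sup_left hb)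
  have hab₂ : ∀ a ∈ W₂, ∀ b ∈ W₂, a * b = b * a := fun a ha b hb =>
    comm_of_isCyclic_sup W₁ W₂ hcyc a b (Subgroup.mem_sup_right ha) (Subgroup.mem_sup_right hb)
  -- the twisted family
  set χ' : (↥(W₁ ⊔ W₂) →* ℂˣ) → (G → ℂ) := fun ω g => χ ω (g ^ m) with hχ'
  have hirr' : ∀ ω, Cfsg.IsIrrCharacter G (χ' ω) ∨ Cfsg.IsIrrCharacter G (-χ' ω) := by
    intro ω
    rcases hχ.irr_or_neg ω with h | h
    · left; exact Cfsg.Agent.Lib.helper79.isIrrCharacter_pow_coprime m hm h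
    · right; exact Cfsg.Agent.Lib.helper79.isIrrCharacter_pow_coprime m hm h
  have horth' : ∀ ω ω', Cfsg.classInner (χ' ω) (χ' ω') = if ω = ω' then 1 else 0 := by
    intro ω ω'
    have h' : Cfsg.classInner (χ' ω) (χ' ω') = Cfsg.classInner (χ ω) (χ ω') :=
      Cfsg.Agent.Lib.helper79.classInner_pow_coprime m hm (χ ω) (χ ω')
    rw [h', hχ.orthonormal ω ω']
    by_cases h : ω = ω'
    · rw [if_pos h, if_pos h]
    · rw [if_neg h, if_neg h]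
  have hpow_ne : ∀ φ : ↥(W₁ ⊔ W₂) →* ℂˣ, φ ≠ 1 → φ ^ m ≠ 1 :=
    fun φ hφ h => hφ (hom_pow_eq_one φ m hmW h)
  have hpow_inj : ∀ φ ψ : ↥(W₁ ⊔ W₂) →* ℂˣ, φ ^ m = ψ ^ m → φ = ψ := hom_pow_injective m hmW
  have htriv₂ : ∀ φ : ↥(W₁ ⊔ W₂) →* ℂˣ, (∀ w : ↥(W₁ ⊔ W₂), (w : G) ∈ W₂ → φ w = 1) →
      ∀ w : ↥(W₁ ⊔ W₂), (w : G) ∈ W₂ → (φ ^ m) w = 1 := by
    intro φ h w hw
    rw [MonoidHom.pow_apply, h w hw, one_pow]
  have htriv₁ : ∀ φ : ↥(W₁ ⊔ W₂) →* ℂˣ, (∀ w : ↥(W₁ ⊔ W₂), (w : G) ∈ W₁ → φ w = 1) →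
      ∀ w : ↥(W₁ ⊔ W₂), (w : G) ∈ W₁ → (φ ^ m) w = 1 := by
    intro φ h w hw
    rw [MonoidHom.pow_apply, h w hw, one_pow]
  have E1 : ∀ φ ψ : ↥(W₁ ⊔ W₂) →* ℂˣ, φ ≠ 1 → ψ ≠ 1 →
      (∀ w : ↥(W₁ ⊔ W₂), (w : G) ∈ W₂ → φ w = 1) →
      (∀ w : ↥(W₁ ⊔ W₂), (w : G) ∈ W₁ → ψ w = 1) →
      χ (φ ^ m) + χ (ψ ^ m) - χ (φ ^ m * ψ ^ m) = χ' φ + χ' ψ - χ' (φ * ψ) := by
    intro φ ψ hφ hψ hφ2 hψ1
    funext g
    have h1 := congrFun (hχ.induced_eq φ ψ hφ hψ hφ2 hψ1) (g ^ m)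
    have h2 := congrFun (hχ.induced_eq (φ ^ m) (ψ ^ m) (hpow_ne φ hφ) (hpow_ne ψ hψ)
      (htriv₂ φ hφ2) (htriv₁ ψ hψ1)) g
    rw [indFun_pow_coprime _ _ m hm] at h1
    have h3 : (fun h : ↥(W₁ ⊔ W₂) => (1 : ℂ) - (φ (h ^ m) : ℂ) - (ψ (h ^ m) : ℂ)
        + (φ (h ^ m) : ℂ) * (ψ (h ^ m) : ℂ)) =
        fun w => 1 - ((φ ^ m) w : ℂ) - ((ψ ^ m) w : ℂ) + ((φ ^ m) w : ℂ) * ((ψ ^ m) w : ℂ) := by
      funext h
      simp only [map_pow, MonoidHom.pow_apply]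
    rw [h3, h2] at h1
    show χ (φ ^ m) g + χ (ψ ^ m) g - χ (φ ^ m * ψ ^ m) g =
      χ φ (g ^ m) + χ ψ (g ^ m) - χ (φ * ψ) (g ^ m)
    linear_combination -h1
  have einner : ∀ φ ψ : ↥(W₁ ⊔ W₂) →* ℂˣ, φ ≠ 1 → ψ ≠ 1 →
      (∀ w : ↥(W₁ ⊔ W₂), (w : G) ∈ W₂ → φ w = 1) →
      (∀ w : ↥(W₁ ⊔ W₂), (w : G) ∈ W₁ → ψ w = 1) → ∀ ω₀ : ↥(W₁ ⊔ W₂) →* ℂˣ,
      Cfsg.classInner (χ (φ ^ m)) (χ' ω₀) + Cfsg.classInner (χ (ψ ^ m)) (χ' ω₀)
        - Cfsg.classInner (χ (φ ^ m * ψ ^ m)) (χ' ω₀) =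
      (if φ = ω₀ then 1 else 0) + (if ψ = ω₀ then 1 else 0) - (if φ * ψ = ω₀ then 1 else 0) := by
    intro φ ψ hφ hψ hφ2 hψ1 ω₀
    rw [← classInner_add_left, ← classInner_sub_left, E1 φ ψ hφ hψ hφ2 hψ1, classInner_sub_left,
      classInner_add_left, horth', horth', horth']
  have hne12 : ∀ φ ψ : ↥(W₁ ⊔ W₂) →* ℂˣ, φ ≠ 1 →
      (∀ w : ↥(W₁ ⊔ W₂), (w : G) ∈ W₂ → φ w = 1) →
      (∀ w : ↥(W₁ ⊔ W₂), (w : G) ∈ W₁ → ψ w = 1) → φ ≠ ψ := by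
    intro φ ψ hφ h2 h1 h
    apply hφ
    apply hom_eq_one_of_sup
    · intro w hw; rw [h]; exact h1 w hw
    · exact h2
  have hone₂ : ∀ w : ↥(W₁ ⊔ W₂), (w : G) ∈ W₂ → (1 : ↥(W₁ ⊔ W₂) →* ℂˣ) w = 1 := fun _ _ => rfl
  have hone₁ : ∀ w : ↥(W₁ ⊔ W₂), (w : G) ∈ W₁ → (1 : ↥(W₁ ⊔ W₂) →* ℂˣ) w = 1 := fun _ _ => rfl
  -- Step A
  have stepA : ∀ φ : ↥(W₁ ⊔ W₂) →* ℂˣ, φ ≠ 1 →
      (∀ w : ↥(W₁ ⊔ W₂), (w : G) ∈ W₂ → φ w = 1) → χ' φ = χ (φ ^ m) := by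
    intro φ hφ h2
    obtain ⟨ψ₁, ψ₂, hψ₁, hψ₂, hne⟩ := exists_two_ne
      (T := {ψ : ↥(W₁ ⊔ W₂) →* ℂˣ // ∀ w : ↥(W₁ ⊔ W₂), (w : G) ∈ W₁ → ψ w = 1})
      (by rw [card_charsTrivialOn₁ W₁ W₂ hdisj hcomm hab₂]; exact h3₂) ⟨1, hone₁⟩
    have hψ₁' : ψ₁.1 ≠ 1 := fun h => hψ₁ (Subtype.ext h)
    have hψ₂' : ψ₂.1 ≠ 1 := fun h => hψ₂ (Subtype.ext h)
    have hne' : ψ₁.1 ≠ ψ₂.1 := fun h => hne (Subtype.ext h)
    apply signed_family_unique χ hχ.irr_or_neg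
      (fun i j hij => by rw [hχ.orthonormal, if_neg hij]) (χ' φ) (hirr' φ)
      (φ ^ m) (ψ₁.1 ^ m) (φ ^ m * ψ₁.1 ^ m) (ψ₂.1 ^ m) (φ ^ m * ψ₂.1 ^ m)
    · exact fun h => hne12 φ ψ₁.1 hφ h2 ψ₁.2 (hpow_inj _ _ h)
    · intro h
      exact hpow_ne _ hψ₁' (hom_mul_eq_left' _ _ h.symm)
    · exact fun h => hne' (hpow_inj _ _ h)
    · intro h
      have := charDecomp_unique W₁ W₂ 1 (φ ^ m) (ψ₁.1 ^ m) (ψ₂.1 ^ m) hone₂ (htriv₂ φ h2)
        (htriv₁ _ ψ₁.2) (htriv₁ _ ψ₂.2) ((hom_one_mul' _).trans h)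
      exact hpow_ne φ hφ this.1.symm
    · intro h
      have := charDecomp_unique W₁ W₂ (φ ^ m) 1 (ψ₁.1 ^ m) (ψ₂.1 ^ m) (htriv₂ φ h2) hone₂
        (htriv₁ _ ψ₁.2) (htriv₁ _ ψ₂.2) (h.trans (hom_one_mul' _).symm)
      exact hpow_ne φ hφ this.1
    · intro h
      exact hne' (hpow_inj _ _ (mul_left_cancel h))
    · rw [einner φ ψ₁.1 hφ hψ₁' h2 ψ₁.2 φ, if_pos rfl,
        if_neg (fun h => hne12 φ ψ₁.1 hφ h2 ψ₁.2 h.symm),
        if_neg (fun h => hψ₁' (hom_mul_eq_left' _ _ h))]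
      ring
    · rw [einner φ ψ₂.1 hφ hψ₂' h2 ψ₂.2 φ, if_pos rfl,
        if_neg (fun h => hne12 φ ψ₂.1 hφ h2 ψ₂.2 h.symm),
        if_neg (fun h => hψ₂' (hom_mul_eq_left' _ _ h))]
      ring
  -- Step B
  have stepB : ∀ ψ : ↥(W₁ ⊔ W₂) →* ℂˣ, ψ ≠ 1 →
      (∀ w : ↥(W₁ ⊔ W₂), (w : G) ∈ W₁ → ψ w = 1) → χ' ψ = χ (ψ ^ m) := by
    intro ψ hψ h1
    obtain ⟨φ₁, φ₂, hφ₁, hφ₂, hne⟩ := exists_two_ne
      (T := {φ : ↥(W₁ ⊔ W₂) →* ℂˣ // ∀ w : ↥(W₁ ⊔ W₂), (w : G) ∈ W₂ → φ w = 1})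
      (by rw [card_charsTrivialOn₂ W₁ W₂ hdisj hcomm hab₁]; exact h3₁) ⟨1, hone₂⟩
    have hφ₁' : φ₁.1 ≠ 1 := fun h => hφ₁ (Subtype.ext h)
    have hφ₂' : φ₂.1 ≠ 1 := fun h => hφ₂ (Subtype.ext h)
    have hne' : φ₁.1 ≠ φ₂.1 := fun h => hne (Subtype.ext h)
    apply signed_family_unique χ hχ.irr_or_neg
      (fun i j hij => by rw [hχ.orthonormal, if_neg hij]) (χ' ψ) (hirr' ψ)
      (ψ ^ m) (φ₁.1 ^ m) (φ₁.1 ^ m * ψ ^ m) (φ₂.1 ^ m) (φ₂.1 ^ m * ψ ^ m)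
    · exact fun h => hne12 φ₁.1 ψ hφ₁' φ₁.2 h1 (hpow_inj _ _ h.symm)
    · intro h
      exact hpow_ne _ hφ₁' (hom_mul_eq_right' _ _ h.symm)
    · exact fun h => hne' (hpow_inj _ _ h)
    · intro h
      have := charDecomp_unique W₁ W₂ (φ₁.1 ^ m) (φ₂.1 ^ m) 1 (ψ ^ m) (htriv₂ _ φ₁.2)
        (htriv₂ _ φ₂.2) hone₁ (htriv₁ ψ h1) ((hom_mul_one' _).trans h)
      exact hpow_ne ψ hψ this.2.symm
    · intro h
      have := charDecomp_unique W₁ W₂ (φ₁.1 ^ m) (φ₂.1 ^ m) (ψ ^ m) 1 (htriv₂ _ φ₁.2)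
        (htriv₂ _ φ₂.2) (htriv₁ ψ h1) hone₁ (h.trans (hom_mul_one' _).symm)
      exact hpow_ne ψ hψ this.2
    · intro h
      exact hne' (hpow_inj _ _ (mul_right_cancel h))
    · have e := einner φ₁.1 ψ hφ₁' hψ φ₁.2 h1 ψ
      rw [if_pos rfl, if_neg (fun h => hne12 φ₁.1 ψ hφ₁' φ₁.2 h1 h),
        if_neg (fun h => hφ₁' (hom_mul_eq_right' _ _ h))] at e
      linear_combination e
    · have e := einner φ₂.1 ψ hφ₂' hψ φ₂.2 h1 ψ
      rw [if_pos rfl, if_neg (fun h => hne12 φ₂.1 ψ hφ₂' φ₂.2 h1 h),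
        if_neg (fun h => hφ₂' (hom_mul_eq_right' _ _ h))] at e
      linear_combination e
  -- Step C
  have stepC : ∀ φ ψ : ↥(W₁ ⊔ W₂) →* ℂˣ, φ ≠ 1 → ψ ≠ 1 →
      (∀ w : ↥(W₁ ⊔ W₂), (w : G) ∈ W₂ → φ w = 1) →
      (∀ w : ↥(W₁ ⊔ W₂), (w : G) ∈ W₁ → ψ w = 1) → χ' (φ * ψ) = χ ((φ * ψ) ^ m) := by
    intro φ ψ hφ hψ h2 h1
    have e := E1 φ ψ hφ hψ h2 h1
    rw [stepA φ hφ h2, stepB ψ hψ h1] at e
    rw [show (φ * ψ) ^ m = φ ^ m * ψ ^ m from mul_pow φ ψ m]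
    exact (sub_right_injective e).symm
  show χ' ω = χ (ω ^ m)
  obtain ⟨φ, ψ, hω, h2, h1⟩ : ∃ φ ψ : ↥(W₁ ⊔ W₂) →* ℂˣ, φ * ψ = ω ∧
      (∀ w : ↥(W₁ ⊔ W₂), (w : G) ∈ W₂ → φ w = 1) ∧
      (∀ w : ↥(W₁ ⊔ W₂), (w : G) ∈ W₁ → ψ w = 1) :=
    ⟨_, _, charPart_mul W₁ W₂ hdisj hcomm ω, charPart₁_of_mem₂ W₁ W₂ hdisj hcomm ω,
      charPart₂_of_mem₁ W₁ W₂ hdisj hcomm ω⟩
  subst hω
  by_cases hφ : φ = 1
  · by_cases hψ : ψ = 1
    · subst hφ hψ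
      rw [hom_one_mul', hom_one_pow']
      funext g
      show χ 1 (g ^ m) = χ 1 g
      rw [hχ.map_one]
    · subst hφ
      rw [hom_one_mul']
      exact stepB ψ hψ h1
  · by_cases hψ : ψ = 1
    · subst hψ
      rw [hom_mul_one']
      exact stepA φ hφ h2
    · exact stepC φ ψ hφ hψ h2 h1

/-- `χ ω g` is a rational integer when the orders of `g` and `ω` are coprime. -/
theorem cyclicTI_int {G : Type*} [Group G] [Fintype G] (W₁ W₂ : Subgroup G)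
    (hW : Cfsg.IsSelfNormalizingCyclic W₁ W₂) (hodd : Odd (Nat.card ↥(W₁ ⊔ W₂)))
    (χ : (↥(W₁ ⊔ W₂) →* ℂˣ) → (G → ℂ)) (hχ : Cfsg.IsCyclicTIFamily W₁ W₂ χ)
    (ω : ↥(W₁ ⊔ W₂) →* ℂˣ) (g : G) (hg : Nat.Coprime (orderOf g) (orderOf ω)) :
    ∃ n : ℤ, χ ω g = n := by
  have hchar : ∀ {θ : G → ℂ}, Cfsg.IsIrrCharacter G θ → Cfsg.IsCharacter G θ := by
    intro θ hθ
    obtain ⟨d, ρ, -, h⟩ := hθ
    exact ⟨d, ρ, h⟩
  apply int_of_fixed_by_aut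
  · rcases hχ.irr_or_neg ω with h | h
    · exact Cfsg.Agent.Lib.helper4.isIntegral_of_isCharacter (hchar h) g
    · have h1 := Cfsg.Agent.Lib.helper4.isIntegral_of_isCharacter (hchar h) g
      have h2 : χ ω g = -((-χ ω) g) := by simp
      rw [h2]
      exact h1.neg
  · intro τ
    obtain ⟨m, hm, hτ⟩ := Cfsg.Agent.Lib.helper79.exists_pow_of_ringHom (G := G) (τ : ℂ →+* ℂ)
    have h1 : τ (χ ω g) = χ ω (g ^ m) := by
      rcases hχ.irr_or_neg ω with h | h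
      · exact hτ _ (hchar h) g
      · have h' := hτ _ (hchar h) g
        simp only [Pi.neg_apply, map_neg, neg_inj] at h'
        exact h'
    have hord : orderOf ω ∣ Nat.card G :=
      (orderOf_dvd_of_pow_eq_one (hom_pow_card ω)).trans (Subgroup.card_subgroup_dvd_card _)
    obtain ⟨m', hm', hm1, hm2⟩ := exists_coprime_lift (Nat.card G) (orderOf g) (orderOf ω) m
      Nat.card_pos (orderOf_dvd_natCard g) hord hg hm
    have h2 : g ^ m = g ^ m' := pow_eq_pow_iff_modEq.mpr hm1.symm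
    have h3 : ω ^ m' = ω :=
      ((pow_eq_pow_iff_modEq (x := ω) (n := m') (m := 1)).mpr hm2).trans (pow_one ω)
    have h4 := congrFun (cyclicTI_pow W₁ W₂ hW hodd χ hχ m' hm' ω) g
    rw [h1, h2]
    rw [show χ ω (g ^ m') = χ (ω ^ m') g from h4, h3]

end Cfsg.Agent.Lib.helper32
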