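import Mathlib
import Cfsg.Agent.S0033
import Cfsg.Agent.Lib.helper62.FrobExtract

/-!
# S0690 piece A (`lin_a`): a nontrivial group of fixed-point-free automorphisms of a finite
group `K` has a fixed-point-free module of prime exponent not dividing its order.
-/

set_option autoImplicit false

namespace Cfsg.Agent.Lib.helper32

open Cfsg.Agent.Lib.helper62.FrobExtract

universe u

/-- restriction of automorphisms to a subgroup invariant under all automorphisms -/
def zassRes {K : Type*} [Group K] (V : Subgroup K) (hV : ∀ a : MulAut K, ∀ x ∈ V, a x ∈ V) :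
    MulAut K →* MulAut V where
  toFun a :=
    { toFun := fun x => ⟨a x, hV a x x.2⟩
      invFun := fun x => ⟨a⁻¹ x, hV a⁻¹ x x.2⟩
      left_inv := fun x => Subtype.ext (by simp)
      right_inv := fun x => Subtype.ext (by simp)
      map_mul' := fun x y => Subtype.ext (by simp) }
  map_one' := by
    ext x
    rfl
  map_mul' a b := by
    ext x
    rfl

theorem zassRes_apply {K : Type*} [Group K] (V : Subgroup K)
    (hV : ∀ a : MulAut K, ∀ x ∈ V, a x ∈ V) (a : MulAut K) (x : V) :
    ((zassRes V hV a x : V) : K) = a x := rfl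

/-- **Piece A.** -/
theorem lin_a {K : Type u} [Group K] [Finite K] (G : Subgroup (MulAut K))
    (hfpf : ∀ φ ∈ G, φ ≠ 1 → ∀ k : K, φ k = k → k = 1) (hne : G ≠ ⊥) :
    HasFpfMod.{u, u} G := by
  classical
  have hfinA : Finite (MulAut K) :=
    Finite.of_injective (fun a : MulAut K => (a : K → K)) DFunLike.coe_injective
  have hG1 : Nat.card G ≠ 1 := fun h => hne (Subgroup.card_eq_one.mp h)
  obtain ⟨q, hq, hqG⟩ := Nat.exists_prime_and_dvd hG1
  have hqF : Fact q.Prime := ⟨hq⟩
  obtain ⟨φ, hφ⟩ := exists_prime_orderOf_dvd_card' q hqG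
  have hφ1 : (φ : MulAut K) ≠ 1 := by
    intro h
    have : φ = 1 := Subtype.ext h
    rw [this, orderOf_one] at hφ
    exact hq.one_lt.ne hφ
  have hnil : Group.IsNilpotent K :=
    Cfsg.Agent.S0033.result (φ : MulAut K) (fun g hg => hfpf φ φ.2 hφ1 g hg) q hq
      (by rw [Subgroup.orderOf_coe]; exact hφ)
  have hKnt : Nontrivial K := by
    by_contra h
    rw [not_nontrivial_iff_subsingleton] at h
    apply hφ1
    exact MulEquiv.ext fun x => Subsingleton.elim _ _
  have hZ : Subgroup.center K ≠ ⊥ := Group.IsNilpotent.center_ne_bot K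
  have hZ1 : Nat.card (Subgroup.center K) ≠ 1 := fun h => hZ (Subgroup.card_eq_one.mp h)
  obtain ⟨r, hr, hrZ⟩ := Nat.exists_prime_and_dvd hZ1
  have hrF : Fact r.Prime := ⟨hr⟩
  obtain ⟨z, hz⟩ := exists_prime_orderOf_dvd_card' r hrZ
  let V : Subgroup K :=
    { carrier := {x | (∀ n : K, n * x = x * n) ∧ x ^ r = 1}
      one_mem' := ⟨fun n => by simp, one_pow r⟩
      mul_mem' := by
        rintro a b ⟨hac, hap⟩ ⟨hbc, hbp⟩
        refine ⟨fun n => ?_, ?_⟩
        · rw [← mul_assoc, hac n, mul_assoc, hbc n, mul_assoc]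
        · have hcm : Commute a b := hbc a
          rw [hcm.mul_pow, hap, hbp, one_mul]
      inv_mem' := by
        rintro a ⟨hac, hap⟩
        refine ⟨fun n => ?_, by rw [inv_pow, hap, inv_one]⟩
        have := hac n
        calc n * a⁻¹ = a⁻¹ * (a * n) * a⁻¹ := by group
          _ = a⁻¹ * (n * a) * a⁻¹ := by rw [this]
          _ = a⁻¹ * n := by group }
  have hVmem : ∀ x : K, x ∈ V ↔ (∀ n : K, n * x = x * n) ∧ x ^ r = 1 := fun x => Iff.rfl
  have hVinv : ∀ a : MulAut K, ∀ x ∈ V, a x ∈ V := by
    intro a x hx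
    obtain ⟨hxc, hxp⟩ := (hVmem x).mp hx
    refine (hVmem _).mpr ⟨fun n => ?_, by rw [← map_pow, hxp, map_one]⟩
    have h1 := hxc (a⁻¹ n)
    have h2 := congrArg a h1
    rw [map_mul, map_mul, MulAut.apply_inv_self] at h2
    exact h2
  have hVcomm : ∀ a b : V, a * b = b * a := fun a b => Subtype.ext (((hVmem b).mp b.2).1 a)
  let _ : CommGroup V := { (inferInstance : Group V) with mul_comm := hVcomm }
  have hzV : (z : K) ∈ V := by
    refine (hVmem _).mpr ⟨fun n => ?_, ?_⟩
    · exact (Subgroup.mem_center_iff.mp z.2) n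
    · have h1 : z ^ r = 1 := by rw [← hz]; exact pow_orderOf_eq_one z
      have h2 := congrArg (fun t : Subgroup.center K => (t : K)) h1
      simpa using h2
  have hz1 : (z : K) ≠ 1 := by
    intro h
    have : z = 1 := Subtype.ext h
    rw [this, orderOf_one] at hz
    exact hr.one_lt.ne hz
  have hVnt : Nontrivial V := ⟨⟨⟨_, hzV⟩, 1, fun h => hz1 (congrArg Subtype.val h)⟩⟩
  have hrV : r ∣ Nat.card V := by
    have h1 : orderOf (⟨(z : K), hzV⟩ : V) = r := by
      rw [← Subgroup.orderOf_coe]
      show orderOf (z : K) = r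
      rw [Subgroup.orderOf_coe]
      exact hz
    rw [← h1]
    exact orderOf_dvd_natCard _
  -- `r` does not divide `|G|`
  have hrG : ¬ r ∣ Nat.card G := by
    intro hdvd
    obtain ⟨a, ha⟩ := exists_prime_orderOf_dvd_card' r hdvd
    have ha1 : (a : MulAut K) ≠ 1 := by
      intro h
      have : a = 1 := Subtype.ext h
      rw [this, orderOf_one] at ha
      exact hr.one_lt.ne ha
    let P : Subgroup (MulAut V) := (Subgroup.zpowers a).map ((zassRes V hVinv).comp G.subtype)
    have hP : IsPGroup r P :=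
      (IsPGroup.of_card (n := 1) (by rw [Nat.card_zpowers, ha, pow_one])).map _
    obtain ⟨b, hb, hb1⟩ := hP.exists_fixed_point_of_prime_dvd_card_of_fixed_point (α := V) hrV
      (a := (1 : V)) (by
        intro g
        exact map_one g.1)
    have hmem : (zassRes V hVinv (a : MulAut K)) ∈ P := ⟨a, Subgroup.mem_zpowers a, rfl⟩
    have hfix : (zassRes V hVinv (a : MulAut K)) b = b := hb ⟨_, hmem⟩
    have hb' : (a : MulAut K) (b : K) = b := congrArg Subtype.val hfix
    exact hb1 (Subtype.ext (hfpf a a.2 ha1 b hb').symm)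
  refine hasFpfMod_of_mulAut ((zassRes V hVinv).comp G.subtype) r hrG ?_ ?_
  · intro x
    exact Subtype.ext ((hVmem x).mp x.2).2
  · intro a ha x hx
    have h1 : (a : MulAut K) (x : K) = x := congrArg Subtype.val hx
    have ha1 : (a : MulAut K) ≠ 1 := fun h => ha (Subtype.ext h)
    exact Subtype.ext (hfpf a a.2 ha1 x h1)

end Cfsg.Agent.Lib.helper32
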