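import Mathlib
import Cfsg.Agent.S0144
import Cfsg.Agent.S0904
import Cfsg.Agent.Lib.helper11.SmallSimple
import Cfsg.Agent.Lib.helper75.SimpleOrd

set_option autoImplicit false

namespace Cfsg.Agent.Lib.helper32

open Cfsg.Agent.Lib.helper11

section Numeric

/-- Boolean primality test by trial division. -/
def primeB (p : ℕ) : Bool :=
  decide (2 ≤ p) && (List.range p).all fun d => decide (d < 2) || !decide (d ∣ p)

theorem primeB_sound {p : ℕ} (h : primeB p = true) : p.Prime := by
  unfold primeB at h
  rw [Bool.and_eq_true, decide_eq_true_eq, List.all_eq_true] at h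
  obtain ⟨h2, hall⟩ := h
  rw [Nat.prime_def]
  refine ⟨h2, ?_⟩
  intro m hm
  by_cases hmp : m = p
  · exact Or.inr hmp
  · left
    have hle : m ≤ p := Nat.le_of_dvd (by omega) hm
    have hlt : m < p := by omega
    have := hall m (List.mem_range.mpr hlt)
    simp only [Bool.or_eq_true, decide_eq_true_eq, Bool.not_eq_true', decide_eq_false_iff_not]
      at this
    rcases this with h' | h'
    · have hm0 : m ≠ 0 := by
        rintro rfl
        rw [zero_dvd_iff] at hm
        omega
      omega
    · exact absurd hm h'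

/-- Remove up to `f` factors `p` from `n`. -/
def stripP (p : ℕ) : ℕ → ℕ → ℕ
  | 0, n => n
  | f + 1, n => if p ∣ n then stripP p f (n / p) else n

theorem stripP_spec (p : ℕ) : ∀ (f n : ℕ), ∃ a, n = p ^ a * stripP p f n := by
  intro f
  induction f with
  | zero => intro n; exact ⟨0, by simp [stripP]⟩
  | succ f ih =>
    intro n
    by_cases h : p ∣ n
    · obtain ⟨a, ha⟩ := ih (n / p)
      refine ⟨a + 1, ?_⟩
      simp only [stripP, if_pos h]
      rw [pow_succ, mul_assoc, mul_comm p, ← mul_assoc, ← ha]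
      exact (Nat.div_mul_cancel h).symm
    · exact ⟨0, by simp [stripP, if_neg h]⟩

/-- Boolean test: `n` is a product of at most two prime powers. -/
def twoPrimeKill (n : ℕ) : Bool :=
  primeB n || smallPrimes.any fun p => decide (p ∣ n) &&
    (decide (stripP p 12 n = 1) || primeB (stripP p 12 n) ||
      smallPrimes.any fun q => decide (stripP q 12 (stripP p 12 n) = 1))

theorem twoPrimeKill_sound {n : ℕ} (h : twoPrimeKill n = true) :
    ∃ p q a b : ℕ, p.Prime ∧ q.Prime ∧ n = p ^ a * q ^ b := by
  unfold twoPrimeKill at h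
  rw [Bool.or_eq_true] at h
  rcases h with h | h
  · exact ⟨n, 2, 1, 0, primeB_sound h, Nat.prime_two, by simp⟩
  · rw [List.any_eq_true] at h
    obtain ⟨p, hp, h⟩ := h
    have hpp := smallPrimes_prime p hp
    rw [Bool.and_eq_true, Bool.or_eq_true, Bool.or_eq_true] at h
    obtain ⟨-, h⟩ := h
    obtain ⟨a, ha⟩ := stripP_spec p 12 n
    rcases h with (h | h) | h
    · rw [decide_eq_true_eq] at h
      exact ⟨p, 2, a, 0, hpp, Nat.prime_two, by rw [ha, h]; simp⟩
    · exact ⟨p, stripP p 12 n, a, 1, hpp, primeB_sound h, by rw [pow_one]; exact ha⟩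
    · rw [List.any_eq_true] at h
      obtain ⟨q, hq, h⟩ := h
      rw [decide_eq_true_eq] at h
      obtain ⟨b, hb⟩ := stripP_spec q 12 (stripP p 12 n)
      rw [h, mul_one] at hb
      exact ⟨p, q, a, b, hpp, smallPrimes_prime q hq, by rw [← hb]; exact ha⟩

end Numeric

section Group

variable {G : Type*} [Group G] [Finite G] [IsSimpleGroup G]

omit [Finite G] in
theorem not_isCyclic_of_not_comm (hG : ¬ IsMulCommutative G) : ¬ IsCyclic G := by
  intro h
  exact hG IsCyclic.isMulCommutative

/-- Burnside: a non-abelian finite simple group does not have order `p ^ a * q ^ b`. -/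
theorem card_ne_of_twoPrimeKill (hG : ¬ IsMulCommutative G) (n : ℕ)
    (h : twoPrimeKill n = true) : Nat.card G ≠ n := by
  intro hn
  obtain ⟨p, q, a, b, hp, hq, hpq⟩ := twoPrimeKill_sound h
  have hsol : Group.IsSolvable G := Cfsg.Agent.S0144.result p q a b hp hq (by rw [hn, hpq])
  have hcomm := IsSimpleGroup.comm_iff_isSolvable.mpr hsol
  exact hG ⟨⟨hcomm⟩⟩

end Group

end Cfsg.Agent.Lib.helper32
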