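import Mathlib
import Cfsg.Agent.Lib.helper32.Sieve1
import Cfsg.Agent.Lib.helper75.SimpleOrdA
import Cfsg.Agent.Lib.helper75.Sylow21
import Cfsg.Agent.Lib.helper21.PrimeTICor
import Cfsg.Agent.Lib.helper21.SylowTest
import Cfsg.Agent.Lib.helper21.DihInv

set_option autoImplicit false

namespace Cfsg.Agent.Lib.helper32

open Cfsg.Agent.Lib.helper11 Cfsg.Agent.Lib.helper75 MulAction

section BT

variable {G : Type*} [Group G] [Finite G] [IsSimpleGroup G]

/-- Brauer–Tuan rule: in a simple group of order `p ^ a * q ^ b * r` the Sylow `r`-subgroup is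
self-centralizing, so its normalizer has order `r e` with `e ∣ r - 1`. -/
theorem bt_sylow (p q r a b : ℕ) (hp : p.Prime) (hq : q.Prime) [Fact r.Prime] (hpq : p ≠ q)
    (hpr : p ≠ r) (hqr : q ≠ r) (hcard : Nat.card G = p ^ a * q ^ b * r)
    (hm : 1 < p ^ a * q ^ b) (P : Sylow r G) :
    Nat.card P = r ∧ Subgroup.centralizer ((P : Subgroup G) : Set G) = (P : Subgroup G) ∧
    ∃ e : ℕ, e ∣ r - 1 ∧ e ≠ 1 ∧
      Nat.card (Subgroup.normalizer ((P : Subgroup G) : Set G)) = r * e ∧
      Nat.card (Sylow r G) * e = p ^ a * q ^ b ∧ Nat.card (Sylow r G) % r = 1 ∧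
      Nat.card (Sylow r G) ≠ 1 ∧ Nat.card G ∣ (Nat.card (Sylow r G)).factorial := by
  have hr : r.Prime := Fact.out
  have hrm : ¬ r ∣ p ^ a * q ^ b := by
    intro h
    rcases (Nat.Prime.dvd_mul hr).mp h with h | h
    · exact hpr ((Nat.prime_dvd_prime_iff_eq hr hp).mp (hr.dvd_of_dvd_pow h)).symm
    · exact hqr ((Nat.prime_dvd_prime_iff_eq hr hq).mp (hr.dvd_of_dvd_pow h)).symm
  have hS : Nat.card G = r * (p ^ a * q ^ b) := by rw [hcard, mul_comm]
  obtain ⟨hP, hn1, hmod, ⟨k, hk, hnk⟩, e, he, he1, hCe⟩ :=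
    sylow_setup (p := r) (p ^ a * q ^ b) hS hrm hm P
  have hC : Subgroup.centralizer ((P : Subgroup G) : Set G) = (P : Subgroup G) :=
    Cfsg.Agent.S0904.result p q r a b hp hq hpq hpr hqr hcard P
  have hstab : stabilizer G P = Subgroup.normalizer ((P : Subgroup G) : Set G) :=
    Sylow.stabilizer_eq_normalizer P
  rw [hC, hP] at hCe
  rw [hk] at hCe
  have hek : e = k := Nat.eq_of_mul_eq_mul_left hr.pos hCe
  subst hek
  refine ⟨hP, hC, e, he, he1, ?_, hnk, hmod, hn1, card_dvd_factorial_sylow hn1⟩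
  rw [← hstab, hk]

/-- Boolean test for the Brauer–Tuan rule at the prime `r`, `|G| = r m`. -/
def btKillAt (r m : ℕ) : Bool :=
  (List.range (m + 1)).all fun d =>
    !(decide (d ∣ m) && decide (d % r = 1) && decide (d ≠ 1) && decide (m / d ∣ r - 1) &&
      decide (m / d ≠ 1) && decide (r * m ∣ d.factorial))

/-- Boolean test: `n = p ^ a * q ^ b * r` and the Brauer–Tuan rule excludes a simple group. -/
def btKill (n : ℕ) : Bool :=
  smallPrimes.any fun r => decide (r ∣ n) && decide (1 < n / r) &&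
    smallPrimes.any fun p => decide (p ≠ r) && smallPrimes.any fun q => decide (q ≠ r) &&
      decide (p ≠ q) && decide (stripP q 12 (stripP p 12 (n / r)) = 1) && btKillAt r (n / r)

theorem card_ne_of_btKill (n : ℕ) (h : btKill n = true) : Nat.card G ≠ n := by
  intro hn
  unfold btKill at h
  rw [List.any_eq_true] at h
  obtain ⟨r, hr, h⟩ := h
  rw [Bool.and_eq_true, Bool.and_eq_true, decide_eq_true_eq, decide_eq_true_eq,
    List.any_eq_true] at h
  obtain ⟨⟨hrn, hm1⟩, p, hp, h⟩ := h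
  rw [Bool.and_eq_true, decide_eq_true_eq, List.any_eq_true] at h
  obtain ⟨hpr, q, hq, h⟩ := h
  simp only [Bool.and_eq_true, decide_eq_true_eq] at h
  obtain ⟨⟨⟨hqr, hpq⟩, hstrip⟩, hkill⟩ := h
  have hrp := smallPrimes_prime r hr
  have := Fact.mk hrp
  obtain ⟨a, ha⟩ := stripP_spec p 12 (n / r)
  obtain ⟨b, hb⟩ := stripP_spec q 12 (stripP p 12 (n / r))
  rw [hstrip, mul_one] at hb
  rw [hb] at ha
  have hcard : Nat.card G = p ^ a * q ^ b * r := by
    rw [hn, ← ha]; exact (Nat.div_mul_cancel hrn).symm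
  obtain ⟨P⟩ : Nonempty (Sylow r G) := inferInstance
  obtain ⟨-, -, e, he, he1, -, hne, hmod, hn1, hfac⟩ :=
    bt_sylow p q r a b (smallPrimes_prime p hp) (smallPrimes_prime q hq) hpq hpr hqr hcard
      (by rw [← ha]; exact hm1) P
  rw [← ha] at hne
  obtain ⟨d, hd⟩ : ∃ d, d = Nat.card (Sylow r G) := ⟨_, rfl⟩
  rw [← hd] at hne hmod hn1 hfac
  have hm0 : 0 < n / r := by omega
  have hdm : d ∣ n / r := Dvd.intro _ hne
  have hdle : d ≤ n / r := Nat.le_of_dvd hm0 hdm
  have hd0 : 0 < d := Nat.pos_of_ne_zero (by rintro rfl; simp at hmod)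
  have hquot : n / r / d = e := by
    rw [← hne]; exact Nat.mul_div_cancel_left e hd0
  unfold btKillAt at hkill
  rw [List.all_eq_true] at hkill
  have := hkill d (List.mem_range.mpr (by omega))
  rw [hn, ← Nat.div_mul_cancel hrn, mul_comm] at hfac
  simp [hdm, hmod, hn1, hquot, he, he1, hfac] at this

end BT

section Special

variable {G : Type*} [Group G] [Finite G] [IsSimpleGroup G]

theorem no_simple_900 : Nat.card G ≠ 900 := by
  intro hS
  obtain ⟨t, n, ht, -, htn, hmod, hn1, hfac⟩ :=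
    Cfsg.Agent.Lib.helper21.simple_sylow_test (G := G) 5 2 36 (by norm_num) (Or.inr rfl)
      (by rw [hS]; norm_num) (by norm_num) (by norm_num)
  have ht2 := ht.two_le
  have hle : t * n ≤ 36 := Nat.le_of_dvd (by norm_num) htn
  have hn : n ≤ 18 := by nlinarith
  have hn6 : n = 6 := by
    interval_cases n <;> first | omega | skip
    · exfalso
      have : t ≤ 3 := by omega
      interval_cases t <;> omega
    · exfalso
      have : t ≤ 2 := by omega
      interval_cases t <;> omega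
  subst hn6
  revert hfac
  decide

theorem no_simple_420 : Nat.card G ≠ 420 := by
  intro hS
  have h5 : Fact (Nat.Prime 5) := ⟨by norm_num⟩
  obtain ⟨P⟩ : Nonempty (Sylow 5 G) := inferInstance
  obtain ⟨hP, hn1, hmod, ⟨k, hk, hnk⟩, e, he, he1, hCe⟩ :=
    sylow_setup (p := 5) 84 (by rw [hS]) (by norm_num) (by norm_num) P
  have hfac := card_dvd_factorial_sylow (p := 5) (S := G) hn1
  have h21 := no_simple_twentyone_sylow_five (S := G)
  obtain ⟨n, hn⟩ : ∃ n, n = Nat.card (Sylow 5 G) := ⟨_, rfl⟩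
  rw [← hn] at hn1 hmod hnk hfac h21
  rw [hS] at hfac
  have hle : n ≤ 84 := Nat.le_of_dvd (by norm_num) (Dvd.intro _ hnk)
  interval_cases n <;> first | omega | skip
  revert hfac
  decide

theorem no_simple_840 : Nat.card G ≠ 840 := by
  intro hS
  have h5 : Fact (Nat.Prime 5) := ⟨by norm_num⟩
  obtain ⟨P⟩ : Nonempty (Sylow 5 G) := inferInstance
  obtain ⟨hP, hn1, hmod, ⟨k, hk, hnk⟩, e, he, he1, hCe⟩ :=
    sylow_setup (p := 5) 168 (by rw [hS]) (by norm_num) (by norm_num) P
  have hfac := card_dvd_factorial_sylow (p := 5) (S := G) hn1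
  have h21 := no_simple_twentyone_sylow_five (S := G)
  obtain ⟨n, hn⟩ : ∃ n, n = Nat.card (Sylow 5 G) := ⟨_, rfl⟩
  rw [← hn] at hn1 hmod hnk hfac h21
  rw [hS] at hfac
  rw [hk] at hCe
  have hle : n ≤ 168 := Nat.le_of_dvd (by norm_num) (Dvd.intro _ hnk)
  have he4 : e ≤ 4 := Nat.le_of_dvd (by norm_num) he
  interval_cases n <;> first | omega | skip
  · revert hfac
    decide
  · have hk3 : k = 3 := by omega
    subst hk3
    interval_cases e <;> omega

theorem no_simple_612 : Nat.card G ≠ 612 := by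
  intro hS
  obtain ⟨δ, ε, f₁, f₀, hδ, hε, h1, hf1, h0, hf0, hcong, heq, hsum⟩ :=
    Cfsg.Agent.Lib.helper21.simple_exceptional_two (G := G) 17 36 (by norm_num) (by rw [hS])
      (by norm_num) (by norm_num)
      (by
        intro n hn hmod hn1
        have hle : n ≤ 36 := Nat.le_of_dvd (by norm_num) hn
        interval_cases n <;> omega) (by norm_num)
  have hf1le : f₁ ≤ 24 := by nlinarith
  have hf0le : f₀ ≤ 12 := by nlinarith
  interval_cases f₁ <;> rcases hδ with rfl | rfl <;> rcases hε with rfl | rfl <;> omega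

theorem no_simple_760 : Nat.card G ≠ 760 := by
  intro hS
  obtain ⟨δ, ε, f₁, f₀, hδ, hε, h1, hf1, h0, hf0, hcong, heq, hsum⟩ :=
    Cfsg.Agent.Lib.helper21.simple_exceptional_two (G := G) 19 40 (by norm_num) (by rw [hS])
      (by norm_num) (by norm_num)
      (by
        intro n hn hmod hn1
        have hle : n ≤ 40 := Nat.le_of_dvd (by norm_num) hn
        interval_cases n <;> omega) (by norm_num)
  have hf1le : f₁ ≤ 27 := by nlinarith
  have hf0le : f₀ ≤ 13 := by nlinarith
  interval_cases f₁ <;> rcases hδ with rfl | rfl <;> rcases hε with rfl | rfl <;> omega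

theorem no_simple_960 : Nat.card G ≠ 960 := by
  intro hS
  classical
  have := Fintype.ofFinite G
  have h5 : Fact (Nat.Prime 5) := ⟨by norm_num⟩
  obtain ⟨P⟩ : Nonempty (Sylow 5 G) := inferInstance
  obtain ⟨hP, hC, e, he, he1, hN, hne, hmod, hn1, hfac⟩ :=
    bt_sylow (G := G) 2 3 5 6 1 Nat.prime_two Nat.prime_three (by norm_num) (by norm_num)
      (by norm_num) (by rw [hS]; norm_num) (by norm_num) P
  have he4 : e ≤ 4 := Nat.le_of_dvd (by norm_num) he
  have he2 : e = 2 := by
    interval_cases e <;> omega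
  subst he2
  have key := Cfsg.Agent.Lib.helper21.dihinv_two_part (G := G) (p := 5) (by norm_num)
    (by norm_num) (P : Subgroup G) hP hC.le hN 6 (by rw [hS]; norm_num)
  rw [hS] at key
  omega

end Special

end Cfsg.Agent.Lib.helper32
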