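import Mathlib
import Cfsg.Agent.Lib.helper11.FrobData
import Cfsg.Agent.Lib.helper32.Sieve2

/-!
# No simple group of order 720 (helper32)

Brauer–Tuan (S0904) gives a self-centralizing Sylow 5-subgroup with normalizer of order 20; the
character data `frob_data` of helper11 for a Frobenius normalizer `5 : 4` is then contradictory:
the nontrivial constituents of `(1_P - λ)^G` have degrees `6, 6, 4, 9` or `16, 4, 4, 9`, and the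
class equation gives `|C(t)|² ∈ {320, 128, 272}`.
-/

set_option autoImplicit false

namespace Cfsg.Agent.Lib.helper32

open Cfsg

universe u

/-- The possible profiles of a nontrivial irreducible character, packaged as linear data. -/
theorem frob20_profile (c s : ℤ) (d a b : ℕ) (hc : c * c ≤ 4) (hd : d ∣ 720) (hd2 : 2 ≤ d)
    (hd26 : d ≤ 26) (hab : d = a + 4 * b) (hcab : c = (a : ℤ) - b) (q q₁ q₂ : ℕ)
    (h1 : (d : ℤ) - s = 4 * q) (h2 : (a : ℤ) - s = 2 * q₁) (h3 : (a : ℤ) + s = 2 * q₂) :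
    ∃ X6 X16 X4 X9 X24 K L W F E : ℤ, E * d = 144 * c * (s * s) ∧
      c * c = X6 + X16 + X4 + X9 + X24 + 4 * K ∧
      c * d = 6 * X6 + 16 * X16 - 4 * X4 - 9 * X9 - 24 * X24 + 2 * L ∧
      -18 * K ≤ L ∧ L ≤ 18 * K ∧
      36 * X6 + 256 * X16 + 16 * X4 + 81 * X9 + 576 * X24 ≤ (d : ℤ) * d ∧
      E = 96 * X6 + 144 * W - 16 * X9 + F ∧ 0 ≤ W ∧ W ≤ X16 ∧
      -576 * (X24 + K) ≤ F ∧ F ≤ 576 * (X24 + K) ∧
      0 ≤ X6 ∧ 0 ≤ X16 ∧ 0 ≤ X4 ∧ 0 ≤ X9 ∧ 0 ≤ X24 ∧ 0 ≤ K := by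
  have hc1 : -2 ≤ c := by nlinarith
  have hc2 : c ≤ 2 := by nlinarith
  have hs1 : -26 ≤ s := by omega
  have hs2 : s ≤ 26 := by omega
  refine ⟨if c = 1 ∧ d = 6 then 1 else 0, if c = 1 ∧ d = 16 then 1 else 0,
    if c = -1 ∧ d = 4 then 1 else 0, if c = -1 ∧ d = 9 then 1 else 0,
    if c = -1 ∧ d = 24 then 1 else 0, if c = 2 ∨ c = -2 then 1 else 0,
    if c = 2 ∨ c = -2 then c * d / 2 else 0,
    if c = 1 ∧ d = 16 ∧ s ≠ 0 then 1 else 0,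
    144 * c * (s * s) / d - 96 * (if c = 1 ∧ d = 6 then 1 else 0)
      - 144 * (if c = 1 ∧ d = 16 ∧ s ≠ 0 then 1 else 0)
      + 16 * (if c = -1 ∧ d = 9 then 1 else 0),
    144 * c * (s * s) / d, ?_⟩
  interval_cases d <;> first | (exfalso; omega) | skip
  all_goals interval_cases c <;> first | (exfalso; omega) | skip
  all_goals interval_cases s <;> first | (exfalso; omega) | decide

set_option maxHeartbeats 1600000 in
/-- A simple group of order `720` has no subgroup `P` of order `5` with `C_G(P) ≤ P` and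
`|N_G(P)| = 20`. -/
theorem no_frobenius_720 {G : Type u} [Group G] [Finite G] [IsSimpleGroup G]
    (hG : Nat.card G = 720) (P : Subgroup G) (hP : Nat.card P = 5)
    (hC : Subgroup.centralizer (P : Set G) ≤ P)
    (hN : Nat.card (Subgroup.normalizer (P : Set G)) = 5 * 4) : False := by
  classical
  have : Fintype G := Fintype.ofFinite G
  have : Fintype (IrrCharacter G) := Fintype.ofFinite _
  have := Fact.mk Nat.prime_two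
  have hnp : ¬ (Nat.card G).Prime := by rw [hG]; norm_num
  obtain ⟨J', hJ'⟩ := exists_prime_orderOf_dvd_card' (G := Subgroup.normalizer (P : Set G)) 2
    (by rw [hN]; norm_num)
  obtain ⟨t, htdef⟩ : ∃ t : G, t = (J' : G) := ⟨_, rfl⟩
  have htN : t ∈ Subgroup.normalizer (P : Set G) := by rw [htdef]; exact J'.2
  have hto : orderOf t = 2 := by rw [htdef, Subgroup.orderOf_coe]; exact hJ'
  have ht : t * t = 1 := by rw [← pow_two, ← hto]; exact pow_orderOf_eq_one t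
  have ht1 : t ≠ 1 := by
    rintro rfl
    rw [orderOf_one] at hto
    omega
  obtain ⟨c, s, d, a, b, triv, hct, hdt, hst, hc2, hdvd, hd2, hdge, hab, hcab, hq, hcd, hcs,
    hcls⟩ := Cfsg.Agent.Lib.helper11.frob_data hnp (p := 5) (e := 4) (by norm_num) (by norm_num)
      P hP hC hN rfl t htN ht ht1
  rw [hG] at hdvd hd2 hcls
  obtain ⟨m, hm⟩ : ∃ m : ℕ, m = Nat.card (Subgroup.centralizer ({t} : Set G)) := ⟨_, rfl⟩
  rw [← hm] at hcls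
  obtain ⟨S, hS⟩ : ∃ S : Finset (IrrCharacter G), S = Finset.univ.erase triv := ⟨_, rfl⟩
  have hmem : ∀ ψ, ψ ∈ S → ψ ≠ triv := by
    intro ψ hψ
    rw [hS] at hψ
    exact Finset.ne_of_mem_erase hψ
  have hsplit : ∀ f : IrrCharacter G → ℤ, ∑ ψ, f ψ = f triv + ∑ ψ ∈ S, f ψ := by
    intro f
    rw [hS]
    exact (Finset.add_sum_erase _ f (Finset.mem_univ triv)).symm
  -- the basic sums over the nontrivial characters
  have hc4 : ∑ ψ ∈ S, c ψ * c ψ = 4 := by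
    have h := hsplit (fun ψ => c ψ ^ 2)
    rw [hc2] at h
    simp only [hct] at h
    have h' : ∑ ψ ∈ S, c ψ ^ 2 = ∑ ψ ∈ S, c ψ * c ψ :=
      Finset.sum_congr rfl (fun ψ _ => pow_two _)
    rw [h'] at h
    push_cast at h
    omega
  have hcd1 : ∑ ψ ∈ S, c ψ * (d ψ : ℤ) = -1 := by
    have h := hsplit (fun ψ => c ψ * (d ψ : ℤ))
    rw [hcd] at h
    simp only [hct, hdt] at h
    push_cast at h
    omega
  have hdd : ∑ ψ ∈ S, (d ψ : ℤ) * (d ψ : ℤ) = 719 := by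
    have h := hsplit (fun ψ => (d ψ : ℤ) * (d ψ : ℤ))
    have h2 : ∑ ψ, (d ψ : ℤ) * (d ψ : ℤ) = 720 := by
      have : ((∑ ψ, d ψ ^ 2 : ℕ) : ℤ) = 720 := by rw [hd2]; norm_num
      rw [← this]
      push_cast
      exact Finset.sum_congr rfl (fun ψ _ => (pow_two _).symm)
    rw [h2] at h
    simp only [hdt] at h
    push_cast at h
    omega
  -- per-character bounds
  have hcle : ∀ ψ, ψ ∈ S → c ψ * c ψ ≤ 4 := by
    intro ψ hψ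
    rw [← hc4]
    exact Finset.single_le_sum (f := fun ψ => c ψ * c ψ) (fun i _ => mul_self_nonneg _) hψ
  have hd26 : ∀ ψ, d ψ ≤ 26 := by
    intro ψ
    have h : d ψ ^ 2 ≤ ∑ ψ, d ψ ^ 2 :=
      Finset.single_le_sum (f := fun ψ => d ψ ^ 2) (fun i _ => Nat.zero_le _) (Finset.mem_univ ψ)
    rw [hd2] at h
    by_contra hlt
    have h27 : 27 ≤ d ψ := by omega
    nlinarith
  have hprof : ∀ ψ, ∃ X6 X16 X4 X9 X24 K L W F E : ℤ, ψ ∈ S →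
      (E * (d ψ : ℤ) = 144 * c ψ * (s ψ * s ψ) ∧
      c ψ * c ψ = X6 + X16 + X4 + X9 + X24 + 4 * K ∧
      c ψ * (d ψ : ℤ) = 6 * X6 + 16 * X16 - 4 * X4 - 9 * X9 - 24 * X24 + 2 * L ∧
      -18 * K ≤ L ∧ L ≤ 18 * K ∧
      36 * X6 + 256 * X16 + 16 * X4 + 81 * X9 + 576 * X24 ≤ (d ψ : ℤ) * (d ψ : ℤ) ∧
      E = 96 * X6 + 144 * W - 16 * X9 + F ∧ 0 ≤ W ∧ W ≤ X16 ∧
      -576 * (X24 + K) ≤ F ∧ F ≤ 576 * (X24 + K) ∧
      0 ≤ X6 ∧ 0 ≤ X16 ∧ 0 ≤ X4 ∧ 0 ≤ X9 ∧ 0 ≤ X24 ∧ 0 ≤ K) := by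
    intro ψ
    by_cases hψ : ψ ∈ S
    · obtain ⟨q, q₁, q₂, h1, h2, h3⟩ := hq ψ
      obtain ⟨X6, X16, X4, X9, X24, K, L, W, F, E, h⟩ :=
        frob20_profile (c ψ) (s ψ) (d ψ) (a ψ) (b ψ)
          (hcle ψ hψ) (hdvd ψ) (hdge ψ (hmem ψ hψ)) (hd26 ψ) (hab ψ) (hcab ψ) q q₁ q₂ h1 h2 h3
      exact ⟨X6, X16, X4, X9, X24, K, L, W, F, E, fun _ => h⟩
    · exact ⟨0, 0, 0, 0, 0, 0, 0, 0, 0, 0, fun h => absurd h hψ⟩
  choose X6 X16 X4 X9 X24 K L W F E hprof using hprof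
  -- the class equation in integers
  have hmE : (m : ℤ) * m = 144 + ∑ ψ ∈ S, E ψ := by
    have hsplitC : ∑ ψ : IrrCharacter G, (c ψ : ℂ) * (s ψ : ℂ) ^ 2 / (d ψ : ℂ) =
        (c triv : ℂ) * (s triv : ℂ) ^ 2 / (d triv : ℂ) +
          ∑ ψ ∈ S, (c ψ : ℂ) * (s ψ : ℂ) ^ 2 / (d ψ : ℂ) := by
      rw [hS]
      exact (Finset.add_sum_erase _ (fun ψ : IrrCharacter G =>
        (c ψ : ℂ) * (s ψ : ℂ) ^ 2 / (d ψ : ℂ)) (Finset.mem_univ triv)).symm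
    have hterm : ∀ ψ ∈ S, (c ψ : ℂ) * (s ψ : ℂ) ^ 2 / (d ψ : ℂ) = (E ψ : ℂ) / 144 := by
      intro ψ hψ
      have h := (hprof ψ hψ).1
      have hd0 : (d ψ : ℂ) ≠ 0 := by
        have h2 := hdge ψ (hmem ψ hψ)
        have h3 : d ψ ≠ 0 := by omega
        exact_mod_cast h3
      have hC : (E ψ : ℂ) * (d ψ : ℂ) = 144 * (c ψ : ℂ) * ((s ψ : ℂ) * (s ψ : ℂ)) := by
        exact_mod_cast h
      field_simp
      linear_combination (-1 : ℂ) * hC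
    rw [hsplitC, Finset.sum_congr rfl hterm, ← Finset.sum_div, hct, hdt, hst] at hcls
    have h : (((m : ℤ) * m : ℤ) : ℂ) = ((144 + ∑ ψ ∈ S, E ψ : ℤ) : ℂ) := by
      push_cast
      push_cast at hcls
      linear_combination hcls / 5
    exact_mod_cast h
  -- summing the profile relations
  have e1 : ∑ ψ ∈ S, c ψ * c ψ = ∑ ψ ∈ S, X6 ψ + ∑ ψ ∈ S, X16 ψ + ∑ ψ ∈ S, X4 ψ +
      ∑ ψ ∈ S, X9 ψ + ∑ ψ ∈ S, X24 ψ + 4 * ∑ ψ ∈ S, K ψ := by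
    rw [Finset.sum_congr rfl (fun ψ hψ => (hprof ψ hψ).2.1)]
    simp only [Finset.sum_add_distrib, Finset.mul_sum]
  have e2 : ∑ ψ ∈ S, c ψ * (d ψ : ℤ) = 6 * ∑ ψ ∈ S, X6 ψ + 16 * ∑ ψ ∈ S, X16 ψ -
      4 * ∑ ψ ∈ S, X4 ψ - 9 * ∑ ψ ∈ S, X9 ψ - 24 * ∑ ψ ∈ S, X24 ψ + 2 * ∑ ψ ∈ S, L ψ := by
    rw [Finset.sum_congr rfl (fun ψ hψ => (hprof ψ hψ).2.2.1)]
    simp only [Finset.sum_add_distrib, Finset.sum_sub_distrib, Finset.mul_sum]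
  rw [hc4] at e1
  rw [hcd1] at e2
  have e3 : -18 * ∑ ψ ∈ S, K ψ ≤ ∑ ψ ∈ S, L ψ := by
    rw [Finset.mul_sum]
    exact Finset.sum_le_sum (fun ψ hψ => (hprof ψ hψ).2.2.2.1)
  have e4 : ∑ ψ ∈ S, L ψ ≤ 18 * ∑ ψ ∈ S, K ψ := by
    rw [Finset.mul_sum]
    exact Finset.sum_le_sum (fun ψ hψ => (hprof ψ hψ).2.2.2.2.1)
  have e5 : 36 * ∑ ψ ∈ S, X6 ψ + 256 * ∑ ψ ∈ S, X16 ψ + 16 * ∑ ψ ∈ S, X4 ψ +
      81 * ∑ ψ ∈ S, X9 ψ + 576 * ∑ ψ ∈ S, X24 ψ ≤ 719 := by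
    have h := Finset.sum_le_sum (fun ψ hψ => (hprof ψ hψ).2.2.2.2.2.1)
    rw [hdd] at h
    simp only [Finset.sum_add_distrib, ← Finset.mul_sum] at h
    exact h
  have e6 : ∑ ψ ∈ S, E ψ = 96 * ∑ ψ ∈ S, X6 ψ + 144 * ∑ ψ ∈ S, W ψ - 16 * ∑ ψ ∈ S, X9 ψ +
      ∑ ψ ∈ S, F ψ := by
    rw [Finset.sum_congr rfl (fun ψ hψ => (hprof ψ hψ).2.2.2.2.2.2.1)]
    simp only [Finset.sum_add_distrib, Finset.sum_sub_distrib, Finset.mul_sum]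
  have e7 : 0 ≤ ∑ ψ ∈ S, W ψ := Finset.sum_nonneg (fun ψ hψ => (hprof ψ hψ).2.2.2.2.2.2.2.1)
  have e8 : ∑ ψ ∈ S, W ψ ≤ ∑ ψ ∈ S, X16 ψ :=
    Finset.sum_le_sum (fun ψ hψ => (hprof ψ hψ).2.2.2.2.2.2.2.2.1)
  have e9 : -576 * (∑ ψ ∈ S, X24 ψ + ∑ ψ ∈ S, K ψ) ≤ ∑ ψ ∈ S, F ψ := by
    rw [← Finset.sum_add_distrib, Finset.mul_sum]
    exact Finset.sum_le_sum (fun ψ hψ => (hprof ψ hψ).2.2.2.2.2.2.2.2.2.1)
  have e10 : ∑ ψ ∈ S, F ψ ≤ 576 * (∑ ψ ∈ S, X24 ψ + ∑ ψ ∈ S, K ψ) := by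
    rw [← Finset.sum_add_distrib, Finset.mul_sum]
    exact Finset.sum_le_sum (fun ψ hψ => (hprof ψ hψ).2.2.2.2.2.2.2.2.2.2.1)
  have p1 : 0 ≤ ∑ ψ ∈ S, X6 ψ :=
    Finset.sum_nonneg (fun ψ hψ => (hprof ψ hψ).2.2.2.2.2.2.2.2.2.2.2.1)
  have p2 : 0 ≤ ∑ ψ ∈ S, X16 ψ :=
    Finset.sum_nonneg (fun ψ hψ => (hprof ψ hψ).2.2.2.2.2.2.2.2.2.2.2.2.1)
  have p3 : 0 ≤ ∑ ψ ∈ S, X4 ψ :=
    Finset.sum_nonneg (fun ψ hψ => (hprof ψ hψ).2.2.2.2.2.2.2.2.2.2.2.2.2.1)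
  have p4 : 0 ≤ ∑ ψ ∈ S, X9 ψ :=
    Finset.sum_nonneg (fun ψ hψ => (hprof ψ hψ).2.2.2.2.2.2.2.2.2.2.2.2.2.2.1)
  have p5 : 0 ≤ ∑ ψ ∈ S, X24 ψ :=
    Finset.sum_nonneg (fun ψ hψ => (hprof ψ hψ).2.2.2.2.2.2.2.2.2.2.2.2.2.2.2.1)
  have p6 : 0 ≤ ∑ ψ ∈ S, K ψ :=
    Finset.sum_nonneg (fun ψ hψ => (hprof ψ hψ).2.2.2.2.2.2.2.2.2.2.2.2.2.2.2.2)
  rw [e6] at hmE
  generalize ∑ ψ ∈ S, X6 ψ = x6 at *
  generalize ∑ ψ ∈ S, X16 ψ = x16 at *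
  generalize ∑ ψ ∈ S, X4 ψ = x4 at *
  generalize ∑ ψ ∈ S, X9 ψ = x9 at *
  generalize ∑ ψ ∈ S, X24 ψ = x24 at *
  generalize ∑ ψ ∈ S, K ψ = k at *
  generalize ∑ ψ ∈ S, L ψ = l at *
  generalize ∑ ψ ∈ S, W ψ = w at *
  generalize ∑ ψ ∈ S, F ψ = f at *
  clear hprof hsplit hcle hmem hS hcs hcd hc2 hcls hd26 hq hcab hab hdge hd2 hdvd hst hdt hct
    hc4 hcd1 hdd
  have hk : k = 0 := by omega
  subst hk
  have hx24 : x24 = 0 := by omega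
  subst hx24
  have hf : f = 0 := by omega
  subst hf
  have hl : l = 0 := by omega
  subst hl
  have hM : (m : ℤ) * m = 320 ∨ (m : ℤ) * m = 128 ∨ (m : ℤ) * m = 272 := by
    have hx9 : x9 ≤ 4 := by omega
    have hx6 : x6 ≤ 4 := by omega
    have hx16 : x16 ≤ 2 := by omega
    interval_cases x9 <;> interval_cases x6 <;> interval_cases x16 <;> omega
  have hm18 : m ≤ 18 := by
    by_contra hcon
    have : (19 : ℤ) ≤ m := by exact_mod_cast (by omega : 19 ≤ m)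
    nlinarith
  interval_cases m <;> omega

/-- There is no simple group of order `720`. -/
theorem no_simple_720 {G : Type u} [Group G] [Finite G] [IsSimpleGroup G] :
    Nat.card G ≠ 720 := by
  intro hS
  have h5 : Fact (Nat.Prime 5) := ⟨by norm_num⟩
  obtain ⟨P⟩ : Nonempty (Sylow 5 G) := inferInstance
  obtain ⟨hP, hC, e, he, he1, hN, hne, hmod, hn1, hfac⟩ :=
    bt_sylow (G := G) 2 3 5 4 2 Nat.prime_two Nat.prime_three (by norm_num) (by norm_num)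
      (by norm_num) (by rw [hS]; norm_num) (by norm_num) P
  have he4 : e ≤ 4 := Nat.le_of_dvd (by norm_num) he
  have he2 : e = 4 := by
    interval_cases e <;> omega
  subst he2
  exact no_frobenius_720 hS (P : Subgroup G) hP hC.le hN

end Cfsg.Agent.Lib.helper32
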