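import Mathlib
import Cfsg.Agent.Lib.helper32.Sieve2

set_option autoImplicit false

namespace Cfsg.Agent.Lib.helper32

open Cfsg.Agent.Lib.helper11

/-- Boolean test: Sylow counting, Burnside's two-prime theorem or the Brauer–Tuan rule excludes a
non-abelian simple group of order `n`. -/
def smallKill (n : ℕ) : Bool := orderKill n || twoPrimeKill n || btKill n

theorem card_ne_of_smallKill {G : Type*} [Group G] [Finite G] [IsSimpleGroup G]
    (hG : ¬ IsMulCommutative G) (n : ℕ) (h : smallKill n = true) : Nat.card G ≠ n := by
  unfold smallKill at h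
  rw [Bool.or_eq_true, Bool.or_eq_true] at h
  rcases h with (h | h) | h
  · exact card_ne_of_orderKill (not_isCyclic_of_not_comm hG) n h
  · exact card_ne_of_twoPrimeKill hG n h
  · exact card_ne_of_btKill n h

theorem smallKill_le_1092 : ∀ n ∈ List.range 1093, n < 2 ∨ n ∈ [60, 168, 360, 504, 660, 1092] ∨
    n ∈ [420, 612, 720, 756, 760, 840, 900, 960] ∨ smallKill n = true := by
  decide +kernel

end Cfsg.Agent.Lib.helper32
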