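import Mathlib

/-! S0998 / AP (architect helper20): the arithmetic of the case `ε = 1`. -/

set_option autoImplicit false

namespace Cfsg.Agent.Lib.helper32.BT

theorem helper32_coprime_of_forall (a c : ℕ) (h : ∀ d, d ∣ a → d ∣ c → d = 1) :
    Nat.Coprime a c :=
  h _ (Nat.gcd_dvd_left a c) (Nat.gcd_dvd_right a c)

theorem helper32_three_dvd_four_pow (k : ℕ) : 4 ^ k % 3 = 1 := by
  rw [Nat.pow_mod]; norm_num

/-- AP : the case `ε = 1`. -/
theorem arith_plus_case (p q r b : ℕ) (hp : p.Prime) (hq : q.Prime) (hr : r.Prime)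
    (hqr : q ≠ r) (hpr : p - 1 = 2 * r) (h1 : q ∣ r - 1) (h2 : q ∣ p + 1)
    (h3 : p + 1 ∣ p * r * q ^ b) : p = 7 ∧ r = 3 ∧ q = 2 := by
  have hp2 := hp.two_le
  have hr2 := hr.two_le
  have hpe : p = 2 * r + 1 := by omega
  subst hpe
  have hq4 : q ∣ 4 := by
    have h4 : (2 * r + 1 + 1) - 2 * (r - 1) = 4 := by omega
    rw [← h4]
    exact Nat.dvd_sub h2 (Dvd.dvd.mul_left h1 2)
  have hq2 : q = 2 := by
    have h5 : q ∣ 2 ^ 2 := by norm_num; exact hq4
    exact (Nat.prime_dvd_prime_iff_eq hq Nat.prime_two).mp (hq.dvd_of_dvd_pow h5)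
  subst hq2
  have hr3 : 3 ≤ r := by
    rcases Nat.lt_or_ge r 3 with hlt | hge
    · have hr2' : r = 2 := by omega
      rw [hr2'] at h1
      norm_num at h1
    · exact hge
  have hr1 : r + 1 ∣ 2 ^ b := by
    have h4 : r + 1 ∣ (2 * r + 1) * r * 2 ^ b := by
      refine dvd_trans ?_ h3
      exact ⟨2, by ring⟩
    have c1 : Nat.Coprime (r + 1) (2 * r + 1) := by
      apply helper32_coprime_of_forall
      intro d hd1 hd2
      have h5 : d ∣ 2 * (r + 1) - (2 * r + 1) := Nat.dvd_sub (Dvd.dvd.mul_left hd1 2) hd2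
      have h6 : 2 * (r + 1) - (2 * r + 1) = 1 := by omega
      rw [h6] at h5
      exact Nat.dvd_one.mp h5
    have c2 : Nat.Coprime (r + 1) r := by
      apply helper32_coprime_of_forall
      intro d hd1 hd2
      have h5 : d ∣ (r + 1) - r := Nat.dvd_sub hd1 hd2
      have h6 : (r + 1) - r = 1 := by omega
      rw [h6] at h5
      exact Nat.dvd_one.mp h5
    have c3 : Nat.Coprime (r + 1) ((2 * r + 1) * r) := Nat.Coprime.mul_right c1 c2
    exact Nat.Coprime.dvd_of_dvd_mul_left c3 h4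
  obtain ⟨m, -, hm⟩ := (Nat.dvd_prime_pow Nat.prime_two).mp hr1
  rcases Nat.even_or_odd m with ⟨k, hk⟩ | ⟨k, hk⟩
  · -- `m = 2 k`: `3 ∣ r`
    have h4 : r + 1 = 4 ^ k := by
      rw [hm, hk, ← two_mul, pow_mul]; norm_num
    have h5 := helper32_three_dvd_four_pow k
    obtain ⟨N, hN⟩ : ∃ N, N = 4 ^ k := ⟨_, rfl⟩
    rw [← hN] at h4 h5
    have h6 : 3 ∣ r := by omega
    have h7 : 3 = r := (Nat.prime_dvd_prime_iff_eq Nat.prime_three hr).mp h6
    omega
  · -- `m = 2 k + 1`: `3 ∣ p`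
    have h4 : 2 * (r + 1) = 4 ^ (k + 1) := by
      rw [hm, hk, ← pow_succ', show 2 * k + 1 + 1 = 2 * (k + 1) by ring, pow_mul]; norm_num
    have h5 := helper32_three_dvd_four_pow (k + 1)
    obtain ⟨N, hN⟩ : ∃ N, N = 4 ^ (k + 1) := ⟨_, rfl⟩
    rw [← hN] at h4 h5
    have h6 : 3 ∣ 2 * r + 1 := by omega
    have h7 : 3 = 2 * r + 1 := (Nat.prime_dvd_prime_iff_eq Nat.prime_three hp).mp h6
    omega

end Cfsg.Agent.Lib.helper32.BT
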