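import Cfsg.Agent.Lib.helper81.WTDefs

/-!
# S4414, piece PC (racing copy by helper32): completeness of the weight projections
-/

set_option autoImplicit false

namespace Cfsg.Agent.Lib.helper81.WT

open scoped TensorProduct

universe u v w

/-- [PC] completeness: a vector all of whose weight components vanish is zero -/
theorem helper32_proj_complete {S : Type u} [Group S] [Finite S] {F : Type w} [Field F] [Finite F] [CharP F 2]
    {V : Type v} [AddCommGroup V] [Module F V]
    (R : Representation F S V) (Y : Subgroup S) [Y.Normal] [Fintype ↥Y]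
    (hYc : ∀ a b : ↥Y, a * b = b * a) [HasEnoughRootsOfUnity F (Monoid.exponent ↥Y)]
    (hodd : Odd (Fintype.card ↥Y))
    (v : V) (hv : ∀ μ : ↥Y →* Fˣ, proj R Y μ v = 0) : v = 0 := by
  classical
  letI : CommGroup ↥Y := { (inferInstance : Group ↥Y) with mul_comm := hYc }
  haveI : Finite (↥Y →* Fˣ) := inferInstance
  letI : Fintype (↥Y →* Fˣ) := Fintype.ofFinite _
  have hcard : Fintype.card (↥Y →* Fˣ) = Fintype.card ↥Y := by
    rw [← Nat.card_eq_fintype_card, ← Nat.card_eq_fintype_card]
    exact CommGroup.card_monoidHom_of_hasEnoughRootsOfUnity ↥Y F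
  have hone : ((Fintype.card ↥Y : ℕ) : F) = 1 := by
    obtain ⟨k, hk⟩ := hodd
    rw [hk]
    push_cast
    rw [CharTwo.two_eq_zero]
    ring
  have hsum : ∑ μ : ↥Y →* Fˣ, proj R Y μ v = v := by
    simp only [proj_apply]
    rw [Finset.sum_comm]
    simp only [← Finset.sum_smul]
    rw [Finset.sum_eq_single (1 : ↥Y)]
    · simp only [inv_one, map_one, Units.val_one, Finset.sum_const, Finset.card_univ, hcard,
        nsmul_eq_mul, mul_one, hone, OneMemClass.coe_one, one_smul]
      simp
    · intro y _ hy
      have hy' : y⁻¹ ≠ 1 := by simpa using hy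
      obtain ⟨φ, hφ⟩ := CommGroup.exists_apply_ne_one_of_hasEnoughRootsOfUnity ↥Y F hy'
      have h0 : ∑ μ : ↥Y →* Fˣ, ((μ y⁻¹ : Fˣ) : F) = 0 := by
        have h1 := sum_hom_units_eq_zero
          ((Units.coeHom F).comp (MonoidHom.eval (M := ↥Y) (N := Fˣ) y⁻¹)) (by
            intro h
            have h2 := DFunLike.congr_fun h φ
            simp only [MonoidHom.coe_comp, Function.comp_apply, MonoidHom.one_apply] at h2
            apply hφ
            ext
            simpa using h2)
        simpa using h1
      rw [h0, zero_smul]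
    · simp
  rw [← hsum]
  exact Finset.sum_eq_zero (fun μ _ => hv μ)

end Cfsg.Agent.Lib.helper81.WT
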