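import Mathlib
import Cfsg.Agent.Lib.helper24.S6eDefs
import Cfsg.Agent.Lib.helper6.SLCard

set_option autoImplicit false

namespace Cfsg.Agent.Lib.helper24

open Matrix Cfsg Cfsg.Geo

theorem h32_s6_emb_facts {F : Type*} [Field F] (A B : Matrix (Fin 2) (Fin 2) F) :
    s6Emb (A * B) = s6Emb A * s6Emb B ∧ s6Emb (1 : Matrix (Fin 2) (Fin 2) F) = 1 ∧
    Matrix.trace (s6Emb A) = Matrix.trace A + 2 ∧
    (A.det = 1 → ∀ u v : S6I → F, sympForm 2 F (s6Emb A *ᵥ u) (s6Emb A *ᵥ v) = sympForm 2 F u v) ∧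
    (A ≠ 1 → ∀ z : F, s6Emb A ≠ z • (1 : Matrix S6I S6I F)) := by
  refine ⟨?_, ?_, ?_, ?_, ?_⟩
  · ext (i | i) (j | j) <;> fin_cases i <;> fin_cases j <;>
      simp [s6Emb, Matrix.mul_apply, Fintype.sum_sum_type, Fin.sum_univ_two, Matrix.diagonal_apply]
  · ext (i | i) (j | j) <;> fin_cases i <;> fin_cases j <;>
      simp [s6Emb]
  · simp only [s6Emb, Matrix.trace, Matrix.diag, Fintype.sum_sum_type, Fin.sum_univ_two,
      Matrix.fromBlocks_apply₁₁, Matrix.fromBlocks_apply₂₂, Matrix.diagonal_apply_eq]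
    simp
    ring
  · intro hdet u v
    rw [Matrix.det_fin_two] at hdet
    simp only [sympForm, Matrix.J, s6Emb, dotProduct, Matrix.mulVec, Fintype.sum_sum_type,
      Fin.sum_univ_two, Matrix.fromBlocks_apply₁₁, Matrix.fromBlocks_apply₁₂,
      Matrix.fromBlocks_apply₂₁, Matrix.fromBlocks_apply₂₂, Matrix.diagonal_apply,
      Matrix.zero_apply, Matrix.neg_apply, Matrix.one_apply]
    simp
    linear_combination (u (Sum.inr 0) * v (Sum.inl 0) - u (Sum.inl 0) * v (Sum.inr 0)) * hdet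
  · intro hA z hz
    have e1 := congrFun (congrFun hz (Sum.inl 1)) (Sum.inl 1)
    have e00 := congrFun (congrFun hz (Sum.inl 0)) (Sum.inl 0)
    have e01 := congrFun (congrFun hz (Sum.inl 0)) (Sum.inr 0)
    have e10 := congrFun (congrFun hz (Sum.inr 0)) (Sum.inl 0)
    have e11 := congrFun (congrFun hz (Sum.inr 0)) (Sum.inr 0)
    simp [s6Emb] at e1 e00 e01 e10 e11
    apply hA
    ext i j
    fin_cases i <;> fin_cases j <;> simp [e00, e01, e10, e11, ← e1]

theorem h32_s6_sl2_elt {F : Type*} [Field F] [Fintype F] (r : ℕ) [Fact r.Prime]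
    (hdiv : r ∣ Fintype.card F ^ 2 - 1) :
    ∃ A : Matrix (Fin 2) (Fin 2) F, A.det = 1 ∧ A ^ r = 1 ∧ A ≠ 1 := by
  classical
  have hq : 2 ≤ Fintype.card F := Fintype.one_lt_card
  have hcard := Cfsg.Agent.Lib.helper6.card_SL (F := F) 2 (le_refl _ |>.trans (by norm_num))
  rw [Fin.prod_univ_two] at hcard
  simp only [Fin.val_zero, Fin.val_one, pow_zero, pow_one] at hcard
  have hdvd : r ∣ Nat.card (Matrix.SpecialLinearGroup (Fin 2) F) := by
    obtain ⟨q, hqdef⟩ : ∃ q, q = Fintype.card F := ⟨_, rfl⟩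
    rw [← hqdef] at hcard hdiv hq
    have h1 : q ^ 2 - q = q * (q - 1) := by
      rw [Nat.mul_sub, mul_one, sq]
    rw [h1] at hcard
    have h2 : (q - 1) * Nat.card (Matrix.SpecialLinearGroup (Fin 2) F) = (q - 1) * ((q ^ 2 - 1) * q) := by
      rw [hcard]; ring
    have h3 : Nat.card (Matrix.SpecialLinearGroup (Fin 2) F) = (q ^ 2 - 1) * q :=
      Nat.eq_of_mul_eq_mul_left (by omega) h2
    rw [h3]
    exact Dvd.dvd.mul_right hdiv q
  obtain ⟨x, hx⟩ := exists_prime_orderOf_dvd_card' r hdvd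
  refine ⟨(x : Matrix (Fin 2) (Fin 2) F), x.det_coe, ?_, ?_⟩
  · rw [← Matrix.SpecialLinearGroup.coe_pow, ← hx, pow_orderOf_eq_one, Matrix.SpecialLinearGroup.coe_one]
  · intro h1
    have hx1 : x = 1 := by
      apply Subtype.ext
      rw [Matrix.SpecialLinearGroup.coe_one]
      exact h1
    rw [hx1, orderOf_one] at hx
    exact (Fact.out : r.Prime).one_lt.ne hx

end Cfsg.Agent.Lib.helper24
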