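import Mathlib
import Cfsg.Agent.Lib.helper24.S6eDefs

set_option autoImplicit false

namespace Cfsg.Agent.Lib.helper24

open Matrix Cfsg Cfsg.Geo

/-- a `2 × 2` matrix with the entries of the identity is the identity -/
theorem h32_mat2_eq_one {F : Type*} [Field F] (A : Matrix (Fin 2) (Fin 2) F)
    (h00 : A 0 0 = 1) (h01 : A 0 1 = 0) (h10 : A 1 0 = 0) (h11 : A 1 1 = 1) : A = 1 := by
  ext i j
  fin_cases i <;> fin_cases j <;> simp [h00, h01, h10, h11]

theorem h32_s6_sl2_trace3 {F : Type*} [Field F] (h2 : (2 : F) ≠ 0) (A : Matrix (Fin 2) (Fin 2) F) (hdet : A.det = 1)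
    (h3 : A ^ 3 = 1) (h1 : A ≠ 1) : Matrix.trace A = -1 := by
  rw [Matrix.det_fin_two] at hdet
  rw [Matrix.trace_fin_two]
  have e00 := congrFun (congrFun h3 0) 0
  have e01 := congrFun (congrFun h3 0) 1
  have e10 := congrFun (congrFun h3 1) 0
  have e11 := congrFun (congrFun h3 1) 1
  simp only [pow_succ, pow_zero, one_mul, Matrix.mul_apply, Fin.sum_univ_two, Matrix.one_apply_eq,
    ne_eq, zero_ne_one, one_ne_zero, not_false_eq_true, Matrix.one_apply_ne] at e00 e01 e10 e11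
  obtain ⟨a, ha⟩ : ∃ a, a = A 0 0 := ⟨_, rfl⟩
  obtain ⟨b, hb⟩ : ∃ b, b = A 0 1 := ⟨_, rfl⟩
  obtain ⟨c, hc⟩ : ∃ c, c = A 1 0 := ⟨_, rfl⟩
  obtain ⟨d, hd⟩ : ∃ d, d = A 1 1 := ⟨_, rfl⟩
  rw [← ha, ← hb, ← hc, ← hd] at hdet e00 e01 e10 e11
  rw [← ha, ← hd]
  have k00 : ((a + d) ^ 2 - 1) * a = 1 + (a + d) := by
    linear_combination e00 + (a + (a + d)) * hdet
  have k01 : ((a + d) ^ 2 - 1) * b = 0 := by
    linear_combination e01 + b * hdet
  have k10 : ((a + d) ^ 2 - 1) * c = 0 := by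
    linear_combination e10 + c * hdet
  have k11 : ((a + d) ^ 2 - 1) * d = 1 + (a + d) := by
    linear_combination e11 + (d + (a + d)) * hdet
  by_cases hτ : (a + d) ^ 2 - 1 = 0
  · rw [hτ, zero_mul] at k00
    linear_combination -k00
  · exfalso
    have hb0 : b = 0 := by
      rcases mul_eq_zero.mp k01 with h | h
      · exact absurd h hτ
      · exact h
    have hc0 : c = 0 := by
      rcases mul_eq_zero.mp k10 with h | h
      · exact absurd h hτ
      · exact h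
    have had : a = d := by
      have : ((a + d) ^ 2 - 1) * (a - d) = 0 := by linear_combination k00 - k11
      rcases mul_eq_zero.mp this with h | h
      · exact absurd h hτ
      · exact sub_eq_zero.mp h
    rw [hb0, hc0, ← had] at hdet e00
    have ha1 : a = 1 := by
      linear_combination e00 - a * hdet
    apply h1
    apply h32_mat2_eq_one
    · rw [← ha, ha1]
    · rw [← hb, hb0]
    · rw [← hc, hc0]
    · rw [← hd, ← had, ha1]

theorem h32_s6_sl2_trace5 {F : Type*} [Field F] (h2 : (2 : F) ≠ 0) (A : Matrix (Fin 2) (Fin 2) F) (hdet : A.det = 1)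
    (h5 : A ^ 5 = 1) (h1 : A ≠ 1) : Matrix.trace A ^ 2 + Matrix.trace A - 1 = 0 := by
  rw [Matrix.det_fin_two] at hdet
  rw [Matrix.trace_fin_two]
  have e00 := congrFun (congrFun h5 0) 0
  have e01 := congrFun (congrFun h5 0) 1
  have e10 := congrFun (congrFun h5 1) 0
  have e11 := congrFun (congrFun h5 1) 1
  simp only [pow_succ, pow_zero, one_mul, Matrix.mul_apply, Fin.sum_univ_two, Matrix.one_apply_eq,
    ne_eq, zero_ne_one, one_ne_zero, not_false_eq_true, Matrix.one_apply_ne] at e00 e01 e10 e11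
  obtain ⟨a, ha⟩ : ∃ a, a = A 0 0 := ⟨_, rfl⟩
  obtain ⟨b, hb⟩ : ∃ b, b = A 0 1 := ⟨_, rfl⟩
  obtain ⟨c, hc⟩ : ∃ c, c = A 1 0 := ⟨_, rfl⟩
  obtain ⟨d, hd⟩ : ∃ d, d = A 1 1 := ⟨_, rfl⟩
  rw [← ha, ← hb, ← hc, ← hd] at hdet e00 e01 e10 e11
  rw [← ha, ← hd]
  obtain ⟨τ, hτ⟩ : ∃ τ, τ = a + d := ⟨_, rfl⟩
  obtain ⟨δ, hδ⟩ : ∃ δ, δ = a * d - b * c := ⟨_, rfl⟩
  rw [← hτ]
  have hdet' : δ = 1 := by rw [hδ]; exact hdet
  have k00 : (τ ^ 4 - 3 * τ ^ 2 + 1) * a = 1 + (τ ^ 3 - 2 * τ) := by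
    rw [hτ]
    linear_combination e00 - ((-3 * (a + d) ^ 2 + 1 + (a * d - b * c)) * a - (a + d) ^ 3
      + 2 * (a + d) * (1 + (a * d - b * c))) * hdet
  have k01 : (τ ^ 4 - 3 * τ ^ 2 + 1) * b = 0 := by
    rw [hτ]
    linear_combination e01 - ((-3 * (a + d) ^ 2 + 1 + (a * d - b * c)) * b) * hdet
  have k10 : (τ ^ 4 - 3 * τ ^ 2 + 1) * c = 0 := by
    rw [hτ]
    linear_combination e10 - ((-3 * (a + d) ^ 2 + 1 + (a * d - b * c)) * c) * hdet
  have k11 : (τ ^ 4 - 3 * τ ^ 2 + 1) * d = 1 + (τ ^ 3 - 2 * τ) := by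
    rw [hτ]
    linear_combination e11 - ((-3 * (a + d) ^ 2 + 1 + (a * d - b * c)) * d - (a + d) ^ 3
      + 2 * (a + d) * (1 + (a * d - b * c))) * hdet
  by_cases hu : τ ^ 4 - 3 * τ ^ 2 + 1 = 0
  · rw [hu, zero_mul] at k00
    linear_combination -τ * k00 - hu
  · exfalso
    have hb0 : b = 0 := by
      rcases mul_eq_zero.mp k01 with h | h
      · exact absurd h hu
      · exact h
    have hc0 : c = 0 := by
      rcases mul_eq_zero.mp k10 with h | h
      · exact absurd h hu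
      · exact h
    have had : a = d := by
      have : (τ ^ 4 - 3 * τ ^ 2 + 1) * (a - d) = 0 := by linear_combination k00 - k11
      rcases mul_eq_zero.mp this with h | h
      · exact absurd h hu
      · exact sub_eq_zero.mp h
    rw [hb0, hc0, ← had] at hdet e00
    have ha1 : a = 1 := by
      linear_combination e00 - (a ^ 3 + a) * hdet
    apply h1
    apply h32_mat2_eq_one
    · rw [← ha, ha1]
    · rw [← hb, hb0]
    · rw [← hc, hc0]
    · rw [← hd, ← had, ha1]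

end Cfsg.Agent.Lib.helper24
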