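import Mathlib
import Cfsg.Agent.Lib.helper7.CardSL
import Cfsg.Agent.Lib.helper6.SLCard

/-! S3875 / B8 (architect helper21): the two groups of the conclusion of S0999 have order at
least `p (p^2 - 1) / 2`. -/

set_option autoImplicit false

namespace Cfsg.Agent.Lib.helper32.BRL

/-- `|PSL_2(F)| = q (q^2 - 1)` written with `q = r + 1` even. -/
theorem helper32_card_PSL2_even {F : Type*} [Field F] [Fintype F] (r : ℕ) (hr : 0 < r)
    (hodd : Odd r) (hF : Fintype.card F = r + 1) :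
    Nat.card (Matrix.ProjectiveSpecialLinearGroup (Fin 2) F) = (r + 2) * (r * (r + 1)) := by
  have h1 := Cfsg.Agent.Lib.helper6.card_PSL (F := F) 2 (by norm_num)
  rw [hF, Fin.prod_univ_two] at h1
  simp only [Nat.add_sub_cancel, Fin.val_zero, pow_zero, Fin.val_one, pow_one] at h1
  have hg : Nat.gcd 2 r = 1 := Nat.coprime_two_left.mpr hodd
  have e1 : (r + 1) ^ 2 - 1 = r * (r + 2) := by
    have : (r + 1) ^ 2 = r * (r + 2) + 1 := by ring
    omega
  have e2 : (r + 1) ^ 2 - (r + 1) = r * (r + 1) := by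
    have : (r + 1) ^ 2 = r * (r + 1) + (r + 1) := by ring
    omega
  rw [hg, e1, e2, one_mul] at h1
  apply Nat.eq_of_mul_eq_mul_left hr
  rw [h1]; ring

end Cfsg.Agent.Lib.helper32.BRL

namespace Cfsg.Agent.Lib.helper21.BRL

open Cfsg

/-- B8: the two groups of the conclusion of S0999 have order at least `p (p^2 - 1) / 2`. -/
theorem size_bound2 {H : Type*} [Group H] [Finite H] (p : ℕ) (hp : p.Prime)
    (h : (∃ (F : Type) (_ : Field F) (_ : Fintype F), Fintype.card F = p ∧ 3 < p ∧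
        Nonempty (H ≃* Matrix.ProjectiveSpecialLinearGroup (Fin 2) F)) ∨
      (∃ (m : ℕ) (F : Type) (_ : Field F) (_ : Fintype F), Fintype.card F = 2 ^ m ∧
        p = 2 ^ m + 1 ∧ 3 < p ∧
        Nonempty (H ≃* Matrix.ProjectiveSpecialLinearGroup (Fin 2) F))) :
    p * (p ^ 2 - 1) / 2 ≤ Nat.card H := by
  rcases h with ⟨F, _, _, hF, hp3, ⟨e⟩⟩ | ⟨m, F, _, _, hF, hpm, hp3, ⟨e⟩⟩
  · have hodd : p % 2 = 1 := (hp.eq_two_or_odd).resolve_left (by omega)
    have h2 : (2 : F) ≠ 0 := by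
      intro h20
      have hpF : ((Fintype.card F : ℕ) : F) = 0 := FiniteField.cast_card_eq_zero F
      rw [hF] at hpF
      obtain ⟨k, hk⟩ : ∃ k, p = 2 * k + 1 := ⟨p / 2, by omega⟩
      rw [hk] at hpF
      push_cast at hpF
      rw [h20, zero_mul, zero_add] at hpF
      exact one_ne_zero hpF
    have h1 := Cfsg.Agent.Lib.helper7.two_mul_card_PSL2 hF h2
    rw [Nat.card_congr e.toEquiv, ← h1]
    exact le_of_eq (Nat.mul_div_cancel_left _ (by norm_num))
  · have hm2 : 2 ≤ m := by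
      by_contra hlt
      have hm1 : m ≤ 1 := by omega
      have : 2 ^ m ≤ 2 ^ 1 := Nat.pow_le_pow_right (by norm_num) hm1
      omega
    have hq4 : 2 ^ 2 ≤ 2 ^ m := Nat.pow_le_pow_right (by norm_num) hm2
    obtain ⟨r, hr⟩ : ∃ r, 2 ^ m = r + 1 := ⟨2 ^ m - 1, by omega⟩
    have hr3 : 3 ≤ r := by omega
    have hodd : Odd r := by
      have heven : Even (2 ^ m) := (Nat.even_pow' (by omega)).mpr even_two
      rw [hr] at heven
      rcases Nat.even_or_odd r with h1 | h1
      · exact absurd heven (Nat.not_even_iff_odd.mpr (h1.add_one))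
      · exact h1
    have hc := Cfsg.Agent.Lib.helper32.BRL.helper32_card_PSL2_even (F := F) r (by omega) hodd
      (by rw [hF, hr])
    rw [Nat.card_congr e.toEquiv, hc]
    have hpr : p = r + 2 := by omega
    rw [hpr]
    have e3 : (r + 2) ^ 2 - 1 = (r + 1) * (r + 3) := by
      have : (r + 2) ^ 2 = (r + 1) * (r + 3) + 1 := by ring
      omega
    rw [e3]
    apply Nat.div_le_of_le_mul
    calc (r + 2) * ((r + 1) * (r + 3)) = ((r + 2) * (r + 1)) * (r + 3) := by ring
      _ ≤ ((r + 2) * (r + 1)) * (2 * r) := Nat.mul_le_mul_left _ (by omega)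
      _ = 2 * ((r + 2) * (r * (r + 1))) := by ring

end Cfsg.Agent.Lib.helper21.BRL
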