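import Mathlib
import Cfsg.Prelude.Def_LocalStructure
import Cfsg.Agent.Lib.helper7.CardSL

/-! S3875 / E2 (architect helper21): `PSL(2, p)` has order `p (p^2 - 1) / 2` and is not
`p`-closed (`p` odd). -/

set_option autoImplicit false

namespace Cfsg.Agent.Lib.helper32.BRL

open Matrix

/-- the upper unitriangular matrix -/
def helper32_u (p : ℕ) : Matrix.SpecialLinearGroup (Fin 2) (ZMod p) :=
  ⟨!![1, 1; 0, 1], by simp [Matrix.det_fin_two]⟩

/-- a lower unitriangular matrix -/
def helper32_l (p : ℕ) : Matrix.SpecialLinearGroup (Fin 2) (ZMod p) :=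
  ⟨!![1, 0; -1, 1], by simp [Matrix.det_fin_two]⟩

/-- the Weyl element -/
def helper32_w (p : ℕ) : Matrix.SpecialLinearGroup (Fin 2) (ZMod p) :=
  ⟨!![0, 1; -1, 0], by simp [Matrix.det_fin_two]⟩

theorem helper32_u_pow (p : ℕ) (n : ℕ) :
    ((helper32_u p ^ n : Matrix.SpecialLinearGroup (Fin 2) (ZMod p)) :
      Matrix (Fin 2) (Fin 2) (ZMod p)) = !![1, (n : ZMod p); 0, 1] := by
  induction n with
  | zero =>
    ext i j
    fin_cases i <;> fin_cases j <;> simp
  | succ n ih =>
    rw [pow_succ, Matrix.SpecialLinearGroup.coe_mul, ih]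
    ext i j
    fin_cases i <;> fin_cases j <;>
      simp [helper32_u, Matrix.mul_apply, Fin.sum_univ_two]
    ring

theorem helper32_l_pow (p : ℕ) (n : ℕ) :
    ((helper32_l p ^ n : Matrix.SpecialLinearGroup (Fin 2) (ZMod p)) :
      Matrix (Fin 2) (Fin 2) (ZMod p)) = !![1, 0; -(n : ZMod p), 1] := by
  induction n with
  | zero =>
    ext i j
    fin_cases i <;> fin_cases j <;> simp
  | succ n ih =>
    rw [pow_succ, Matrix.SpecialLinearGroup.coe_mul, ih]
    ext i j
    fin_cases i <;> fin_cases j <;>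
      simp [helper32_l, Matrix.mul_apply, Fin.sum_univ_two]
    ring

theorem helper32_u_pow_p (p : ℕ) : helper32_u p ^ p = 1 := by
  apply Subtype.ext
  rw [helper32_u_pow]
  ext i j
  fin_cases i <;> fin_cases j <;> simp

theorem helper32_l_pow_p (p : ℕ) : helper32_l p ^ p = 1 := by
  apply Subtype.ext
  rw [helper32_l_pow]
  ext i j
  fin_cases i <;> fin_cases j <;> simp

theorem helper32_ulu (p : ℕ) : helper32_u p * helper32_l p * helper32_u p = helper32_w p := by
  apply Subtype.ext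
  rw [Matrix.SpecialLinearGroup.coe_mul, Matrix.SpecialLinearGroup.coe_mul]
  ext i j
  fin_cases i <;> fin_cases j <;>
    simp [helper32_u, helper32_l, helper32_w, Matrix.mul_apply, Fin.sum_univ_two]

theorem helper32_w_sq_mem (p : ℕ) :
    helper32_w p * helper32_w p ∈ Subgroup.center (Matrix.SpecialLinearGroup (Fin 2) (ZMod p)) := by
  rw [Subgroup.mem_center_iff]
  intro g
  apply Subtype.ext
  simp only [Matrix.SpecialLinearGroup.coe_mul]
  ext i j
  fin_cases i <;> fin_cases j <;>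
    simp [helper32_w, Matrix.mul_apply, Fin.sum_univ_two]

theorem helper32_w_not_mem (p : ℕ) [Fact p.Prime] :
    helper32_w p ∉ Subgroup.center (Matrix.SpecialLinearGroup (Fin 2) (ZMod p)) := by
  intro hmem
  rw [Subgroup.mem_center_iff] at hmem
  have h1 := hmem (helper32_u p)
  have h2 := congrArg Subtype.val h1
  rw [Matrix.SpecialLinearGroup.coe_mul, Matrix.SpecialLinearGroup.coe_mul] at h2
  have h3 := congrFun (congrFun h2 0) 0
  simp [helper32_u, helper32_w, Matrix.mul_apply, Fin.sum_univ_two] at h3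

theorem helper32_isPGroup_zpowers {G : Type*} [Group G] (p : ℕ) (x : G) (hx : x ^ p = 1) :
    IsPGroup p (Subgroup.zpowers x) := by
  rintro ⟨g, hg⟩
  obtain ⟨i, rfl⟩ := Subgroup.mem_zpowers_iff.mp hg
  refine ⟨1, Subtype.ext ?_⟩
  show (x ^ i) ^ p ^ 1 = 1
  rw [pow_one, ← zpow_natCast, ← _root_.zpow_mul, mul_comm, _root_.zpow_mul, zpow_natCast, hx,
    _root_.one_zpow]

end Cfsg.Agent.Lib.helper32.BRL

namespace Cfsg.Agent.Lib.helper21.BRL

open Cfsg Cfsg.Agent.Lib.helper32.BRL

/-- E2 -/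
theorem psl_not_pclosed (p : ℕ) [Fact p.Prime] (hp : p ≠ 2) :
    Nat.card (Matrix.ProjectiveSpecialLinearGroup (Fin 2) (ZMod p)) = p * (p ^ 2 - 1) / 2 ∧
      ¬ IsPClosed p (Matrix.ProjectiveSpecialLinearGroup (Fin 2) (ZMod p)) := by
  have hpp : p.Prime := Fact.out
  constructor
  · have h2 : (2 : ZMod p) ≠ 0 := by
      intro h20
      have h3 : ((2 : ℕ) : ZMod p) = 0 := by exact_mod_cast h20
      rw [ZMod.natCast_eq_zero_iff] at h3
      have h4 := Nat.le_of_dvd (by norm_num) h3
      have h5 := hpp.two_le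
      omega
    have h1 := Cfsg.Agent.Lib.helper7.two_mul_card_PSL2 (F := ZMod p) (ZMod.card p) h2
    rw [← h1]
    exact (Nat.mul_div_cancel_left _ (by norm_num)).symm
  · intro hcl
    have hu : (QuotientGroup.mk (helper32_u p) :
        Matrix.ProjectiveSpecialLinearGroup (Fin 2) (ZMod p)) ^ p = 1 := by
      rw [← QuotientGroup.mk_pow, helper32_u_pow_p]; rfl
    have hl : (QuotientGroup.mk (helper32_l p) :
        Matrix.ProjectiveSpecialLinearGroup (Fin 2) (ZMod p)) ^ p = 1 := by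
      rw [← QuotientGroup.mk_pow, helper32_l_pow_p]; rfl
    obtain ⟨P, hP⟩ := (helper32_isPGroup_zpowers p _ hu).exists_le_sylow
    obtain ⟨Q, hQ⟩ := (helper32_isPGroup_zpowers p _ hl).exists_le_sylow
    have : (P : Subgroup (Matrix.ProjectiveSpecialLinearGroup (Fin 2) (ZMod p))).Normal := hcl P
    obtain ⟨g, hg⟩ := MulAction.exists_smul_eq
      (Matrix.ProjectiveSpecialLinearGroup (Fin 2) (ZMod p)) P Q
    rw [Sylow.smul_eq_of_normal] at hg
    rw [← hg] at hQ
    have huP := hP (Subgroup.mem_zpowers _)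
    have hlP := hQ (Subgroup.mem_zpowers _)
    have hwP : (QuotientGroup.mk (helper32_w p) :
        Matrix.ProjectiveSpecialLinearGroup (Fin 2) (ZMod p)) ∈ P := by
      rw [← helper32_ulu]
      exact P.mul_mem (P.mul_mem huP hlP) huP
    have hw2 : (QuotientGroup.mk (helper32_w p) :
        Matrix.ProjectiveSpecialLinearGroup (Fin 2) (ZMod p)) ^ 2 = 1 := by
      rw [pow_two, ← QuotientGroup.mk_mul]
      exact (QuotientGroup.eq_one_iff _).mpr (helper32_w_sq_mem p)
    have hw1 : (QuotientGroup.mk (helper32_w p) :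
        Matrix.ProjectiveSpecialLinearGroup (Fin 2) (ZMod p)) ≠ 1 := by
      intro h1
      exact helper32_w_not_mem p ((QuotientGroup.eq_one_iff _).mp h1)
    obtain ⟨k, hk⟩ := P.isPGroup' ⟨_, hwP⟩
    have hk' : (QuotientGroup.mk (helper32_w p) :
        Matrix.ProjectiveSpecialLinearGroup (Fin 2) (ZMod p)) ^ p ^ k = 1 := by
      have := congrArg Subtype.val hk
      simpa using this
    have hd1 := orderOf_dvd_of_pow_eq_one hw2
    have hd2 := orderOf_dvd_of_pow_eq_one hk'
    have hcop : Nat.Coprime 2 (p ^ k) :=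
      Nat.Coprime.pow_right k ((Nat.coprime_primes Nat.prime_two hpp).mpr (Ne.symm hp))
    have hd3 := Nat.dvd_gcd hd1 hd2
    rw [hcop.gcd_eq_one] at hd3
    exact hw1 (orderOf_eq_one_iff.mp (Nat.dvd_one.mp hd3))

end Cfsg.Agent.Lib.helper21.BRL
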