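import Mathlib
import Cfsg.Agent.Lib.helper21.BRDefs
import Cfsg.Agent.Lib.helper73.M11_V
import Cfsg.Agent.Lib.helper81.CharOrtho

/-! S0999 / M9 (architect helper21): no `p`-regular element is both `r`-singular for a prime
`r ∣ p - 1` and `r'`-singular for a prime `r' ∣ p - e` (defect-zero vanishing + `relY`). -/

set_option autoImplicit false

namespace Cfsg.Agent.Lib.helper32.BR

open Cfsg Cfsg.Agent.Lib.helper21

universe u

section Chars

variable {G : Type u} [Group G] [Fintype G]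

/-- Defect-zero vanishing in the form used here. -/
theorem helper32_dz (ψ : IrrCharacter G) (d k r : ℕ) (hr : r.Prime)
    (hdeg : charDegree (ψ : G → ℂ) = d) (hcard : Nat.card G = d * k) (hrk : ¬ r ∣ k)
    (g : G) (hg : r ∣ orderOf g) : (ψ : G → ℂ) g = 0 := by
  have hd0 : d ≠ 0 := by
    have := Cfsg.Agent.Lib.helper81.irr_charDegree_pos ψ
    omega
  refine Cfsg.Agent.Lib.helper73.irr_vanish_of_defect_zero ψ r (d.factorization r) hr ?_ ?_ ?_ g hg
  · rw [hcard]
    exact Dvd.dvd.mul_right (Nat.ordProj_dvd d r) k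
  · intro h
    rw [hcard] at h
    have h1 : r ^ (d.factorization r + 1) ∣ d := by
      refine Nat.Coprime.dvd_of_dvd_mul_right ?_ h
      exact Nat.Coprime.pow_left _ ((Nat.Prime.coprime_iff_not_dvd hr).2 hrk)
    exact Nat.pow_succ_factorization_not_dvd hd0 hr h1
  · rw [hdeg]
    exact Nat.ordProj_dvd d r

theorem helper32_m9_arith (p e t : ℕ) (het : e * t = p - 1) (hp : 2 ≤ p) (ht : 1 ≤ t) :
    p * (p - 1) * (p - e) = (1 + (t - 1) * p) * (p * e) ∧ p - e = e * (t - 1) + 1 := by
  obtain ⟨u, rfl⟩ : ∃ u, t = u + 1 := ⟨t - 1, by omega⟩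
  have hp1 : p = e * (u + 1) + 1 := by omega
  subst hp1
  have h1 : e * (u + 1) + 1 - e = e * u + 1 := by
    rw [show e * (u + 1) + 1 = e * u + 1 + e by ring]
    exact Nat.add_sub_cancel _ _
  simp only [Nat.add_sub_cancel]
  rw [h1]
  exact ⟨by ring, rfl⟩

end Chars

end Cfsg.Agent.Lib.helper32.BR

namespace Cfsg.Agent.Lib.helper21.BR

open Cfsg Cfsg.Agent.Lib.helper21 Cfsg.Agent.Lib.helper32.BR

universe u

section Chars

variable {G : Type u} [Group G] [Fintype G]

variable (p : ℕ) [Fact p.Prime] (P : Sylow p G)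

variable {p P}
variable {e t n v : ℕ} {X Y : Finset (IrrCharacter G)} {εX : IrrCharacter G → ℤ} {ε : ℤ}
  {f₀ : ℕ}

/-- M9 -/
theorem no_mixed (h : BRSelf p P e t X Y εX ε f₀) (hε : ε = -1)
    (hcop : Nat.Coprime (p - 1) (p - e)) :
    ∀ g : G, ¬ p ∣ orderOf g → ∀ r r' : ℕ, r.Prime → r'.Prime → r ∣ p - 1 → r' ∣ p - e →
      r ∣ orderOf g → r' ∣ orderOf g → False := by
  classical
  intro g hg r r' hr hr' hrd hr'd hrg hr'g
  have hp : p.Prime := Fact.out
  have hf : f₀ = p - e := by
    rcases h.fcases with ⟨h1, _⟩ | ⟨_, h2⟩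
    · rw [hε] at h1; norm_num at h1
    · exact h2
  have het := h.et
  have hte := h.t_ge
  have hee := h.e_ge
  have hcard := h.cardG
  obtain ⟨hA1, hA2⟩ := helper32_m9_arith p e t het hp.two_le (by omega)
  have hpe0 : 0 < p - e := by omega
  have hp10 : 0 < p - 1 := by have := hp.two_le; omega
  have hr'p : ¬ r' ∣ p := by
    intro hd
    have h1 : r' = p := (Nat.prime_dvd_prime_iff_eq hr' hp).mp hd
    rw [h1] at hr'd
    have hle := Nat.le_of_dvd hpe0 hr'd
    omega
  have hr'1 : ¬ r' ∣ p - 1 := by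
    intro hd
    have h1 := Nat.dvd_gcd hd hr'd
    rw [hcop.gcd_eq_one] at h1
    exact hr'.one_lt.ne' (Nat.dvd_one.mp h1)
  have hrp : ¬ r ∣ p := by
    intro hd
    have h1 : r = p := (Nat.prime_dvd_prime_iff_eq hr hp).mp hd
    rw [h1] at hrd
    have hle := Nat.le_of_dvd hp10 hrd
    omega
  have hre : ¬ r ∣ p - e := by
    intro hd
    have h1 := Nat.dvd_gcd hrd hd
    rw [hcop.gcd_eq_one] at h1
    exact hr.one_lt.ne' (Nat.dvd_one.mp h1)
  have hYne : Y.Nonempty := by
    rw [Finset.nonempty_iff_ne_empty]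
    intro hY
    have h1 := h.data.cardY
    rw [hY] at h1
    simp at h1
    omega
  obtain ⟨θ, hθ⟩ := hYne
  have hθg : (θ : G → ℂ) g = 0 := by
    refine helper32_dz θ (p - e) (p * (p - 1)) r' hr' ?_ ?_ ?_ g hr'g
    · rw [h.degY θ hθ, hf]
    · rw [hcard]; ring
    · intro hd
      rcases (Nat.Prime.dvd_mul hr').mp hd with h1 | h1
      · exact hr'p h1
      · exact hr'1 h1
  have hX : ∀ χ ∈ X, (εX χ : ℂ) * (χ : G → ℂ) g = if χ = trivIrr G then 1 else 0 := by
    intro χ hχ
    by_cases h1 : χ = trivIrr G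
    · rw [if_pos h1, h1, h.data.one_sgn]
      show ((1 : ℤ) : ℂ) * (1 : ℂ) = 1
      norm_num
    · rw [if_neg h1]
      rcases h.degX χ hχ with h2 | ⟨_, h2⟩ | ⟨_, h2⟩
      · exact absurd h2 h1
      · have h3 : (χ : G → ℂ) g = 0 := by
          refine helper32_dz χ (1 + (t - 1) * p) (p * e) r' hr' h2 ?_ ?_ g hr'g
          · rw [hcard]; exact hA1
          · intro hd
            rcases (Nat.Prime.dvd_mul hr').mp hd with h3 | h3
            · exact hr'p h3
            · exact hr'1 (by rw [← het]; exact Dvd.dvd.mul_right h3 t)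
        rw [h3, mul_zero]
      · have h3 : (χ : G → ℂ) g = 0 := by
          refine helper32_dz χ (p - 1) (p * (p - e)) r hr h2 ?_ ?_ g hrg
          · rw [hcard]; ring
          · intro hd
            rcases (Nat.Prime.dvd_mul hr).mp hd with h3 | h3
            · exact hrp h3
            · exact hre h3
        rw [h3, mul_zero]
  have hrel := h.data.relY θ hθ g hg
  rw [hθg, mul_zero, Finset.sum_congr rfl hX, Finset.sum_ite_eq', if_pos h.data.one_mem] at hrel
  exact zero_ne_one hrel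

end Chars

end Cfsg.Agent.Lib.helper21.BR
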