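import Mathlib
import Cfsg.Agent.Lib.helper21.BRDefs
import Cfsg.Agent.Lib.helper73.M11_V
import Cfsg.Agent.Lib.helper81.CharOrtho
import Cfsg.Agent.Lib.helper32.BR_M9

/-! S0999 / M12a (architect helper21): in the case `e = 2`, `ε = -1` the number of non-identity
elements of order dividing `p - 1` is `p (p - 2)`.  The core lemma takes the conclusion of the
piece CH5 (`sum_preg`) as a hypothesis. -/

set_option autoImplicit false

namespace Cfsg.Agent.Lib.helper32.BR

open Cfsg Cfsg.Agent.Lib.helper21 Cfsg.Agent.Lib.helper21.BR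

universe u

section Chars

variable {G : Type u} [Group G] [Fintype G]

variable {p : ℕ} [Fact p.Prime] {P : Sylow p G}
variable {t : ℕ} {X Y : Finset (IrrCharacter G)} {εX : IrrCharacter G → ℤ} {ε : ℤ}
  {f₀ : ℕ}

/-- M12a with the conclusion of CH5 as a hypothesis. -/
theorem helper32_card_A_core (h : BRSelf p P 2 t X Y εX ε f₀) (hε : ε = -1)
    (hsum : ∀ θ ∈ Y, ∑ g : G, (if p ∣ orderOf g then (0 : ℂ) else (θ : G → ℂ) g) =
      (ε : ℂ) * (((p - 1) * (p - 2) : ℕ) : ℂ)) :
    Nat.card {g : G // g ≠ 1 ∧ orderOf g ∣ p - 1} = p * (p - 2) := by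
  classical
  have hp : p.Prime := Fact.out
  have hp2 := hp.two_le
  have het := h.et
  have hte := h.t_ge
  have hcard := h.cardG
  have hp7 : 7 ≤ p := by omega
  have hf : f₀ = p - 2 := by
    rcases h.fcases with ⟨h1, _⟩ | ⟨_, h2⟩
    · rw [hε] at h1; norm_num at h1
    · exact h2
  obtain ⟨χ0, hχ0, hs0⟩ := h.minus
  have hdeg0 : charDegree (χ0 : G → ℂ) = p - 1 := by
    rcases h.degX χ0 hχ0 with h2 | ⟨h2, _⟩ | ⟨_, h2⟩
    · rw [h2, h.data.one_sgn] at hs0; norm_num at hs0
    · rw [h2] at hs0; norm_num at hs0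
    · exact h2
  have hne0 : χ0 ≠ trivIrr G := by
    intro h4; rw [h4, h.data.one_sgn] at hs0; norm_num at hs0
  have hX : X = {trivIrr G, χ0} := by
    symm
    apply Finset.eq_of_subset_of_card_le
    · intro x hx
      simp only [Finset.mem_insert, Finset.mem_singleton] at hx
      rcases hx with rfl | rfl
      · exact h.data.one_mem
      · exact hχ0
    · rw [h.data.cardX, Finset.card_pair hne0.symm]
  have hYne : Y.Nonempty := by
    rw [Finset.nonempty_iff_ne_empty]
    intro hY
    have h1 := h.data.cardY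
    rw [hY] at h1
    simp at h1
    omega
  obtain ⟨θ, hθ⟩ := hYne
  have hrel : ∀ g : G, ¬ p ∣ orderOf g → (θ : G → ℂ) g = (χ0 : G → ℂ) g - 1 := by
    intro g hg
    have h2 := h.data.relY θ hθ g hg
    rw [hX, Finset.sum_pair hne0.symm, h.data.one_sgn, hs0, hε] at h2
    have h3 : ((trivIrr G : IrrCharacter G) : G → ℂ) g = 1 := rfl
    rw [h3] at h2
    push_cast at h2
    linear_combination -h2
  have hχ0van : ∀ g : G, ∀ r : ℕ, r.Prime → r ∣ p - 1 → r ∣ orderOf g →
      (χ0 : G → ℂ) g = 0 := by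
    intro g r hr hrd hrg
    refine helper32_dz χ0 (p - 1) (p * (p - 2)) r hr hdeg0 (by rw [hcard]; ring) ?_ g hrg
    intro hd
    rcases (Nat.Prime.dvd_mul hr).mp hd with h3 | h3
    · have h4 : r ∣ p - (p - 1) := Nat.dvd_sub h3 hrd
      rw [show p - (p - 1) = 1 by omega] at h4
      exact hr.one_lt.ne' (Nat.dvd_one.mp h4)
    · have h4 : r ∣ (p - 1) - (p - 2) := Nat.dvd_sub hrd h3
      rw [show (p - 1) - (p - 2) = 1 by omega] at h4
      exact hr.one_lt.ne' (Nat.dvd_one.mp h4)
  have hθvan : ∀ g : G, ∀ r : ℕ, r.Prime → r ∣ p - 2 → r ∣ orderOf g →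
      (θ : G → ℂ) g = 0 := by
    intro g r hr hrd hrg
    refine helper32_dz θ (p - 2) (p * (p - 1)) r hr (by rw [h.degY θ hθ, hf])
      (by rw [hcard]; ring) ?_ g hrg
    intro hd
    rcases (Nat.Prime.dvd_mul hr).mp hd with h3 | h3
    · have h4 : r ∣ p - (p - 2) := Nat.dvd_sub h3 hrd
      rw [show p - (p - 2) = 2 by omega] at h4
      have h5 : r = 2 := (Nat.prime_dvd_prime_iff_eq hr Nat.prime_two).mp h4
      rw [h5] at h3
      have h6 : 2 = p := (Nat.prime_dvd_prime_iff_eq Nat.prime_two hp).mp h3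
      omega
    · have h4 : r ∣ (p - 1) - (p - 2) := Nat.dvd_sub h3 hrd
      rw [show (p - 1) - (p - 2) = 1 by omega] at h4
      exact hr.one_lt.ne' (Nat.dvd_one.mp h4)
  have hθ1 : (θ : G → ℂ) 1 = (p : ℂ) - 2 := by
    rw [Cfsg.Agent.Lib.helper81.irr_one_eq_charDegree, h.degY θ hθ, hf]
    push_cast [Nat.cast_sub (show 2 ≤ p by omega)]
    ring
  have hval : ∀ g : G, (if p ∣ orderOf g then (0 : ℂ) else (θ : G → ℂ) g)
      = (if g = 1 then ((p : ℂ) - 2) else 0)
        - (if (g ≠ 1 ∧ orderOf g ∣ p - 1) then 1 else 0) := by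
    intro g
    by_cases hg1 : g = 1
    · have h1 : ¬ p ∣ orderOf g := by
        rw [hg1, orderOf_one]
        intro hd
        exact hp.one_lt.ne' (Nat.dvd_one.mp hd)
      rw [if_neg h1, if_pos hg1, if_neg (fun hh => hh.1 hg1), hg1, hθ1]; ring
    · rw [if_neg hg1]
      have ho1 : orderOf g ≠ 1 := fun hh => hg1 (orderOf_eq_one_iff.mp hh)
      by_cases hgp : p ∣ orderOf g
      · rw [if_pos hgp]
        have h2 : ¬ (g ≠ 1 ∧ orderOf g ∣ p - 1) := by
          rintro ⟨-, hd⟩
          have h3 := Nat.le_of_dvd (by omega) (dvd_trans hgp hd)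
          omega
        rw [if_neg h2]; ring
      · rw [if_neg hgp]
        by_cases hd : orderOf g ∣ p - 1
        · rw [if_pos ⟨hg1, hd⟩]
          obtain ⟨r, hr, hrg⟩ := Nat.exists_prime_and_dvd ho1
          rw [hrel g hgp, hχ0van g r hr (dvd_trans hrg hd) hrg]
        · rw [if_neg (fun hh => hd hh.2)]
          have hcop1 : (orderOf g).Coprime (p - 1) := by
            by_contra hnc
            obtain ⟨r, hr, hrg, hrd⟩ := Nat.Prime.not_coprime_iff_dvd.mp hnc
            have h3 : (θ : G → ℂ) g = -1 := by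
              rw [hrel g hgp, hχ0van g r hr hrd hrg]; ring
            have hcop2 : (orderOf g).Coprime (p - 2) := by
              apply Nat.coprime_of_dvd
              intro s hs hsg hsd
              have h4 := hθvan g s hs hsd hsg
              rw [h3] at h4
              norm_num at h4
            have hcopp : (orderOf g).Coprime p :=
              ((Nat.Prime.coprime_iff_not_dvd hp).mpr hgp).symm
            have h5 : orderOf g ∣ p * (p - 1) * (p - 2) := by
              rw [← hcard]; exact orderOf_dvd_natCard g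
            have h6 : orderOf g ∣ p * (p - 1) := Nat.Coprime.dvd_of_dvd_mul_right hcop2 h5
            exact hd (Nat.Coprime.dvd_of_dvd_mul_left hcopp h6)
          have hcopp : (orderOf g).Coprime p :=
            ((Nat.Prime.coprime_iff_not_dvd hp).mpr hgp).symm
          have h5 : orderOf g ∣ p * ((p - 1) * (p - 2)) := by
            rw [← mul_assoc, ← hcard]; exact orderOf_dvd_natCard g
          have h6 : orderOf g ∣ (p - 1) * (p - 2) := Nat.Coprime.dvd_of_dvd_mul_left hcopp h5
          have h7 : orderOf g ∣ p - 2 := Nat.Coprime.dvd_of_dvd_mul_left hcop1 h6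
          obtain ⟨r, hr, hrg⟩ := Nat.exists_prime_and_dvd ho1
          rw [hθvan g r hr (dvd_trans hrg h7) hrg]; ring
  have hS := hsum θ hθ
  rw [Finset.sum_congr rfl (fun g _ => hval g), Finset.sum_sub_distrib, Finset.sum_ite_eq',
    if_pos (Finset.mem_univ _), Finset.sum_boole, hε] at hS
  rw [Nat.card_eq_fintype_card, Fintype.card_subtype]
  have hfin : (((Finset.univ.filter (fun g : G => g ≠ 1 ∧ orderOf g ∣ p - 1)).card : ℕ) : ℂ)
      = ((p * (p - 2) : ℕ) : ℂ) := by
    push_cast [Nat.cast_sub (show 2 ≤ p by omega), Nat.cast_sub (show 1 ≤ p by omega)] at hS ⊢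
    linear_combination -hS
  exact_mod_cast hfin

end Chars

end Cfsg.Agent.Lib.helper32.BR
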