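import Mathlib
import Cfsg.Agent.Lib.helper21.BRDefs
import Cfsg.Agent.Lib.helper32.BR_M12aCore
import Cfsg.Agent.Lib.helper79.BR_CH5

/-! S0999 / M12a (architect helper21): in the case `e = 2`, `ε = -1` the number of non-identity
elements of order dividing `p - 1` is `p (p - 2)`.  Wrapper of
`Cfsg.Agent.Lib.helper32.BR.helper32_card_A_core` with the landed piece CH5 (`sum_preg`). -/

set_option autoImplicit false

namespace Cfsg.Agent.Lib.helper32.BR

/-- Marker (this file only contains the piece `card_A` of helper21's project). -/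
theorem helper32_m12a_marker : True := trivial

end Cfsg.Agent.Lib.helper32.BR

namespace Cfsg.Agent.Lib.helper21.BR

open Cfsg Cfsg.Agent.Lib.helper21

universe u

section Chars

variable {G : Type u} [Group G] [Fintype G]

variable (p : ℕ) [Fact p.Prime] (P : Sylow p G)

variable {p P}
variable {e t n v : ℕ} {X Y : Finset (IrrCharacter G)} {εX : IrrCharacter G → ℤ} {ε : ℤ}
  {f₀ : ℕ}

/-- M12a -/
theorem card_A (h : BRSelf p P 2 t X Y εX ε f₀) (hε : ε = -1) :
    Nat.card {g : G // g ≠ 1 ∧ orderOf g ∣ p - 1} = p * (p - 2) :=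
  Cfsg.Agent.Lib.helper32.BR.helper32_card_A_core h hε (sum_preg h)

end Chars

end Cfsg.Agent.Lib.helper21.BR
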