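import Mathlib
import Cfsg.Agent.Lib.helper21.BRDefs
import Cfsg.Agent.Lib.helper81.CharOrtho

/-! S0999 / M10 (architect helper21): counting the signs in `X` from `relY` at the identity. -/

set_option autoImplicit false

namespace Cfsg.Agent.Lib.helper32.BR

/-- Marker (this file only contains the piece `config_count` of helper21's project). -/
theorem helper32_m10_marker : True := trivial

end Cfsg.Agent.Lib.helper32.BR

namespace Cfsg.Agent.Lib.helper21.BR

open Cfsg Cfsg.Agent.Lib.helper21

universe u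

section Chars

variable {G : Type u} [Group G] [Fintype G]

variable (p : ℕ) [Fact p.Prime] (P : Sylow p G)

variable {p P}
variable {e t n v : ℕ} {X Y : Finset (IrrCharacter G)} {εX : IrrCharacter G → ℤ} {ε : ℤ}
  {f₀ : ℕ}

/-- M10 -/
theorem config_count (h : BRSelf p P e t X Y εX ε f₀) :
    ∃ a : ℕ,
      (ε = 1 → e = 1 + a * t ∧ (X.filter (fun χ => εX χ = -1)).card = a * (t - 1)) ∧
      (ε = -1 → e = 2 + a * t ∧ (X.filter (fun χ => εX χ = -1)).card = a * (t - 1) + 1) := by
  classical
  have hp : p.Prime := Fact.out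
  have hp2 := hp.two_le
  have het := h.et
  have hte := h.t_ge
  have hee := h.e_ge
  have hYne : Y.Nonempty := by
    rw [Finset.nonempty_iff_ne_empty]
    intro hY
    have h1 := h.data.cardY
    rw [hY] at h1
    simp at h1
    omega
  obtain ⟨θ, hθ⟩ := hYne
  have h1 : ¬ p ∣ orderOf (1 : G) := by
    rw [orderOf_one]
    intro hd
    exact hp.one_lt.ne' (Nat.dvd_one.mp hd)
  have hrel := h.data.relY θ hθ 1 h1
  have hdeg : ∀ ψ : IrrCharacter G,
      (ψ : G → ℂ) 1 = ((charDegree (ψ : G → ℂ) : ℤ) : ℂ) := by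
    intro ψ
    rw [Cfsg.Agent.Lib.helper81.irr_one_eq_charDegree]
    norm_cast
  have htriv : charDegree ((trivIrr G : IrrCharacter G) : G → ℂ) = 1 := by
    have h2 := Cfsg.Agent.Lib.helper81.irr_one_eq_charDegree (trivIrr G)
    have h3 : ((trivIrr G : IrrCharacter G) : G → ℂ) 1 = 1 := rfl
    rw [h3] at h2
    exact_mod_cast h2.symm
  have hrelZ : ε * (f₀ : ℤ) = ∑ χ ∈ X, εX χ * (charDegree (χ : G → ℂ) : ℤ) := by
    have h2 : ((ε * (f₀ : ℤ) : ℤ) : ℂ)
        = ((∑ χ ∈ X, εX χ * (charDegree (χ : G → ℂ) : ℤ) : ℤ) : ℂ) := by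
      rw [hdeg θ, h.degY θ hθ] at hrel
      push_cast
      push_cast at hrel
      rw [hrel]
      refine Finset.sum_congr rfl (fun χ _ => ?_)
      rw [hdeg χ]
      push_cast
      rfl
    exact_mod_cast h2
  obtain ⟨T, hT⟩ : ∃ T, t = T + 1 := ⟨t - 1, by omega⟩
  have hterm : ∀ χ ∈ X, εX χ * (charDegree (χ : G → ℂ) : ℤ)
      = (if εX χ = -1 then -((p : ℤ) - 1) else (1 + (T : ℤ) * p))
        + (if χ = trivIrr G then 1 - (1 + (T : ℤ) * p) else 0) := by
    intro χ hχ
    rcases h.degX χ hχ with h2 | ⟨h2, h3⟩ | ⟨h2, h3⟩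
    · rw [h2, h.data.one_sgn, htriv, if_neg (by norm_num), if_pos rfl]; push_cast; ring
    · have hne : χ ≠ trivIrr G := by
        intro h4
        rw [h4, htriv, hT] at h3
        simp only [Nat.add_sub_cancel] at h3
        have h5 : T * p = 0 := by omega
        rcases Nat.mul_eq_zero.mp h5 with h6 | h6
        · omega
        · omega
      rw [h2, h3, if_neg (by norm_num), if_neg hne, hT]
      simp only [Nat.add_sub_cancel]
      push_cast
      ring
    · have hne : χ ≠ trivIrr G := by
        intro h4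
        rw [h4, h.data.one_sgn] at h2
        norm_num at h2
      rw [h2, h3, if_pos rfl, if_neg hne]
      push_cast [Nat.cast_sub (show 1 ≤ p from hp.one_lt.le)]
      ring
  rw [Finset.sum_congr rfl hterm, Finset.sum_add_distrib, Finset.sum_ite_eq',
    if_pos h.data.one_mem, Finset.sum_ite, Finset.sum_const, Finset.sum_const] at hrelZ
  simp only [nsmul_eq_mul] at hrelZ
  have hcnt := Finset.card_filter_add_card_filter_not (s := X) (fun χ => εX χ = -1)
  rw [h.data.cardX] at hcnt
  have hpos : 1 ≤ (X.filter (fun χ => ¬ εX χ = -1)).card := by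
    apply Finset.card_pos.mpr
    refine ⟨trivIrr G, Finset.mem_filter.mpr ⟨h.data.one_mem, ?_⟩⟩
    rw [h.data.one_sgn]; norm_num
  obtain ⟨A, hA⟩ : ∃ A, (X.filter (fun χ => ¬ εX χ = -1)).card = A + 1 :=
    ⟨(X.filter (fun χ => ¬ εX χ = -1)).card - 1, by omega⟩
  rw [hA] at hrelZ hcnt
  have hpZ : (p : ℤ) ≠ 0 := by
    have : p ≠ 0 := by omega
    exact_mod_cast this
  have hE1 : (e : ℤ) = ((X.filter (fun χ => εX χ = -1)).card : ℤ) + A + 1 := by
    have : e = (X.filter (fun χ => εX χ = -1)).card + (A + 1) := hcnt.symm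
    rw [this]; push_cast; ring
  refine ⟨A, ?_, ?_⟩
  · intro hε
    have hf : f₀ = e := by
      rcases h.fcases with ⟨_, h2⟩ | ⟨h2, _⟩
      · exact h2
      · rw [hε] at h2; norm_num at h2
    rw [hε, hf] at hrelZ
    have hz : (p : ℤ) * ((A : ℤ) * T - ((X.filter (fun χ => εX χ = -1)).card : ℤ)) = 0 := by
      push_cast at hrelZ
      linear_combination hE1 - hrelZ
    have hz2 : (A : ℤ) * T - ((X.filter (fun χ => εX χ = -1)).card : ℤ) = 0 := by
      rcases mul_eq_zero.mp hz with h2 | h2
      · exact absurd h2 hpZ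
      · exact h2
    have hβ : (X.filter (fun χ => εX χ = -1)).card = A * T := by
      have : ((X.filter (fun χ => εX χ = -1)).card : ℤ) = ((A * T : ℕ) : ℤ) := by
        push_cast; linarith
      exact_mod_cast this
    rw [hT]
    simp only [Nat.add_sub_cancel]
    refine ⟨?_, hβ⟩
    rw [← hcnt, hβ]; ring
  · intro hε
    have hf : f₀ = p - e := by
      rcases h.fcases with ⟨h2, _⟩ | ⟨_, h2⟩
      · rw [hε] at h2; norm_num at h2
      · exact h2
    have hep : e ≤ p := by
      have : e * 1 ≤ e * t := Nat.mul_le_mul_left e (by omega)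
      omega
    rw [hε, hf] at hrelZ
    have hz : (p : ℤ) * ((A : ℤ) * T + 1 - ((X.filter (fun χ => εX χ = -1)).card : ℤ)) = 0 := by
      push_cast [Nat.cast_sub hep] at hrelZ
      linear_combination hE1 - hrelZ
    have hz2 : (A : ℤ) * T + 1 - ((X.filter (fun χ => εX χ = -1)).card : ℤ) = 0 := by
      rcases mul_eq_zero.mp hz with h2 | h2
      · exact absurd h2 hpZ
      · exact h2
    have hβ : (X.filter (fun χ => εX χ = -1)).card = A * T + 1 := by
      have : ((X.filter (fun χ => εX χ = -1)).card : ℤ) = ((A * T + 1 : ℕ) : ℤ) := by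
        push_cast; linarith
      exact_mod_cast this
    rw [hT]
    simp only [Nat.add_sub_cancel]
    refine ⟨?_, hβ⟩
    rw [← hcnt, hβ]; ring

end Chars

end Cfsg.Agent.Lib.helper21.BR
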