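import Mathlib
import Cfsg.Agent.Lib.helper33.M24BDefs
import Cfsg.Agent.S5601

/-! S5006 / FIX3 (architect helper33): an element of order 3 of the group of the length-24 code
has 6 or 0 fixed points, and so does its square. -/

set_option autoImplicit false
open Cfsg Cfsg.Agent.Lib.helper33.M24B

namespace Cfsg.Agent.Lib.helper32.M24B

/-- The fixed points of a cyclic subgroup are those of a generator. -/
theorem helper32_fixset (x : ↥M24) :
    {p : GolayPt | ∀ z ∈ Subgroup.zpowers x, ((z : ↥M24) : Equiv.Perm GolayPt) p = p}.ncard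
      = fixN x := by
  unfold fixN
  rw [← Set.ncard_coe_finset]
  congr 1
  ext p
  simp only [Set.mem_ofPred_eq, Finset.coe_filter, Finset.mem_univ, true_and]
  constructor
  · intro h
    exact h x (Subgroup.mem_zpowers x)
  · intro h z hz
    obtain ⟨k, rfl⟩ := Subgroup.mem_zpowers_iff.mp hz
    rw [Subgroup.coe_zpow]
    exact Equiv.Perm.zpow_apply_eq_self_of_apply_eq_self h k

/-- FIX3 -/
theorem fix_three (y : ↥M24) (hy : orderOf y = 3) :
    (fixN y = 6 ∨ fixN y = 0) ∧ fixN (y ^ 2) = fixN y := by
  constructor
  · have h := Cfsg.Agent.S5601.result.1 (Subgroup.zpowers y) (by rw [Nat.card_zpowers, hy])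
    rw [helper32_fixset] at h
    exact h
  · unfold fixN
    congr 1
    ext p
    simp only [Finset.mem_filter, Finset.mem_univ, true_and]
    have h3 : (y : Equiv.Perm GolayPt) ^ 3 = 1 := by
      have h := pow_orderOf_eq_one y
      rw [hy] at h
      have h' := congrArg (fun z : ↥M24 => (z : Equiv.Perm GolayPt)) h
      simpa using h'
    rw [Subgroup.coe_pow]
    constructor
    · intro h
      have h4 : ((y : Equiv.Perm GolayPt) ^ 3) p = (y : Equiv.Perm GolayPt) p := by
        rw [show (3 : ℕ) = 2 + 1 from rfl, pow_succ', Equiv.Perm.mul_apply, h]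
      rw [h3, Equiv.Perm.one_apply] at h4
      exact h4.symm
    · intro h
      rw [pow_two, Equiv.Perm.mul_apply, h, h]

end Cfsg.Agent.Lib.helper32.M24B
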