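import Mathlib
import Cfsg.Agent.Lib.helper24.SffDefs
import Cfsg.Agent.Lib.helper7.SffC3A
import Cfsg.Agent.Lib.helper18.SffC3B
import Cfsg.Agent.Lib.helper32.SffCRIT
import Cfsg.Agent.Lib.helper99.SubfD

/-! S5965 piece N3, racing copy (helper32): if `r ∤ q - 1`, `r ∣ q ^ j - 1`, `r ∤ q₀ ^ j - 1`
for some `j ≤ n`, there is a derangement of order `r`. -/

set_option autoImplicit false

namespace Cfsg.Agent.Lib.helper24

open Module Matrix Polynomial

/-- no nontrivial `r`-th roots of unity when `r ∤ q - 1` -/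
theorem h32_eq_one_of_pow_prime {F : Type*} [Field F] [Fintype F] (r : ℕ) [Fact r.Prime]
    (hnd : ¬ r ∣ Fintype.card F - 1) (a : F) (ha : a ^ r = 1) : a = 1 := by
  have ha0 : a ≠ 0 := by
    rintro rfl
    rw [zero_pow (Fact.out : r.Prime).ne_zero] at ha
    exact zero_ne_one ha
  have h1 : orderOf a ∣ r := orderOf_dvd_of_pow_eq_one ha
  have h2 : orderOf a ∣ Fintype.card F - 1 :=
    orderOf_dvd_of_pow_eq_one (FiniteField.pow_card_sub_one_eq_one a ha0)
  rcases (Nat.dvd_prime (Fact.out : r.Prime)).mp h1 with h | h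
  · exact orderOf_eq_one_iff.mp h
  · rw [h] at h2
    exact absurd h2 hnd

/-- conjugation and powers -/
theorem h32_conj_pow {F : Type*} [Field F] {n : ℕ} (x P N : Matrix (Fin n) (Fin n) F)
    (hx : x * P = P * N) (k : ℕ) : x ^ k * P = P * N ^ k := by
  induction k with
  | zero => simp
  | succ k ih => rw [pow_succ, mul_assoc, hx, ← mul_assoc, ih, mul_assoc, ← pow_succ]

/-- powers of a matrix over a subfield -/
theorem h32_pow_mem {F : Type*} [Field F] (F₀ : Subfield F) {n : ℕ}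
    (M₀ : Matrix (Fin n) (Fin n) F) (hM₀ : ∀ i j, M₀ i j ∈ F₀) (k : ℕ) :
    ∀ i j, (M₀ ^ k) i j ∈ F₀ := by
  induction k with
  | zero =>
    intro i j
    rw [pow_zero, Matrix.one_apply]
    split_ifs
    · exact F₀.one_mem
    · exact F₀.zero_mem
  | succ k ih =>
    intro i j
    rw [pow_succ, Matrix.mul_apply]
    exact F₀.sum_mem (fun l _ => F₀.mul_mem (ih i l) (hM₀ l j))

/-- N3 (racing copy) -/
theorem h32_sff_nec_nodvd {F : Type*} [Field F] [Fintype F] (F₀ : Subfield F) {n : ℕ} (r : ℕ)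
    [Fact r.Prime] (hrF : (r : F) ≠ 0) (hnd : ¬ r ∣ Fintype.card F - 1) (j : ℕ) (hj : j ≤ n)
    (hj1 : r ∣ (Fintype.card F) ^ j - 1) (hj2 : ¬ r ∣ (Nat.card F₀) ^ j - 1) :
    SffDerang F₀ r n := by
  classical
  have hj0 : j ≠ 0 := by
    rintro rfl
    apply hj2
    simp
  have hqpos : 0 < Fintype.card F := Fintype.card_pos
  have hqj : ((Fintype.card F : ℕ) : ZMod r) ^ j = 1 := by
    have h1 : ((Fintype.card F ^ j - 1 : ℕ) : ZMod r) = 0 :=
      (ZMod.natCast_eq_zero_iff _ _).mpr hj1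
    rw [Nat.cast_sub (Nat.one_le_pow _ _ hqpos), Nat.cast_pow, Nat.cast_one] at h1
    exact sub_eq_zero.mp h1
  have hij : orderOf ((Fintype.card F : ℕ) : ZMod r) ∣ j := orderOf_dvd_of_pow_eq_one hqj
  have hi_le : orderOf ((Fintype.card F : ℕ) : ZMod r) ≤ n :=
    (Nat.le_of_dvd (Nat.pos_of_ne_zero hj0) hij).trans hj
  have hi_pos : 0 < orderOf ((Fintype.card F : ℕ) : ZMod r) :=
    Nat.pos_of_dvd_of_pos hij (Nat.pos_of_ne_zero hj0)
  have hn : 0 < n := lt_of_lt_of_le hi_pos hi_le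
  obtain ⟨y, hyr, hyfix⟩ := sff_exists_fix (F := F) (n := n) r hrF hi_le
  have hroot := h32_eq_one_of_pow_prime (F := F) r hnd
  refine ⟨y, ?_, ⟨1, by rw [hyr, one_smul]⟩, ?_, ?_⟩
  · apply hroot
    rw [← Matrix.det_pow, hyr, Matrix.det_one]
  · intro z hz
    have hz1 : z = 1 := by
      apply hroot
      have h1 : (y ^ r) ⟨0, hn⟩ ⟨0, hn⟩ = z ^ r := by
        rw [hz, _root_.smul_pow, one_pow, Matrix.smul_apply, Matrix.one_apply_eq, smul_eq_mul, mul_one]
      rw [hyr, Matrix.one_apply_eq] at h1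
      exact h1.symm
    rw [hz1, one_smul] at hz
    rw [hz] at hyfix
    have h2 : (Matrix.toLin' (1 : Matrix (Fin n) (Fin n) F) - 1 : Module.End F (Fin n → F)) = 0 := by
      rw [Matrix.toLin'_one]
      exact sub_self _
    rw [h2, LinearMap.ker_zero, finrank_top, Module.finrank_fin_fun] at hyfix
    omega
  · rintro ⟨P, M₀, σ, hP, hσ, hM₀, hx⟩
    have hPu : IsUnit P.det := isUnit_iff_ne_zero.mpr hP
    have hpow : (σ • M₀) ^ r = 1 := by
      have h1 := h32_conj_pow y P (σ • M₀) hx r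
      rw [hyr, one_mul] at h1
      have h2 : P⁻¹ * P = P⁻¹ * (P * (σ • M₀) ^ r) := by rw [← h1]
      rw [← mul_assoc, Matrix.nonsing_inv_mul P hPu, one_mul] at h2
      exact h2.symm
    have hσr : σ ^ r ∈ F₀ := by
      have h1 : ((σ • M₀) ^ r) ⟨0, hn⟩ ⟨0, hn⟩ = σ ^ r * (M₀ ^ r) ⟨0, hn⟩ ⟨0, hn⟩ := by
        rw [_root_.smul_pow, Matrix.smul_apply, smul_eq_mul]
      rw [hpow, Matrix.one_apply_eq] at h1
      have h2 : σ ^ r = ((M₀ ^ r) ⟨0, hn⟩ ⟨0, hn⟩)⁻¹ := eq_inv_of_mul_eq_one_left h1.symm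
      rw [h2]
      exact F₀.inv_mem (h32_pow_mem F₀ M₀ hM₀ r _ _)
    have hσF₀ : σ ∈ F₀ := by
      apply Cfsg.Agent.Lib.helper99.Subf.mem_subfield_of_pow
      have h1 : (σ ^ r) ^ Nat.card F₀ = σ ^ r :=
        Cfsg.Agent.Lib.helper99.Subf.pow_card_subfield F₀ _ hσr
      have hq₀ : 0 < Nat.card F₀ := Nat.card_pos
      have h2 : (σ ^ (Nat.card F₀ - 1)) ^ r = 1 := by
        have h3 : σ ^ r * (σ ^ (Nat.card F₀ - 1)) ^ r = σ ^ r * 1 := by
          rw [mul_one, ← mul_pow, ← pow_succ', Nat.sub_add_cancel hq₀, ← pow_mul, mul_comm,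
            pow_mul]
          exact h1
        exact mul_left_cancel₀ (pow_ne_zero r hσ) h3
      have h4 := hroot _ h2
      calc σ ^ Nat.card F₀ = σ ^ (Nat.card F₀ - 1 + 1) := by rw [Nat.sub_add_cancel hq₀]
        _ = σ := by rw [pow_succ, h4, one_mul]
    have hM : ∀ a b, (σ • M₀) a b ∈ F₀ := fun a b => by
      rw [Matrix.smul_apply, smul_eq_mul]
      exact F₀.mul_mem hσF₀ (hM₀ a b)
    have hdvd := sff_fix_dvd F₀ r hrF (σ • M₀) hM hpow
    have hfix : Module.finrank F (LinearMap.ker (Matrix.toLin' (σ • M₀) - 1))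
        = n - orderOf ((Fintype.card F : ℕ) : ZMod r) := by
      rw [← hyfix]
      have h1 := h32_finrank_ker_conj y P (σ • M₀) hP hx 1
      rw [one_smul] at h1
      exact h1.symm
    rw [hfix, Nat.sub_sub_self hi_le] at hdvd
    apply hj2
    obtain ⟨c, hc⟩ := hij
    rw [hc, pow_mul]
    have h5 : Nat.card F₀ ^ orderOf ((Fintype.card F : ℕ) : ZMod r) - 1
        ∣ (Nat.card F₀ ^ orderOf ((Fintype.card F : ℕ) : ZMod r)) ^ c - 1 :=
      Nat.sub_one_dvd_pow_sub_one _ _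
    exact hdvd.trans h5

end Cfsg.Agent.Lib.helper24
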