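import Mathlib
import Cfsg.Prelude.Def_OddOrder
import Cfsg.Prelude.Def_OddOrderLocal
import Cfsg.Prelude.Def_LieExceptional
import Cfsg.Agent.Lib.helper32.CN4
import Cfsg.Agent.Lib.helper31.FHT3
import Cfsg.Agent.S1473
import Cfsg.Agent.S1477
import Cfsg.Agent.S1479
import Cfsg.Agent.S1483

/-!
# The CN-theorem for groups of odd order (helper32)

`cn_minimal_false`: there is no minimal simple CN-group of odd order (local analysis by helper31,
S1473–S1483, plus the character-theoretic contradiction `cn_main`).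
`cn_odd_solvable`: a CN-group of odd order is solvable (Feit–Hall–Thompson).
-/

set_option autoImplicit false

namespace Cfsg.Agent.Lib.helper32

open Cfsg

universe u

/-- There is no minimal simple CN-group of odd order. -/
theorem cn_minimal_false {G : Type u} [Group G] [Finite G] (hG : IsMinSimpleOddOrder G)
    (hCN : IsCNGroup G) : False := by
  classical
  let _i : Fintype G := Fintype.ofFinite G
  have hodd : Odd (Nat.card G) := hG.1
  have hsimple : IsSimpleGroup G := hG.2.1
  obtain ⟨h79, -⟩ := Cfsg.Agent.S1479.result hG hCN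
  have h83 := (Cfsg.Agent.S1483.result hG hCN).1
  obtain ⟨S, hS⟩ : ∃ S : Finset ℕ, S = (Finset.range (Nat.card G + 1)).filter
      (fun n => ∃ H : Subgroup G, (Group.IsNilpotent ↥H ∧
        ∀ L : Subgroup G, Group.IsNilpotent L → H ≤ L → L = H) ∧ Nat.card H = n) := ⟨_, rfl⟩
  have hex : ∀ i : {n // n ∈ S}, ∃ H : Subgroup G, (Group.IsNilpotent ↥H ∧
        ∀ L : Subgroup G, Group.IsNilpotent L → H ≤ L → L = H) ∧ Nat.card H = i.1 := by
    intro i
    have h2 : (i : ℕ) ∈ (Finset.range (Nat.card G + 1)).filter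
        (fun n => ∃ H : Subgroup G, (Group.IsNilpotent ↥H ∧
          ∀ L : Subgroup G, Group.IsNilpotent L → H ≤ L → L = H) ∧ Nat.card H = n) := by
      rw [← hS]; exact i.2
    exact (Finset.mem_filter.mp h2).2
  choose Hf hHf hcard using hex
  have hne : ∀ H : Subgroup G, (Group.IsNilpotent ↥H ∧
      ∀ L : Subgroup G, Group.IsNilpotent L → H ≤ L → L = H) → H ≠ ⊥ :=
    fun H hH => Cfsg.Agent.Lib.helper31.maxnilp_ne_bot hG H hH.2
  have hmemS : ∀ H : Subgroup G, (Group.IsNilpotent ↥H ∧
      ∀ L : Subgroup G, Group.IsNilpotent L → H ≤ L → L = H) → Nat.card H ∈ S := by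
    intro H hH
    rw [hS, Finset.mem_filter, Finset.mem_range]
    exact ⟨Nat.lt_succ_of_le (Subgroup.card_le_card_group H), H, hH, rfl⟩
  have hcardmap : ∀ (H : Subgroup G) (g : G),
      Nat.card (H.map (MulAut.conj g).toMonoidHom) = Nat.card H := by
    intro H g
    exact Nat.card_congr
      (H.equivMapOfInjective _ (MulAut.conj g).injective).toEquiv.symm
  have hcard1 : ∀ H : Subgroup G, (Group.IsNilpotent ↥H ∧
      ∀ L : Subgroup G, Group.IsNilpotent L → H ≤ L → L = H) → Nat.card H ≠ 1 := by
    intro H hH h1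
    exact hne H hH (Subgroup.card_eq_one.mp h1)
  have F : ∀ i, FrobTI (Hf i) (Subgroup.normalizer (Hf i : Set G)) := by
    intro i
    obtain ⟨-, hTI, -, E, hE, hE1, -⟩ := h79 (Hf i) (hHf i).1 (hHf i).2
    have h77 := (Cfsg.Agent.S1477.result hCN (Hf i) (hHf i).1 (hHf i).2).2.2 hTI
    refine
      { lt := ?_
        ne_bot := hne _ (hHf i)
        normal := ?_
        cent := ?_
        ti := ?_
        norm := rfl }
    · refine lt_of_le_of_ne Subgroup.le_normalizer ?_
      intro heq
      apply hE1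
      obtain ⟨-, hEM, hinf, -⟩ := hE
      rw [← heq] at hEM
      rw [eq_bot_iff, ← hinf]
      exact le_inf hEM le_rfl
    · intro x hx h hh
      exact (Subgroup.mem_normalizer_iff.mp hx h).mp hh
    · intro h hh hh1 x _ hcomm
      apply h77 h hh hh1
      rw [Subgroup.mem_centralizer_iff]
      intro y hy
      rw [Set.mem_singleton_iff] at hy
      subst hy
      exact hcomm.symm
    · intro g hg x hx hgx
      have hmap : (Hf i).map (MulAut.conj g).toMonoidHom ≠ Hf i := by
        intro h
        exact hg (Cfsg.Agent.Lib.helper31.mem_normalizer_of_map_conj_eq h)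
      have h1 := hTI g hmap
      have h2 : g * x * g⁻¹ ∈ Hf i ⊓ (Hf i).map (MulAut.conj g).toMonoidHom :=
        ⟨hgx, ⟨x, hx, by simp⟩⟩
      rw [h1, Subgroup.mem_bot] at h2
      have h3 : x = g⁻¹ * (g * x * g⁻¹) * g := by group
      rw [h3, h2]; group
  have hcop : ∀ i j : {n // n ∈ S}, i ≠ j →
      Nat.Coprime (Nat.card (Hf i)) (Nat.card (Hf j)) := by
    intro i j hij
    rcases h83 (Hf i) (Hf j) (hHf i) (hHf j) with ⟨g, hg⟩ | h
    · exfalso
      apply hij
      apply Subtype.ext
      rw [← hcard i, ← hcard j, hg, hcardmap]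
    · exact h
  have hcover : ∀ g : G, g ≠ 1 → ∃ i : {n // n ∈ S}, ∃ x : G, x * g * x⁻¹ ∈ Hf i := by
    intro g _
    have hcyc : Group.IsNilpotent (Subgroup.zpowers g) :=
      @CommGroup.isNilpotent _ IsCyclic.commGroup
    obtain ⟨H, hgH, hHn, hHmax⟩ := Cfsg.Agent.Lib.helper31.exists_maxnilp_ge (Subgroup.zpowers g) hcyc
    have hgH' : g ∈ H := hgH (Subgroup.mem_zpowers g)
    refine ⟨⟨Nat.card H, hmemS H ⟨hHn, hHmax⟩⟩, ?_⟩
    rcases h83 H (Hf ⟨Nat.card H, hmemS H ⟨hHn, hHmax⟩⟩) ⟨hHn, hHmax⟩ (hHf _) with ⟨x, hx⟩ | h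
    · refine ⟨x, ?_⟩
      rw [hx]
      exact ⟨g, hgH', by simp⟩
    · exfalso
      rw [hcard ⟨Nat.card H, hmemS H ⟨hHn, hHmax⟩⟩] at h
      exact hcard1 H ⟨hHn, hHmax⟩ (Nat.coprime_self _ |>.mp h)
  have hnt : Nontrivial G := hsimple.toNontrivial
  obtain ⟨g, hg⟩ := exists_ne (1 : G)
  obtain ⟨i, -⟩ := hcover g hg
  have hne' : Nonempty {n // n ∈ S} := ⟨i⟩
  exact cn_main hodd (fun i => Subgroup.normalizer (Hf i : Set G)) Hf F hcop hcover

theorem cn_odd_solvable_aux : ∀ (n : ℕ) (G : Type u) [Group G] [Finite G], Nat.card G = n →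
    Odd (Nat.card G) → IsCNGroup G → Group.IsSolvable G := by
  intro n
  induction n using Nat.strong_induction_on with
  | _ n ih =>
    intro G _ _ hn hodd hCN
    by_contra hns
    have hprop : ∀ H : Subgroup G, H ≠ ⊤ → Group.IsSolvable H := by
      intro H hH
      have hlt : Nat.card H < n := by
        rw [← hn]
        refine lt_of_le_of_ne (Subgroup.card_le_card_group H) ?_
        intro heq
        exact hH (Subgroup.eq_top_of_card_eq H heq)
      exact ih _ hlt ↥H rfl (Odd.of_dvd_nat hodd (Subgroup.card_subgroup_dvd_card H))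
        (Cfsg.Agent.S1473.isCN_subgroup hCN H)
    have hnc : ¬ IsMulCommutative G := by
      intro h
      apply hns
      exact Group.isSolvable_of_comm (fun a b => mul_comm' a b)
    have hnt : Nontrivial G := by
      by_contra h
      rw [not_nontrivial_iff_subsingleton] at h
      exact hns inferInstance
    have hsimple : IsSimpleGroup G := by
      refine ⟨fun N hN => ?_⟩
      by_contra hcon
      push Not at hcon
      obtain ⟨hN1, hN2⟩ := hcon
      have hNs := hprop N hN2
      have hNcard : 1 < Nat.card N := (Subgroup.one_lt_card_iff_ne_bot N).mpr hN1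
      have hidx : N.index * Nat.card N = Nat.card G := Subgroup.index_mul_card N
      have hq : Group.IsSolvable (G ⧸ N) := by
        apply ih (Nat.card (G ⧸ N)) ?_ (G ⧸ N) rfl ?_ (Cfsg.Agent.S1473.result hCN N hNs)
        · rw [← hn, ← hidx]
          show N.index < _
          have hpos : 0 < N.index := Nat.pos_of_ne_zero Subgroup.index_ne_zero_of_finite
          nlinarith
        · show Odd N.index
          exact Odd.of_dvd_nat hodd (Subgroup.index_dvd_card N)
      exact hns (Group.isSolvable_of_ker_le_range N.subtype (QuotientGroup.mk' N) (by simp))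
    exact cn_minimal_false ⟨hodd, hsimple, hnc, hprop⟩ hCN

/-- **Feit–Hall–Thompson**: a CN-group of odd order is solvable. -/
theorem cn_odd_solvable {G : Type u} [Group G] [Finite G] (hodd : Odd (Nat.card G))
    (hCN : IsCNGroup G) : Group.IsSolvable G :=
  cn_odd_solvable_aux _ G rfl hodd hCN

end Cfsg.Agent.Lib.helper32
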