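import Mathlib
import Cfsg.Agent.Lib.helper26.S4409Defs

set_option autoImplicit false

namespace Cfsg.Agent.Lib.helper26.S4409

open scoped Pointwise

theorem ax {S : Type*} [Group S] [Finite S]
    (h8 : ∃ A : Subgroup S, IsMulCommutative ↥A ∧ ¬ IsCyclic ↥A ∧ Nat.card ↥A = 8)
    (X : Sylow 2 S) : ¬ NoP (X : Subgroup S) := by
  obtain ⟨A, hcomm, hncyc, hcard⟩ := h8
  intro hNoP
  have : Fact (Nat.Prime 2) := ⟨Nat.prime_two⟩
  have hA : IsPGroup 2 ↥A := IsPGroup.of_card (n := 3) (by rw [hcard]; norm_num)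
  obtain ⟨Q, hQ⟩ := hA.exists_le_sylow
  obtain ⟨g, hg⟩ := MulAction.exists_smul_eq S Q X
  have hinj : Function.Injective (MulAut.conj g).toMonoidHom := (MulAut.conj g).injective
  have hA'X : A.map (MulAut.conj g).toMonoidHom ≤ (X : Subgroup S) := by
    rintro _ ⟨a, ha, rfl⟩
    have h1 : MulAut.conj g • a ∈ MulAut.conj g • (Q : Subgroup S) :=
      Subgroup.smul_mem_pointwise_smul a (MulAut.conj g) (Q : Subgroup S) (hQ ha)
    have h2 : ((g • Q : Sylow 2 S) : Subgroup S) = MulAut.conj g • (Q : Subgroup S) :=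
      Sylow.coe_subgroup_smul
    rw [← hg, h2]
    exact h1
  have e : ↥A ≃* ↥(A.map (MulAut.conj g).toMonoidHom) := A.equivMapOfInjective _ hinj
  have hcomm' : IsMulCommutative ↥(A.map (MulAut.conj g).toMonoidHom) := by
    refine IsMulCommutative.of_comm fun a b => ?_
    apply e.symm.injective
    rw [map_mul, map_mul]
    exact mul_comm' _ _
  have hcard' : Nat.card ↥(A.map (MulAut.conj g).toMonoidHom) = 8 := by
    rw [← Nat.card_congr e.toEquiv, hcard]
  have hcyc' : IsCyclic ↥(A.map (MulAut.conj g).toMonoidHom) := hNoP _ hA'X hcomm' hcard'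
  exact hncyc (isCyclic_of_surjective e.symm.toMonoidHom e.symm.surjective)

end Cfsg.Agent.Lib.helper26.S4409
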