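import Mathlib
import Cfsg.Agent.Lib.helper26.S4409Defs

set_option autoImplicit false

namespace Cfsg.Agent.Lib.helper26.S4409

open scoped Pointwise

theorem nopsub {S : Type*} [Group S] [Finite S]
    (hmin : ∀ R : Subgroup S, R ≠ ⊤ → (∃ k : ℕ, R.index = 2 ^ k) →
      ¬ ∃ A : Subgroup S, A ≤ R ∧ IsMulCommutative ↥A ∧ ¬ IsCyclic ↥A ∧ Nat.card ↥A = 8)
    (X : Sylow 2 S) (H : Subgroup S) (hH : Nat.card ↥H = (X : Subgroup S).index)
    (Y : Subgroup S) (hYX : Y ≤ (X : Subgroup S)) (hne : Y ≠ (X : Subgroup S))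
    (hHY : H ≤ Subgroup.normalizer (Y : Set S)) : NoP Y := by
  have : Fact (Nat.Prime 2) := ⟨Nat.prime_two⟩
  -- the subgroup R = Y ⊔ H
  have hcoe : ((Y ⊔ H : Subgroup S) : Set S) = (Y : Set S) * (H : Set S) :=
    Subgroup.coe_mul_of_right_le_normalizer_left Y H hHY
  have hsurj : Function.Surjective (fun p : ↥Y × ↥H =>
      (⟨(p.1 : S) * (p.2 : S), Subgroup.mul_mem _ ((le_sup_left : Y ≤ Y ⊔ H) p.1.2)
        ((le_sup_right : H ≤ Y ⊔ H) p.2.2)⟩ : ↥(Y ⊔ H))) := by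
    rintro ⟨r, hr⟩
    have hr' : r ∈ (Y : Set S) * (H : Set S) := by rw [← hcoe]; exact hr
    obtain ⟨y, hy, h, hh, rfl⟩ := Set.mem_mul.mp hr'
    exact ⟨(⟨y, hy⟩, ⟨h, hh⟩), rfl⟩
  have hcardR : Nat.card ↥(Y ⊔ H) ≤ Nat.card ↥Y * Nat.card ↥H := by
    have := Nat.card_le_card_of_surjective _ hsurj
    rwa [Nat.card_prod] at this
  have hS : Nat.card ↥(X : Subgroup S) * Nat.card ↥H = Nat.card S := by
    rw [hH]; exact Subgroup.card_mul_index _
  have hYlt : Nat.card ↥Y < Nat.card ↥(X : Subgroup S) := by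
    rcases (Subgroup.card_le_of_le hYX).lt_or_eq with h | h
    · exact h
    · exact absurd (Subgroup.eq_of_le_of_card_ge hYX h.ge) hne
  have hHpos : 0 < Nat.card ↥H := Nat.card_pos
  have hRtop : (Y ⊔ H : Subgroup S) ≠ ⊤ := by
    intro htop
    have h1 : Nat.card ↥(Y ⊔ H) = Nat.card S := by rw [htop, Subgroup.card_top]
    have h2 : Nat.card ↥Y * Nat.card ↥H < Nat.card ↥(X : Subgroup S) * Nat.card ↥H :=
      Nat.mul_lt_mul_of_pos_right hYlt hHpos
    omega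
  have hRidx : ∃ k : ℕ, (Y ⊔ H : Subgroup S).index = 2 ^ k := by
    have h1 : (Y ⊔ H : Subgroup S).index ∣ H.index := Subgroup.index_dvd_of_le le_sup_right
    have h2 : H.index = Nat.card ↥(X : Subgroup S) := by
      have h3 : Nat.card ↥H * H.index = Nat.card S := Subgroup.card_mul_index H
      rw [← hS, mul_comm] at h3
      exact Nat.eq_of_mul_eq_mul_right hHpos h3
    obtain ⟨a, ha⟩ := (IsPGroup.iff_card (p := 2) (G := ↥(X : Subgroup S))).mp X.isPGroup'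
    rw [h2, ha] at h1
    obtain ⟨k, -, hk⟩ := (Nat.dvd_prime_pow Nat.prime_two).mp h1
    exact ⟨k, hk⟩
  intro A hAY hcomm hcard
  by_contra hcyc
  exact hmin (Y ⊔ H) hRtop hRidx ⟨A, hAY.trans le_sup_left, hcomm, hcyc, hcard⟩

end Cfsg.Agent.Lib.helper26.S4409
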