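import Cfsg.Agent.Lib.helper32.B2T1

/-!
# S1083 piece E1 (helper32): the root elements `N5 r t` are commutators in `O5` (`|F| > 2`)
-/

set_option autoImplicit false

namespace Cfsg.Agent.Lib.helper95.B2

open Matrix Cfsg Cfsg.Lie
open scoped commutatorElement

variable {F : Type*} [Field F]

theorem helper32_mat_ext (A B : Matrix (Fin 5) (Fin 5) F) (h : ∀ v : Fin 5 → F, A *ᵥ v = B *ᵥ v) :
    A = B := by
  ext i j
  have := congrFun (h (Pi.single j 1)) i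
  simpa using this

theorem helper32_dg_mv (e a b : F) (v : Fin 5 → F) :
    dg e a b *ᵥ v = ![e * v 0, a * v 1, b * v 2, a⁻¹ * v 3, b⁻¹ * v 4] := by
  funext i; fin_cases i <;> simp [dg, Matrix.mulVec_diagonal]

theorem helper32_dg_mul_inv (a b : F) (ha : a ≠ 0) (hb : b ≠ 0) :
    dg 1 a b * dg 1 a⁻¹ b⁻¹ = 1 := by
  apply helper32_mat_ext
  intro v
  rw [← Matrix.mulVec_mulVec, helper32_dg_mv, helper32_dg_mv, Matrix.one_mulVec]
  funext i; fin_cases i <;> simp [ha, hb]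

/-- the unit of `GL₅(F)` with matrix `dg 1 a b` -/
def helper32_dgu (a b : F) (ha : a ≠ 0) (hb : b ≠ 0) : GL (Fin 5) F :=
  ⟨dg 1 a b, dg 1 a⁻¹ b⁻¹, helper32_dg_mul_inv a b ha hb, by
    have := helper32_dg_mul_inv a⁻¹ b⁻¹ (inv_ne_zero ha) (inv_ne_zero hb)
    rwa [inv_inv, inv_inv] at this⟩

theorem helper32_dgu_mem (a b : F) (ha : a ≠ 0) (hb : b ≠ 0) : helper32_dgu a b ha hb ∈ O5 F := by
  rw [mem_O5]
  intro v
  show Q5 (dg 1 a b *ᵥ v) = Q5 v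
  rw [helper32_dg_mv]
  simp [Q5]
  field_simp

theorem helper32_N5u_mem_O5 (r : Fin 8) (t : F) : helper32_N5u r t ∈ O5 F := by
  rw [mem_O5]
  intro v
  exact helper32_N5_Q r t v

theorem helper32_E1_rel (a : F) (ha0 : a ≠ 0) (ha1 : a ≠ 1) (r : Fin 8) (t : F) :
    ∃ (b c s : F), b ≠ 0 ∧ c ≠ 0 ∧ ∀ v : Fin 5 → F,
      N5 r t *ᵥ (N5 r s *ᵥ (dg 1 b c *ᵥ v)) = dg 1 b c *ᵥ (N5 r s *ᵥ v) := by
  have h1 : a - 1 ≠ 0 := sub_ne_zero.mpr ha1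
  have h2 : 1 - a ≠ 0 := sub_ne_zero.mpr (Ne.symm ha1)
  fin_cases r
  · refine ⟨a, 1, t * a / (1 - a), ha0, one_ne_zero, fun v => ?_⟩
    show N5 0 t *ᵥ (N5 0 _ *ᵥ _) = dg 1 a 1 *ᵥ (N5 0 _ *ᵥ v)
    rw [helper32_dg_mv, helper32_N5_mv0, helper32_N5_mv0, helper32_N5_mv0, helper32_dg_mv]
    funext i; fin_cases i <;> simp <;> field_simp <;> ring
  · refine ⟨a, 1, t * a / (1 - a), ha0, one_ne_zero, fun v => ?_⟩
    show N5 1 t *ᵥ (N5 1 _ *ᵥ _) = dg 1 a 1 *ᵥ (N5 1 _ *ᵥ v)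
    rw [helper32_dg_mv, helper32_N5_mv1, helper32_N5_mv1, helper32_N5_mv1, helper32_dg_mv]
    funext i; fin_cases i <;> simp <;> field_simp <;> ring
  · refine ⟨1, a, t * a / (1 - a), one_ne_zero, ha0, fun v => ?_⟩
    show N5 2 t *ᵥ (N5 2 _ *ᵥ _) = dg 1 1 a *ᵥ (N5 2 _ *ᵥ v)
    rw [helper32_dg_mv, helper32_N5_mv2, helper32_N5_mv2, helper32_N5_mv2, helper32_dg_mv]
    funext i; fin_cases i <;> simp <;> field_simp <;> ring
  · refine ⟨1, a, t / (a - 1), one_ne_zero, ha0, fun v => ?_⟩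
    show N5 3 t *ᵥ (N5 3 _ *ᵥ _) = dg 1 1 a *ᵥ (N5 3 _ *ᵥ v)
    rw [helper32_dg_mv, helper32_N5_mv3, helper32_N5_mv3, helper32_N5_mv3, helper32_dg_mv]
    funext i; fin_cases i <;> simp <;> field_simp <;> ring
  · refine ⟨a, 1, t / (a - 1), ha0, one_ne_zero, fun v => ?_⟩
    show N5 4 t *ᵥ (N5 4 _ *ᵥ _) = dg 1 a 1 *ᵥ (N5 4 _ *ᵥ v)
    rw [helper32_dg_mv, helper32_N5_mv4, helper32_N5_mv4, helper32_N5_mv4, helper32_dg_mv]
    funext i; fin_cases i <;> simp <;> field_simp <;> ring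
  · refine ⟨1, a, t / (a - 1), one_ne_zero, ha0, fun v => ?_⟩
    show N5 5 t *ᵥ (N5 5 _ *ᵥ _) = dg 1 1 a *ᵥ (N5 5 _ *ᵥ v)
    rw [helper32_dg_mv, helper32_N5_mv5, helper32_N5_mv5, helper32_N5_mv5, helper32_dg_mv]
    funext i; fin_cases i <;> simp <;> field_simp <;> ring
  · refine ⟨a, 1, t / (a - 1), ha0, one_ne_zero, fun v => ?_⟩
    show N5 6 t *ᵥ (N5 6 _ *ᵥ _) = dg 1 a 1 *ᵥ (N5 6 _ *ᵥ v)
    rw [helper32_dg_mv, helper32_N5_mv6, helper32_N5_mv6, helper32_N5_mv6, helper32_dg_mv]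
    funext i; fin_cases i <;> simp <;> field_simp <;> ring
  · refine ⟨a, 1, t / (a - 1), ha0, one_ne_zero, fun v => ?_⟩
    show N5 7 t *ᵥ (N5 7 _ *ᵥ _) = dg 1 a 1 *ᵥ (N5 7 _ *ᵥ v)
    rw [helper32_dg_mv, helper32_N5_mv7, helper32_N5_mv7, helper32_N5_mv7, helper32_dg_mv]
    funext i; fin_cases i <;> simp <;> field_simp <;> ring

theorem N5_mem_comm (a : F) (ha0 : a ≠ 0) (ha1 : a ≠ 1) (r : Fin 8) (t : F) (n : ↥(O5 F))
    (hn : ((n : GL (Fin 5) F) : Matrix (Fin 5) (Fin 5) F) = N5 r t) : n ∈ commutator ↥(O5 F) := by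
  obtain ⟨b, c, s, hb, hc, hrel⟩ := helper32_E1_rel a ha0 ha1 r t
  let hh : ↥(O5 F) := ⟨helper32_dgu b c hb hc, helper32_dgu_mem b c hb hc⟩
  let xx : ↥(O5 F) := ⟨helper32_N5u r s, helper32_N5u_mem_O5 r s⟩
  have key : n = ⁅hh, xx⁆ := by
    rw [commutatorElement_def, eq_mul_inv_iff_mul_eq, eq_mul_inv_iff_mul_eq]
    apply Subtype.ext
    apply Units.ext
    show (n : GL (Fin 5) F).val * N5 r s * dg 1 b c = dg 1 b c * N5 r s
    rw [hn]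
    apply helper32_mat_ext
    intro v
    rw [← Matrix.mulVec_mulVec, ← Matrix.mulVec_mulVec, ← Matrix.mulVec_mulVec]
    exact hrel v
  rw [key]
  exact Subgroup.commutator_mem_commutator (Subgroup.mem_top _) (Subgroup.mem_top _)

end Cfsg.Agent.Lib.helper95.B2
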