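import Cfsg.Agent.Lib.helper95.B2Defs

/-!
# S1083 piece T1 (helper32): a nonzero singular vector is moved to `e₁` by `E5`

Also the reusable "move" machinery: explicit action of the root elements `N5 r t` on vectors,
`helper32_N5u r t : GL (Fin 5) F` (the unit with matrix `N5 r t`), `helper32_move`.
-/

set_option autoImplicit false

namespace Cfsg.Agent.Lib.helper95.B2

open Matrix Cfsg Cfsg.Lie

variable {F : Type*} [Field F]

theorem helper32_N5_mv0 (t : F) (u : Fin 5 → F) :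
    N5 0 t *ᵥ u = ![u 0, u 1, u 2, t * u 2 + u 3, -t * u 1 + u 4] := by
  funext i; fin_cases i <;> simp [N5, Matrix.mulVec, dotProduct, Fin.sum_univ_succ]

theorem helper32_N5_mv1 (t : F) (u : Fin 5 → F) :
    N5 1 t *ᵥ u = ![u 0 + t * u 1, u 1, u 2, -(2 * t) * u 0 - t ^ 2 * u 1 + u 3, u 4] := by
  funext i; fin_cases i <;> simp [N5, Matrix.mulVec, dotProduct, Fin.sum_univ_succ] <;> ring

theorem helper32_N5_mv2 (t : F) (u : Fin 5 → F) :
    N5 2 t *ᵥ u = ![u 0 - t * u 2, u 1, u 2, u 3, 2 * t * u 0 - t ^ 2 * u 2 + u 4] := by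
  funext i; fin_cases i <;> simp [N5, Matrix.mulVec, dotProduct, Fin.sum_univ_succ] <;> ring

theorem helper32_N5_mv3 (t : F) (u : Fin 5 → F) :
    N5 3 t *ᵥ u = ![u 0, u 1, -t * u 1 + u 2, u 3 + t * u 4, u 4] := by
  funext i; fin_cases i <;> simp [N5, Matrix.mulVec, dotProduct, Fin.sum_univ_succ]

theorem helper32_N5_mv4 (t : F) (u : Fin 5 → F) :
    N5 4 t *ᵥ u = ![u 0, u 1 - t * u 2, u 2, u 3, t * u 3 + u 4] := by
  funext i; fin_cases i <;> simp [N5, Matrix.mulVec, dotProduct, Fin.sum_univ_succ] <;> ring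

theorem helper32_N5_mv5 (t : F) (u : Fin 5 → F) :
    N5 5 t *ᵥ u = ![u 0 + t * u 4, u 1, -(2 * t) * u 0 + u 2 - t ^ 2 * u 4, u 3, u 4] := by
  funext i; fin_cases i <;> simp [N5, Matrix.mulVec, dotProduct, Fin.sum_univ_succ] <;> ring

theorem helper32_N5_mv6 (t : F) (u : Fin 5 → F) :
    N5 6 t *ᵥ u = ![u 0 - t * u 3, 2 * t * u 0 + u 1 - t ^ 2 * u 3, u 2, u 3, u 4] := by
  funext i; fin_cases i <;> simp [N5, Matrix.mulVec, dotProduct, Fin.sum_univ_succ] <;> ring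

theorem helper32_N5_mv7 (t : F) (u : Fin 5 → F) :
    N5 7 t *ᵥ u = ![u 0, u 1 - t * u 4, u 2 + t * u 3, u 3, u 4] := by
  funext i; fin_cases i <;> simp [N5, Matrix.mulVec, dotProduct, Fin.sum_univ_succ] <;> ring

/-- the root elements preserve `Q5` (own copy of piece B's `N5_Q`) -/
theorem helper32_N5_Q (r : Fin 8) (t : F) (v : Fin 5 → F) : Q5 (N5 r t *ᵥ v) = Q5 v := by
  fin_cases r
  · show Q5 (N5 0 t *ᵥ v) = Q5 v
    rw [helper32_N5_mv0]; simp [Q5]; ring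
  · show Q5 (N5 1 t *ᵥ v) = Q5 v
    rw [helper32_N5_mv1]; simp [Q5]; ring
  · show Q5 (N5 2 t *ᵥ v) = Q5 v
    rw [helper32_N5_mv2]; simp [Q5]; ring
  · show Q5 (N5 3 t *ᵥ v) = Q5 v
    rw [helper32_N5_mv3]; simp [Q5]; ring
  · show Q5 (N5 4 t *ᵥ v) = Q5 v
    rw [helper32_N5_mv4]; simp [Q5]; ring
  · show Q5 (N5 5 t *ᵥ v) = Q5 v
    rw [helper32_N5_mv5]; simp [Q5]; ring
  · show Q5 (N5 6 t *ᵥ v) = Q5 v
    rw [helper32_N5_mv6]; simp [Q5]; ring
  · show Q5 (N5 7 t *ᵥ v) = Q5 v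
    rw [helper32_N5_mv7]; simp [Q5]; ring

theorem helper32_N5_mulVec_inv (r : Fin 8) (t : F) (v : Fin 5 → F) :
    N5 r (-t) *ᵥ (N5 r t *ᵥ v) = v := by
  fin_cases r
  · show N5 0 (-t) *ᵥ (N5 0 t *ᵥ v) = v
    rw [helper32_N5_mv0, helper32_N5_mv0]
    funext i; fin_cases i <;> simp
  · show N5 1 (-t) *ᵥ (N5 1 t *ᵥ v) = v
    rw [helper32_N5_mv1, helper32_N5_mv1]
    funext i; fin_cases i <;> simp <;> ring
  · show N5 2 (-t) *ᵥ (N5 2 t *ᵥ v) = v
    rw [helper32_N5_mv2, helper32_N5_mv2]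
    funext i; fin_cases i <;> simp <;> ring
  · show N5 3 (-t) *ᵥ (N5 3 t *ᵥ v) = v
    rw [helper32_N5_mv3, helper32_N5_mv3]
    funext i; fin_cases i <;> simp
  · show N5 4 (-t) *ᵥ (N5 4 t *ᵥ v) = v
    rw [helper32_N5_mv4, helper32_N5_mv4]
    funext i; fin_cases i <;> simp
  · show N5 5 (-t) *ᵥ (N5 5 t *ᵥ v) = v
    rw [helper32_N5_mv5, helper32_N5_mv5]
    funext i; fin_cases i <;> simp <;> ring
  · show N5 6 (-t) *ᵥ (N5 6 t *ᵥ v) = v
    rw [helper32_N5_mv6, helper32_N5_mv6]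
    funext i; fin_cases i <;> simp <;> ring
  · show N5 7 (-t) *ᵥ (N5 7 t *ᵥ v) = v
    rw [helper32_N5_mv7, helper32_N5_mv7]
    funext i; fin_cases i <;> simp

theorem helper32_N5_mul_neg (r : Fin 8) (t : F) : N5 r (-t) * N5 r t = 1 := by
  have h : ∀ v : Fin 5 → F, (N5 r (-t) * N5 r t) *ᵥ v = (1 : Matrix (Fin 5) (Fin 5) F) *ᵥ v := by
    intro v
    rw [← Matrix.mulVec_mulVec, helper32_N5_mulVec_inv, Matrix.one_mulVec]
  ext i j
  have := congrFun (h (Pi.single j 1)) i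
  simpa using this

/-- the unit of `GL₅(F)` with matrix `N5 r t` -/
def helper32_N5u (r : Fin 8) (t : F) : GL (Fin 5) F :=
  ⟨N5 r t, N5 r (-t), by
    have := helper32_N5_mul_neg r (-t)
    rwa [neg_neg] at this, helper32_N5_mul_neg r t⟩

@[simp] theorem helper32_N5u_val (r : Fin 8) (t : F) :
    ((helper32_N5u r t : GL (Fin 5) F) : Matrix (Fin 5) (Fin 5) F) = N5 r t := rfl

theorem helper32_N5u_mem (r : Fin 8) (t : F) : helper32_N5u r t ∈ E5 F :=
  Subgroup.subset_closure ⟨r, t, rfl⟩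

/-- one root move -/
theorem helper32_move (r : Fin 8) (t : F) (u v : Fin 5 → F)
    (h : ∃ g ∈ E5 F, (g : Matrix (Fin 5) (Fin 5) F) *ᵥ (N5 r t *ᵥ u) = v) :
    ∃ g ∈ E5 F, (g : Matrix (Fin 5) (Fin 5) F) *ᵥ u = v := by
  obtain ⟨g, hg, h⟩ := h
  refine ⟨g * helper32_N5u r t, mul_mem hg (helper32_N5u_mem r t), ?_⟩
  rw [Units.val_mul, ← Matrix.mulVec_mulVec]
  exact h

theorem helper32_T1_key1 (v : Fin 5 → F) (hQ : Q5 v = 0) (h1 : v 1 = 1) :
    ∃ g ∈ E5 F, (g : Matrix (Fin 5) (Fin 5) F) *ᵥ v = Pi.single 1 1 := by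
  apply helper32_move 1 (-(v 0))
  apply helper32_move 3 (v 2)
  apply helper32_move 0 (v 4)
  refine ⟨1, one_mem _, ?_⟩
  have hQ' : Q5 (N5 0 (v 4) *ᵥ (N5 3 (v 2) *ᵥ (N5 1 (-(v 0)) *ᵥ v))) = 0 := by
    rw [helper32_N5_Q, helper32_N5_Q, helper32_N5_Q]; exact hQ
  rw [Units.val_one, Matrix.one_mulVec]
  rw [helper32_N5_mv1, helper32_N5_mv3, helper32_N5_mv0] at hQ' ⊢
  simp [Q5, h1] at hQ'
  funext i; fin_cases i
  · simp [h1]
  · simp [h1]
  · simp [h1]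
  · simp [h1]
    linear_combination hQ'
  · simp [h1]

theorem helper32_T1_key2 (v : Fin 5 → F) (hQ : Q5 v = 0) (h1 : v 1 ≠ 0) :
    ∃ g ∈ E5 F, (g : Matrix (Fin 5) (Fin 5) F) *ᵥ v = Pi.single 1 1 := by
  apply helper32_move 3 ((v 2 - v 1 + 1) / v 1)
  apply helper32_move 4 1
  apply helper32_T1_key1
  · rw [helper32_N5_Q, helper32_N5_Q]; exact hQ
  · rw [helper32_N5_mv3, helper32_N5_mv4]
    simp
    field_simp
    ring

theorem T1 (u : Fin 5 → F) (hu : u ≠ 0) (hQ : Q5 u = 0) :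
    ∃ g ∈ E5 F, (g : Matrix (Fin 5) (Fin 5) F) *ᵥ u = Pi.single 1 1 := by
  by_cases h1 : u 1 = 0
  · by_cases h2 : u 2 = 0
    · by_cases h4 : u 4 = 0
      · have h0 : u 0 = 0 := by
          have : u 0 ^ 2 = 0 := by simpa [Q5, h1, h2] using hQ
          exact pow_eq_zero_iff (two_ne_zero) |>.mp this
        have h3 : u 3 ≠ 0 := by
          intro h3
          apply hu
          funext i; fin_cases i <;> simp [h0, h1, h2, h3, h4]
        apply helper32_move 6 1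
        apply helper32_T1_key2
        · rw [helper32_N5_Q]; exact hQ
        · rw [helper32_N5_mv6]
          simp [h0, h1, h3]
      · apply helper32_move 7 (-1)
        apply helper32_T1_key2
        · rw [helper32_N5_Q]; exact hQ
        · rw [helper32_N5_mv7]
          simp [h1, h4]
    · apply helper32_move 4 (-1)
      apply helper32_T1_key2
      · rw [helper32_N5_Q]; exact hQ
      · rw [helper32_N5_mv4]
        simp [h1, h2]
  · exact helper32_T1_key2 u hQ h1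

end Cfsg.Agent.Lib.helper95.B2
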