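import Cfsg.Agent.Lib.helper32.B2T1

/-!
# S1083 piece T3 (helper32)
-/

set_option autoImplicit false

namespace Cfsg.Agent.Lib.helper95.B2

open Matrix Cfsg Cfsg.Lie

variable {F : Type*} [Field F]

theorem helper32_single1 (c : F) : (Pi.single 1 c : Fin 5 → F) = ![0, c, 0, 0, 0] := by
  funext i; fin_cases i <;> simp

theorem helper32_single2 (c : F) : (Pi.single 2 c : Fin 5 → F) = ![0, 0, c, 0, 0] := by
  funext i; fin_cases i <;> simp

theorem helper32_single3 (c : F) : (Pi.single 3 c : Fin 5 → F) = ![0, 0, 0, c, 0] := by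
  funext i; fin_cases i <;> simp

theorem helper32_single4 (c : F) : (Pi.single 4 c : Fin 5 → F) = ![0, 0, 0, 0, c] := by
  funext i; fin_cases i <;> simp

theorem T3 (u : Fin 5 → F) (hu : u ≠ 0) (hQ : Q5 u = 0) (h1 : u 1 = 0) (h3 : u 3 = 0) :
    ∃ g ∈ E5 F, ∃ c : F, c ≠ 0 ∧
      (g : Matrix (Fin 5) (Fin 5) F) *ᵥ Pi.single 1 1 = Pi.single 1 1 ∧
      (g : Matrix (Fin 5) (Fin 5) F) *ᵥ Pi.single 3 1 = Pi.single 3 1 ∧
      (g : Matrix (Fin 5) (Fin 5) F) *ᵥ u = Pi.single 2 c := by
  have hQ' : u 0 ^ 2 + u 2 * u 4 = 0 := by simpa [Q5, h1, h3] using hQ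
  by_cases h2 : u 2 = 0
  · have h0 : u 0 = 0 := by
      have : u 0 ^ 2 = 0 := by simpa [h2] using hQ'
      exact pow_eq_zero_iff (two_ne_zero) |>.mp this
    have h4 : u 4 ≠ 0 := by
      intro h4
      apply hu
      funext i; fin_cases i <;> simp [h0, h1, h2, h3, h4]
    refine ⟨helper32_N5u 2 (-1) * helper32_N5u 5 1,
      mul_mem (helper32_N5u_mem 2 (-1)) (helper32_N5u_mem 5 1), -(u 4), neg_ne_zero.mpr h4, ?_, ?_, ?_⟩
    · rw [Units.val_mul, helper32_N5u_val, helper32_N5u_val, ← Matrix.mulVec_mulVec,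
        helper32_single1, helper32_N5_mv5, helper32_N5_mv2]
      funext i; fin_cases i <;> simp
    · rw [Units.val_mul, helper32_N5u_val, helper32_N5u_val, ← Matrix.mulVec_mulVec,
        helper32_single3, helper32_N5_mv5, helper32_N5_mv2]
      funext i; fin_cases i <;> simp
    · rw [Units.val_mul, helper32_N5u_val, helper32_N5u_val, ← Matrix.mulVec_mulVec,
        helper32_single2, helper32_N5_mv5, helper32_N5_mv2]
      funext i; fin_cases i <;> simp [h0, h1, h2, h3] <;> ring
  · refine ⟨helper32_N5u 2 (u 0 / u 2), helper32_N5u_mem 2 _, u 2, h2, ?_, ?_, ?_⟩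
    · rw [helper32_N5u_val, helper32_single1, helper32_N5_mv2]
      funext i; fin_cases i <;> simp
    · rw [helper32_N5u_val, helper32_single3, helper32_N5_mv2]
      funext i; fin_cases i <;> simp
    · rw [helper32_N5u_val, helper32_single2, helper32_N5_mv2]
      funext i; fin_cases i
      · simp
        field_simp
        ring
      · simp [h1]
      · simp
      · simp [h3]
      · simp
        field_simp
        linear_combination hQ'

end Cfsg.Agent.Lib.helper95.B2
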