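import Cfsg.Agent.Lib.helper32.B2T3

/-!
# S1083 piece T4 (helper32)
-/

set_option autoImplicit false

namespace Cfsg.Agent.Lib.helper95.B2

open Matrix Cfsg Cfsg.Lie

variable {F : Type*} [Field F]

theorem T4 (u : Fin 5 → F) (hQ : Q5 u = 0) (h1 : u 1 = 0) (h3 : u 3 = 0) (h4 : u 4 = 1) :
    ∃ g ∈ E5 F,
      (g : Matrix (Fin 5) (Fin 5) F) *ᵥ Pi.single 1 1 = Pi.single 1 1 ∧
      (g : Matrix (Fin 5) (Fin 5) F) *ᵥ Pi.single 3 1 = Pi.single 3 1 ∧
      (g : Matrix (Fin 5) (Fin 5) F) *ᵥ Pi.single 2 1 = Pi.single 2 1 ∧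
      (g : Matrix (Fin 5) (Fin 5) F) *ᵥ u = Pi.single 4 1 := by
  have hQ' : u 0 ^ 2 + u 2 = 0 := by simpa [Q5, h1, h3, h4] using hQ
  refine ⟨helper32_N5u 5 (-(u 0)), helper32_N5u_mem 5 _, ?_, ?_, ?_, ?_⟩
  · rw [helper32_N5u_val, helper32_single1, helper32_N5_mv5]
    funext i; fin_cases i <;> simp
  · rw [helper32_N5u_val, helper32_single3, helper32_N5_mv5]
    funext i; fin_cases i <;> simp
  · rw [helper32_N5u_val, helper32_single2, helper32_N5_mv5]
    funext i; fin_cases i <;> simp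
  · rw [helper32_N5u_val, helper32_single4, helper32_N5_mv5]
    funext i; fin_cases i
    · simp [h4]
    · simp [h1]
    · simp [h4]
      linear_combination hQ'
    · simp [h3]
    · simp [h4]

end Cfsg.Agent.Lib.helper95.B2
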