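import Mathlib
import Cfsg.Prelude.Def_OddOrderLocal
import Cfsg.Agent.Lib.helper86.BG1356Defs
import Cfsg.Agent.Lib.helper29.BG1366Asm
import Cfsg.Agent.Lib.helper29.FittingHall
import Cfsg.Agent.Lib.helper71.BGTenA
import Cfsg.Agent.Lib.helper71.BGTwelveFour

/-!
# S1356 piece A2b (helper32): in type P1, `M_F` has a `K`-invariant nilpotent complement in `M_σ`
-/

set_option autoImplicit false

namespace Cfsg.Agent.Lib.helper86.BG1356

open Cfsg Subgroup

variable {G : Type*} [Group G]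

theorem helper32_mem_normalizer_inf {A B : Subgroup G} {k : G}
    (hA : k ∈ normalizer (A : Set G)) (hB : k ∈ normalizer (B : Set G)) :
    k ∈ normalizer ((A ⊓ B : Subgroup G) : Set G) := by
  rw [Subgroup.mem_normalizer_iff] at hA hB ⊢
  intro h
  rw [Subgroup.mem_inf, Subgroup.mem_inf, hA h, hB h]

/-- **A2b.** In type P1 (σ-decomposition `(K, ⊥)`, `K ≠ 1`): `M_F` has a `K`-invariant nilpotent
complement `D` in `M_σ`. -/
theorem p1_compl [Finite G] (hG : IsMinSimpleOddOrder G) (h55 : H1355 G)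
    (M : Subgroup G) (hM : IsCoatom M) (K : Subgroup G) (hKU : IsSigmaDecomposition M K ⊥)
    (hK1 : K ≠ ⊥) :
    ∃ D : Subgroup G, IsComplIn (fittingHallOf M) D (sigmaCore M) ∧
      K ≤ normalizer (D : Set G) ∧ Group.IsNilpotent ↥D := by
  obtain ⟨hF1, hFV, hVM', hM'lt, hnil⟩ := h55 M hM
  have hMsolv : Group.IsSolvable ↥M := hG.2.2.2 M hM.1
  have hVM : sigmaCore M ≤ M := Cfsg.Agent.Lib.helper71.BGA.sigmaCore_le M
  have hKM : K ≤ M := hKU.hall.1
  have hKπ : ∀ p : ℕ, p.Prime → p ∣ Nat.card K →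
      p ∈ ({q | q.Prime ∧ ¬ q ∣ Nat.card (fittingHallOf M)} : Set ℕ) := by
    intro p hp hpK
    refine ⟨hp, fun hpF => ?_⟩
    have hκ : p ∈ kappa M := hKU.hall.2.1 p hp hpK
    have hσ : p ∈ sigma M := by
      apply Cfsg.Agent.Lib.helper71.BG12.mem_sigma_of_dvd_card_sigmaCore M hp
      exact hpF.trans (Subgroup.card_dvd_of_le hFV)
    exact hκ.2.2.1 hσ
  obtain ⟨E₂, hE₂, hKE⟩ := Cfsg.Agent.Lib.helper29.BG1366.exists_hallOf_ge
    ({q | q.Prime ∧ ¬ q ∣ Nat.card (fittingHallOf M)} : Set ℕ) M hMsolv K hKM hKπ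
  obtain ⟨hE₂M, hE₂π, hE₂idx⟩ := hE₂
  have hcop : (Nat.card (fittingHallOf M)).Coprime (Nat.card E₂) := by
    apply Nat.Coprime.symm
    apply Nat.coprime_of_dvd
    intro p hp hpE hpF
    exact (hE₂π p hp hpE).2 hpF
  have hFE : fittingHallOf M ⊓ E₂ = ⊥ := (Subgroup.disjoint_of_coprime_natCard hcop).eq_bot
  have hprod : ∀ m ∈ M, ∃ a ∈ fittingHallOf M, ∃ b ∈ E₂, m = a * b := by
    have hidx : ((fittingHall ↥M) ⊔ E₂.subgroupOf M : Subgroup ↥M) = ⊤ := by
      rw [← Subgroup.index_eq_one]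
      have h1 : ((fittingHall ↥M) ⊔ E₂.subgroupOf M).index ∣ (fittingHall ↥M).index :=
        Subgroup.index_dvd_of_le le_sup_left
      have h2 : ((fittingHall ↥M) ⊔ E₂.subgroupOf M).index ∣ (E₂.subgroupOf M).index :=
        Subgroup.index_dvd_of_le le_sup_right
      have h3 : ((fittingHall ↥M).index).Coprime ((E₂.subgroupOf M).index) := by
        apply Nat.coprime_of_dvd
        intro q hq hqF hqE
        have hqπ : q ∈ ({q | q.Prime ∧ ¬ q ∣ Nat.card (fittingHallOf M)} : Set ℕ) := by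
          refine ⟨hq, fun hqc => ?_⟩
          have h4 := Cfsg.Agent.Lib.helper29.fittingHall_coprime ↥M
          rw [Cfsg.Agent.Lib.helper29.card_fittingHallOf] at hqc
          exact hq.one_lt.ne' (Nat.eq_one_of_dvd_coprimes h4 hqc hqF)
        exact hE₂idx q hq hqπ hqE
      exact Nat.eq_one_of_dvd_coprimes h3 h1 h2
    intro m hm
    have hmem : (⟨m, hm⟩ : ↥M) ∈ ((fittingHall ↥M) ⊔ E₂.subgroupOf M : Subgroup ↥M) := by
      rw [hidx]
      exact Subgroup.mem_top _
    rw [← SetLike.mem_coe, Subgroup.normal_mul] at hmem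
    obtain ⟨a, ha, b, hb, hab⟩ := Set.mem_mul.mp hmem
    refine ⟨a.1, ⟨a, ha, rfl⟩, b.1, Subgroup.mem_subgroupOf.mp hb, ?_⟩
    have h5 := congrArg Subtype.val hab
    simpa using h5.symm
  refine ⟨E₂ ⊓ sigmaCore M, ⟨hFV, inf_le_right, ?_, ?_⟩, ?_, ?_⟩
  · apply le_antisymm _ bot_le
    calc fittingHallOf M ⊓ (E₂ ⊓ sigmaCore M) ≤ fittingHallOf M ⊓ E₂ :=
          inf_le_inf_left _ inf_le_left
      _ = ⊥ := hFE
  · intro m hm
    obtain ⟨a, ha, b, hb, hab⟩ := hprod m (hVM hm)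
    refine ⟨a, ha, b, Subgroup.mem_inf.mpr ⟨hb, ?_⟩, hab⟩
    have h6 : b = a⁻¹ * m := by
      rw [hab]
      group
    rw [h6]
    exact mul_mem (inv_mem (hFV ha)) hm
  · intro k hk
    apply helper32_mem_normalizer_inf
    · exact Subgroup.le_normalizer (hKE hk)
    · exact Cfsg.Agent.Lib.helper71.BGA.le_normalizer_sigmaCore M (hKM hk)
  · -- nilpotency: `D` embeds into `M'M_F/M_F`
    have hDM : E₂ ⊓ sigmaCore M ≤ M := inf_le_left.trans hE₂M
    have hcomm : ∀ d : ↥(E₂ ⊓ sigmaCore M),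
        ((QuotientGroup.mk' (fittingHall ↥M)).comp (Subgroup.inclusion hDM)) d ∈
          (commutator ↥M).map (QuotientGroup.mk' (fittingHall ↥M)) := by
      intro d
      have h7 : (d : G) ∈ ⁅M, M⁆ := hVM' (Subgroup.mem_inf.mp d.2).2
      rw [← Subgroup.map_subtype_commutator] at h7
      obtain ⟨y, hy, hyd⟩ := h7
      refine ⟨y, hy, ?_⟩
      have h8 : y = Subgroup.inclusion hDM d := Subtype.ext hyd
      rw [h8]
      rfl
    have hinj : Function.Injective
        (((QuotientGroup.mk' (fittingHall ↥M)).comp (Subgroup.inclusion hDM)).codRestrict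
          ((commutator ↥M).map (QuotientGroup.mk' (fittingHall ↥M))) hcomm) := by
      rw [injective_iff_map_eq_one]
      intro d hd
      have h9 : (QuotientGroup.mk' (fittingHall ↥M)) (Subgroup.inclusion hDM d) = 1 := by
        have := congrArg Subtype.val hd
        simpa using this
      rw [QuotientGroup.mk'_apply, QuotientGroup.eq_one_iff] at h9
      have h10 : (d : G) ∈ fittingHallOf M ⊓ E₂ :=
        Subgroup.mem_inf.mpr ⟨⟨Subgroup.inclusion hDM d, h9, rfl⟩, (Subgroup.mem_inf.mp d.2).1⟩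
      rw [hFE, Subgroup.mem_bot] at h10
      exact Subtype.ext h10
    have : Group.IsNilpotent ↥((commutator ↥M).map (QuotientGroup.mk' (fittingHall ↥M))) := hnil
    exact Group.nilpotent_of_mulEquiv (MonoidHom.ofInjective hinj).symm

end Cfsg.Agent.Lib.helper86.BG1356
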