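import Mathlib
import Cfsg.Agent.Lib.helper2.BGDefs
import Cfsg.Agent.Lib.helper4.RepBasic
import Cfsg.Agent.Lib.helper4.RepEquiv

/-! S4504, piece R (sub-architect helper84), sub-piece R7 `R_cent_le_center` (Schur):
if `χ` is faithful and `χ|N` is irreducible then `C_G(N) ≤ Z(G)`. -/

set_option autoImplicit false

open Cfsg

namespace Cfsg.Agent.Lib.helper32.BGR7

/-- marker namespace for the team hygiene scripts. -/
theorem helper32_marker : True := trivial

end Cfsg.Agent.Lib.helper32.BGR7

namespace Cfsg.Agent.Lib.helper2.BG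

universe u

/-- R7 (Schur): if `χ` is faithful and `χ|N` is irreducible then `C_G(N) ≤ Z(G)`. -/
theorem R_cent_le_center {G : Type u} [Group G] [Finite G] (χ : G → ℂ)
    (hχ : Cfsg.IsCharacter G χ) (hfaith : ∀ g : G, χ g = χ 1 → g = 1) (N : Subgroup G)
    (hirr : Cfsg.IsIrrCharacter ↥N (fun g => χ (g : G))) :
    Subgroup.centralizer (N : Set G) ≤ Subgroup.center G := by
  obtain ⟨n, ρ, hρ⟩ := hχ
  obtain ⟨m, σ, hσirr, hσ⟩ := hirr
  obtain ⟨ρN, hρN⟩ : ∃ ρN : Representation ℂ N (Fin n → ℂ), ∀ y : N, ρN y = ρ (y : G) :=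
    ⟨ρ.comp N.subtype, fun y => rfl⟩
  have hchar : σ.character = ρN.character := by
    rw [hσ]
    funext y
    rw [← hρ]
    simp only [Representation.character, hρN]
  obtain ⟨e⟩ := Cfsg.Agent.Lib.helper4.nonempty_equiv_of_character_eq σ ρN hchar
  have hρNirr : ρN.IsIrreducible := Cfsg.Agent.Lib.helper4.isIrreducible_of_equiv e hσirr
  intro c hc
  rw [Subgroup.mem_center_iff]
  intro g
  have hcomm : ∀ y : N, ρN y * ρ c = ρ c * ρN y := by
    intro y
    have h1 : (y : G) * c = c * (y : G) := (Subgroup.mem_centralizer_iff.mp hc) (y : G) y.2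
    rw [hρN, ← map_mul, ← map_mul, h1]
  let f : Representation.IntertwiningMap ρN ρN :=
    { toLinearMap := ρ c
      isIntertwining' := fun y => (hcomm y).symm }
  obtain ⟨t, ht⟩ :=
    (Representation.IsIrreducible.algebraMap_intertwiningMap_bijective_of_isAlgClosed
      (ρ := ρN)).2 f
  have hsc : ρ c = t • (LinearMap.id : (Fin n → ℂ) →ₗ[ℂ] (Fin n → ℂ)) := by
    have h1 := congrArg Representation.IntertwiningMap.toLinearMap ht
    rw [Representation.IntertwiningMap.algebraMap_apply] at h1
    exact h1.symm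
  have hgc : ρ (g * c) = ρ (c * g) := by
    rw [map_mul, map_mul, hsc]
    ext v
    simp
  have h3 : χ (g * c * (c * g)⁻¹) = χ 1 := by
    rw [← hρ]
    simp only [Representation.character]
    rw [map_mul, hgc, ← map_mul, mul_inv_cancel]
  have h4 := hfaith _ h3
  calc g * c = (g * c * (c * g)⁻¹) * (c * g) := by group
    _ = c * g := by rw [h4, one_mul]

end Cfsg.Agent.Lib.helper2.BG
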