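import Mathlib
import Cfsg.Agent.Lib.helper2.BGDefs
import Cfsg.Agent.Lib.helper52.BrAlABCE

/-! S4504, piece R (sub-architect helper84), sub-piece R8 `R_cent_central`: with `p + 1` Sylow
`p`-subgroups of order `p`, the `p`-regular elements of `C_G(P)` are central as soon as
`C_G(normalClosure {x}) ≤ Z(G)`. -/

set_option autoImplicit false
set_option linter.unusedVariables false

open Cfsg

namespace Cfsg.Agent.Lib.helper32.BGR8

universe u

section

variable {G : Type u} [Group G] [Finite G] {p : ℕ} [Fact p.Prime]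

/-- A `p`-regular element of `C_G(P)` fixes every Sylow `p`-subgroup. -/
theorem helper32_fix_all (P : Sylow p G) (hP : Nat.card P = p)
    (hn : Nat.card (Sylow p G) = p + 1) (k : G)
    (hk : k ∈ Subgroup.centralizer ((P : Subgroup G) : Set G)) (hkp : ¬ p ∣ orderOf k)
    (Q : Sylow p G) : k • Q = Q := by
  have hp : p.Prime := Fact.out
  have hkP : k • P = P :=
    Sylow.smul_eq_iff_mem_normalizer.mpr (Subgroup.centralizer_le_normalizer _ hk)
  by_cases hQ : Q = P
  · rw [hQ]; exact hkP
  have hkQ : k • Q ≠ P := by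
    intro h
    apply hQ
    exact smul_left_cancel k (h.trans hkP.symm)
  obtain ⟨u, hu, -⟩ := Cfsg.Agent.Lib.helper52.BrAl.al_reg P hP (by rw [hn, add_comm]) Q (k • Q)
    hQ hkQ
  have hcomm : ∀ j : ℕ, k ^ j * (u : G) = (u : G) * k ^ j := by
    intro j
    have h1 : (u : G) * k = k * (u : G) := (Subgroup.mem_centralizer_iff.mp hk) (u : G) u.2
    have h2 : Commute k (u : G) := h1.symm
    exact (h2.pow_left j)
  have hpow : ∀ j : ℕ, k ^ j • Q = (u : G) ^ j • Q := by
    intro j
    induction j with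
    | zero => simp
    | succ j ih =>
      calc k ^ (j + 1) • Q = k ^ j • (k • Q) := by rw [pow_succ, mul_smul]
        _ = k ^ j • ((u : G) • Q) := by rw [hu]
        _ = (k ^ j * (u : G)) • Q := by rw [mul_smul]
        _ = ((u : G) * k ^ j) • Q := by rw [hcomm j]
        _ = (u : G) • (k ^ j • Q) := by rw [mul_smul]
        _ = (u : G) • ((u : G) ^ j • Q) := by rw [ih]
        _ = (u : G) ^ (j + 1) • Q := by rw [pow_succ', mul_smul]
  have h1 := hpow (orderOf k)
  rw [pow_orderOf_eq_one, one_smul] at h1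
  have hu1 : (u : G) ^ orderOf k = 1 := by
    by_contra hne
    exact hQ (Cfsg.Agent.Lib.helper52.BrAl.al_fix P hP _ (pow_mem u.2 _) hne Q h1.symm)
  have hd1 : orderOf (u : G) ∣ orderOf k := orderOf_dvd_of_pow_eq_one hu1
  have hd2 : orderOf (u : G) ∣ p := by
    have h2 := Subgroup.orderOf_dvd_natCard (P : Subgroup G) u.2
    have hP' : Nat.card (P : Subgroup G) = p := hP
    rwa [hP'] at h2
  have hu_one : (u : G) = 1 := by
    rcases (Nat.dvd_prime hp).mp hd2 with h | h
    · exact orderOf_eq_one_iff.mp h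
    · exfalso
      apply hkp
      rw [← h]; exact hd1
  rw [← hu, hu_one, one_smul]

/-- An element fixing every Sylow `p`-subgroup commutes with every element of every Sylow
`p`-subgroup (when they have order `p` and there are `p + 1` of them). -/
theorem helper32_comm_of_fix_all (P : Sylow p G) (hP : Nat.card P = p)
    (hn : Nat.card (Sylow p G) = p + 1) (l : G) (hl : ∀ R : Sylow p G, l • R = R)
    (Q : Sylow p G) (y : G) (hy : y ∈ (Q : Subgroup G)) : y * l = l * y := by
  have hp : p.Prime := Fact.out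
  have hQcard : Nat.card Q = p :=
    (Q.card_eq_multiplicity.trans P.card_eq_multiplicity.symm).trans hP
  have hlinv : ∀ R : Sylow p G, l⁻¹ • R = R := by
    intro R
    have h1 := hl R
    calc l⁻¹ • R = l⁻¹ • (l • R) := by rw [h1]
      _ = R := inv_smul_smul l R
  -- the commutator c = l * y * l⁻¹ * y⁻¹ lies in Q and fixes every Sylow subgroup
  have hcQ : l * y * l⁻¹ * y⁻¹ ∈ (Q : Subgroup G) := by
    have hN : l ∈ Subgroup.normalizer ((Q : Subgroup G) : Set G) :=
      Sylow.smul_eq_iff_mem_normalizer.mp (hl Q)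
    have h1 : l * y * l⁻¹ ∈ (Q : Subgroup G) := (Subgroup.mem_set_normalizer_iff.mp hN y).mp hy
    exact (Q : Subgroup G).mul_mem h1 ((Q : Subgroup G).inv_mem hy)
  have hcfix : ∀ R : Sylow p G, (l * y * l⁻¹ * y⁻¹) • R = R := by
    intro R
    calc (l * y * l⁻¹ * y⁻¹) • R = l • (y • (l⁻¹ • (y⁻¹ • R))) := by
          simp only [mul_smul]
      _ = l • (y • (y⁻¹ • R)) := by rw [hlinv]
      _ = l • R := by rw [smul_inv_smul]
      _ = R := hl R
  have hc1 : l * y * l⁻¹ * y⁻¹ = 1 := by
    by_contra hne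
    have hall : ∀ R : Sylow p G, R = Q := fun R =>
      Cfsg.Agent.Lib.helper52.BrAl.al_fix Q hQcard _ hcQ hne R (hcfix R)
    have hsub : Subsingleton (Sylow p G) := ⟨fun a b => (hall a).trans (hall b).symm⟩
    have hle : Nat.card (Sylow p G) ≤ 1 := Finite.card_le_one_iff_subsingleton.mpr hsub
    have := hp.two_le
    omega
  calc y * l = (l * y * l⁻¹ * y⁻¹)⁻¹ * (l * y) := by group
    _ = l * y := by rw [hc1, inv_one, one_mul]

end

end Cfsg.Agent.Lib.helper32.BGR8

namespace Cfsg.Agent.Lib.helper2.BG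

universe u

/-- R8 (V5): with `p + 1` Sylow `p`-subgroups, the `p`-regular elements of `C_G(P)` are central
as soon as `C_G(normalClosure {x}) ≤ Z(G)`. -/
theorem R_cent_central {G : Type u} [Group G] [Finite G] (p : ℕ) [Fact p.Prime]
    (hnn : ∀ H : Subgroup G, H.Normal → Nat.card H ≠ p) (P : Sylow p G)
    (hP : Nat.card P = p) (hn : Nat.card (Sylow p G) = p + 1) (x : G)
    (hx : x ∈ (P : Subgroup G)) (hx1 : x ≠ 1)
    (hcent : Subgroup.centralizer ((Subgroup.normalClosure ({x} : Set G) : Subgroup G) : Set G) ≤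
      Subgroup.center G) :
    ∀ k ∈ Subgroup.centralizer ((P : Subgroup G) : Set G), ¬ p ∣ orderOf k →
      k ∈ Subgroup.center G := by
  intro k hk hkp
  apply hcent
  have hfix : ∀ R : Sylow p G, k • R = R :=
    fun R => Cfsg.Agent.Lib.helper32.BGR8.helper32_fix_all P hP hn k hk hkp R
  have hconj : ∀ g : G, (g * x * g⁻¹) * k = k * (g * x * g⁻¹) := by
    intro g
    apply Cfsg.Agent.Lib.helper32.BGR8.helper32_comm_of_fix_all P hP hn k hfix (g • P)
    rw [Sylow.coe_subgroup_smul]
    have h1 := Subgroup.smul_mem_pointwise_smul x (MulAut.conj g) (P : Subgroup G) hx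
    rw [MulAut.smul_def, MulAut.conj_apply] at h1
    exact h1
  have key : ∀ y ∈ Subgroup.closure (Group.conjugatesOfSet ({x} : Set G)), y * k = k * y := by
    intro y hy'
    induction hy' using Subgroup.closure_induction with
    | mem z hz =>
      obtain ⟨a, ha, hconjaz⟩ := Group.mem_conjugatesOfSet_iff.mp hz
      rw [Set.mem_singleton_iff] at ha
      subst ha
      obtain ⟨c, hc⟩ := isConj_iff.mp hconjaz
      rw [← hc]
      exact hconj c
    | one => simp
    | mul a b _ _ iha ihb =>
      calc a * b * k = a * (b * k) := by group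
        _ = a * (k * b) := by rw [ihb]
        _ = (a * k) * b := by group
        _ = (k * a) * b := by rw [iha]
        _ = k * (a * b) := by group
    | inv a _ iha =>
      calc a⁻¹ * k = a⁻¹ * (k * a) * a⁻¹ := by group
        _ = a⁻¹ * (a * k) * a⁻¹ := by rw [iha]
        _ = k * a⁻¹ := by group
  rw [Subgroup.mem_centralizer_iff]
  intro y hy
  exact key y hy

end Cfsg.Agent.Lib.helper2.BG
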