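import Mathlib
import Cfsg.Prelude.Def_Characters
import Cfsg.Agent.Lib.helper1.Coprime
import Cfsg.Agent.Lib.helper82.Clifford
import Cfsg.Agent.Lib.helper82.CliffordCorr
import Cfsg.Agent.Lib.helper77.BlockCover
import Cfsg.Agent.Lib.helper5.GoingDown
import Cfsg.Agent.Lib.helper80.Transport

/-!
# Invariant constituents under coprime action (helper32)

Isaacs (13.27): `N ≤ G` subgroups of `Γ`, `N` normal in `Γ`, `S ≤ Γ` normalising `G`,
`(|G : N|, |S|) = 1`, `S` or `G/N` solvable.  Every `S`-invariant `χ ∈ Irr(G)` has an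
`S`-invariant irreducible constituent on `N`.

* `clifford_conj_rel` : two irreducible constituents of `χ|N` (`χ ∈ Irr(G)`, `N ≤ G ≤ Γ`,
  `N` normal in `Γ`) are conjugate by an element of `G`;
* `exists_invariant_constituent` : the theorem above with `N` normal in the ambient group.
-/

set_option autoImplicit false

namespace Cfsg.Agent.Lib.helper32

open Cfsg
open scoped ComplexConjugate Pointwise

universe u

section

variable {Γ : Type u} [Group Γ] [Fintype Γ] (N : Subgroup Γ) [hN : N.Normal] [Fintype N]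
  (G : Subgroup Γ) [Fintype G]

/-- Relative Clifford: two irreducible constituents of `χ|N`, `χ ∈ Irr(G)`, are `G`-conjugate. -/
theorem clifford_conj_rel (hNG : N ≤ G) (χ : IrrCharacter G) {θ φ : N → ℂ}
    (hθ : IsIrrCharacter N θ) (hφ : IsIrrCharacter N φ)
    (h1 : classInner (fun n : N => (χ : G → ℂ) ⟨n, hNG n.2⟩) θ ≠ 0)
    (h2 : classInner (fun n : N => (χ : G → ℂ) ⟨n, hNG n.2⟩) φ ≠ 0) :
    ∃ t ∈ G, φ = helper82.cconj N t θ := by
  classical
  letI : Fintype (N.subgroupOf G) := Fintype.ofFinite _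
  have h1' : classInner (fun n : N.subgroupOf G => (χ : G → ℂ) n) (helper82.subRes N G θ) ≠ 0 := by
    rw [← helper82.subRes_restrict N G hNG, helper82.classInner_subRes N G hNG]
    exact h1
  have h2' : classInner (fun n : N.subgroupOf G => (χ : G → ℂ) n) (helper82.subRes N G φ) ≠ 0 := by
    rw [← helper82.subRes_restrict N G hNG, helper82.classInner_subRes N G hNG]
    exact h2
  obtain ⟨t, ht⟩ := helper82.clifford_conj (N.subgroupOf G) χ.2
    (helper82.isIrrCharacter_subRes N G hNG hθ) (helper82.isIrrCharacter_subRes N G hNG hφ) h1' h2'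
  refine ⟨t, t.2, ?_⟩
  rw [helper82.cconj_subRes] at ht
  exact helper5.subRes_injective N G hNG ht

/-- Isaacs (13.27) with `N` normal in the ambient group. -/
theorem exists_invariant_constituent (S : Subgroup Γ)
    (hnorm : ∀ s ∈ S, ∀ g ∈ G, s * g * s⁻¹ ∈ G) (hNG : N ≤ G)
    (hcop : (N.relIndex G).Coprime (Nat.card S))
    (hsolv : Group.IsSolvable S ∨ Group.IsSolvable (G.map (QuotientGroup.mk' N)))
    (χ : IrrCharacter G)
    (hinv : ∀ s ∈ S, ∀ g g' : G, (g' : Γ) = s * g * s⁻¹ → (χ : G → ℂ) g' = (χ : G → ℂ) g) :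
    ∃ θ : IrrCharacter N, classInner (fun n : N => (χ : G → ℂ) ⟨n, hNG n.2⟩) (θ : N → ℂ) ≠ 0 ∧
      ∀ s ∈ S, helper82.cconj N s (θ : N → ℂ) = (θ : N → ℂ) := by
  classical
  obtain ⟨θ₀, hθ₀⟩ := helper77.exists_constituent_restrict N G hNG χ
  have hχS : ∀ s ∈ S, helper82.cconj N s (fun n : N => (χ : G → ℂ) ⟨n, hNG n.2⟩)
      = fun n : N => (χ : G → ℂ) ⟨n, hNG n.2⟩ := by
    intro s hs
    rw [helper82.cconj_eq_iff]
    intro n
    exact hinv s hs ⟨n, hNG n.2⟩ ⟨s * n * s⁻¹, hNG (hN.conj_mem n n.2 s)⟩ rfl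
  have hcons : ∀ s ∈ S, classInner (fun n : N => (χ : G → ℂ) ⟨n, hNG n.2⟩)
      (helper82.cconj N s (θ₀ : N → ℂ)) ≠ 0 := by
    intro s hs
    have h := helper82.classInner_cconj N s (fun n : N => (χ : G → ℂ) ⟨n, hNG n.2⟩) (θ₀ : N → ℂ)
    rw [hχS s hs] at h
    rw [h]
    exact hθ₀
  have hcl : ∀ s ∈ S, ∃ t ∈ G, helper82.cconj N s (θ₀ : N → ℂ) = helper82.cconj N t (θ₀ : N → ℂ) :=
    fun s hs => clifford_conj_rel N G hNG χ θ₀.2 (helper82.isIrrCharacter_cconj N s θ₀.2) hθ₀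
      (hcons s hs)
  obtain ⟨π, hπ⟩ : ∃ π : Γ →* Γ ⧸ N, π = QuotientGroup.mk' N := ⟨_, rfl⟩
  have hker : π.ker = N := by rw [hπ]; exact QuotientGroup.ker_mk' N
  have hAK : S.map π ≤ Subgroup.normalizer ((G.map π : Subgroup (Γ ⧸ N)) : Set (Γ ⧸ N)) := by
    rintro _ ⟨s, hs, rfl⟩
    rw [Subgroup.mem_normalizer_iff]
    intro h
    constructor
    · rintro ⟨g, hg, rfl⟩
      exact ⟨s * g * s⁻¹, hnorm s hs g hg, by simp⟩
    · rintro ⟨g, hg, hgeq⟩
      refine ⟨s⁻¹ * g * s, ?_, ?_⟩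
      · have := hnorm s⁻¹ (S.inv_mem hs) g hg
        simpa using this
      · simp only [map_mul, map_inv]
        rw [hgeq]
        group
  have hcop' : (Nat.card (S.map π)).Coprime (Nat.card (G.map π)) := by
    have h1 : Nat.card (S.map π) ∣ Nat.card S := Subgroup.card_map_dvd S π
    have h2 : Nat.card (G.map π) = N.relIndex G := by
      rw [← Subgroup.relIndex_ker, hker]
    rw [h2]
    exact (Nat.Coprime.coprime_dvd_right h1 hcop).symm
  have hsolv' : Group.IsSolvable (S.map π) ∨ Group.IsSolvable (G.map π) := by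
    rcases hsolv with h | h
    · left
      haveI := h
      exact Group.isSolvable_of_surjective (π.subgroupMap_surjective S)
    · right
      rw [hπ]
      exact h
  have hL : ∀ a ∈ S.map π, ∃ k ∈ G.map π, k * a ∈ (helper82.inertia N (θ₀ : N → ℂ)).map π := by
    rintro _ ⟨s, hs, rfl⟩
    obtain ⟨t, ht, hst⟩ := hcl s hs
    refine ⟨π t⁻¹, ⟨t⁻¹, G.inv_mem ht, rfl⟩, ⟨t⁻¹ * s, ?_, by simp⟩⟩
    rw [SetLike.mem_coe, helper82.mem_inertia, helper82.cconj_mul, hst, helper82.cconj_inv_cconj]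
  obtain ⟨n, hn, hnA⟩ := helper1.glauberman_exists (S.map π) (G.map π)
    ((helper82.inertia N (θ₀ : N → ℂ)).map π) hAK hcop' hsolv' hL
  obtain ⟨g₀, hg₀, rfl⟩ := hn
  have hcf : IsClassFunction N (θ₀ : N → ℂ) := helper4.isClassFunction_of_isIrrCharacter θ₀.2
  have hin : ∀ s ∈ S, g₀ * s * g₀⁻¹ ∈ helper82.inertia N (θ₀ : N → ℂ) := by
    intro s hs
    have h1 : π g₀ * π s * (π g₀)⁻¹ ∈ MulAut.conj (π g₀) • S.map π :=
      ⟨π s, ⟨s, hs, rfl⟩, by simp [MulAut.conj_apply]⟩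
    obtain ⟨y, hy, hyeq⟩ := hnA h1
    have h2 : y⁻¹ * (g₀ * s * g₀⁻¹) ∈ N := by
      rw [← hker, MonoidHom.mem_ker]
      simp only [map_mul, map_inv]
      rw [hyeq]
      group
    have h3 : g₀ * s * g₀⁻¹ = y * (y⁻¹ * (g₀ * s * g₀⁻¹)) := by group
    rw [h3]
    exact Subgroup.mul_mem _ hy (helper82.le_inertia N hcf h2)
  refine ⟨⟨helper82.cconj N g₀⁻¹ (θ₀ : N → ℂ), helper82.isIrrCharacter_cconj N g₀⁻¹ θ₀.2⟩, ?_, ?_⟩
  · show classInner (fun n : N => (χ : G → ℂ) ⟨n, hNG n.2⟩)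
      (helper82.cconj N g₀⁻¹ (θ₀ : N → ℂ)) ≠ 0
    rw [helper77.classInner_restrict_cconj_rel N G hNG χ (G.inv_mem hg₀)]
    exact hθ₀
  · intro s hs
    show helper82.cconj N s (helper82.cconj N g₀⁻¹ (θ₀ : N → ℂ))
      = helper82.cconj N g₀⁻¹ (θ₀ : N → ℂ)
    have h1 := (helper82.mem_inertia N (θ₀ : N → ℂ) (g₀ * s * g₀⁻¹)).mp (hin s hs)
    have h2 : s * g₀⁻¹ = g₀⁻¹ * (g₀ * s * g₀⁻¹) := by group
    rw [← helper82.cconj_mul, h2, helper82.cconj_mul, h1]

end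

end Cfsg.Agent.Lib.helper32
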