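import Mathlib
import Cfsg.Prelude.Def_Characters
import Cfsg.Prelude.Def_OddOrderChar

set_option autoImplicit false

namespace Cfsg.Agent.Lib.helper32

theorem pow_card_subgroup_eq_one {G : Type*} [Group G] [Finite G] (K : Subgroup G) (x : G) (hx : x ∈ K) :
    x ^ Nat.card K = 1 := by
  exact orderOf_dvd_iff_pow_eq_one.mp (Subgroup.orderOf_dvd_natCard K hx)

theorem mem_centralizer_singleton {G : Type*} [Group G] (a c : G) :
    c ∈ Subgroup.centralizer ({a} : Set G) ↔ c * a = a * c := by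
  rw [Subgroup.mem_centralizer_iff]
  constructor
  · intro h
    exact (h a (Set.mem_singleton a)).symm
  · intro h y hy
    rw [Set.mem_singleton_iff] at hy
    subst hy
    exact h.symm

/-- The "π-part" argument: conjugate elements of the cosets `a H(a)` and `b H(b)` force `a` and `b`
to be conjugate by the same element. -/
theorem dade_conj_eq_of_coset_conj {G : Type*} [Group G] [Finite G] (A : Set G) (L : Subgroup G)
    (H : G → Subgroup G) (hD : Cfsg.DadeHypothesis A L H) (a b : G) (ha : a ∈ A) (hb : b ∈ A)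
    (u v g : G) (hu : u ∈ H a) (hv : v ∈ H b) (h : g * (a * u) * g⁻¹ = b * v) :
    g * a * g⁻¹ = b := by
  set N : ℕ := Nat.card ↥(L ⊓ Subgroup.centralizer ({a} : Set G)) *
    Nat.card ↥(L ⊓ Subgroup.centralizer ({b} : Set G)) with hN
  set M : ℕ := Nat.card (H a) * Nat.card (H b) with hM
  have hcop : Nat.Coprime M N := by
    rw [hM, hN]
    exact Nat.Coprime.mul_left
      (Nat.Coprime.mul_right (hD.coprime a ha a ha) (hD.coprime a ha b hb))
      (Nat.Coprime.mul_right (hD.coprime b hb a ha) (hD.coprime b hb b hb))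
  have haL : a ∈ L ⊓ Subgroup.centralizer ({a} : Set G) :=
    ⟨hD.subset ha, (mem_centralizer_singleton a a).mpr rfl⟩
  have hbL : b ∈ L ⊓ Subgroup.centralizer ({b} : Set G) :=
    ⟨hD.subset hb, (mem_centralizer_singleton b b).mpr rfl⟩
  have haN : a ^ N = 1 := by
    rw [hN, pow_mul, pow_card_subgroup_eq_one _ a haL, one_pow]
  have hbN : b ^ N = 1 := by
    rw [hN, mul_comm, pow_mul, pow_card_subgroup_eq_one _ b hbL, one_pow]
  have huM : u ^ M = 1 := by
    rw [hM, pow_mul, pow_card_subgroup_eq_one _ u hu, one_pow]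
  have hvM : v ^ M = 1 := by
    rw [hM, mul_comm, pow_mul, pow_card_subgroup_eq_one _ v hv, one_pow]
  have hau : Commute a u := by
    have := (mem_centralizer_singleton a u).mp (hD.le_centralizer a ha hu)
    exact this.symm
  have hbv : Commute b v := by
    have := (mem_centralizer_singleton b v).mp (hD.le_centralizer b hb hv)
    exact this.symm
  -- Bezout
  have hbez : (M : ℤ) * Nat.gcdA M N + (N : ℤ) * Nat.gcdB M N = 1 := by
    have := Nat.gcd_eq_gcd_ab M N
    rw [hcop] at this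
    simpa using this.symm
  set s : ℤ := Nat.gcdA M N with hs
  set t : ℤ := Nat.gcdB M N with ht
  have key : ∀ (c w : G), Commute c w → c ^ N = 1 → w ^ M = 1 → (c * w) ^ ((M : ℤ) * s) = c := by
    intro c w hcw hc hw
    rw [hcw.mul_zpow]
    have h1 : w ^ ((M : ℤ) * s) = 1 := by
      rw [zpow_mul, zpow_natCast, hw, one_zpow]
    have h2 : c ^ ((M : ℤ) * s) = c := by
      have : (M : ℤ) * s = 1 - (N : ℤ) * t := by linarith
      rw [this, zpow_sub, zpow_one, zpow_mul, zpow_natCast, hc, one_zpow, inv_one, mul_one]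
    rw [h1, h2, mul_one]
  have h3 : g * (a * u) ^ ((M : ℤ) * s) * g⁻¹ = (b * v) ^ ((M : ℤ) * s) := by
    rw [← conj_zpow, h]
  rw [key a u hau haN huM, key b v hbv hbN hvM] at h3
  exact h3

/-- An element of the centraliser of `a ∈ A` whose order is prime to `|C_L(a)|` lies in `H a`. -/
theorem dade_mem_H_of_pow_eq_one {G : Type*} [Group G] [Finite G] (A : Set G) (L : Subgroup G)
    (H : G → Subgroup G) (hD : Cfsg.DadeHypothesis A L H) (a : G) (ha : a ∈ A) (k : G)
    (hk : k ∈ Subgroup.centralizer ({a} : Set G)) (n : ℕ)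
    (hn : Nat.Coprime n (Nat.card ↥(L ⊓ Subgroup.centralizer ({a} : Set G)))) (hkn : k ^ n = 1) :
    k ∈ H a := by
  set D : Subgroup G := L ⊓ Subgroup.centralizer ({a} : Set G) with hDdef
  have hnorm : D ≤ Subgroup.normalizer ((H a : Subgroup G) : Set G) := by
    rw [Subgroup.le_normalizer_iff]
    intro h hh k hk
    exact hD.conj_mem_H a ha h hh.2 k hk
  have hcoe := Subgroup.coe_mul_of_right_le_normalizer_left (H a) D hnorm
  have hk' : k ∈ ((H a ⊔ D : Subgroup G) : Set G) := by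
    rw [SetLike.mem_coe, hD.sup_eq a ha]
    exact hk
  rw [hcoe] at hk'
  obtain ⟨h, hh, l, hl, rfl⟩ := hk'
  have hh' : h ∈ H a := hh
  have hl' : l ∈ D := hl
  -- powers
  have hpow : ∀ j : ℕ, ∃ hj ∈ H a, (h * l) ^ j = hj * l ^ j := by
    intro j
    induction j with
    | zero => exact ⟨1, (H a).one_mem, by simp⟩
    | succ j ih =>
      obtain ⟨hj, hhj, hjeq⟩ := ih
      refine ⟨hj * (l ^ j * h * (l ^ j)⁻¹), (H a).mul_mem hhj ?_, ?_⟩
      · exact hD.conj_mem_H a ha (l ^ j) ((pow_mem hl' j).2) h hh'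
      · rw [pow_succ, hjeq, pow_succ]
        simp [mul_assoc]
  obtain ⟨hn', hhn', hneq⟩ := hpow n
  have hkn' : (h * l) ^ n = 1 := hkn
  rw [hkn'] at hneq
  have hln : l ^ n ∈ H a ⊓ D := by
    refine ⟨?_, pow_mem hl' n⟩
    have : l ^ n = hn'⁻¹ := by
      rw [eq_inv_iff_mul_eq_one, eq_comm, ← mul_right_inj hn', ← mul_assoc, ← hneq]
      simp
    rw [this]
    exact (H a).inv_mem hhn'
  rw [hD.inf_eq_bot a ha, Subgroup.mem_bot] at hln
  have hlm : l ^ Nat.card D = 1 := pow_card_subgroup_eq_one D l hl'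
  have hl1 : l = 1 := by
    have h1 : orderOf l ∣ n := orderOf_dvd_of_pow_eq_one hln
    have h2 : orderOf l ∣ Nat.card D := orderOf_dvd_of_pow_eq_one hlm
    have h3 : orderOf l ∣ Nat.gcd n (Nat.card D) := Nat.dvd_gcd h1 h2
    rw [hn] at h3
    exact orderOf_eq_one_iff.mp (Nat.dvd_one.mp h3)
  change h * l ∈ H a
  rw [hl1, mul_one]
  exact hh'

theorem dade_map_conj_le {G : Type*} [Group G] [Finite G] (A : Set G) (L : Subgroup G)
    (H : G → Subgroup G) (hD : Cfsg.DadeHypothesis A L H) (a : G) (ha : a ∈ A) (x : G)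
    (hx : x * a * x⁻¹ ∈ A) :
    (H a).map (MulAut.conj x).toMonoidHom ≤ H (x * a * x⁻¹) := by
  rintro k ⟨u, hu, rfl⟩
  have hu' : u ∈ H a := hu
  have hua : u * a = a * u := (mem_centralizer_singleton a u).mp (hD.le_centralizer a ha hu')
  refine dade_mem_H_of_pow_eq_one A L H hD (x * a * x⁻¹) hx _ ?_ (Nat.card (H a))
    (hD.coprime a ha (x * a * x⁻¹) hx) ?_
  · rw [mem_centralizer_singleton]
    show x * u * x⁻¹ * (x * a * x⁻¹) = x * a * x⁻¹ * (x * u * x⁻¹)
    calc x * u * x⁻¹ * (x * a * x⁻¹) = x * (u * a) * x⁻¹ := by simp [mul_assoc]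
      _ = x * (a * u) * x⁻¹ := by rw [hua]
      _ = x * a * x⁻¹ * (x * u * x⁻¹) := by simp [mul_assoc]
  · show (x * u * x⁻¹) ^ Nat.card (H a) = 1
    rw [conj_pow, pow_card_subgroup_eq_one (H a) u hu']
    simp

/-- Generalised form of S1498: the subgroup attached to a conjugate `x a x⁻¹ ∈ A` is the conjugate. -/
theorem dade_H_conj {G : Type*} [Group G] [Finite G] (A : Set G) (L : Subgroup G)
    (H : G → Subgroup G) (hD : Cfsg.DadeHypothesis A L H) (a : G) (ha : a ∈ A) (x : G)
    (hx : x * a * x⁻¹ ∈ A) :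
    H (x * a * x⁻¹) = (H a).map (MulAut.conj x).toMonoidHom := by
  apply le_antisymm
  · have hback : x⁻¹ * (x * a * x⁻¹) * x⁻¹⁻¹ = a := by simp [mul_assoc]
    have h1 := dade_map_conj_le A L H hD (x * a * x⁻¹) hx x⁻¹ (by rw [hback]; exact ha)
    rw [hback] at h1
    intro k hk
    refine ⟨x⁻¹ * k * x, h1 ⟨k, hk, by simp⟩, ?_⟩
    simp [mul_assoc]
  · exact dade_map_conj_le A L H hD a ha x hx

end Cfsg.Agent.Lib.helper32
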