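import Mathlib
import Cfsg.Agent.Lib.helper32.Dade

set_option autoImplicit false

namespace Cfsg.Agent.Lib.helper32

open Classical

section Generic

variable {G : Type*} [Group G] [Fintype G] {K : Type*} [Field K]

/-- Number of `x` conjugating `g` into `D₀`. -/
noncomputable def conjCount (D₀ : Set G) (g : G) : ℕ :=
  (Finset.univ.filter (fun x : G => x * g * x⁻¹ ∈ D₀)).card

theorem conjCount_conj (D₀ : Set G) (g y : G) : conjCount D₀ (y * g * y⁻¹) = conjCount D₀ g := by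
  unfold conjCount
  apply Finset.card_bijective (fun x => x * y) (Group.mulRight_bijective y)
  intro x
  simp only [Finset.mem_filter, Finset.mem_univ, true_and]
  have : x * y * g * (x * y)⁻¹ = x * (y * g * y⁻¹) * x⁻¹ := by simp [mul_assoc]
  rw [this]

theorem conjCount_ne_zero_iff (D₀ : Set G) (g : G) :
    conjCount D₀ g ≠ 0 ↔ ∃ x : G, x * g * x⁻¹ ∈ D₀ := by
  unfold conjCount
  rw [Finset.card_ne_zero]
  constructor
  · rintro ⟨x, hx⟩
    exact ⟨x, (Finset.mem_filter.mp hx).2⟩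
  · rintro ⟨x, hx⟩
    exact ⟨x, Finset.mem_filter.mpr ⟨Finset.mem_univ x, hx⟩⟩

/-- Generic double counting: `Σ_g F g · #{x | x g x⁻¹ ∈ D₀} = |G| · Σ_{h ∈ D₀} F h` for class functions. -/
theorem sum_mul_conjCount (D₀ : Set G) (F : G → K) (hF : ∀ g h : G, F (h * g * h⁻¹) = F g) :
    ∑ g : G, F g * (conjCount D₀ g : K) =
      (Fintype.card G : K) * ∑ h : G, (if h ∈ D₀ then F h else 0) := by
  have h1 : ∀ g : G, F g * (conjCount D₀ g : K) =
      ∑ x : G, (if x * g * x⁻¹ ∈ D₀ then F g else 0) := by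
    intro g
    unfold conjCount
    rw [Finset.natCast_card_filter, Finset.mul_sum]
    apply Finset.sum_congr rfl
    intro x _
    split_ifs <;> simp
  rw [Finset.sum_congr rfl (fun g _ => h1 g), Finset.sum_comm]
  have h2 : ∀ x : G, ∑ g : G, (if x * g * x⁻¹ ∈ D₀ then F g else 0) =
      ∑ h : G, (if h ∈ D₀ then F h else 0) := by
    intro x
    rw [← Equiv.sum_comp (MulAut.conj x).toEquiv (fun h => if h ∈ D₀ then F h else 0)]
    apply Finset.sum_congr rfl
    intro g _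
    simp only [MulEquiv.toEquiv_eq_coe, MulEquiv.coe_toEquiv, MulAut.conj_apply, hF]
  rw [Finset.sum_congr rfl (fun x _ => h2 x), Finset.sum_const, Finset.card_univ, nsmul_eq_mul]

/-- Summing a class function over the union of conjugates of `D₀`. -/
theorem sum_conj_closure [CharZero K] (D₀ : Set G) (F : G → K)
    (hF : ∀ g h : G, F (h * g * h⁻¹) = F g) :
    ∑ g : G, (if (∃ x : G, x * g * x⁻¹ ∈ D₀) then F g else 0) =
      (Fintype.card G : K) * ∑ h : G, (if h ∈ D₀ then F h * (conjCount D₀ h : K)⁻¹ else 0) := by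
  have h := sum_mul_conjCount D₀ (fun g => F g * (conjCount D₀ g : K)⁻¹) (by
    intro g h
    simp only [conjCount_conj, hF])
  rw [← h]
  apply Finset.sum_congr rfl
  intro g _
  by_cases hg : ∃ x : G, x * g * x⁻¹ ∈ D₀
  · rw [if_pos hg]
    have hne : (conjCount D₀ g : K) ≠ 0 := by
      exact_mod_cast (conjCount_ne_zero_iff D₀ g).mpr hg
    field_simp
  · rw [if_neg hg]
    have h0 : conjCount D₀ g = 0 := by
      by_contra hne
      exact hg ((conjCount_ne_zero_iff D₀ g).mp hne)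
    rw [h0]
    simp

end Generic

section DadeCount

variable {G : Type*} [Group G]

/-- The union of the cosets `a · H a`, `a ∈ A`. -/
def dadeCosets (A : Set G) (H : G → Subgroup G) : Set G :=
  {h | ∃ a ∈ A, ∃ u ∈ H a, h = a * u}

theorem dade_conj_mem_cosets_iff [Finite G] (A : Set G) (L : Subgroup G) (H : G → Subgroup G)
    (hD : Cfsg.DadeHypothesis A L H) (a₀ u₀ : G) (ha₀ : a₀ ∈ A) (hu₀ : u₀ ∈ H a₀) (x : G) :
    x * (a₀ * u₀) * x⁻¹ ∈ dadeCosets A H ↔ x * a₀ * x⁻¹ ∈ A := by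
  constructor
  · rintro ⟨a, ha, u, hu, h⟩
    have := dade_conj_eq_of_coset_conj A L H hD a₀ a ha₀ ha u₀ u x hu₀ hu h
    rw [this]
    exact ha
  · intro hx
    refine ⟨x * a₀ * x⁻¹, hx, x * u₀ * x⁻¹, ?_, by simp [mul_assoc]⟩
    rw [dade_H_conj A L H hD a₀ ha₀ x hx]
    exact ⟨u₀, hu₀, rfl⟩

/-- The elements conjugating `a₀ ∈ A` into `A` are exactly the products `l * h`, `l ∈ L`, `h ∈ H a₀`. -/
noncomputable def dadeConjEquiv [Finite G] (A : Set G) (L : Subgroup G) (H : G → Subgroup G)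
    (hD : Cfsg.DadeHypothesis A L H) (a₀ : G) (ha₀ : a₀ ∈ A) :
    (L × H a₀) ≃ {x : G // x * a₀ * x⁻¹ ∈ A} := by
  refine Equiv.ofBijective (fun p => ⟨(p.1 : G) * (p.2 : G), ?_⟩) ⟨?_, ?_⟩
  · have hc : (p.2 : G) * a₀ = a₀ * (p.2 : G) :=
      (mem_centralizer_singleton a₀ p.2).mp (hD.le_centralizer a₀ ha₀ p.2.2)
    have : (p.1 : G) * (p.2 : G) * a₀ * ((p.1 : G) * (p.2 : G))⁻¹ = (p.1 : G) * a₀ * (p.1 : G)⁻¹ := by
      rw [mul_assoc (p.1 : G), hc]
      simp [mul_assoc]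
    rw [this]
    exact hD.conj_mem p.1 p.1.2 a₀ ha₀
  · rintro ⟨l, h⟩ ⟨l', h'⟩ heq
    have heq' : (l : G) * (h : G) = (l' : G) * (h' : G) := congrArg Subtype.val heq
    have h1 : (l' : G)⁻¹ * (l : G) = (h' : G) * (h : G)⁻¹ := by
      rw [inv_mul_eq_iff_eq_mul, ← mul_assoc, ← heq']
      simp
    have hmemH : (h' : G) * (h : G)⁻¹ ∈ H a₀ := (H a₀).mul_mem h'.2 ((H a₀).inv_mem h.2)
    have hmemL : (h' : G) * (h : G)⁻¹ ∈ L := by
      rw [← h1]
      exact L.mul_mem (L.inv_mem l'.2) l.2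
    have hbot : (h' : G) * (h : G)⁻¹ ∈ H a₀ ⊓ (L ⊓ Subgroup.centralizer ({a₀} : Set G)) :=
      ⟨hmemH, hmemL, hD.le_centralizer a₀ ha₀ hmemH⟩
    rw [hD.inf_eq_bot a₀ ha₀, Subgroup.mem_bot] at hbot
    have hh : (h' : G) = (h : G) := by
      rw [mul_inv_eq_one] at hbot
      exact hbot
    have hl : (l : G) = (l' : G) := by
      rw [hh] at heq'
      exact mul_right_cancel heq'
    exact Prod.ext (Subtype.ext hl) (Subtype.ext hh.symm)
  · rintro ⟨x, hx⟩
    obtain ⟨l, hl, hla⟩ := hD.fusion a₀ ha₀ x hx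
    have hc : l⁻¹ * x ∈ Subgroup.centralizer ({a₀} : Set G) := by
      rw [mem_centralizer_singleton]
      have h2 : l⁻¹ * (l * a₀ * l⁻¹) * l = l⁻¹ * (x * a₀ * x⁻¹) * l := by rw [hla]
      have h3 : a₀ = l⁻¹ * x * a₀ * x⁻¹ * l := by simpa [mul_assoc] using h2
      calc l⁻¹ * x * a₀ = l⁻¹ * x * a₀ * x⁻¹ * l * (l⁻¹ * x) := by simp [mul_assoc]
        _ = a₀ * (l⁻¹ * x) := by rw [← h3]
    set D : Subgroup G := L ⊓ Subgroup.centralizer ({a₀} : Set G) with hDdef
    have hnorm : D ≤ Subgroup.normalizer ((H a₀ : Subgroup G) : Set G) := by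
      rw [Subgroup.le_normalizer_iff]
      intro h hh k hk
      exact hD.conj_mem_H a₀ ha₀ h hh.2 k hk
    have hcoe := Subgroup.coe_mul_of_left_le_normalizer_right D (H a₀) hnorm
    have hc' : l⁻¹ * x ∈ ((D ⊔ H a₀ : Subgroup G) : Set G) := by
      rw [SetLike.mem_coe, sup_comm, hD.sup_eq a₀ ha₀]
      exact hc
    rw [hcoe] at hc'
    obtain ⟨d, hd, h, hh, hdh⟩ := hc'
    have hd' : d ∈ D := hd
    have hdh' : d * h = l⁻¹ * x := hdh
    refine ⟨(⟨l * d, L.mul_mem hl hd'.1⟩, ⟨h, hh⟩), ?_⟩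
    apply Subtype.ext
    show l * d * h = x
    rw [mul_assoc, hdh']
    simp

theorem dade_conjCount [Fintype G] (A : Set G) (L : Subgroup G) (H : G → Subgroup G)
    (hD : Cfsg.DadeHypothesis A L H) (a₀ u₀ : G) (ha₀ : a₀ ∈ A) (hu₀ : u₀ ∈ H a₀) :
    conjCount (dadeCosets A H) (a₀ * u₀) = Nat.card L * Nat.card (H a₀) := by
  unfold conjCount
  have h1 : (Finset.univ.filter (fun x : G => x * (a₀ * u₀) * x⁻¹ ∈ dadeCosets A H))
      = Finset.univ.filter (fun x : G => x * a₀ * x⁻¹ ∈ A) := by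
    apply Finset.filter_congr
    intro x _
    exact dade_conj_mem_cosets_iff A L H hD a₀ u₀ ha₀ hu₀ x
  rw [h1, ← Fintype.card_subtype, ← Nat.card_eq_fintype_card,
    ← Nat.card_congr (dadeConjEquiv A L H hD a₀ ha₀), Nat.card_prod]

/-- The master counting formula for the Dade set-up: the sum of a class function over the union of
the conjugates of the cosets `a · H a`. -/
theorem dade_sum_eq [Fintype G] {K : Type*} [Field K] [CharZero K] (A : Set G) (L : Subgroup G)
    [Fintype L] (H : G → Subgroup G) (hD : Cfsg.DadeHypothesis A L H) (F : G → K)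
    (hF : ∀ g h : G, F (h * g * h⁻¹) = F g) :
    ∑ g : G, (if (∃ a ∈ A, ∃ u ∈ H a, ∃ x : G, x * g * x⁻¹ = a * u) then F g else 0) =
      (Nat.card G : K) * (Nat.card L : K)⁻¹ *
        ∑ a : L, (if (a : G) ∈ A then
          (Nat.card (H (a : G)) : K)⁻¹ * ∑ u : G, (if u ∈ H (a : G) then F ((a : G) * u) else 0)
          else 0) := by
  have hcond : ∀ g : G, (∃ a ∈ A, ∃ u ∈ H a, ∃ x : G, x * g * x⁻¹ = a * u) ↔
      ∃ x : G, x * g * x⁻¹ ∈ dadeCosets A H := by
    intro g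
    constructor
    · rintro ⟨a, ha, u, hu, x, hx⟩
      exact ⟨x, a, ha, u, hu, hx⟩
    · rintro ⟨x, a, ha, u, hu, hx⟩
      exact ⟨a, ha, u, hu, x, hx⟩
  have h1 : ∑ g : G, (if (∃ a ∈ A, ∃ u ∈ H a, ∃ x : G, x * g * x⁻¹ = a * u) then F g else 0) =
      ∑ g : G, (if (∃ x : G, x * g * x⁻¹ ∈ dadeCosets A H) then F g else 0) := by
    apply Finset.sum_congr rfl
    intro g _
    exact if_congr (hcond g) rfl rfl
  rw [h1, sum_conj_closure (dadeCosets A H) F hF, Nat.card_eq_fintype_card (α := G), mul_assoc]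
  congr 1
  -- rewrite the right-hand side as a sum over pairs
  have hR : (Nat.card L : K)⁻¹ *
        ∑ a : L, (if (a : G) ∈ A then
          (Nat.card (H (a : G)) : K)⁻¹ * ∑ u : G, (if u ∈ H (a : G) then F ((a : G) * u) else 0)
          else 0)
      = ∑ p ∈ (Finset.univ : Finset (L × G)).filter (fun p => (p.1 : G) ∈ A ∧ p.2 ∈ H (p.1 : G)),
          F ((p.1 : G) * p.2) * ((Nat.card L : K) * (Nat.card (H (p.1 : G)) : K))⁻¹ := by
    rw [Finset.sum_filter, ← Finset.univ_product_univ, Finset.sum_product, Finset.mul_sum]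
    apply Finset.sum_congr rfl
    intro a _
    by_cases ha : (a : G) ∈ A
    · rw [if_pos ha, Finset.mul_sum, Finset.mul_sum]
      apply Finset.sum_congr rfl
      intro u _
      by_cases hu : u ∈ H (a : G)
      · rw [if_pos hu, if_pos ⟨ha, hu⟩, mul_inv]
        ring
      · rw [if_neg hu, if_neg (fun h => hu h.2)]
        simp
    · rw [if_neg ha, mul_zero]
      symm
      apply Finset.sum_eq_zero
      intro u _
      rw [if_neg (fun h => ha h.1)]
  rw [hR, ← Finset.sum_filter]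
  symm
  apply Finset.sum_nbij (fun p : L × G => (p.1 : G) * p.2)
  · intro p hp
    rw [Finset.mem_filter] at hp ⊢
    exact ⟨Finset.mem_univ _, (p.1 : G), hp.2.1, p.2, hp.2.2, rfl⟩
  · intro p hp q hq heq
    rw [Finset.mem_coe, Finset.mem_filter] at hp hq
    have heq' : (p.1 : G) * p.2 = (q.1 : G) * q.2 := heq
    have h2 := dade_conj_eq_of_coset_conj A L H hD (p.1 : G) (q.1 : G) hp.2.1 hq.2.1 p.2 q.2 1
      hp.2.2 hq.2.2 (by simpa using heq')
    have h3 : (p.1 : G) = (q.1 : G) := by simpa using h2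
    rw [h3] at heq'
    exact Prod.ext (Subtype.ext h3) (mul_left_cancel heq')
  · intro h hh
    rw [Finset.mem_coe, Finset.mem_filter] at hh
    obtain ⟨a, ha, u, hu, rfl⟩ := hh.2
    refine ⟨(⟨a, hD.subset ha⟩, u), ?_, rfl⟩
    rw [Finset.mem_coe, Finset.mem_filter]
    exact ⟨Finset.mem_univ _, ha, hu⟩
  · intro p hp
    rw [Finset.mem_filter] at hp
    rw [dade_conjCount A L H hD (p.1 : G) p.2 hp.2.1 hp.2.2]
    push_cast
    rfl

end DadeCount

section DadeMap

open scoped ComplexConjugate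

variable {G : Type*} [Group G]

theorem finsum_mem_eq_sum_ite' {G : Type*} [Fintype G] {M : Type*} [AddCommMonoid M] (S : Set G)
    (f : G → M) : ∑ᶠ u ∈ S, f u = ∑ u : G, (if u ∈ S then f u else 0) := by
  rw [finsum_mem_def, finsum_eq_sum_of_fintype]
  apply Finset.sum_congr rfl
  intro u _
  rw [Set.indicator_apply]

/-- Value of the Dade map at an element conjugate into the coset `a · H a`. -/
theorem dadeIsometry_apply_of_conj [Finite G] (A : Set G) (L : Subgroup G) (H : G → Subgroup G)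
    (hD : Cfsg.DadeHypothesis A L H) (α : ↥L → ℂ) (hα : Cfsg.IsClassFunction L α)
    (g : G) (a : L) (ha : (a : G) ∈ A) (u : G) (hu : u ∈ H (a : G)) (x : G)
    (hx : x * g * x⁻¹ = (a : G) * u) :
    Cfsg.dadeIsometry A L H α g = α a := by
  unfold Cfsg.dadeIsometry
  have h : ∃ a : ↥L, (a : G) ∈ A ∧ ∃ x : G, ∃ u ∈ H (a : G), x * g * x⁻¹ = (a : G) * u :=
    ⟨a, ha, x, u, hu, hx⟩
  rw [dif_pos h]
  obtain ⟨ha', x', u', hu', hx'⟩ := Classical.choose_spec h
  have hconj : (x' * x⁻¹) * ((a : G) * u) * (x' * x⁻¹)⁻¹ = ((Classical.choose h : ↥L) : G) * u' := by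
    rw [← hx, ← hx']
    simp [mul_assoc]
  have h2 := dade_conj_eq_of_coset_conj A L H hD a (Classical.choose h : ↥L) ha ha' u u' (x' * x⁻¹)
    hu hu' hconj
  obtain ⟨l, hl, hla⟩ := hD.fusion a ha (x' * x⁻¹) (by rw [h2]; exact ha')
  have h3 : Classical.choose h = (⟨l, hl⟩ : ↥L) * a * (⟨l, hl⟩ : ↥L)⁻¹ := by
    apply Subtype.ext
    rw [← h2, ← hla]
    rfl
  rw [h3]
  exact hα a ⟨l, hl⟩

/-- The Dade map vanishes off the conjugates of the cosets `a · H a`. -/
theorem dadeIsometry_apply_of_not (A : Set G) (L : Subgroup G) (H : G → Subgroup G)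
    (α : ↥L → ℂ) (g : G) (hg : ¬ ∃ a ∈ A, ∃ u ∈ H a, ∃ x : G, x * g * x⁻¹ = a * u) :
    Cfsg.dadeIsometry A L H α g = 0 := by
  unfold Cfsg.dadeIsometry
  rw [dif_neg]
  rintro ⟨a, ha, x, u, hu, hx⟩
  exact hg ⟨a, ha, u, hu, x, hx⟩

theorem isClassFunction_dadeIsometry [Finite G] (A : Set G) (L : Subgroup G) (H : G → Subgroup G)
    (hD : Cfsg.DadeHypothesis A L H) (α : ↥L → ℂ) (hα : Cfsg.IsClassFunction L α) :
    Cfsg.IsClassFunction G (Cfsg.dadeIsometry A L H α) := by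
  intro g y
  by_cases hg : ∃ a ∈ A, ∃ u ∈ H a, ∃ x : G, x * g * x⁻¹ = a * u
  · obtain ⟨a, ha, u, hu, x, hx⟩ := hg
    rw [dadeIsometry_apply_of_conj A L H hD α hα g ⟨a, hD.subset ha⟩ ha u hu x hx,
      dadeIsometry_apply_of_conj A L H hD α hα (y * g * y⁻¹) ⟨a, hD.subset ha⟩ ha u hu (x * y⁻¹)
        (by rw [← hx]; simp [mul_assoc])]
  · rw [dadeIsometry_apply_of_not A L H α g hg, dadeIsometry_apply_of_not]
    rintro ⟨a, ha, u, hu, x, hx⟩
    exact hg ⟨a, ha, u, hu, x * y, by rw [← hx]; simp [mul_assoc]⟩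

/-- Inner product of a Dade image with a class function of `G` (part (ii) of the isometry statement). -/
theorem dade_classInner [Fintype G] (A : Set G) (L : Subgroup G) [Fintype L] (H : G → Subgroup G)
    (hD : Cfsg.DadeHypothesis A L H) (α : ↥L → ℂ) (hα : Cfsg.IsClassFunction L α)
    (hαA : ∀ x : L, (x : G) ∉ A → α x = 0) (χ : G → ℂ) (hχ : Cfsg.IsClassFunction G χ) (ψ : L → ℂ)
    (hψ : ∀ a : L, (a : G) ∈ A →
      ψ a = (Nat.card (H a) : ℂ)⁻¹ * ∑ᶠ u ∈ (H a : Set G), χ (a * u)) :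
    Cfsg.classInner (Cfsg.dadeIsometry A L H α) χ = Cfsg.classInner α ψ := by
  have hG : (Nat.card G : ℂ) ≠ 0 := by exact_mod_cast Nat.card_pos.ne'
  unfold Cfsg.classInner
  set F : G → ℂ := fun g => Cfsg.dadeIsometry A L H α g * conj (χ g) with hFdef
  have hF : ∀ g h : G, F (h * g * h⁻¹) = F g := by
    intro g h
    simp only [hFdef]
    rw [isClassFunction_dadeIsometry A L H hD α hα g h, hχ g h]
  have h1 : ∑ g : G, F g =
      ∑ g : G, (if (∃ a ∈ A, ∃ u ∈ H a, ∃ x : G, x * g * x⁻¹ = a * u) then F g else 0) := by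
    apply Finset.sum_congr rfl
    intro g _
    by_cases hg : ∃ a ∈ A, ∃ u ∈ H a, ∃ x : G, x * g * x⁻¹ = a * u
    · rw [if_pos hg]
    · rw [if_neg hg]
      simp only [hFdef]
      rw [dadeIsometry_apply_of_not A L H α g hg, zero_mul]
  rw [h1, dade_sum_eq A L H hD F hF]
  have h2 : ∀ a : L, (if (a : G) ∈ A then
          (Nat.card (H (a : G)) : ℂ)⁻¹ * ∑ u : G, (if u ∈ H (a : G) then F ((a : G) * u) else 0)
          else 0) = α a * conj (ψ a) := by
    intro a
    by_cases ha : (a : G) ∈ A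
    · rw [if_pos ha, hψ a ha, finsum_mem_eq_sum_ite']
      simp only [map_mul, map_inv₀, map_natCast, map_sum]
      rw [mul_left_comm]
      congr 1
      rw [Finset.mul_sum]
      apply Finset.sum_congr rfl
      intro u _
      by_cases hu : u ∈ H (a : G)
      · have hu' : u ∈ ((H (a : G) : Subgroup G) : Set G) := hu
        rw [if_pos hu, if_pos hu']
        simp only [hFdef]
        rw [dadeIsometry_apply_of_conj A L H hD α hα ((a : G) * u) a ha u hu 1 (by simp)]
      · have hu' : u ∉ ((H (a : G) : Subgroup G) : Set G) := hu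
        rw [if_neg hu, if_neg hu']
        simp
    · rw [if_neg ha, hαA a ha, zero_mul]
  rw [Finset.sum_congr rfl (fun a _ => h2 a)]
  field_simp

/-- The average of a Dade image over the coset `a · H a` is the original value. -/
theorem dade_avg_dadeIsometry [Fintype G] (A : Set G) (L : Subgroup G) (H : G → Subgroup G)
    (hD : Cfsg.DadeHypothesis A L H) (β : ↥L → ℂ) (hβ : Cfsg.IsClassFunction L β)
    (a : L) (ha : (a : G) ∈ A) :
    β a = (Nat.card (H a) : ℂ)⁻¹ *
      ∑ᶠ u ∈ (H a : Set G), Cfsg.dadeIsometry A L H β ((a : G) * u) := by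
  rw [finsum_mem_eq_sum_ite']
  have h1 : ∀ u : G, (if u ∈ ((H (a : G) : Subgroup G) : Set G) then
      Cfsg.dadeIsometry A L H β ((a : G) * u) else 0) =
      (if u ∈ ((H (a : G) : Subgroup G) : Set G) then 1 else 0) * β a := by
    intro u
    by_cases hu : u ∈ ((H (a : G) : Subgroup G) : Set G)
    · rw [if_pos hu, if_pos hu, one_mul]
      exact dadeIsometry_apply_of_conj A L H hD β hβ ((a : G) * u) a ha u hu 1 (by simp)
    · rw [if_neg hu, if_neg hu, zero_mul]
  rw [Finset.sum_congr rfl (fun u _ => h1 u), ← Finset.sum_mul, Finset.sum_boole]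
  have h2 : (Finset.univ.filter (fun u : G => u ∈ ((H (a : G) : Subgroup G) : Set G))).card
      = Nat.card (H (a : G)) := by
    rw [Nat.card_eq_fintype_card, ← Fintype.card_subtype]
    rfl
  rw [h2]
  have hne : (Nat.card (H (a : G)) : ℂ) ≠ 0 := by exact_mod_cast Nat.card_pos.ne'
  field_simp

end DadeMap

end Cfsg.Agent.Lib.helper32
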