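import Mathlib
import Cfsg.Agent.Lib.helper32.Dade2
import Cfsg.Agent.Lib.helper4.CharDecomp

set_option autoImplicit false

/-!
# The Dade map sends generalized characters to generalized characters (helper32 library)

Peterfalvi (2.5)/(2.7): inclusion-exclusion over the nonempty subsets `B` of `A`, with the
subgroups `M(B) = N_L(B) H(B)`.
-/

namespace Cfsg.Agent.Lib.helper32

open Classical
open scoped ComplexConjugate

section CosetSum

/-- Coprime parts: if `x * c = y * d` with commuting factors and a common exponent `n` fixing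
`x`, `y` and killing `c`, `d`, then `x = y`. -/
theorem coprime_part_eq {G : Type*} [Group G] (x c y d : G) (n : ℕ) (hxc : Commute x c) (hyd : Commute y d)
    (hx : x ^ n = x) (hy : y ^ n = y) (hc : c ^ n = 1) (hd : d ^ n = 1) (h : x * c = y * d) :
    x = y := by
  have h1 : (x * c) ^ n = x := by rw [hxc.mul_pow, hx, hc, mul_one]
  have h2 : (y * d) ^ n = y := by rw [hyd.mul_pow, hy, hd, mul_one]
  rw [← h1, ← h2, h]

theorem exists_crt_exponent (a b : ℕ) (h : Nat.Coprime a b) :
    ∃ n : ℕ, n ≡ 1 [MOD a] ∧ b ∣ n := by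
  obtain ⟨k, hk1, hk2⟩ := Nat.chineseRemainder h 1 0
  exact ⟨k, hk1, (Nat.modEq_zero_iff_dvd).mp hk2⟩

variable {G : Type*} [Group G] [Fintype G]

/-- Coset sums under a coprime normalizing element: `|C| Σ_{u ∈ K} f (x u) = |K| Σ_{c ∈ C} f (x c)`
with `C = C_K(x)`, for `f` invariant under conjugation by `K`. -/
theorem coset_sum_coprime (K : Subgroup G) (x : G)
    (hx : ∀ k : G, k ∈ K ↔ x * k * x⁻¹ ∈ K)
    (hcop : Nat.Coprime (orderOf x) (Nat.card K))
    (f : G → ℂ) (hf : ∀ k ∈ K, ∀ m : G, f (k * m * k⁻¹) = f m) :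
    (Nat.card (K ⊓ Subgroup.centralizer ({x} : Set G) : Subgroup G) : ℂ) *
        ∑ u : G, (if u ∈ K then f (x * u) else 0) =
      (Nat.card K : ℂ) *
        ∑ c : G, (if c ∈ K ⊓ Subgroup.centralizer ({x} : Set G) then f (x * c) else 0) := by
  set C : Subgroup G := K ⊓ Subgroup.centralizer ({x} : Set G) with hC
  set Kf : Finset G := Finset.univ.filter (fun u => u ∈ K) with hKf
  set Cf : Finset G := Finset.univ.filter (fun u => u ∈ C) with hCf
  have hKcard : Kf.card = Nat.card K := by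
    rw [Nat.card_eq_fintype_card, Fintype.card_subtype]
  have hCcard : Cf.card = Nat.card C := by
    rw [Nat.card_eq_fintype_card, Fintype.card_subtype]
  obtain ⟨n, hn1, hn2⟩ := exists_crt_exponent (orderOf x) (Nat.card K) hcop
  have hxn : x ^ n = x := by
    have := (pow_eq_pow_iff_modEq (x := x) (n := n) (m := 1)).mpr hn1
    simpa using this
  have hKn : ∀ k ∈ K, k ^ n = 1 := by
    intro k hk
    obtain ⟨t, rfl⟩ := hn2
    rw [pow_mul, pow_card_subgroup_eq_one K k hk, one_pow]
  have hxinv : ∀ k : G, k ∈ K → x⁻¹ * k * x ∈ K := by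
    intro k hk
    rw [hx]
    simpa [mul_assoc] using hk
  -- the map Φ (h, c) = x⁻¹ h x c h⁻¹
  set Φ : G × G → G := fun p => x⁻¹ * p.1 * x * p.2 * p.1⁻¹ with hΦ
  have hΦmem : ∀ p ∈ Kf ×ˢ Cf, Φ p ∈ Kf := by
    intro p hp
    rw [Finset.mem_product] at hp
    have h1 : p.1 ∈ K := (Finset.mem_filter.mp hp.1).2
    have h2 : p.2 ∈ C := (Finset.mem_filter.mp hp.2).2
    refine Finset.mem_filter.mpr ⟨Finset.mem_univ _, ?_⟩
    exact K.mul_mem (K.mul_mem (hxinv _ h1) h2.1) (K.inv_mem h1)
  have hΦconj : ∀ p : G × G, x * Φ p = p.1 * (x * p.2) * p.1⁻¹ := by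
    intro p
    simp [hΦ, mul_assoc]
  -- fibers have at most |C| elements
  have hfib : ∀ u ∈ Kf, ((Kf ×ˢ Cf).filter (fun p => Φ p = u)).card ≤ Cf.card := by
    intro u _
    by_cases hne : ((Kf ×ˢ Cf).filter (fun p => Φ p = u)).Nonempty
    · obtain ⟨p0, hp0⟩ := hne
      rw [Finset.mem_filter, Finset.mem_product] at hp0
      have h01 : p0.1 ∈ K := (Finset.mem_filter.mp hp0.1.1).2
      have h02 : p0.2 ∈ C := (Finset.mem_filter.mp hp0.1.2).2
      apply Finset.card_le_card_of_injOn (fun p => p.1⁻¹ * p0.1)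
      · intro p hp
        have hp' := Finset.mem_filter.mp (Finset.mem_coe.mp hp)
        rw [Finset.mem_product] at hp'
        have h1 : p.1 ∈ K := (Finset.mem_filter.mp hp'.1.1).2
        have h2 : p.2 ∈ C := (Finset.mem_filter.mp hp'.1.2).2
        have hk : p.1⁻¹ * p0.1 ∈ K := K.mul_mem (K.inv_mem h1) h01
        -- x * p.2 = k x p0.2 k⁻¹
        have heq : p.1 * (x * p.2) * p.1⁻¹ = p0.1 * (x * p0.2) * p0.1⁻¹ := by
          rw [← hΦconj, ← hΦconj, hp'.2, hp0.2]
        have heq2 : x * p.2 = ((p.1⁻¹ * p0.1) * x * (p.1⁻¹ * p0.1)⁻¹) *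
            ((p.1⁻¹ * p0.1) * p0.2 * (p.1⁻¹ * p0.1)⁻¹) := by
          have : x * p.2 = p.1⁻¹ * (p.1 * (x * p.2) * p.1⁻¹) * p.1 := by simp [mul_assoc]
          rw [this, heq]
          simp [mul_assoc]
        have hc2 : Commute x p.2 := by
          have : p.2 ∈ Subgroup.centralizer ({x} : Set G) := h2.2
          rw [mem_centralizer_singleton] at this
          exact this.symm
        have hc02 : Commute x p0.2 := by
          have : p0.2 ∈ Subgroup.centralizer ({x} : Set G) := h02.2
          rw [mem_centralizer_singleton] at this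
          exact this.symm
        have hcomm : Commute ((p.1⁻¹ * p0.1) * x * (p.1⁻¹ * p0.1)⁻¹)
            ((p.1⁻¹ * p0.1) * p0.2 * (p.1⁻¹ * p0.1)⁻¹) := by
          unfold Commute SemiconjBy
          have h3 : x * p0.2 = p0.2 * x := hc02
          calc (p.1⁻¹ * p0.1) * x * (p.1⁻¹ * p0.1)⁻¹ * ((p.1⁻¹ * p0.1) * p0.2 * (p.1⁻¹ * p0.1)⁻¹)
              = (p.1⁻¹ * p0.1) * (x * p0.2) * (p.1⁻¹ * p0.1)⁻¹ := by simp [mul_assoc]
            _ = (p.1⁻¹ * p0.1) * (p0.2 * x) * (p.1⁻¹ * p0.1)⁻¹ := by rw [h3]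
            _ = _ := by simp [mul_assoc]
        have hxe : x = (p.1⁻¹ * p0.1) * x * (p.1⁻¹ * p0.1)⁻¹ := by
          apply coprime_part_eq x p.2 _ _ n hc2 hcomm hxn _ (hKn _ h2.1) _ heq2
          · rw [conj_pow, hxn]
          · rw [conj_pow, hKn _ h02.1]
            simp
        have hkc : p.1⁻¹ * p0.1 ∈ Subgroup.centralizer ({x} : Set G) := by
          rw [mem_centralizer_singleton]
          calc p.1⁻¹ * p0.1 * x = (p.1⁻¹ * p0.1) * x * (p.1⁻¹ * p0.1)⁻¹ * (p.1⁻¹ * p0.1) := by
                simp [mul_assoc]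
            _ = x * (p.1⁻¹ * p0.1) := by rw [← hxe]
        exact Finset.mem_coe.mpr (Finset.mem_filter.mpr ⟨Finset.mem_univ _, hk, hkc⟩)
      · intro p hp q hq hpq
        have hp' := Finset.mem_filter.mp (Finset.mem_coe.mp hp)
        have hq' := Finset.mem_filter.mp (Finset.mem_coe.mp hq)
        have h1 : p.1 = q.1 := by
          have : p.1⁻¹ = q.1⁻¹ := mul_right_cancel hpq
          exact inv_injective this
        have h2 : p.2 = q.2 := by
          have h3 : Φ p = Φ q := by rw [hp'.2, hq'.2]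
          simp only [hΦ, h1] at h3
          have h4 := mul_right_cancel h3
          exact mul_left_cancel h4
        exact Prod.ext h1 h2
    · rw [Finset.not_nonempty_iff_eq_empty] at hne
      rw [hne]
      simp
  -- hence exactly |C|
  have hsumcard : ∑ u ∈ Kf, ((Kf ×ˢ Cf).filter (fun p => Φ p = u)).card = ∑ _u ∈ Kf, Cf.card := by
    rw [← Finset.card_eq_sum_card_fiberwise hΦmem, Finset.card_product, Finset.sum_const,
      smul_eq_mul]
  have hfibeq : ∀ u ∈ Kf, ((Kf ×ˢ Cf).filter (fun p => Φ p = u)).card = Cf.card :=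
    (Finset.sum_eq_sum_iff_of_le hfib).mp hsumcard
  -- double counting
  have hD1 : ∑ p ∈ Kf ×ˢ Cf, f (x * Φ p) = (Cf.card : ℂ) * ∑ u ∈ Kf, f (x * u) := by
    rw [← Finset.sum_fiberwise_of_maps_to hΦmem, Finset.mul_sum]
    apply Finset.sum_congr rfl
    intro u hu
    rw [Finset.sum_congr rfl (fun p hp => by rw [(Finset.mem_filter.mp hp).2] :
      ∀ p ∈ (Kf ×ˢ Cf).filter (fun p => Φ p = u), f (x * Φ p) = f (x * u))]
    rw [Finset.sum_const, hfibeq u hu, nsmul_eq_mul]
  have hD2 : ∑ p ∈ Kf ×ˢ Cf, f (x * Φ p) = (Kf.card : ℂ) * ∑ c ∈ Cf, f (x * c) := by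
    rw [Finset.sum_product, Finset.mul_sum]
    rw [Finset.sum_congr rfl (fun h hh => Finset.sum_congr rfl (fun c _ => by
      rw [hΦconj]
      exact hf h (Finset.mem_filter.mp hh).2 (x * c)) :
      ∀ h ∈ Kf, ∑ c ∈ Cf, f (x * Φ (h, c)) = ∑ c ∈ Cf, f (x * c))]
    rw [Finset.sum_const, nsmul_eq_mul, Finset.mul_sum]
  rw [← Finset.sum_filter, ← Finset.sum_filter, ← hKcard, ← hCcard, ← hD1, hD2]

end CosetSum


section Orbit

/-- Orbit regrouping: for a group action given by `act` preserving the finite set `P`, and a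
function `c` invariant on `P`, the stabilizer-weighted sum of `c` over `P` is `|L|` times a sum
of `c` over a subset of `P` (a set of orbit representatives). -/
theorem orbit_sum {L ι M : Type*} [Group L] [Fintype L] [AddCommMonoid M]
    (act : L → ι → ι) (h1 : ∀ b, act 1 b = b) (hmul : ∀ x y b, act (x * y) b = act x (act y b))
    [∀ b : ι, DecidablePred fun x : L => act x b = b]
    (P : Finset ι) (hP : ∀ x, ∀ b ∈ P, act x b ∈ P) (c : ι → M)
    (hc : ∀ x, ∀ b ∈ P, c (act x b) = c b) :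
    ∃ P₀ : Finset ι, P₀ ⊆ P ∧
      ∑ b ∈ P, (Finset.univ.filter (fun x : L => act x b = b)).card • c b =
        Fintype.card L • ∑ b ∈ P₀, c b := by
  induction' hn : P.card using Nat.strong_induction_on with n ih generalizing P
  by_cases hPe : P = ∅
  · subst hPe
    exact ⟨∅, Finset.Subset.refl _, by simp⟩
  · obtain ⟨b₀, hb₀⟩ := Finset.nonempty_iff_ne_empty.mpr hPe
    set O : Finset ι := Finset.univ.image (fun x : L => act x b₀) with hO
    have hb₀O : b₀ ∈ O := Finset.mem_image.mpr ⟨1, Finset.mem_univ _, h1 b₀⟩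
    have hOP : O ⊆ P := by
      intro b hb
      obtain ⟨x, _, rfl⟩ := Finset.mem_image.mp hb
      exact hP x b₀ hb₀
    have hstable : ∀ x, ∀ b ∈ P \ O, act x b ∈ P \ O := by
      intro x b hb
      rw [Finset.mem_sdiff] at hb ⊢
      refine ⟨hP x b hb.1, ?_⟩
      intro hmem
      obtain ⟨y, _, hy⟩ := Finset.mem_image.mp hmem
      apply hb.2
      refine Finset.mem_image.mpr ⟨x⁻¹ * y, Finset.mem_univ _, ?_⟩
      rw [hmul, hy, ← hmul, inv_mul_cancel, h1]
    have hlt : (P \ O).card < n := by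
      rw [← hn]
      apply Finset.card_lt_card
      refine ⟨Finset.sdiff_subset, ?_⟩
      intro hsub
      have := hsub hb₀
      rw [Finset.mem_sdiff] at this
      exact this.2 hb₀O
    obtain ⟨P₁, hP₁, hsum⟩ := ih (P \ O).card hlt (P \ O) hstable
      (fun x b hb => hc x b (Finset.sdiff_subset hb)) rfl
    have hb₀P₁ : b₀ ∉ P₁ := by
      intro h
      have := hP₁ h
      rw [Finset.mem_sdiff] at this
      exact this.2 hb₀O
    refine ⟨insert b₀ P₁, ?_, ?_⟩
    · intro b hb
      rw [Finset.mem_insert] at hb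
      rcases hb with rfl | hb
      · exact hb₀
      · exact Finset.sdiff_subset (hP₁ hb)
    · rw [← Finset.sum_sdiff hOP, hsum, Finset.sum_insert hb₀P₁, smul_add, add_comm]
      congr 1
      have hcO : ∀ b ∈ O, (Finset.univ.filter (fun x : L => act x b = b)).card • c b =
          (Finset.univ.filter (fun x : L => act x b₀ = b)).card • c b₀ := by
        intro b hb
        obtain ⟨y, _, rfl⟩ := Finset.mem_image.mp hb
        rw [hc y b₀ hb₀]
        congr 1
        symm
        apply Finset.card_bijective (fun x => x * y⁻¹) (Group.mulRight_bijective y⁻¹)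
        intro x
        simp only [Finset.mem_filter, Finset.mem_univ, true_and]
        rw [hmul x y⁻¹, ← hmul y⁻¹ y, inv_mul_cancel, h1]
      rw [Finset.sum_congr rfl hcO, ← Finset.sum_smul]
      congr 1
      rw [← Finset.card_univ]
      exact (Finset.card_eq_sum_card_fiberwise (f := fun x : L => act x b₀) (s := Finset.univ)
        (t := O) (fun x _ => Finset.mem_image.mpr ⟨x, Finset.mem_univ _, rfl⟩)).symm

end Orbit


section DadeExpBasic

variable {G : Type*} [Group G]

/-- `H(B) = ⋂_{b ∈ B} H b`. -/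
def dadeHB (H : G → Subgroup G) (B : Finset G) : Subgroup G := ⨅ b ∈ B, H b

theorem mem_dadeHB (H : G → Subgroup G) (B : Finset G) (u : G) :
    u ∈ dadeHB H B ↔ ∀ b ∈ B, u ∈ H b := by
  simp [dadeHB, Subgroup.mem_iInf]

theorem dadeHB_singleton (H : G → Subgroup G) (a : G) : dadeHB H {a} = H a := by
  ext u
  simp [mem_dadeHB]

theorem mem_dadeHB_insert (H : G → Subgroup G) (a : G) (B : Finset G) (u : G) :
    u ∈ dadeHB H (insert a B) ↔ u ∈ H a ∧ u ∈ dadeHB H B := by
  simp [mem_dadeHB]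

/-- `N_L(B)` as a subgroup of `L`. -/
def dadeNL (L : Subgroup G) (B : Finset G) : Subgroup L where
  carrier := {x | ∀ b : G, b ∈ B ↔ (x : G) * b * (x : G)⁻¹ ∈ B}
  mul_mem' := by
    intro x y hx hy b
    have h1 := hy b
    have h2 := hx ((y : G) * b * (y : G)⁻¹)
    rw [h1, h2]
    simp [mul_assoc]
  one_mem' := by
    intro b
    simp
  inv_mem' := by
    intro x hx b
    have h := hx ((x : G)⁻¹ * b * (x : G))
    have h2 : (x : G) * ((x : G)⁻¹ * b * (x : G)) * (x : G)⁻¹ = b := by simp [mul_assoc]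
    rw [h2] at h
    have h3 : ((x⁻¹ : L) : G) * b * ((x⁻¹ : L) : G)⁻¹ = (x : G)⁻¹ * b * (x : G) := by simp
    rw [h3]
    exact h.symm

theorem mem_dadeNL (L : Subgroup G) (B : Finset G) (x : L) :
    x ∈ dadeNL L B ↔ ∀ b : G, b ∈ B ↔ (x : G) * b * (x : G)⁻¹ ∈ B := Iff.rfl

theorem mem_dadeNL_iff_image (L : Subgroup G) (B : Finset G) (x : L) :
    x ∈ dadeNL L B ↔ B.image (fun b => (x : G) * b * (x : G)⁻¹) = B := by
  constructor
  · intro hx
    ext b
    rw [Finset.mem_image]
    constructor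
    · rintro ⟨b', hb', rfl⟩
      exact (hx b').mp hb'
    · intro hb
      refine ⟨(x : G)⁻¹ * b * (x : G), ?_, by simp [mul_assoc]⟩
      rw [hx]
      simpa [mul_assoc] using hb
  · intro h b
    constructor
    · intro hb
      rw [← h]
      exact Finset.mem_image.mpr ⟨b, hb, rfl⟩
    · intro hb
      rw [← h] at hb
      obtain ⟨b', hb', he⟩ := Finset.mem_image.mp hb
      have : b' = b := by
        have h2 := mul_right_cancel he
        exact mul_left_cancel h2
      rw [← this]
      exact hb'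

theorem self_mem_dadeNL_singleton (L : Subgroup G) (x : L) : x ∈ dadeNL L {(x : G)} := by
  intro b
  simp only [Finset.mem_singleton]
  constructor
  · rintro rfl
    simp
  · intro h
    have h2 : (x : G) * b = (x : G) * (x : G) := by
      have := congrArg (fun t => t * (x : G)) h
      simpa [mul_assoc] using this
    exact mul_left_cancel h2

variable [Finite G]

theorem mem_dadeHB_image (A : Set G) (L : Subgroup G) (H : G → Subgroup G)
    (hD : Cfsg.DadeHypothesis A L H) (B : Finset G) (hB : ∀ b ∈ B, b ∈ A) (y : G) (hy : y ∈ L)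
    (u : G) :
    u ∈ dadeHB H (B.image (fun b => y * b * y⁻¹)) ↔ y⁻¹ * u * y ∈ dadeHB H B := by
  rw [mem_dadeHB, mem_dadeHB]
  constructor
  · intro h b hb
    have h1 := h (y * b * y⁻¹) (Finset.mem_image.mpr ⟨b, hb, rfl⟩)
    rw [dade_H_conj A L H hD b (hB b hb) y (hD.conj_mem y hy b (hB b hb))] at h1
    obtain ⟨k, hk, hke⟩ := h1
    have : y⁻¹ * u * y = k := by
      rw [← hke]
      simp [mul_assoc]
    rw [this]
    exact hk
  · intro h b' hb'
    obtain ⟨b, hb, rfl⟩ := Finset.mem_image.mp hb'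
    rw [dade_H_conj A L H hD b (hB b hb) y (hD.conj_mem y hy b (hB b hb))]
    exact ⟨y⁻¹ * u * y, h b hb, by simp [mul_assoc]⟩

theorem dadeHB_normal (A : Set G) (L : Subgroup G) (H : G → Subgroup G)
    (hD : Cfsg.DadeHypothesis A L H) (B : Finset G) (hB : ∀ b ∈ B, b ∈ A) (x : L)
    (hx : x ∈ dadeNL L B) (u : G) :
    u ∈ dadeHB H B ↔ (x : G) * u * (x : G)⁻¹ ∈ dadeHB H B := by
  have h := mem_dadeHB_image A L H hD B hB (x : G) x.2 ((x : G) * u * (x : G)⁻¹)
  rw [(mem_dadeNL_iff_image L B x).mp hx] at h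
  rw [h]
  simp [mul_assoc]

omit [Finite G] in
theorem dadeHB_inf_L (A : Set G) (L : Subgroup G) (H : G → Subgroup G)
    (hD : Cfsg.DadeHypothesis A L H) (B : Finset G) (hB : ∀ b ∈ B, b ∈ A) (hne : B.Nonempty)
    (u : G) (hu : u ∈ dadeHB H B) (huL : u ∈ L) : u = 1 := by
  obtain ⟨b, hb⟩ := hne
  have h1 : u ∈ H b := (mem_dadeHB H B u).mp hu b hb
  have h2 : u ∈ H b ⊓ (L ⊓ Subgroup.centralizer ({b} : Set G)) :=
    ⟨h1, huL, hD.le_centralizer b (hB b hb) h1⟩
  rw [hD.inf_eq_bot b (hB b hb), Subgroup.mem_bot] at h2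
  exact h2

theorem dadeHB_insert_eq (A : Set G) (L : Subgroup G) (H : G → Subgroup G)
    (hD : Cfsg.DadeHypothesis A L H) (B : Finset G) (hB : ∀ b ∈ B, b ∈ A) (hne : B.Nonempty)
    (x : G) (hx : x ∈ A) :
    dadeHB H (insert x B) = dadeHB H B ⊓ Subgroup.centralizer ({x} : Set G) := by
  ext u
  rw [mem_dadeHB_insert, Subgroup.mem_inf]
  constructor
  · rintro ⟨h1, h2⟩
    exact ⟨h2, hD.le_centralizer x hx h1⟩
  · rintro ⟨h1, h2⟩
    refine ⟨?_, h1⟩
    obtain ⟨b, hb⟩ := hne
    have hub : u ∈ H b := (mem_dadeHB H B u).mp h1 b hb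
    exact dade_mem_H_of_pow_eq_one A L H hD x hx u h2 (Nat.card (H b))
      (hD.coprime b (hB b hb) x hx) (pow_card_subgroup_eq_one (H b) u hub)

omit [Finite G] in
theorem dadeHB_coprime (A : Set G) (L : Subgroup G) (H : G → Subgroup G)
    (hD : Cfsg.DadeHypothesis A L H) (B : Finset G) (hB : ∀ b ∈ B, b ∈ A) (hne : B.Nonempty)
    (x : G) (hx : x ∈ A) :
    Nat.Coprime (orderOf x) (Nat.card (dadeHB H B)) := by
  obtain ⟨b, hb⟩ := hne
  have h1 : Nat.card (dadeHB H B) ∣ Nat.card (H b) :=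
    Subgroup.card_dvd_of_le (fun u hu => (mem_dadeHB H B u).mp hu b hb)
  have hxc : x ∈ Subgroup.centralizer ({x} : Set G) := by
    rw [mem_centralizer_singleton]
  have hxm : x ∈ L ⊓ Subgroup.centralizer ({x} : Set G) := ⟨hD.subset hx, hxc⟩
  have h2 : orderOf x ∣ Nat.card ↥(L ⊓ Subgroup.centralizer ({x} : Set G)) :=
    Subgroup.orderOf_dvd_natCard _ hxm
  exact ((hD.coprime b (hB b hb) x hx).coprime_dvd_left h1).symm.coprime_dvd_left h2

end DadeExpBasic

section DadeMB

theorem sum_subgroup_ite {G M : Type*} [Group G] [Fintype G] [AddCommMonoid M] (K : Subgroup G)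
    [Fintype K] (f : G → M) :
    ∑ u : K, f u = ∑ u : G, if u ∈ K then f u else 0 := by
  rw [← Finset.sum_filter]
  exact (Finset.sum_subtype (p := fun u => u ∈ K) (Finset.univ.filter (fun u => u ∈ K))
    (fun x => by simp) f).symm

theorem isGeneralizedCharacter_comp_hom {G H : Type*} [Group G] [Fintype G] [Group H]
    (f : H →* G) {θ : G → ℂ} (hθ : Cfsg.IsGeneralizedCharacter G θ) :
    Cfsg.IsGeneralizedCharacter H (fun h => θ (f h)) := by
  obtain ⟨a, b, ha, hb, rfl⟩ := hθ
  exact ⟨_, _, Cfsg.Agent.Lib.helper4.isCharacter_comp f ha,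
    Cfsg.Agent.Lib.helper4.isCharacter_comp f hb, rfl⟩

variable {G : Type*} [Group G] [Fintype G]

/-- `M(B) = N_L(B) H(B)`. -/
def dadeMB (L : Subgroup G) (H : G → Subgroup G) (B : Finset G) : Subgroup G :=
  (dadeNL L B).map L.subtype ⊔ dadeHB H B

theorem mem_dadeMB (A : Set G) (L : Subgroup G) (H : G → Subgroup G)
    (hD : Cfsg.DadeHypothesis A L H) (B : Finset G) (hB : ∀ b ∈ B, b ∈ A) (m : G) :
    m ∈ dadeMB L H B ↔ ∃ x : L, x ∈ dadeNL L B ∧ ∃ u ∈ dadeHB H B, m = (x : G) * u := by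
  have hnorm : (dadeNL L B).map L.subtype ≤
      Subgroup.normalizer ((dadeHB H B : Subgroup G) : Set G) := by
    rw [Subgroup.le_normalizer_iff]
    rintro h ⟨x, hx, rfl⟩ k hk
    exact (dadeHB_normal A L H hD B hB x hx k).mp hk
  have hcoe := Subgroup.coe_mul_of_left_le_normalizer_right _ (dadeHB H B) hnorm
  rw [dadeMB, ← SetLike.mem_coe, hcoe, Set.mem_mul]
  constructor
  · rintro ⟨n, hn, u, hu, rfl⟩
    obtain ⟨x, hx, rfl⟩ := hn
    exact ⟨x, hx, u, hu, rfl⟩
  · rintro ⟨x, hx, u, hu, rfl⟩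
    exact ⟨x, ⟨x, hx, rfl⟩, u, hu, rfl⟩

/-- Unique factorization `M(B) = N_L(B) × H(B)` as sets. -/
noncomputable def dadeMBEquiv (A : Set G) (L : Subgroup G) (H : G → Subgroup G)
    (hD : Cfsg.DadeHypothesis A L H) (B : Finset G) (hB : ∀ b ∈ B, b ∈ A) (hne : B.Nonempty) :
    (dadeNL L B × dadeHB H B) ≃ dadeMB L H B := by
  refine Equiv.ofBijective (fun p => ⟨((p.1 : L) : G) * (p.2 : G), ?_⟩) ⟨?_, ?_⟩
  · exact (mem_dadeMB A L H hD B hB _).mpr ⟨p.1, p.1.2, p.2, p.2.2, rfl⟩
  · rintro ⟨x, u⟩ ⟨x', u'⟩ heq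
    have heq' : ((x : L) : G) * (u : G) = ((x' : L) : G) * (u' : G) := congrArg Subtype.val heq
    have h1 : ((x' : L) : G)⁻¹ * ((x : L) : G) = (u' : G) * (u : G)⁻¹ := by
      rw [inv_mul_eq_iff_eq_mul, ← mul_assoc, ← heq']
      simp
    have hmem : (u' : G) * (u : G)⁻¹ ∈ dadeHB H B :=
      (dadeHB H B).mul_mem u'.2 ((dadeHB H B).inv_mem u.2)
    have hL : (u' : G) * (u : G)⁻¹ ∈ L := by
      rw [← h1]
      exact L.mul_mem (L.inv_mem x'.1.2) x.1.2
    have h2 := dadeHB_inf_L A L H hD B hB hne _ hmem hL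
    have hu : (u' : G) = u := by rwa [mul_inv_eq_one] at h2
    have hx : ((x : L) : G) = ((x' : L) : G) := by
      rw [hu] at heq'
      exact mul_right_cancel heq'
    exact Prod.ext (Subtype.ext (Subtype.ext hx)) (Subtype.ext hu.symm)
  · rintro ⟨m, hm⟩
    obtain ⟨x, hx, u, hu, rfl⟩ := (mem_dadeMB A L H hD B hB m).mp hm
    exact ⟨(⟨x, hx⟩, ⟨u, hu⟩), rfl⟩

theorem dadeMBEquiv_apply (A : Set G) (L : Subgroup G) (H : G → Subgroup G)
    (hD : Cfsg.DadeHypothesis A L H) (B : Finset G) (hB : ∀ b ∈ B, b ∈ A) (hne : B.Nonempty)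
    (p : dadeNL L B × dadeHB H B) :
    ((dadeMBEquiv A L H hD B hB hne p : dadeMB L H B) : G) = ((p.1 : L) : G) * (p.2 : G) := rfl

/-- The projection `M(B) → L` with kernel `H(B)`. -/
noncomputable def dadeProj (A : Set G) (L : Subgroup G) (H : G → Subgroup G)
    (hD : Cfsg.DadeHypothesis A L H) (B : Finset G) (hB : ∀ b ∈ B, b ∈ A) (hne : B.Nonempty) :
    dadeMB L H B →* L where
  toFun m := (((dadeMBEquiv A L H hD B hB hne).symm m).1 : L)
  map_one' := by
    have : (dadeMBEquiv A L H hD B hB hne).symm 1 = (1, 1) := by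
      rw [Equiv.symm_apply_eq]
      apply Subtype.ext
      rw [dadeMBEquiv_apply]
      simp
    rw [this]
    rfl
  map_mul' := by
    intro m m'
    set p := (dadeMBEquiv A L H hD B hB hne).symm m with hp
    set p' := (dadeMBEquiv A L H hD B hB hne).symm m' with hp'
    have hm : (m : G) = ((p.1 : L) : G) * (p.2 : G) := by
      rw [← dadeMBEquiv_apply A L H hD B hB hne p, hp, Equiv.apply_symm_apply]
    have hm' : (m' : G) = ((p'.1 : L) : G) * (p'.2 : G) := by
      rw [← dadeMBEquiv_apply A L H hD B hB hne p', hp', Equiv.apply_symm_apply]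
    have hmemK : ((p'.1 : L) : G)⁻¹ * (p.2 : G) * ((p'.1 : L) : G) ∈ dadeHB H B := by
      rw [dadeHB_normal A L H hD B hB p'.1 p'.1.2]
      simp [mul_assoc]
    have : (dadeMBEquiv A L H hD B hB hne).symm (m * m') =
        (p.1 * p'.1, ⟨((p'.1 : L) : G)⁻¹ * (p.2 : G) * ((p'.1 : L) : G) * (p'.2 : G),
          (dadeHB H B).mul_mem hmemK p'.2.2⟩) := by
      rw [Equiv.symm_apply_eq]
      apply Subtype.ext
      rw [dadeMBEquiv_apply]
      show (m : G) * (m' : G) = _
      rw [hm, hm']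
      simp [mul_assoc]
    rw [this]
    rfl

theorem dadeProj_equiv (A : Set G) (L : Subgroup G) (H : G → Subgroup G)
    (hD : Cfsg.DadeHypothesis A L H) (B : Finset G) (hB : ∀ b ∈ B, b ∈ A) (hne : B.Nonempty)
    (p : dadeNL L B × dadeHB H B) :
    dadeProj A L H hD B hB hne (dadeMBEquiv A L H hD B hB hne p) = (p.1 : L) := by
  show ((((dadeMBEquiv A L H hD B hB hne).symm (dadeMBEquiv A L H hD B hB hne p)).1 : L)) = _
  rw [Equiv.symm_apply_apply]

/-- Sums over `M(B)` in terms of the factorization. -/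
theorem sum_dadeMB (A : Set G) (L : Subgroup G) [Fintype L] (H : G → Subgroup G)
    (hD : Cfsg.DadeHypothesis A L H) (B : Finset G) (hB : ∀ b ∈ B, b ∈ A) (hne : B.Nonempty)
    [Fintype (dadeMB L H B)] (F : L → G → ℂ) :
    ∑ m : dadeMB L H B, F (dadeProj A L H hD B hB hne m) (m : G) =
      ∑ x : L, if x ∈ dadeNL L B then
        ∑ u : G, (if u ∈ dadeHB H B then F x ((x : G) * u) else 0) else 0 := by
  have : Fintype (dadeNL L B) := Fintype.ofFinite _
  have : Fintype (dadeHB H B) := Fintype.ofFinite _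
  rw [← Equiv.sum_comp (dadeMBEquiv A L H hD B hB hne), Fintype.sum_prod_type]
  rw [← sum_subgroup_ite (dadeNL L B)
    (fun x : L => ∑ u : G, (if u ∈ dadeHB H B then F x ((x : G) * u) else 0))]
  apply Finset.sum_congr rfl
  intro x _
  rw [← sum_subgroup_ite (dadeHB H B) (fun u : G => F x ((x : G) * u))]
  apply Finset.sum_congr rfl
  intro u _
  rw [dadeProj_equiv, dadeMBEquiv_apply]

theorem card_dadeMB (A : Set G) (L : Subgroup G) (H : G → Subgroup G)
    (hD : Cfsg.DadeHypothesis A L H) (B : Finset G) (hB : ∀ b ∈ B, b ∈ A) (hne : B.Nonempty) :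
    Nat.card (dadeMB L H B) = Nat.card (dadeNL L B) * Nat.card (dadeHB H B) := by
  rw [← Nat.card_congr (dadeMBEquiv A L H hD B hB hne), Nat.card_prod]

/-- The averaged values `W(B, x) = |H(B)|⁻¹ Σ_{u ∈ H(B)} ψ (x u)`. -/
noncomputable def dadeW (H : G → Subgroup G) (ψ : G → ℂ) (B : Finset G) (x : G) : ℂ :=
  (Nat.card (dadeHB H B) : ℂ)⁻¹ * ∑ u : G, if u ∈ dadeHB H B then ψ (x * u) else 0

/-- Integrality of the local inner products. -/
theorem dade_local_int (A : Set G) (L : Subgroup G) [Fintype L] (H : G → Subgroup G)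
    (hD : Cfsg.DadeHypothesis A L H) (B : Finset G) (hB : ∀ b ∈ B, b ∈ A) (hne : B.Nonempty)
    (α : L → ℂ) (hα : Cfsg.IsGeneralizedCharacter L α) (ψ : G → ℂ)
    (hψ : Cfsg.IsGeneralizedCharacter G ψ) :
    ∃ n : ℤ, ∑ x : L, (if x ∈ dadeNL L B then α x * conj (dadeW H ψ B (x : G)) else 0) =
      (Nat.card (dadeNL L B) : ℂ) * n := by
  have : Fintype (dadeMB L H B) := Fintype.ofFinite _
  have h1 : Cfsg.IsGeneralizedCharacter (dadeMB L H B)
      (fun m => α (dadeProj A L H hD B hB hne m)) :=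
    isGeneralizedCharacter_comp_hom (dadeProj A L H hD B hB hne) hα
  have h2 : Cfsg.IsGeneralizedCharacter (dadeMB L H B) (fun m => ψ (m : G)) :=
    Cfsg.Agent.Lib.helper4.isGeneralizedCharacter_restrict (dadeMB L H B) hψ
  obtain ⟨n, hn⟩ := Cfsg.Agent.Lib.helper4.exists_int_classInner h1 h2
  refine ⟨n, ?_⟩
  rw [← hn]
  unfold Cfsg.classInner
  rw [sum_dadeMB A L H hD B hB hne (fun x g => α x * conj (ψ g)),
    card_dadeMB A L H hD B hB hne]
  have hK : (Nat.card (dadeHB H B) : ℂ) ≠ 0 := by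
    exact_mod_cast (Nat.card_pos (α := dadeHB H B)).ne'
  have hN : (Nat.card (dadeNL L B) : ℂ) ≠ 0 := by
    exact_mod_cast (Nat.card_pos (α := dadeNL L B)).ne'
  push_cast
  rw [← mul_assoc, Finset.mul_sum]
  apply Finset.sum_congr rfl
  intro x _
  by_cases hx : x ∈ dadeNL L B
  · rw [if_pos hx, if_pos hx]
    unfold dadeW
    rw [map_mul, map_inv₀, Complex.conj_natCast, map_sum]
    simp only [Finset.mul_sum]
    apply Finset.sum_congr rfl
    intro u _
    by_cases hu : u ∈ dadeHB H B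
    · rw [if_pos hu, if_pos hu]
      field_simp
    · rw [if_neg hu, if_neg hu]
      simp
  · rw [if_neg hx, if_neg hx]
    simp

end DadeMB


section DadeMain

variable {G : Type*} [Group G] [Fintype G]

theorem natCard_subgroup_eq_sum (K : Subgroup G) :
    (Nat.card K : ℂ) = ∑ u : G, if u ∈ K then (1 : ℂ) else 0 := by
  rw [Nat.card_eq_fintype_card, Fintype.card_subtype, Finset.sum_boole]

theorem sum_conj_reindex {M : Type*} [AddCommMonoid M] (y : G) (f : G → M) :
    ∑ u : G, f (y * u * y⁻¹) = ∑ u : G, f u :=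
  Equiv.sum_comp (MulAut.conj y).toEquiv f

omit [Fintype G] in
theorem conj_eq_self_iff (x b : G) : x * b * x⁻¹ = x ↔ b = x := by
  constructor
  · intro h
    have h2 : x * b = x * x := by
      have := congrArg (fun t => t * x) h
      simpa [mul_assoc] using this
    exact mul_left_cancel h2
  · rintro rfl
    simp

omit [Fintype G] in
theorem mem_conj_image (y b : G) (B : Finset G) :
    b ∈ B.image (fun b => y * b * y⁻¹) ↔ y⁻¹ * b * y ∈ B := by
  rw [Finset.mem_image]
  constructor
  · rintro ⟨b', hb', rfl⟩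
    simpa [mul_assoc] using hb'
  · intro h
    exact ⟨_, h, by simp [mul_assoc]⟩

omit [Fintype G] in
theorem mem_dadeNL_image (L : Subgroup G) (B : Finset G) (y x : L) :
    y * x * y⁻¹ ∈ dadeNL L (B.image (fun b => (y : G) * b * (y : G)⁻¹)) ↔ x ∈ dadeNL L B := by
  rw [mem_dadeNL, mem_dadeNL]
  constructor
  · intro h b
    have h1 := h ((y : G) * b * (y : G)⁻¹)
    rw [mem_conj_image, mem_conj_image] at h1
    have e1 : (y : G)⁻¹ * ((y : G) * b * (y : G)⁻¹) * (y : G) = b := by simp [mul_assoc]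
    have e2 : (y : G)⁻¹ * (((y * x * y⁻¹ : L) : G) * ((y : G) * b * (y : G)⁻¹) *
        ((y * x * y⁻¹ : L) : G)⁻¹) * (y : G) = (x : G) * b * (x : G)⁻¹ := by
      simp [mul_assoc]
    rw [e1, e2] at h1
    exact h1
  · intro h b
    rw [mem_conj_image, mem_conj_image]
    have h1 := h ((y : G)⁻¹ * b * (y : G))
    have e2 : (y : G)⁻¹ * (((y * x * y⁻¹ : L) : G) * b * ((y * x * y⁻¹ : L) : G)⁻¹) * (y : G) =
        (x : G) * ((y : G)⁻¹ * b * (y : G)) * (x : G)⁻¹ := by
      simp [mul_assoc]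
    rw [e2]
    exact h1

theorem dadeW_image (A : Set G) (L : Subgroup G) (H : G → Subgroup G)
    (hD : Cfsg.DadeHypothesis A L H) (B : Finset G) (hB : ∀ b ∈ B, b ∈ A) (ψ : G → ℂ)
    (hψ : Cfsg.IsClassFunction G ψ) (y : G) (hy : y ∈ L) (x : G) :
    dadeW H ψ (B.image (fun b => y * b * y⁻¹)) (y * x * y⁻¹) = dadeW H ψ B x := by
  unfold dadeW
  have hcard : (Nat.card (dadeHB H (B.image (fun b => y * b * y⁻¹))) : ℂ) =
      Nat.card (dadeHB H B) := by
    rw [natCard_subgroup_eq_sum, natCard_subgroup_eq_sum, ← sum_conj_reindex y]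
    apply Finset.sum_congr rfl
    intro u _
    have h1 : y⁻¹ * (y * u * y⁻¹) * y = u := by simp [mul_assoc]
    rw [if_congr (mem_dadeHB_image A L H hD B hB y hy (y * u * y⁻¹)) rfl rfl, h1]
  rw [hcard, ← sum_conj_reindex y]
  congr 1
  apply Finset.sum_congr rfl
  intro u _
  have h1 : y⁻¹ * (y * u * y⁻¹) * y = u := by simp [mul_assoc]
  have h2 : y * x * y⁻¹ * (y * u * y⁻¹) = y * (x * u) * y⁻¹ := by simp [mul_assoc]
  rw [if_congr (mem_dadeHB_image A L H hD B hB y hy (y * u * y⁻¹)) rfl rfl, h1, h2, hψ]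

theorem dadeW_insert (A : Set G) (L : Subgroup G) (H : G → Subgroup G)
    (hD : Cfsg.DadeHypothesis A L H) (B : Finset G) (hB : ∀ b ∈ B, b ∈ A) (hne : B.Nonempty)
    (ψ : G → ℂ) (hψ : Cfsg.IsClassFunction G ψ) (x : L) (hx : x ∈ dadeNL L B)
    (hxA : (x : G) ∈ A) :
    dadeW H ψ B (x : G) = dadeW H ψ (insert (x : G) B) (x : G) := by
  unfold dadeW
  have h := coset_sum_coprime (dadeHB H B) (x : G) (dadeHB_normal A L H hD B hB x hx)
    (dadeHB_coprime A L H hD B hB hne (x : G) hxA) ψ (fun k _ m => hψ m k)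
  rw [← dadeHB_insert_eq A L H hD B hB hne (x : G) hxA] at h
  have hK : (Nat.card (dadeHB H B) : ℂ) ≠ 0 := by
    exact_mod_cast (Nat.card_pos (α := dadeHB H B)).ne'
  have hC : (Nat.card (dadeHB H (insert (x : G) B)) : ℂ) ≠ 0 := by
    exact_mod_cast (Nat.card_pos (α := dadeHB H (insert (x : G) B))).ne'
  field_simp
  linear_combination h

/-- The family of nonempty subsets of `A`. -/
noncomputable def dadeP (A : Set G) : Finset (Finset G) :=
  ((Finset.univ.filter (fun a : G => a ∈ A)).powerset).filter (fun B => B.Nonempty)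

omit [Group G] in
theorem mem_dadeP (A : Set G) (B : Finset G) :
    B ∈ dadeP A ↔ (∀ b ∈ B, b ∈ A) ∧ B.Nonempty := by
  unfold dadeP
  rw [Finset.mem_filter, Finset.mem_powerset]
  constructor
  · rintro ⟨h1, h2⟩
    exact ⟨fun b hb => (Finset.mem_filter.mp (h1 hb)).2, h2⟩
  · rintro ⟨h1, h2⟩
    exact ⟨fun b hb => Finset.mem_filter.mpr ⟨Finset.mem_univ _, h1 b hb⟩, h2⟩

/-- The inclusion-exclusion cancellation: pairing `B` with `B △ {x}`. -/
theorem dade_cancel (A : Set G) (L : Subgroup G) (x : L) (hx : (x : G) ∈ A)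
    (F : Finset G → ℂ) :
    ∑ B ∈ dadeP A, (if x ∈ dadeNL L B then (-1 : ℂ) ^ (B.card + 1) * F (insert (x : G) B)
      else 0) = F {(x : G)} := by
  rw [← Finset.sum_filter]
  set s := (dadeP A).filter (fun B => x ∈ dadeNL L B) with hs
  have hxs : ({(x : G)} : Finset G) ∈ s := by
    rw [hs, Finset.mem_filter, mem_dadeP]
    refine ⟨⟨?_, Finset.singleton_nonempty _⟩, self_mem_dadeNL_singleton L x⟩
    intro b hb
    rw [Finset.mem_singleton] at hb
    rw [hb]
    exact hx
  rw [← Finset.add_sum_erase s _ hxs]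
  have h0 : ∑ B ∈ s.erase {(x : G)}, (-1 : ℂ) ^ (B.card + 1) * F (insert (x : G) B) = 0 := by
    apply Finset.sum_involution
      (fun B _ => if (x : G) ∈ B then B.erase (x : G) else insert (x : G) B)
    · intro B hB
      by_cases hxB : (x : G) ∈ B
      · simp only [if_pos hxB]
        rw [Finset.insert_erase hxB, Finset.insert_eq_of_mem hxB, Finset.card_erase_of_mem hxB]
        have hpos : 0 < B.card := Finset.card_pos.mpr ⟨_, hxB⟩
        obtain ⟨k, hk⟩ := Nat.exists_eq_succ_of_ne_zero hpos.ne'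
        rw [hk]
        simp only [Nat.succ_eq_add_one, Nat.add_sub_cancel]
        ring
      · simp only [if_neg hxB]
        rw [Finset.insert_idem, Finset.card_insert_of_notMem hxB]
        ring
    · intro B hB _
      by_cases hxB : (x : G) ∈ B
      · simp only [if_pos hxB]
        intro h
        have h2 := Finset.notMem_erase (x : G) B
        rw [h] at h2
        exact h2 hxB
      · simp only [if_neg hxB]
        intro h
        apply hxB
        rw [← h]
        exact Finset.mem_insert_self _ _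
    · intro B hB
      by_cases hxB : (x : G) ∈ B
      · simp only [if_pos hxB, Finset.notMem_erase, if_false]
        exact Finset.insert_erase hxB
      · simp only [if_neg hxB, Finset.mem_insert_self, if_true]
        exact Finset.erase_insert hxB
    · intro B hB
      have hB' := Finset.mem_erase.mp hB
      have hBs := Finset.mem_filter.mp hB'.2
      have hBP := (mem_dadeP A B).mp hBs.1
      have hBN : ∀ b : G, b ∈ B ↔ (x : G) * b * (x : G)⁻¹ ∈ B := hBs.2
      by_cases hxB : (x : G) ∈ B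
      · simp only [if_pos hxB]
        rw [Finset.mem_erase, hs, Finset.mem_filter, mem_dadeP]
        refine ⟨?_, ⟨?_, ?_⟩, ?_⟩
        · intro h
          have h2 : (x : G) ∈ B.erase (x : G) := by
            rw [h]
            exact Finset.mem_singleton_self _
          exact Finset.notMem_erase _ _ h2
        · intro b hb
          exact hBP.1 b (Finset.mem_of_mem_erase hb)
        · by_contra hne
          rw [Finset.not_nonempty_iff_eq_empty] at hne
          apply hB'.1
          ext b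
          rw [Finset.mem_singleton]
          constructor
          · intro hb
            by_contra hbx
            have h2 : b ∈ B.erase (x : G) := Finset.mem_erase.mpr ⟨hbx, hb⟩
            rw [hne] at h2
            exact Finset.notMem_empty _ h2
          · rintro rfl
            exact hxB
        · intro b
          rw [Finset.mem_erase, Finset.mem_erase, ← hBN b]
          constructor
          · rintro ⟨h1, h2⟩
            refine ⟨?_, h2⟩
            intro h
            exact h1 ((conj_eq_self_iff (x : G) b).mp h)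
          · rintro ⟨h1, h2⟩
            refine ⟨?_, h2⟩
            intro h
            exact h1 ((conj_eq_self_iff (x : G) b).mpr h)
      · simp only [if_neg hxB]
        rw [Finset.mem_erase, hs, Finset.mem_filter, mem_dadeP]
        refine ⟨?_, ⟨?_, Finset.insert_nonempty _ _⟩, ?_⟩
        · intro h
          obtain ⟨b, hb⟩ := hBP.2
          have h2 : b ∈ insert (x : G) B := Finset.mem_insert_of_mem hb
          rw [h, Finset.mem_singleton] at h2
          rw [h2] at hb
          exact hxB hb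
        · intro b hb
          rw [Finset.mem_insert] at hb
          rcases hb with rfl | hb
          · exact hx
          · exact hBP.1 b hb
        · intro b
          rw [Finset.mem_insert, Finset.mem_insert, ← hBN b]
          constructor
          · rintro (h | h)
            · left
              exact (conj_eq_self_iff (x : G) b).mpr h
            · right
              exact h
          · rintro (h | h)
            · left
              exact (conj_eq_self_iff (x : G) b).mp h
            · right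
              exact h
  rw [h0, add_zero, Finset.card_singleton]
  simp

/-- The alternating sum of the local terms collapses to the Dade reciprocity sum. -/
theorem dade_T_eq (A : Set G) (L : Subgroup G) [Fintype L] (H : G → Subgroup G)
    (hD : Cfsg.DadeHypothesis A L H) (α : L → ℂ) (hαA : ∀ x : L, (x : G) ∉ A → α x = 0)
    (ψ : G → ℂ) (hψ : Cfsg.IsClassFunction G ψ) :
    ∑ B ∈ dadeP A, (-1 : ℂ) ^ (B.card + 1) *
        ∑ x : L, (if x ∈ dadeNL L B then α x * conj (dadeW H ψ B (x : G)) else 0) =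
      ∑ x : L, α x * conj (dadeW H ψ {(x : G)} (x : G)) := by
  have step1 : ∀ B ∈ dadeP A, ∀ x : L,
      (if x ∈ dadeNL L B then α x * conj (dadeW H ψ B (x : G)) else 0) =
      (if x ∈ dadeNL L B then α x * conj (dadeW H ψ (insert (x : G) B) (x : G)) else 0) := by
    intro B hB x
    have hB' := (mem_dadeP A B).mp hB
    by_cases hx : x ∈ dadeNL L B
    · rw [if_pos hx, if_pos hx]
      by_cases hxA : (x : G) ∈ A
      · rw [dadeW_insert A L H hD B hB'.1 hB'.2 ψ hψ x hx hxA]
      · rw [hαA x hxA]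
        simp
    · rw [if_neg hx, if_neg hx]
  have step2 : ∀ B ∈ dadeP A, (-1 : ℂ) ^ (B.card + 1) *
        ∑ x : L, (if x ∈ dadeNL L B then α x * conj (dadeW H ψ B (x : G)) else 0) =
      ∑ x : L, α x * (if x ∈ dadeNL L B then (-1 : ℂ) ^ (B.card + 1) *
        conj (dadeW H ψ (insert (x : G) B) (x : G)) else 0) := by
    intro B hB
    rw [Finset.mul_sum]
    apply Finset.sum_congr rfl
    intro x _
    rw [step1 B hB x]
    by_cases hx : x ∈ dadeNL L B
    · rw [if_pos hx, if_pos hx]
      ring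
    · rw [if_neg hx, if_neg hx]
      simp
  rw [Finset.sum_congr rfl step2, Finset.sum_comm]
  apply Finset.sum_congr rfl
  intro x _
  rw [← Finset.mul_sum]
  by_cases hxA : (x : G) ∈ A
  · rw [dade_cancel A L x hxA (fun B => conj (dadeW H ψ B (x : G)))]
  · rw [hαA x hxA]
    simp

theorem exists_int_sum {ι : Type*} (s : Finset ι) (f : ι → ℂ)
    (h : ∀ i ∈ s, ∃ z : ℤ, f i = z) : ∃ z : ℤ, ∑ i ∈ s, f i = z := by
  choose! g hg using h
  exact ⟨∑ i ∈ s, g i, by rw [Int.cast_sum]; exact Finset.sum_congr rfl hg⟩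

/-- The alternating sum of the local terms is an integer multiple of `|L|`. -/
theorem dade_T_int (A : Set G) (L : Subgroup G) [Fintype L] (H : G → Subgroup G)
    (hD : Cfsg.DadeHypothesis A L H) (α : L → ℂ) (hα : Cfsg.IsGeneralizedCharacter L α)
    (ψ : G → ℂ) (hψ : Cfsg.IsGeneralizedCharacter G ψ) :
    ∃ z : ℤ, ∑ B ∈ dadeP A, (-1 : ℂ) ^ (B.card + 1) *
        ∑ x : L, (if x ∈ dadeNL L B then α x * conj (dadeW H ψ B (x : G)) else 0) =
      (Nat.card L : ℂ) * z := by
  set S : Finset G → ℂ := fun B =>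
    ∑ x : L, (if x ∈ dadeNL L B then α x * conj (dadeW H ψ B (x : G)) else 0) with hS
  set c : Finset G → ℂ := fun B =>
    (-1 : ℂ) ^ (B.card + 1) * ((Nat.card (dadeNL L B) : ℂ)⁻¹ * S B) with hc
  set act : L → Finset G → Finset G := fun x B => B.image (fun b => (x : G) * b * (x : G)⁻¹)
    with hact
  have hact1 : ∀ B, act 1 B = B := by
    intro B
    simp [hact]
  have hactmul : ∀ x y B, act (x * y) B = act x (act y B) := by
    intro x y B
    simp only [hact]
    rw [Finset.image_image]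
    congr 1
    funext b
    simp [mul_assoc]
  have hP : ∀ x, ∀ B ∈ dadeP A, act x B ∈ dadeP A := by
    intro x B hB
    rw [mem_dadeP] at hB ⊢
    refine ⟨?_, hB.2.image _⟩
    intro b hb
    obtain ⟨b', hb', rfl⟩ := Finset.mem_image.mp hb
    exact hD.conj_mem x x.2 b' (hB.1 b' hb')
  have hψc := Cfsg.Agent.Lib.helper4.isClassFunction_of_isGeneralizedCharacter hψ
  have hαc := Cfsg.Agent.Lib.helper4.isClassFunction_of_isGeneralizedCharacter hα
  have hcardN : ∀ y : L, ∀ B, (Nat.card (dadeNL L (act y B)) : ℂ) = Nat.card (dadeNL L B) := by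
    intro y B
    rw [natCard_subgroup_eq_sum, natCard_subgroup_eq_sum, ← sum_conj_reindex y]
    apply Finset.sum_congr rfl
    intro x _
    rw [if_congr (mem_dadeNL_image L B y x) rfl rfl]
  have hSinv : ∀ y : L, ∀ B ∈ dadeP A, S (act y B) = S B := by
    intro y B hB
    simp only [hS]
    rw [← sum_conj_reindex y]
    apply Finset.sum_congr rfl
    intro x _
    rw [if_congr (mem_dadeNL_image L B y x) rfl rfl]
    by_cases hx : x ∈ dadeNL L B
    · rw [if_pos hx, if_pos hx]
      have h1 : α (y * x * y⁻¹) = α x := hαc x y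
      have h2 : dadeW H ψ (act y B) ((y * x * y⁻¹ : L) : G) = dadeW H ψ B (x : G) := by
        have h3 := dadeW_image A L H hD B ((mem_dadeP A B).mp hB).1 ψ hψc (y : G) y.2 (x : G)
        rw [← h3]
        simp [hact]
      rw [h1, h2]
    · rw [if_neg hx, if_neg hx]
  have hcinv : ∀ y, ∀ B ∈ dadeP A, c (act y B) = c B := by
    intro y B hB
    simp only [hc]
    rw [hSinv y B hB, hcardN y B]
    have hcard : (act y B).card = B.card := by
      simp only [hact]
      rw [Finset.card_image_of_injective]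
      intro a b h
      simpa using h
    rw [hcard]
  obtain ⟨P₀, hP₀, hsum⟩ := orbit_sum act hact1 hactmul (dadeP A) hP c hcinv
  have hstab : ∀ (B : Finset G) [DecidablePred fun x : L => act x B = B],
      (Finset.univ.filter (fun x : L => act x B = B)).card = Nat.card (dadeNL L B) := by
    intro B _
    rw [Nat.card_eq_fintype_card, Fintype.card_subtype]
    congr 1
    ext x
    simp only [Finset.mem_filter, Finset.mem_univ, true_and]
    exact (mem_dadeNL_iff_image L B x).symm
  have hcint : ∀ B ∈ P₀, ∃ z : ℤ, c B = z := by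
    intro B hB
    have hB' := (mem_dadeP A B).mp (hP₀ hB)
    obtain ⟨n, hn⟩ := dade_local_int A L H hD B hB'.1 hB'.2 α hα ψ hψ
    refine ⟨(-1) ^ (B.card + 1) * n, ?_⟩
    simp only [hc, hS]
    rw [hn]
    have hN : (Nat.card (dadeNL L B) : ℂ) ≠ 0 := by
      exact_mod_cast (Nat.card_pos (α := dadeNL L B)).ne'
    push_cast
    field_simp
  obtain ⟨z, hz⟩ := exists_int_sum P₀ c hcint
  refine ⟨z, ?_⟩
  have hL : ∑ B ∈ dadeP A, (-1 : ℂ) ^ (B.card + 1) * S B =
      Fintype.card L • ∑ B ∈ P₀, c B := by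
    rw [← hsum]
    apply Finset.sum_congr rfl
    intro B _
    rw [hstab B, nsmul_eq_mul]
    simp only [hc]
    have hN : (Nat.card (dadeNL L B) : ℂ) ≠ 0 := by
      exact_mod_cast (Nat.card_pos (α := dadeNL L B)).ne'
    field_simp
  rw [hL, nsmul_eq_mul, hz, Nat.card_eq_fintype_card]

/-- **Peterfalvi (2.7)**: the Dade map sends generalized characters of `L` vanishing off `A` to
generalized characters of `G`. -/
theorem dade_isGeneralizedCharacter (A : Set G) (L : Subgroup G) [Fintype L]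
    (H : G → Subgroup G) (hD : Cfsg.DadeHypothesis A L H) (α : L → ℂ)
    (hα : Cfsg.IsGeneralizedCharacter L α) (hαA : ∀ x : L, (x : G) ∉ A → α x = 0) :
    Cfsg.IsGeneralizedCharacter G (Cfsg.dadeIsometry A L H α) := by
  have hαc := Cfsg.Agent.Lib.helper4.isClassFunction_of_isGeneralizedCharacter hα
  rw [Cfsg.Agent.Lib.helper4.isGeneralizedCharacter_iff_int_classInner]
  refine ⟨isClassFunction_dadeIsometry A L H hD α hαc, ?_⟩
  intro ψ
  have hψg := Cfsg.Agent.Lib.helper4.isGeneralizedCharacter_of_isIrrCharacter ψ.2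
  have hψc := Cfsg.Agent.Lib.helper4.isClassFunction_of_isGeneralizedCharacter hψg
  obtain ⟨z, hz⟩ := dade_T_int A L H hD α hα ψ hψg
  rw [dade_T_eq A L H hD α hαA ψ hψc] at hz
  refine ⟨z, ?_⟩
  have hrec := dade_classInner A L H hD α hαc hαA ψ hψc
    (fun a : L => dadeW H ψ {(a : G)} (a : G)) (by
      intro a ha
      unfold dadeW
      rw [dadeHB_singleton, finsum_mem_eq_sum_ite']
      rfl)
  rw [hrec]
  unfold Cfsg.classInner
  rw [hz]
  have hL : (Nat.card L : ℂ) ≠ 0 := by
    exact_mod_cast (Nat.card_pos (α := L)).ne'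
  field_simp

end DadeMain

end Cfsg.Agent.Lib.helper32
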