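import Mathlib
import Cfsg.Agent.Lib.helper32.DadeExp
import Cfsg.Agent.Lib.helper84.Brauer
import Cfsg.Agent.Lib.helper83.CliffordInd
import Cfsg.Agent.Lib.helper19.AbelianOver
import Cfsg.Agent.S0886

set_option autoImplicit false

/-!
# Characters of a normal subgroup fixed by a coprime element (helper32 library)

* `card_fixed_classes_coprime`, `card_irr_fixed_coprime`: for `K` normal in `L` and `y` of order
  coprime to `|K|` with `C_K(y)` abelian, the number of `y`-invariant classes / irreducible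
  characters of `K` is `|C_K(y)|`.
* `stabFun`: the stabilizer of a function on a normal subgroup.
* `cyclicHall_irr` (Peterfalvi 4.? / statement S1513).
-/

namespace Cfsg.Agent.Lib.helper32

open Classical
open scoped ComplexConjugate

section ClassCount

/-- Number of `k` conjugating `u` to `v`, as a complex number. -/
theorem sum_conj_eq {K : Type*} [Group K] [Fintype K] [DecidableEq K] (u v : K) :
    ∑ k : K, (if k * u * k⁻¹ = v then (1 : ℂ) else 0) =
      if IsConj u v then (Nat.card (Subgroup.centralizer ({u} : Set K)) : ℂ) else 0 := by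
  by_cases h : IsConj u v
  · rw [if_pos h]
    obtain ⟨k₀, hk₀⟩ := isConj_iff.mp h
    rw [natCard_subgroup_eq_sum]
    symm
    apply Fintype.sum_equiv (Equiv.mulLeft k₀)
    intro k
    show (if k ∈ Subgroup.centralizer ({u} : Set K) then (1 : ℂ) else 0) =
      if (k₀ * k) * u * (k₀ * k)⁻¹ = v then (1 : ℂ) else 0
    have key : (k₀ * k) * u * (k₀ * k)⁻¹ = v ↔ k ∈ Subgroup.centralizer ({u} : Set K) := by
      rw [Subgroup.mem_centralizer_singleton_iff, ← hk₀]
      constructor
      · intro h1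
        have h2 : k * u * k⁻¹ = u := by
          have := congrArg (fun z => k₀⁻¹ * z * k₀) h1
          simpa [mul_assoc] using this
        calc k * u = k * u * k⁻¹ * k := by group
          _ = u * k := by rw [h2]
      · intro h1
        calc k₀ * k * u * (k₀ * k)⁻¹ = k₀ * (k * u) * k⁻¹ * k₀⁻¹ := by group
          _ = k₀ * (u * k) * k⁻¹ * k₀⁻¹ := by rw [h1]
          _ = k₀ * u * k₀⁻¹ := by group
    by_cases hk : k ∈ Subgroup.centralizer ({u} : Set K)
    · rw [if_pos (key.mpr hk), if_pos hk]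
    · rw [if_neg (fun h' => hk (key.mp h')), if_neg hk]
  · rw [if_neg h]
    apply Finset.sum_eq_zero
    intro k _
    rw [if_neg]
    intro hk
    exact h (isConj_iff.mpr ⟨k, hk⟩)

/-- `|K| · #(τ-fixed classes) = #{(k,u) : k u k⁻¹ = τ u}`. -/
theorem card_fixed_classes_mul {K : Type*} [Group K] [Fintype K] [DecidableEq K] (τ : K → K)
    (P : ConjClasses K → Prop) (hP : ∀ g : K, P (ConjClasses.mk g) ↔ IsConj g (τ g)) :
    (Nat.card K : ℂ) * (Nat.card {C : ConjClasses K // P C} : ℂ) =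
      ∑ k : K, ∑ u : K, (if k * u * k⁻¹ = τ u then (1 : ℂ) else 0) := by
  have := Fintype.ofFinite (ConjClasses K)
  rw [Finset.sum_comm]
  have h1 : ∀ u : K, ∑ k : K, (if k * u * k⁻¹ = τ u then (1 : ℂ) else 0) =
      (if P (ConjClasses.mk u) then (Nat.card (Subgroup.centralizer ({u} : Set K)) : ℂ)
        else 0) := by
    intro u
    rw [sum_conj_eq]
    by_cases h : IsConj u (τ u)
    · rw [if_pos h, if_pos ((hP u).2 h)]
    · rw [if_neg h, if_neg (fun h' => h ((hP u).1 h'))]
  rw [Finset.sum_congr rfl (fun u _ => h1 u)]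
  rw [← Finset.sum_fiberwise (Finset.univ : Finset K) (fun g => ConjClasses.mk g)]
  have hC : ∀ C : ConjClasses K,
      ∑ g ∈ (Finset.univ : Finset K).filter (fun g => ConjClasses.mk g = C),
        (if P (ConjClasses.mk g) then (Nat.card (Subgroup.centralizer ({g} : Set K)) : ℂ)
          else 0) = if P C then (Nat.card K : ℂ) else 0 := by
    intro C
    by_cases hPC : P C
    · rw [if_pos hPC, ← Cfsg.Agent.Lib.helper84.sum_card_centralizer_class C]
      refine Finset.sum_congr rfl fun g hg => ?_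
      rw [Finset.mem_filter] at hg
      rw [hg.2, if_pos hPC]
    · rw [if_neg hPC]
      refine Finset.sum_eq_zero fun g hg => ?_
      rw [Finset.mem_filter] at hg
      rw [hg.2, if_neg hPC]
  rw [Finset.sum_congr rfl (fun C _ => hC C)]
  rw [Finset.sum_ite, Finset.sum_const_zero, add_zero, Finset.sum_const, nsmul_eq_mul,
    Nat.card_eq_fintype_card (α := {C : ConjClasses K // P C}), Fintype.card_subtype]
  ring

end ClassCount

section Ambient

variable {L : Type*} [Group L] [Fintype L]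

theorem centralizer_conj_card (K : Subgroup L) (k m : L) (hk : k ∈ K) :
    (Nat.card ↥(K ⊓ Subgroup.centralizer ({k * m * k⁻¹} : Set L)) : ℂ) =
      (Nat.card ↥(K ⊓ Subgroup.centralizer ({m} : Set L)) : ℂ) := by
  rw [natCard_subgroup_eq_sum, natCard_subgroup_eq_sum, ← sum_conj_reindex k]
  apply Finset.sum_congr rfl
  intro u _
  have key : k * u * k⁻¹ ∈ K ⊓ Subgroup.centralizer ({k * m * k⁻¹} : Set L) ↔
      u ∈ K ⊓ Subgroup.centralizer ({m} : Set L) := by
    rw [Subgroup.mem_inf, Subgroup.mem_inf, Subgroup.mem_centralizer_singleton_iff,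
      Subgroup.mem_centralizer_singleton_iff]
    constructor
    · rintro ⟨h1, h2⟩
      refine ⟨?_, ?_⟩
      · have := K.mul_mem (K.mul_mem (K.inv_mem hk) h1) hk
        simpa [mul_assoc] using this
      · have := congrArg (fun z => k⁻¹ * z * k) h2
        simpa [mul_assoc] using this
    · rintro ⟨h1, h2⟩
      refine ⟨K.mul_mem (K.mul_mem hk h1) (K.inv_mem hk), ?_⟩
      calc k * u * k⁻¹ * (k * m * k⁻¹) = k * (u * m) * k⁻¹ := by group
        _ = k * (m * u) * k⁻¹ := by rw [h2]
        _ = k * m * k⁻¹ * (k * u * k⁻¹) := by group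
  by_cases hu : u ∈ K ⊓ Subgroup.centralizer ({m} : Set L)
  · rw [if_pos (key.mpr hu), if_pos hu]
  · rw [if_neg (fun h => hu (key.mp h)), if_neg hu]

/-- `C_K(x c) = C_K(x)` for `c` in the abelian group `C_K(x)`, `x` of order coprime to `|K|`. -/
theorem inf_centralizer_mul_eq (K : Subgroup L) (x c : L)
    (hcop : Nat.Coprime (orderOf x) (Nat.card K))
    (hab : ∀ a ∈ K ⊓ Subgroup.centralizer ({x} : Set L),
      ∀ b ∈ K ⊓ Subgroup.centralizer ({x} : Set L), a * b = b * a)
    (hc : c ∈ K ⊓ Subgroup.centralizer ({x} : Set L)) :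
    K ⊓ Subgroup.centralizer ({x * c} : Set L) = K ⊓ Subgroup.centralizer ({x} : Set L) := by
  obtain ⟨n, hn1, hn2⟩ := exists_crt_exponent (orderOf x) (Nat.card K) hcop
  have hxn : x ^ n = x := by
    have := (pow_eq_pow_iff_modEq (x := x) (n := n) (m := 1)).mpr hn1
    simpa using this
  have hcn : c ^ n = 1 := by
    obtain ⟨t, rfl⟩ := hn2
    rw [pow_mul, pow_card_subgroup_eq_one K c hc.1, one_pow]
  have hxc : Commute x c := (Subgroup.mem_centralizer_singleton_iff.mp hc.2).symm
  have hpow : (x * c) ^ n = x := by rw [hxc.mul_pow, hxn, hcn, mul_one]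
  ext u
  rw [Subgroup.mem_inf, Subgroup.mem_inf, Subgroup.mem_centralizer_singleton_iff,
    Subgroup.mem_centralizer_singleton_iff]
  constructor
  · rintro ⟨hu, h⟩
    refine ⟨hu, ?_⟩
    have h1 : Commute u (x * c) := h
    have h2 := h1.pow_right n
    rw [hpow] at h2
    exact h2
  · rintro ⟨hu, h⟩
    refine ⟨hu, ?_⟩
    have huc : u * c = c * u :=
      hab u ⟨hu, Subgroup.mem_centralizer_singleton_iff.mpr h⟩ c hc
    have hcx : c * x = x * c := Subgroup.mem_centralizer_singleton_iff.mp hc.2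
    calc u * (x * c) = (u * x) * c := by group
      _ = x * (u * c) := by rw [h]; group
      _ = x * c * u := by rw [huc]; group

omit [Fintype L] in
theorem centralizer_singleton_inv (y : L) :
    Subgroup.centralizer ({y⁻¹} : Set L) = Subgroup.centralizer ({y} : Set L) := by
  ext u
  rw [Subgroup.mem_centralizer_singleton_iff, Subgroup.mem_centralizer_singleton_iff]
  constructor
  · intro h
    calc u * y = y * (y⁻¹ * u) * y := by group
      _ = y * (u * y⁻¹) * y := by rw [h]
      _ = y * u := by group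
  · intro h
    calc u * y⁻¹ = y⁻¹ * (y * u) * y⁻¹ := by group
      _ = y⁻¹ * (u * y) * y⁻¹ := by rw [h]
      _ = y⁻¹ * u := by group

/-- The number of classes of `K` fixed by conjugation with `y` (of order coprime to `|K|`, with
`C_K(y)` abelian) is `|C_K(y)|`. -/
theorem card_fixed_classes_coprime (K : Subgroup L) [hK : K.Normal] (y : L)
    (hcop : Nat.Coprime (orderOf y) (Nat.card K))
    (hab : ∀ a ∈ K ⊓ Subgroup.centralizer ({y} : Set L),
      ∀ b ∈ K ⊓ Subgroup.centralizer ({y} : Set L), a * b = b * a)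
    (P : ConjClasses K → Prop)
    (hP : ∀ g : K, P (ConjClasses.mk g) ↔ IsConj g (MulAut.conjNormal y g)) :
    Nat.card {C : ConjClasses K // P C} =
      Nat.card ↥(K ⊓ Subgroup.centralizer ({y} : Set L)) := by
  have hcent := centralizer_singleton_inv y
  have hcopx : Nat.Coprime (orderOf y⁻¹) (Nat.card K) := by rw [orderOf_inv]; exact hcop
  have habx : ∀ a ∈ K ⊓ Subgroup.centralizer ({y⁻¹} : Set L),
      ∀ b ∈ K ⊓ Subgroup.centralizer ({y⁻¹} : Set L), a * b = b * a := by
    rw [hcent]; exact hab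
  set f : L → ℂ := fun m => (Nat.card ↥(K ⊓ Subgroup.centralizer ({m} : Set L)) : ℂ) with hf
  have hfK : ∀ k ∈ K, ∀ m : L, f (k * m * k⁻¹) = f m :=
    fun k hk m => centralizer_conj_card K k m hk
  have hnorm : ∀ k : L, k ∈ K ↔ y⁻¹ * k * y⁻¹⁻¹ ∈ K := by
    intro k
    constructor
    · intro hk
      exact hK.conj_mem k hk y⁻¹
    · intro hk
      have := hK.conj_mem _ hk y
      simpa [mul_assoc] using this
  have h1 := coset_sum_coprime K y⁻¹ hnorm hcopx f hfK
  have h2 : ∑ c : L, (if c ∈ K ⊓ Subgroup.centralizer ({y⁻¹} : Set L) then f (y⁻¹ * c) else 0) =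
      (Nat.card ↥(K ⊓ Subgroup.centralizer ({y⁻¹} : Set L)) : ℂ) *
        (Nat.card ↥(K ⊓ Subgroup.centralizer ({y⁻¹} : Set L)) : ℂ) := by
    have h : ∀ c : L, (if c ∈ K ⊓ Subgroup.centralizer ({y⁻¹} : Set L) then f (y⁻¹ * c) else 0) =
        (if c ∈ K ⊓ Subgroup.centralizer ({y⁻¹} : Set L) then (1 : ℂ) else 0) *
          (Nat.card ↥(K ⊓ Subgroup.centralizer ({y⁻¹} : Set L)) : ℂ) := by
      intro c
      by_cases hc : c ∈ K ⊓ Subgroup.centralizer ({y⁻¹} : Set L)
      · rw [if_pos hc, if_pos hc, one_mul]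
        show (Nat.card ↥(K ⊓ Subgroup.centralizer ({y⁻¹ * c} : Set L)) : ℂ) = _
        rw [inf_centralizer_mul_eq K y⁻¹ c hcopx habx hc]
      · rw [if_neg hc, if_neg hc, zero_mul]
    rw [Finset.sum_congr rfl (fun c _ => h c), ← Finset.sum_mul, ← natCard_subgroup_eq_sum]
  rw [h2] at h1
  have h3 := card_fixed_classes_mul (fun g : K => MulAut.conjNormal y g) P hP
  have h4 : ∀ k : K, ∑ u : K, (if k * u * k⁻¹ = MulAut.conjNormal y u then (1 : ℂ) else 0) =
      f (y⁻¹ * (k : L)) := by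
    intro k
    have e1 : ∀ u : K, (if k * u * k⁻¹ = MulAut.conjNormal y u then (1 : ℂ) else 0) =
        (if (u : L) ∈ Subgroup.centralizer ({y⁻¹ * (k : L)} : Set L) then (1 : ℂ) else 0) := by
      intro u
      have key : k * u * k⁻¹ = MulAut.conjNormal y u ↔
          (u : L) ∈ Subgroup.centralizer ({y⁻¹ * (k : L)} : Set L) := by
        rw [Subgroup.mem_centralizer_singleton_iff, Subtype.ext_iff, MulAut.conjNormal_apply]
        simp only [Subgroup.coe_mul, Subgroup.coe_inv]
        constructor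
        · intro h
          calc (u : L) * (y⁻¹ * (k : L)) = y⁻¹ * (y * (u : L) * y⁻¹) * (k : L) := by group
            _ = y⁻¹ * ((k : L) * (u : L) * (k : L)⁻¹) * (k : L) := by rw [h]
            _ = y⁻¹ * (k : L) * (u : L) := by group
        · intro h
          calc (k : L) * (u : L) * (k : L)⁻¹ = y * (y⁻¹ * (k : L) * (u : L)) * (k : L)⁻¹ := by group
            _ = y * ((u : L) * (y⁻¹ * (k : L))) * (k : L)⁻¹ := by rw [h]
            _ = y * (u : L) * y⁻¹ := by group
      by_cases hu : (u : L) ∈ Subgroup.centralizer ({y⁻¹ * (k : L)} : Set L)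
      · rw [if_pos (key.mpr hu), if_pos hu]
      · rw [if_neg (fun h => hu (key.mp h)), if_neg hu]
    have e2 := sum_subgroup_ite K
      (fun u : L => if u ∈ Subgroup.centralizer ({y⁻¹ * (k : L)} : Set L) then (1 : ℂ) else 0)
    refine (Finset.sum_congr rfl (fun u _ => e1 u)).trans (e2.trans ?_)
    show _ = (Nat.card ↥(K ⊓ Subgroup.centralizer ({y⁻¹ * (k : L)} : Set L)) : ℂ)
    rw [natCard_subgroup_eq_sum]
    apply Finset.sum_congr rfl
    intro u _
    by_cases hu : u ∈ K
    · by_cases hu2 : u ∈ Subgroup.centralizer ({y⁻¹ * (k : L)} : Set L)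
      · rw [if_pos hu, if_pos hu2, if_pos (Subgroup.mem_inf.mpr ⟨hu, hu2⟩)]
      · rw [if_pos hu, if_neg hu2, if_neg (fun h => hu2 (Subgroup.mem_inf.mp h).2)]
    · rw [if_neg hu, if_neg (fun h => hu (Subgroup.mem_inf.mp h).1)]
  have h5 : (Nat.card K : ℂ) * (Nat.card {C : ConjClasses K // P C} : ℂ) =
      ∑ u : L, (if u ∈ K then f (y⁻¹ * u) else 0) := by
    exact h3.trans ((Finset.sum_congr rfl (fun k _ => h4 k)).trans
      (sum_subgroup_ite K (fun u => f (y⁻¹ * u))))
  rw [← h5] at h1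
  have hK0 : (Nat.card K : ℂ) ≠ 0 := by exact_mod_cast Nat.card_pos.ne'
  have hC0 : (Nat.card ↥(K ⊓ Subgroup.centralizer ({y⁻¹} : Set L)) : ℂ) ≠ 0 := by
    exact_mod_cast Nat.card_pos.ne'
  have h6 : (Nat.card {C : ConjClasses K // P C} : ℂ) =
      (Nat.card ↥(K ⊓ Subgroup.centralizer ({y⁻¹} : Set L)) : ℂ) := by
    apply mul_left_cancel₀ hK0
    apply mul_left_cancel₀ hC0
    linear_combination h1
  rw [hcent] at h6
  exact_mod_cast h6

/-- The number of irreducible characters of `K` fixed by conjugation with `y` (of order coprime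
to `|K|`, with `C_K(y)` abelian) is `|C_K(y)|`. -/
theorem card_irr_fixed_coprime (K : Subgroup L) [hK : K.Normal] (y : L)
    (hcop : Nat.Coprime (orderOf y) (Nat.card K))
    (hab : ∀ a ∈ K ⊓ Subgroup.centralizer ({y} : Set L),
      ∀ b ∈ K ⊓ Subgroup.centralizer ({y} : Set L), a * b = b * a) :
    Nat.card {θ : Cfsg.IrrCharacter K // (fun k : K => (θ : K → ℂ)
      ⟨y * k * y⁻¹, hK.conj_mem (k : L) k.2 y⟩) = θ} =
      Nat.card ↥(K ⊓ Subgroup.centralizer ({y} : Set L)) := by
  set P : ConjClasses K → Prop :=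
    fun C => ∀ g : K, ConjClasses.mk g = C → IsConj g (MulAut.conjNormal y g) with hPdef
  have hP : ∀ g : K, P (ConjClasses.mk g) ↔ IsConj g (MulAut.conjNormal y g) := by
    intro g
    constructor
    · intro h
      exact h g rfl
    · intro h g' hg'
      have h1 : IsConj g' g := ConjClasses.mk_eq_mk_iff_isConj.mp hg'
      have h2 : IsConj (MulAut.conjNormal y g') (MulAut.conjNormal y g) := by
        obtain ⟨c, hc⟩ := isConj_iff.mp h1
        rw [isConj_iff]
        refine ⟨MulAut.conjNormal y c, ?_⟩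
        rw [← hc]
        simp [map_mul]
      exact (h1.trans h).trans h2.symm
  rw [← card_fixed_classes_coprime K y hcop hab P hP]
  rw [← Cfsg.Agent.Lib.helper84.card_irr_fixed_eq (fun g : K => MulAut.conjNormal y g)
    (fun θ => ⟨fun k => (θ : K → ℂ) (MulAut.conjNormal y k),
      Cfsg.Agent.Lib.helper84.irr_comp_mulEquiv (MulAut.conjNormal y) θ⟩) (fun θ g => rfl) P hP]
  apply Nat.card_congr
  apply Equiv.subtypeEquivRight
  intro θ
  rw [Subtype.ext_iff]
  have h : (fun k : K => (θ : K → ℂ) ⟨y * k * y⁻¹, hK.conj_mem (k : L) k.2 y⟩) =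
      fun k => (θ : K → ℂ) (MulAut.conjNormal y k) := by
    funext k
    congr 1
  rw [h]

end Ambient

section Stab

variable {L : Type*} [Group L]

/-- The stabilizer in `L` of a function on a normal subgroup `K`. -/
def stabFun (K : Subgroup L) [hK : K.Normal] (θ : K → ℂ) : Subgroup L where
  carrier := {x | ∀ k : K, θ ⟨x * k * x⁻¹, hK.conj_mem (k : L) k.2 x⟩ = θ k}
  mul_mem' := by
    intro a b ha hb k
    have h1 := ha ⟨b * k * b⁻¹, hK.conj_mem (k : L) k.2 b⟩
    have h2 := hb k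
    rw [← h2, ← h1]
    congr 1
    apply Subtype.ext
    simp [mul_assoc]
  one_mem' := by
    intro k
    congr 1
    apply Subtype.ext
    simp
  inv_mem' := by
    intro a ha k
    have h1 := ha ⟨a⁻¹ * k * a⁻¹⁻¹, hK.conj_mem (k : L) k.2 a⁻¹⟩
    rw [← h1]
    congr 1
    apply Subtype.ext
    simp [mul_assoc]

theorem mem_stabFun (K : Subgroup L) [hK : K.Normal] (θ : K → ℂ) (x : L) :
    x ∈ stabFun K θ ↔ ∀ k : K, θ ⟨x * k * x⁻¹, hK.conj_mem (k : L) k.2 x⟩ = θ k := Iff.rfl

theorem le_stabFun_of_isClassFunction (K : Subgroup L) [hK : K.Normal] (θ : K → ℂ)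
    (hθ : Cfsg.IsClassFunction K θ) : K ≤ stabFun K θ := by
  intro k hk n
  have h := hθ n ⟨k, hk⟩
  rw [← h]
  congr 1

end Stab

section Main

/-- Peterfalvi's setup `L = K ⋊ W₁` with `C_K(x) = W₂` for `x ∈ W₁ \ {1}`: characters of `K`
not fixed by `W₁` induce irreducibly, exactly `|W₂|` are fixed, and those induce to a sum of
`|W₁|` distinct irreducible characters. -/
theorem cyclicHall_irr {L : Type*} [Group L] [Fintype L] (K W₁ W₂ : Subgroup L) [hK : K.Normal]
    (hKW₁ : K ⊓ W₁ = ⊥) (hKW₁' : K ⊔ W₁ = ⊤) (hW₁ : W₁ ≠ ⊥) (hW₁c : IsCyclic W₁)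
    (hHall : Nat.Coprime (Nat.card W₁) W₁.index) (hW₂c : IsCyclic W₂)
    (hC : ∀ x ∈ W₁, x ≠ 1 → K ⊓ Subgroup.centralizer ({x} : Set L) = W₂) :
    (∀ θ : K → ℂ, Cfsg.IsIrrCharacter K θ →
      (∃ x ∈ W₁, (fun k : K => θ ⟨x * k * x⁻¹, hK.conj_mem (k : L) k.2 x⟩) ≠ θ) →
        Cfsg.IsIrrCharacter L (Cfsg.indFun K θ)) ∧
    Nat.card {θ : Cfsg.IrrCharacter K // ∀ x ∈ W₁, (fun k : K => (θ : K → ℂ)
      ⟨x * k * x⁻¹, hK.conj_mem (k : L) k.2 x⟩) = θ} = Nat.card W₂ ∧
    (∀ θ : K → ℂ, Cfsg.IsIrrCharacter K θ →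
      (∀ x ∈ W₁, (fun k : K => θ ⟨x * k * x⁻¹, hK.conj_mem (k : L) k.2 x⟩) = θ) →
        ∃ C : Finset (L → ℂ), C.card = Nat.card W₁ ∧ (∀ μ ∈ C, Cfsg.IsIrrCharacter L μ) ∧
          Cfsg.indFun K θ = ∑ μ ∈ C, μ) := by
  -- cardinalities
  have hcompl : K.IsComplement' W₁ := by
    apply Subgroup.isComplement'_of_disjoint_and_mul_eq_univ (disjoint_iff.mpr hKW₁)
    rw [← Subgroup.normal_mul, hKW₁']
    rfl
  have hcard : Nat.card K * Nat.card W₁ = Nat.card L := hcompl.card_mul_card
  have hW₁pos : 0 < Nat.card W₁ := Nat.card_pos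
  have hKpos : 0 < Nat.card K := Nat.card_pos
  have hidx : W₁.index = Nat.card K := by
    have h := W₁.card_mul_index
    rw [← hcard, mul_comm (Nat.card K)] at h
    exact Nat.eq_of_mul_eq_mul_left hW₁pos h
  have hKidx : K.index = Nat.card W₁ := by
    have h := K.card_mul_index
    rw [← hcard] at h
    exact Nat.eq_of_mul_eq_mul_left hKpos h
  have hcopKW : Nat.Coprime (Nat.card W₁) (Nat.card K) := by rw [← hidx]; exact hHall
  have hcopy : ∀ y ∈ W₁, Nat.Coprime (orderOf y) (Nat.card K) := fun y hy =>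
    hcopKW.coprime_dvd_left (Subgroup.orderOf_dvd_natCard W₁ hy)
  have habW₂ : ∀ a ∈ W₂, ∀ b ∈ W₂, a * b = b * a := by
    intro a ha b hb
    have h := (IsCyclic.isMulCommutative (α := ↥W₂)).is_comm.comm ⟨a, ha⟩ ⟨b, hb⟩
    exact congrArg Subtype.val h
  have key : ∀ y ∈ W₁, y ≠ 1 → Nat.card {θ : Cfsg.IrrCharacter K // (fun k : K => (θ : K → ℂ)
      ⟨y * k * y⁻¹, hK.conj_mem (k : L) k.2 y⟩) = θ} = Nat.card W₂ := by
    intro y hy hy1
    rw [card_irr_fixed_coprime K y (hcopy y hy) (by rw [hC y hy hy1]; exact habW₂), hC y hy hy1]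
  -- a generator of W₁
  obtain ⟨⟨x₀, hx₀⟩, hgen⟩ := IsCyclic.exists_generator (α := ↥W₁)
  have hx₀1 : x₀ ≠ 1 := by
    intro h
    apply hW₁
    rw [Subgroup.eq_bot_iff_forall]
    intro w hw
    obtain ⟨n, hn⟩ := Subgroup.mem_zpowers_iff.mp (hgen ⟨w, hw⟩)
    have h2 := congrArg Subtype.val hn
    simp only [Subgroup.coe_zpow] at h2
    rw [← h2, h, one_zpow]
  have gen_stab : ∀ θ : K → ℂ, x₀ ∈ stabFun K θ → W₁ ≤ stabFun K θ := by
    intro θ h w hw
    obtain ⟨n, hn⟩ := Subgroup.mem_zpowers_iff.mp (hgen ⟨w, hw⟩)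
    have h2 := congrArg Subtype.val hn
    simp only [Subgroup.coe_zpow] at h2
    rw [← h2]
    exact (stabFun K θ).zpow_mem h n
  have hii : Nat.card {θ : Cfsg.IrrCharacter K // ∀ x ∈ W₁, (fun k : K => (θ : K → ℂ)
      ⟨x * k * x⁻¹, hK.conj_mem (k : L) k.2 x⟩) = θ} = Nat.card W₂ := by
    rw [← key x₀ hx₀ hx₀1]
    apply Nat.card_congr
    apply Equiv.subtypeEquivRight
    intro θ
    constructor
    · intro h
      exact h x₀ hx₀
    · intro h x hx
      funext k
      exact gen_stab (θ : K → ℂ) (fun k => congrFun h k) hx k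
  have hmemL : ∀ g : L, ∃ w ∈ W₁, ∃ k ∈ K, w * k = g := by
    intro g
    have hg : g ∈ W₁ ⊔ K := by rw [sup_comm, hKW₁']; trivial
    exact Subgroup.mem_sup_of_normal_right.mp hg
  refine ⟨?_, hii, ?_⟩
  · -- (i)
    intro θ hθ hex
    obtain ⟨x, hx, hne⟩ := hex
    have hcl := Cfsg.Agent.Lib.helper4.isClassFunction_of_isIrrCharacter hθ
    have hfree : ∀ y ∈ W₁, y ∈ stabFun K θ → y = 1 := by
      intro y hy hys
      by_contra hy1
      let ι : {θ' : Cfsg.IrrCharacter K // ∀ x ∈ W₁, (fun k : K => (θ' : K → ℂ)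
          ⟨x * k * x⁻¹, hK.conj_mem (k : L) k.2 x⟩) = θ'} →
          {θ' : Cfsg.IrrCharacter K // (fun k : K => (θ' : K → ℂ)
          ⟨y * k * y⁻¹, hK.conj_mem (k : L) k.2 y⟩) = θ'} := fun a => ⟨a.1, a.2 y hy⟩
      have hinj : Function.Injective ι := by
        intro a b h
        apply Subtype.ext
        have h2 : (ι a).1 = (ι b).1 := congrArg Subtype.val h
        exact h2
      have hbij := hinj.bijective_of_nat_card_le (by rw [key y hy hy1, hii])
      obtain ⟨a, ha⟩ := hbij.2 ⟨⟨θ, hθ⟩, funext hys⟩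
      have ha1 : a.1 = ⟨θ, hθ⟩ := congrArg Subtype.val ha
      apply hne
      have ha2 := a.2 x hx
      rw [ha1] at ha2
      exact ha2
    apply Cfsg.Agent.Lib.helper83.irr_indFun_of_extends K K le_rfl ⟨θ, hθ⟩ ?_ θ (fun n => rfl) hθ
    intro g
    constructor
    · intro hg n n' hn'
      have h := hcl n ⟨g, hg⟩
      show θ n' = θ n
      rw [← h]
      congr 1
      exact Subtype.ext hn'
    · intro h
      obtain ⟨w, hw, k, hk, rfl⟩ := hmemL g
      have hwk : w * k ∈ stabFun K θ := fun n => h n ⟨_, _⟩ rfl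
      have hk' : k ∈ stabFun K θ := le_stabFun_of_isClassFunction K θ hcl hk
      have hw' : w ∈ stabFun K θ := by
        have := (stabFun K θ).mul_mem hwk ((stabFun K θ).inv_mem hk')
        simpa using this
      rw [hfree w hw hw', one_mul]
      exact hk
  · -- (iii)
    intro θ hθ hinv
    have hcl := Cfsg.Agent.Lib.helper4.isClassFunction_of_isIrrCharacter hθ
    have hinvL : ∀ (g : L) (n : K), θ ⟨g * n * g⁻¹, hK.conj_mem (n : L) n.2 g⟩ = θ n := by
      have hKs : K ≤ stabFun K θ := le_stabFun_of_isClassFunction K θ hcl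
      have hWs : W₁ ≤ stabFun K θ := fun w hw k => congrFun (hinv w hw) k
      have htop : stabFun K θ = ⊤ := by
        apply top_unique
        rw [← hKW₁']
        exact sup_le hKs hWs
      intro g n
      have hg : g ∈ stabFun K θ := by rw [htop]; trivial
      exact hg n
    have hcycQ : IsCyclic (L ⧸ K) := by
      have hsurj : Function.Surjective ((QuotientGroup.mk' K).comp W₁.subtype) := by
        intro q
        obtain ⟨g, rfl⟩ := QuotientGroup.mk'_surjective K q
        obtain ⟨w, hw, k, hk, rfl⟩ := hmemL g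
        refine ⟨⟨w, hw⟩, ?_⟩
        show (QuotientGroup.mk' K) w = (QuotientGroup.mk' K) (w * k)
        rw [map_mul]
        have hk1 : (QuotientGroup.mk' K) k = 1 := (QuotientGroup.eq_one_iff k).mpr hk
        rw [hk1, mul_one]
      exact isCyclic_of_surjective _ hsurj
    obtain ⟨χ, hχ, hχK⟩ := Cfsg.Agent.S0886.result K hcycQ θ hθ hinvL
    have habQ : ∀ x y : L, x * y * x⁻¹ * y⁻¹ ∈ K := by
      intro x y
      rw [← QuotientGroup.eq_one_iff]
      have hc := (IsCyclic.isMulCommutative (α := L ⧸ K)).is_comm.comm (x : L ⧸ K) (y : L ⧸ K)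
      simp only [QuotientGroup.mk_mul, QuotientGroup.mk_inv]
      rw [hc]
      group
    obtain ⟨e, C, he, hcardC, hind, hCprop⟩ :=
      Cfsg.Agent.Lib.helper19.induced_invariant_abelian K habQ θ hθ hinvL
    have hχcl := Cfsg.Agent.Lib.helper4.isClassFunction_of_isIrrCharacter hχ
    have h1 : Cfsg.classInner (Cfsg.indFun K θ) χ = 1 := by
      rw [Cfsg.Agent.Lib.helper4.frobenius_reciprocity K θ hχcl]
      have : (fun h : K => χ h) = θ := funext hχK
      rw [this]
      exact Cfsg.Agent.Lib.helper4.classInner_irr_self hθ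
    rw [hind, Cfsg.Agent.Lib.helper4.classInner_smul_left,
      Cfsg.Agent.Lib.helper4.classInner_sum_left] at h1
    have h2 : ∀ ψ ∈ C, Cfsg.classInner (ψ : L → ℂ) χ =
        if ψ = (⟨χ, hχ⟩ : Cfsg.IrrCharacter L) then (1 : ℂ) else 0 := by
      intro ψ _
      exact Cfsg.Agent.Lib.helper83.classInner_irr ψ ⟨χ, hχ⟩
    rw [Finset.sum_congr rfl h2, Finset.sum_ite_eq'] at h1
    have he1 : e = 1 := by
      by_cases hmem : (⟨χ, hχ⟩ : Cfsg.IrrCharacter L) ∈ C
      · rw [if_pos hmem, mul_one] at h1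
        exact_mod_cast h1
      · rw [if_neg hmem, mul_zero] at h1
        exact absurd h1 zero_ne_one
    subst he1
    refine ⟨C.image Subtype.val, ?_, ?_, ?_⟩
    · rw [Finset.card_image_of_injective _ Subtype.val_injective, ← hKidx, ← hcardC]
      simp
    · intro μ hμ
      obtain ⟨ψ, -, rfl⟩ := Finset.mem_image.mp hμ
      exact ψ.2
    · rw [hind, Finset.sum_image (fun a _ b _ h => Subtype.val_injective h)]
      simp

end Main

end Cfsg.Agent.Lib.helper32
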