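import Mathlib
import Cfsg.Agent.Lib.helper32.CyclicTI
import Cfsg.Agent.Lib.helper32.CyclicTI2

set_option autoImplicit false

/-!
# The TI property of a self-normalising cyclic subgroup, induction from it, and orthogonality of
its linear characters (helper32 library)
-/

namespace Cfsg.Agent.Lib.helper32

open scoped ComplexConjugate

/-- In a finite cyclic group, an element whose order equals that of `a` is a power of `a`. -/
theorem mem_zpowers_of_orderOf_eq {α : Type*} [Group α] [Finite α] [IsCyclic α] (a b : α)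
    (h : orderOf b = orderOf a) : b ∈ Subgroup.zpowers a := by
  classical
  have := Fintype.ofFinite α
  have hn : 0 < orderOf a := orderOf_pos a
  have hle := IsCyclic.card_pow_eq_one_le (α := α) hn
  have hsub : (Finset.univ.filter fun y : α => y ∈ Subgroup.zpowers a) ⊆
      Finset.univ.filter fun y : α => y ^ orderOf a = 1 := by
    intro y hy
    simp only [Finset.mem_filter, Finset.mem_univ, true_and] at hy ⊢
    obtain ⟨k, rfl⟩ := Subgroup.mem_zpowers_iff.mp hy
    rw [← zpow_natCast, ← zpow_mul, mul_comm, zpow_mul, zpow_natCast, pow_orderOf_eq_one, one_zpow]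
  have hcard : (Finset.univ.filter fun y : α => y ∈ Subgroup.zpowers a).card = orderOf a := by
    rw [← Nat.card_zpowers, Nat.card_eq_fintype_card, Fintype.card_subtype]
  have heq := Finset.eq_of_subset_of_card_le hsub (by rw [hcard]; exact hle)
  have hb : b ∈ Finset.univ.filter fun y : α => y ^ orderOf a = 1 := by
    simp only [Finset.mem_filter, Finset.mem_univ, true_and]
    rw [← h, pow_orderOf_eq_one]
  rw [← heq] at hb
  simpa using hb

/-- The TI property of a self-normalising cyclic subgroup `W = W₁ ⊔ W₂`: an element of `W`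
outside `W₁ ∪ W₂` is conjugated into `W` only by elements of `W`. -/
theorem selfNormCyclic_TI {G : Type*} [Group G] [Finite G] (W₁ W₂ : Subgroup G)
    (hW : Cfsg.IsSelfNormalizingCyclic W₁ W₂) (w g : G) (hw : w ∈ W₁ ⊔ W₂) (hw₁ : w ∉ W₁)
    (hw₂ : w ∉ W₂) (hg : g * w * g⁻¹ ∈ W₁ ⊔ W₂) : g ∈ W₁ ⊔ W₂ := by
  obtain ⟨-, -, -, -, hcyc, hN⟩ := hW
  have hzW : Subgroup.zpowers w ≤ W₁ ⊔ W₂ := (Subgroup.zpowers_le).mpr hw
  have hgen : ∀ y : G, y ∈ Subgroup.zpowers w → orderOf y = orderOf w →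
      w ∈ Subgroup.zpowers y := by
    intro y hy ho
    have hle : Subgroup.zpowers y ≤ Subgroup.zpowers w := (Subgroup.zpowers_le).mpr hy
    have heq : Subgroup.zpowers y = Subgroup.zpowers w :=
      Subgroup.eq_of_le_of_card_ge hle (by rw [Nat.card_zpowers, Nat.card_zpowers, ho])
    rw [heq]; exact Subgroup.mem_zpowers w
  have hXsub : {y : G | y ∈ Subgroup.zpowers w ∧ orderOf y = orderOf w} ⊆
      (↑(W₁ ⊔ W₂) : Set G) \ (↑W₁ ∪ ↑W₂) := by
    intro y hy
    refine ⟨hzW hy.1, ?_⟩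
    rintro (h1 | h2)
    · exact hw₁ ((Subgroup.zpowers_le).mpr h1 (hgen y hy.1 hy.2))
    · exact hw₂ ((Subgroup.zpowers_le).mpr h2 (hgen y hy.1 hy.2))
  have hXne : {y : G | y ∈ Subgroup.zpowers w ∧ orderOf y = orderOf w}.Nonempty :=
    ⟨w, Subgroup.mem_zpowers w, rfl⟩
  have hNX := hN _ hXsub hXne
  have hoconj : ∀ y : G, orderOf (g * y * g⁻¹) = orderOf y := by
    intro y
    rw [← MulAut.conj_apply]; exact MulEquiv.orderOf_eq _ _
  have hmem' : g * w * g⁻¹ ∈ Subgroup.zpowers w := by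
    have h1 := mem_zpowers_of_orderOf_eq (α := ↥(W₁ ⊔ W₂)) ⟨w, hw⟩ ⟨g * w * g⁻¹, hg⟩
      (by rw [← Subgroup.orderOf_coe, ← Subgroup.orderOf_coe]; exact hoconj w)
    obtain ⟨k, hk⟩ := Subgroup.mem_zpowers_iff.mp h1
    exact Subgroup.mem_zpowers_iff.mpr ⟨k, by have := congrArg Subtype.val hk; simpa using this⟩
  have heqz : Subgroup.zpowers (g * w * g⁻¹) = Subgroup.zpowers w :=
    Subgroup.eq_of_le_of_card_ge ((Subgroup.zpowers_le).mpr hmem')
      (by rw [Nat.card_zpowers, Nat.card_zpowers, hoconj w])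
  have hgN : g ∈ Subgroup.normalizer {y : G | y ∈ Subgroup.zpowers w ∧ orderOf y = orderOf w} := by
    rw [Subgroup.mem_set_normalizer_iff]
    intro y
    constructor
    · rintro ⟨hy, hoy⟩
      refine ⟨?_, by rw [hoconj y]; exact hoy⟩
      obtain ⟨k, rfl⟩ := Subgroup.mem_zpowers_iff.mp hy
      rw [← heqz]
      exact Subgroup.mem_zpowers_iff.mpr ⟨k, by rw [conj_zpow]⟩
    · rintro ⟨hy, hoy⟩
      refine ⟨?_, by rw [← hoconj y]; exact hoy⟩
      rw [← heqz] at hy
      obtain ⟨k, hk⟩ := Subgroup.mem_zpowers_iff.mp hy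
      rw [conj_zpow] at hk
      have hk' : w ^ k = y := by
        have := congrArg (fun z => g⁻¹ * z * g) hk
        simpa [mul_assoc] using this
      exact Subgroup.mem_zpowers_iff.mpr ⟨k, hk'⟩
  rw [hNX] at hgN
  exact hgN

/-- Induction from a self-normalising cyclic subgroup `W = W₁ ⊔ W₂` does not change the values on
`W \ (W₁ ∪ W₂)` of a function on `W`. -/
theorem indFun_apply_of_selfNormCyclic {G : Type*} [Group G] [Fintype G] (W₁ W₂ : Subgroup G)
    (hW : Cfsg.IsSelfNormalizingCyclic W₁ W₂) (α : ↥(W₁ ⊔ W₂) → ℂ)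
    (w : ↥(W₁ ⊔ W₂)) (hw₁ : (w : G) ∉ W₁) (hw₂ : (w : G) ∉ W₂) :
    Cfsg.indFun (W₁ ⊔ W₂) α (w : G) = α w := by
  classical
  have hcyc := hW.2.2.2.2.1
  have key : ∀ x : G, Cfsg.extendByZero (W₁ ⊔ W₂) α (x⁻¹ * (w : G) * x) =
      if x ∈ W₁ ⊔ W₂ then α w else 0 := by
    intro x
    by_cases hx : x ∈ W₁ ⊔ W₂
    · rw [if_pos hx]
      have hcomm := comm_of_isCyclic_sup W₁ W₂ hcyc (w : G) x w.2 hx
      have e : x⁻¹ * (w : G) * x = (w : G) := by
        rw [mul_assoc, hcomm, ← mul_assoc, inv_mul_cancel, one_mul]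
      rw [e, extendByZero_apply_coe]
    · rw [if_neg hx]
      by_cases hc : x⁻¹ * (w : G) * x ∈ W₁ ⊔ W₂
      · exfalso
        apply hx
        have h1 : x⁻¹ * (w : G) * x⁻¹⁻¹ ∈ W₁ ⊔ W₂ := by rw [inv_inv]; exact hc
        have := selfNormCyclic_TI W₁ W₂ hW (w : G) x⁻¹ w.2 hw₁ hw₂ h1
        simpa using inv_mem this
      · exact extendByZero_apply_not_mem _ _ _ hc
  unfold Cfsg.indFun
  have hcard : ((Finset.univ.filter fun x : G => x ∈ W₁ ⊔ W₂).card : ℂ) =
      (Nat.card ↥(W₁ ⊔ W₂) : ℂ) := by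
    congr 1
    rw [Nat.card_eq_fintype_card, Fintype.card_subtype]
  have hne : (Nat.card ↥(W₁ ⊔ W₂) : ℂ) ≠ 0 := by
    exact_mod_cast Nat.card_pos.ne'
  rw [Finset.sum_congr rfl (fun x _ => key x), ← Finset.sum_filter, Finset.sum_const,
    nsmul_eq_mul, hcard]
  field_simp

/-- The conjugate of a value of a linear character of a finite group is the value of the inverse
character. -/
theorem conj_units_hom {A : Type*} [Group A] [Finite A] (l : A →* ℂˣ) (a : A) :
    conj ((l a : ℂˣ) : ℂ) = (((l a)⁻¹ : ℂˣ) : ℂ) := by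
  have hpow : ((l a : ℂˣ) : ℂ) ^ Nat.card A = 1 := by
    rw [← Units.val_pow_eq_pow_val, ← map_pow, pow_card_eq_one', map_one, Units.val_one]
  have hnorm : ‖((l a : ℂˣ) : ℂ)‖ = 1 :=
    Complex.norm_eq_one_of_pow_eq_one hpow Nat.card_pos.ne'
  rw [Units.val_inv_eq_inv_val, Complex.inv_eq_conj hnorm]

/-- Orthogonality of the linear characters of a finite group. -/
theorem sum_units_hom_mul_conj {A : Type*} [Group A] [Fintype A] (l m : A →* ℂˣ)
    [Decidable (l = m)] :
    ∑ a : A, ((l a : ℂˣ) : ℂ) * conj ((m a : ℂˣ) : ℂ) =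
      if l = m then (Nat.card A : ℂ) else 0 := by
  classical
  have h : ∀ a : A, ((l a : ℂˣ) : ℂ) * conj ((m a : ℂˣ) : ℂ) =
      ((Units.coeHom ℂ).comp (l * m⁻¹)) a := by
    intro a
    rw [conj_units_hom]
    simp
  rw [Finset.sum_congr rfl (fun a _ => h a), sum_hom_units]
  by_cases hlm : l = m
  · rw [if_pos hlm, if_pos, Nat.card_eq_fintype_card]
    subst hlm
    ext a
    simp
  · rw [if_neg hlm, if_neg]
    · simp
    · intro hcon
      apply hlm
      ext a
      have h1 := DFunLike.congr_fun hcon a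
      simp only [MonoidHom.coe_comp, Function.comp_apply, MonoidHom.mul_apply, MonoidHom.inv_apply,
        Units.coeHom_apply, MonoidHom.one_apply] at h1
      have h2 : l a * (m a)⁻¹ = 1 := Units.ext h1
      rw [mul_inv_eq_one.mp h2]

/-- Sum of the values of a linear character of a finite group. -/
theorem sum_units_hom {A : Type*} [Group A] [Fintype A] (l : A →* ℂˣ) [Decidable (l = 1)] :
    ∑ a : A, ((l a : ℂˣ) : ℂ) = if l = 1 then (Nat.card A : ℂ) else 0 := by
  have h := sum_units_hom_mul_conj l 1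
  simp only [MonoidHom.one_apply, Units.val_one, map_one, mul_one] at h
  exact h

theorem finite_monoidHom_units_of_comm {G : Type*} [Group G] [Finite G] (K : Subgroup G)
    (hab : ∀ a ∈ K, ∀ b ∈ K, a * b = b * a) : Finite (K →* ℂˣ) := by
  apply Nat.finite_of_card_ne_zero
  rw [card_monoidHom_units_of_comm K hab]
  exact Nat.card_pos.ne'

/-- Second orthogonality for the linear characters of a finite abelian group: the sum over all
linear characters of their values at `g` is the order of the group if `g = 1`, else `0`. -/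
theorem sum_monoidHom_units_apply {G : Type*} [Group G] [Finite G] (K : Subgroup G)
    (hab : ∀ a ∈ K, ∀ b ∈ K, a * b = b * a) [Fintype (K →* ℂˣ)] (g : K) [Decidable (g = 1)] :
    ∑ l : K →* ℂˣ, ((l g : ℂˣ) : ℂ) = if g = 1 then (Nat.card K : ℂ) else 0 := by
  by_cases hg : g = 1
  · rw [if_pos hg, hg]
    simp only [map_one, Units.val_one, Finset.sum_const, Finset.card_univ, nsmul_eq_mul, mul_one]
    rw [← Nat.card_eq_fintype_card, card_monoidHom_units_of_comm K hab]
  · rw [if_neg hg]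
    letI : CommGroup K := { (inferInstance : Group K) with
      mul_comm := fun a b => Subtype.ext (hab a a.2 b b.2) }
    have : NeZero (Monoid.exponent K) := ⟨Monoid.exponent_ne_zero_of_finite⟩
    obtain ⟨l₀, hl₀⟩ := CommGroup.exists_apply_ne_one_of_hasEnoughRootsOfUnity K ℂ hg
    have e : ∑ l : K →* ℂˣ, ((l g : ℂˣ) : ℂ) =
        ((l₀ g : ℂˣ) : ℂ) * ∑ l : K →* ℂˣ, ((l g : ℂˣ) : ℂ) := by
      rw [Finset.mul_sum]
      exact (Fintype.sum_equiv (Equiv.mulLeft l₀) _ _ (fun l => by simp)).symm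
    have h0 : (1 - ((l₀ g : ℂˣ) : ℂ)) * ∑ l : K →* ℂˣ, ((l g : ℂˣ) : ℂ) = 0 := by
      linear_combination e
    rcases mul_eq_zero.mp h0 with h1 | h1
    · exfalso
      apply hl₀
      apply Units.ext
      rw [Units.val_one]
      linear_combination -h1
    · exact h1

end Cfsg.Agent.Lib.helper32
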