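import Mathlib
import Cfsg.Agent.Lib.helper32.CyclicTI2
import Cfsg.Agent.Lib.helper32.CyclicTI3
import Cfsg.Agent.Lib.helper32.CyclicTIGalois
import Cfsg.Agent.Lib.helper32.DadeExp
import Cfsg.Agent.Lib.helper4.Exceptional
import Cfsg.Agent.Lib.helper19.LinChar

set_option autoImplicit false

/-!
# Peterfalvi (4.3): the characters `μ ω` of `L = K ⋊ W₁` (helper32 library)

* `abstract_exceptional`: the exceptional-character sign lemma in abstract form.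
* `indFun_apply_of_TI_elt`, `classInner_indFun_of_TI`: induction from an abelian subgroup whose
  relevant elements are conjugated into it only by its own elements.
* `fourier_hom`: Fourier inversion on a finite abelian group.
* `cyclicHall_mu` (= statement S1511).
-/

namespace Cfsg.Agent.Lib.helper32

open Classical
open scoped ComplexConjugate

section Abstract

/-- Exceptional characters, abstract form: generalized characters `Φ j` vanishing at `1` with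
`⟨Φ j, Φ k⟩ = 1 + δ_{jk}` for `j, k ≠ i0` are `ε (θ i0 - θ j)` for a sign `ε` and distinct
irreducible characters `θ j`. -/
theorem abstract_exceptional {G : Type*} [Group G] [Fintype G] {ι : Type*} [DecidableEq ι]
    (i0 i1 : ι)
    (h01 : i1 ≠ i0) (Φ : ι → G → ℂ) (hgen : ∀ j, Cfsg.IsGeneralizedCharacter G (Φ j))
    (hone : ∀ j, Φ j 1 = 0)
    (hinner' : ∀ j k, j ≠ i0 → k ≠ i0 →
      Cfsg.classInner (Φ j) (Φ k) = 1 + if j = k then 1 else 0) :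
    ∃ ε : ℂ, (ε = 1 ∨ ε = -1) ∧ ∃ θ : ι → (G → ℂ), (∀ i, Cfsg.IsIrrCharacter G (θ i)) ∧
      Function.Injective θ ∧ ∀ j, j ≠ i0 → Φ j = ε • (θ i0 - θ j) := by
  have hdecomp : ∀ j, ∃ α β : G → ℂ, j ≠ i0 →
      (Cfsg.IsIrrCharacter G α ∧ Cfsg.IsIrrCharacter G β ∧ α ≠ β ∧ Φ j = α - β) := by
    intro j
    by_cases hj : j = i0
    · exact ⟨0, 0, fun h => absurd hj h⟩
    · have h2 : Cfsg.classInner (Φ j) (Φ j) = 2 := by
        rw [hinner' j j hj hj, if_pos rfl]; norm_num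
      obtain ⟨α, β, h⟩ :=
        Cfsg.Agent.Lib.helper4.exists_irr_sub_irr_of_norm_two (hgen j) h2 (hone j)
      exact ⟨α, β, fun _ => h⟩
  choose a b hab using hdecomp
  have ha : ∀ j, j ≠ i0 → Cfsg.IsIrrCharacter G (a j) := fun j hj => (hab j hj).1
  have hb : ∀ j, j ≠ i0 → Cfsg.IsIrrCharacter G (b j) := fun j hj => (hab j hj).2.1
  have hne : ∀ j, j ≠ i0 → a j ≠ b j := fun j hj => (hab j hj).2.2.1
  have hΦab : ∀ j, j ≠ i0 → Φ j = a j - b j := fun j hj => (hab j hj).2.2.2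
  have hip : ∀ j k, j ≠ i0 → k ≠ i0 → j ≠ k →
      ((if a j = a k then (1 : ℂ) else 0) - (if a j = b k then 1 else 0) -
        (if b j = a k then 1 else 0) + (if b j = b k then 1 else 0)) = 1 := by
    intro j k hj hk hjk
    rw [← Cfsg.Agent.Lib.helper4.classInner_irr_sub_irr (ha j hj) (hb j hj) (ha k hk) (hb k hk),
      ← hΦab j hj, ← hΦab k hk, hinner' j k hj hk, if_neg hjk, add_zero]
  have P1 : ∀ j k, j ≠ i0 → k ≠ i0 → j ≠ k → a j = a k ∨ b j = b k := by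
    intro j k hj hk hjk
    by_contra hcon
    push Not at hcon
    have h := hip j k hj hk hjk
    rw [if_neg hcon.1, if_neg hcon.2] at h
    split_ifs at h <;> norm_num at h
  have P2 : ∀ j k, j ≠ i0 → k ≠ i0 → j ≠ k → ¬ (a j = a k ∧ b j = b k) := by
    rintro j k hj hk hjk ⟨h1, h2⟩
    have h := hip j k hj hk hjk
    rw [if_pos h1, if_pos h2, if_neg (fun h => hne k hk (h1.symm.trans h)),
      if_neg (fun h => hne k hk (h.symm.trans h2))] at h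
    norm_num at h
  have hdich : (∀ j, j ≠ i0 → a j = a i1) ∨ (∀ j, j ≠ i0 → b j = b i1) := by
    by_contra hcon
    push Not at hcon
    obtain ⟨⟨j, hj0, hja⟩, ⟨k, hk0, hkb⟩⟩ := hcon
    have hj1 : j ≠ i1 := fun h => hja (by rw [h])
    have hk1 : k ≠ i1 := fun h => hkb (by rw [h])
    have hbj : b i1 = b j := (P1 i1 j h01 hj0 (Ne.symm hj1)).resolve_left (fun h => hja h.symm)
    have hak : a i1 = a k := (P1 i1 k h01 hk0 (Ne.symm hk1)).resolve_right (fun h => hkb h.symm)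
    have hjk : j ≠ k := fun h => hja (by rw [h, hak])
    rcases P1 j k hj0 hk0 hjk with h | h
    · exact hja (h.trans hak.symm)
    · exact hkb (h.symm.trans hbj.symm)
  rcases hdich with hA | hB
  · obtain ⟨θ, hθ⟩ : ∃ θ : ι → G → ℂ, θ = fun j => if j = i0 then a i1 else b j := ⟨_, rfl⟩
    have hθ0 : θ i0 = a i1 := by rw [hθ]; exact if_pos rfl
    have hθj : ∀ j, j ≠ i0 → θ j = b j := fun j hj => by rw [hθ]; exact if_neg hj
    refine ⟨1, Or.inl rfl, θ, ?_, ?_, ?_⟩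
    · intro j
      by_cases hj : j = i0
      · rw [hj, hθ0]; exact ha i1 h01
      · rw [hθj j hj]; exact hb j hj
    · intro j k hjk
      by_contra hne'
      by_cases hj : j = i0 <;> by_cases hk : k = i0
      · exact hne' (hj.trans hk.symm)
      · rw [hj, hθ0, hθj k hk] at hjk
        exact hne k hk ((hA k hk).trans hjk)
      · rw [hk, hθ0, hθj j hj] at hjk
        exact hne j hj ((hA j hj).trans hjk.symm)
      · rw [hθj j hj, hθj k hk] at hjk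
        exact P2 j k hj hk hne' ⟨(hA j hj).trans (hA k hk).symm, hjk⟩
    · intro j hj
      rw [one_smul, hθ0, hθj j hj, hΦab j hj, hA j hj]
  · obtain ⟨θ, hθ⟩ : ∃ θ : ι → G → ℂ, θ = fun j => if j = i0 then b i1 else a j := ⟨_, rfl⟩
    have hθ0 : θ i0 = b i1 := by rw [hθ]; exact if_pos rfl
    have hθj : ∀ j, j ≠ i0 → θ j = a j := fun j hj => by rw [hθ]; exact if_neg hj
    refine ⟨-1, Or.inr rfl, θ, ?_, ?_, ?_⟩
    · intro j
      by_cases hj : j = i0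
      · rw [hj, hθ0]; exact hb i1 h01
      · rw [hθj j hj]; exact ha j hj
    · intro j k hjk
      by_contra hne'
      by_cases hj : j = i0 <;> by_cases hk : k = i0
      · exact hne' (hj.trans hk.symm)
      · rw [hj, hθ0, hθj k hk] at hjk
        exact hne k hk (hjk.symm.trans (hB k hk).symm)
      · rw [hk, hθ0, hθj j hj] at hjk
        exact hne j hj (hjk.trans (hB j hj).symm)
      · rw [hθj j hj, hθj k hk] at hjk
        exact P2 j k hj hk hne' ⟨hjk, (hB j hj).trans (hB k hk).symm⟩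
    · intro j hj
      rw [hθ0, hθj j hj, hΦab j hj, hB j hj, neg_smul, one_smul, neg_sub]

end Abstract

section TIInd

variable {G : Type*} [Group G] [Fintype G]

/-- Induction does not change the value at an element of `H` that commutes with `H` and is
conjugated into `H` only by elements of `H`. -/
theorem indFun_apply_of_TI_elt (H : Subgroup G) (α : H → ℂ)
    (w : H) (hcomm : ∀ x ∈ H, x⁻¹ * (w : G) * x = w)
    (hTI : ∀ x : G, x⁻¹ * (w : G) * x ∈ H → x ∈ H) :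
    Cfsg.indFun H α (w : G) = α w := by
  have key : ∀ x : G, Cfsg.extendByZero H α (x⁻¹ * (w : G) * x) =
      if x ∈ H then α w else 0 := by
    intro x
    by_cases hx : x ∈ H
    · rw [if_pos hx, hcomm x hx, extendByZero_apply_coe]
    · rw [if_neg hx]
      exact extendByZero_apply_not_mem _ _ _ (fun hc => hx (hTI x hc))
  unfold Cfsg.indFun
  have hcard : ((Finset.univ.filter fun x : G => x ∈ H).card : ℂ) = (Nat.card H : ℂ) := by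
    congr 1
    rw [Nat.card_eq_fintype_card, Fintype.card_subtype]
  have hne : (Nat.card H : ℂ) ≠ 0 := by exact_mod_cast Nat.card_pos.ne'
  rw [Finset.sum_congr rfl (fun x _ => key x), ← Finset.sum_filter, Finset.sum_const,
    nsmul_eq_mul, hcard]
  field_simp

/-- Frobenius reciprocity with the induced function on the right. -/
theorem classInner_indFun_right' (H : Subgroup G) (χ : G → ℂ)
    (hχ : Cfsg.IsClassFunction G χ) (α : H → ℂ) :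
    Cfsg.classInner χ (Cfsg.indFun H α) = Cfsg.classInner (fun h : H => χ h) α := by
  rw [← Cfsg.Agent.Lib.helper4.classInner_conj_symm,
    Cfsg.Agent.Lib.helper4.frobenius_reciprocity H α hχ,
    Cfsg.Agent.Lib.helper4.classInner_conj_symm]

/-- Induction from an abelian subgroup is an isometry on functions supported on elements
conjugated into `H` only by `H`. -/
theorem classInner_indFun_of_TI (H : Subgroup G) (α β : H → ℂ)
    (hab : ∀ a ∈ H, ∀ b ∈ H, a * b = b * a)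
    (hTI : ∀ w : H, α w ≠ 0 → ∀ x : G, x⁻¹ * (w : G) * x ∈ H → x ∈ H) :
    Cfsg.classInner (Cfsg.indFun H α) (Cfsg.indFun H β) = Cfsg.classInner α β := by
  rw [Cfsg.Agent.Lib.helper4.frobenius_reciprocity H α (isClassFunction_indFun H β)]
  unfold Cfsg.classInner
  congr 1
  apply Finset.sum_congr rfl
  intro w _
  by_cases hw : α w = 0
  · rw [hw, zero_mul, zero_mul]
  · have h := indFun_apply_of_TI_elt H β w (fun x hx => by
      rw [mul_assoc, hab w w.2 x hx, ← mul_assoc, inv_mul_cancel, one_mul]) (hTI w hw)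
    show α w * conj (Cfsg.indFun H β (w : G)) = α w * conj (β w)
    rw [h]

end TIInd

section Hom

/-- Orthonormality of the linear characters of a finite group. -/
theorem classInner_hom {A : Type*} [Group A] [Fintype A] (l m : A →* ℂˣ) :
    Cfsg.classInner (fun a => ((l a : ℂˣ) : ℂ)) (fun a => ((m a : ℂˣ) : ℂ)) =
      if l = m then 1 else 0 := by
  unfold Cfsg.classInner
  rw [sum_units_hom_mul_conj]
  have hne : (Nat.card A : ℂ) ≠ 0 := by exact_mod_cast Nat.card_pos.ne'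
  by_cases h : l = m
  · rw [if_pos h, if_pos h]; field_simp
  · rw [if_neg h, if_neg h, mul_zero]

/-- Fourier inversion on a finite abelian group. -/
theorem fourier_hom {G : Type*} [Group G] [Fintype G] (K : Subgroup G)
    (hab : ∀ a ∈ K, ∀ b ∈ K, a * b = b * a) [Fintype (K →* ℂˣ)] (f : K → ℂ) (w : K) :
    f w = ∑ l : K →* ℂˣ, Cfsg.classInner f (fun a => ((l a : ℂˣ) : ℂ)) * ((l w : ℂˣ) : ℂ) := by
  have hne : (Nat.card K : ℂ) ≠ 0 := by exact_mod_cast Nat.card_pos.ne'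
  unfold Cfsg.classInner
  have h1 : ∀ l : K →* ℂˣ,
      (Nat.card K : ℂ)⁻¹ * (∑ v : K, f v * conj ((l v : ℂˣ) : ℂ)) * ((l w : ℂˣ) : ℂ) =
      (Nat.card K : ℂ)⁻¹ * ∑ v : K, f v * ((l (v⁻¹ * w) : ℂˣ) : ℂ) := by
    intro l
    rw [mul_assoc, Finset.sum_mul]
    congr 1
    apply Finset.sum_congr rfl
    intro v _
    rw [conj_units_hom, map_mul, map_inv, Units.val_mul]
    ring
  rw [Finset.sum_congr rfl (fun l _ => h1 l), ← Finset.mul_sum, Finset.sum_comm]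
  have h2 : ∀ v : K, ∑ l : K →* ℂˣ, f v * ((l (v⁻¹ * w) : ℂˣ) : ℂ) =
      if v = w then f v * (Nat.card K : ℂ) else 0 := by
    intro v
    rw [← Finset.mul_sum, sum_monoidHom_units_apply K hab (v⁻¹ * w)]
    by_cases hv : v = w
    · rw [if_pos hv, if_pos (by rw [hv, inv_mul_cancel])]
    · rw [if_neg hv, if_neg (fun h => hv (by rw [inv_mul_eq_one] at h; exact h)), mul_zero]
  rw [Finset.sum_congr rfl (fun v _ => h2 v), Finset.sum_ite_eq', if_pos (Finset.mem_univ w)]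
  field_simp

end Hom

section CyclicHall

variable {L : Type*} [Group L] [Fintype L] (K W₁ W₂ : Subgroup L) [hK : K.Normal]

omit [Fintype L] hK in
theorem cyclicHall_comm
    (hC : ∀ x ∈ W₁, x ≠ 1 → K ⊓ Subgroup.centralizer ({x} : Set L) = W₂) :
    ∀ a ∈ W₁, ∀ b ∈ W₂, a * b = b * a := by
  intro a ha b hb
  by_cases h : a = 1
  · rw [h, one_mul, mul_one]
  · rw [← hC a ha h] at hb
    exact (Subgroup.mem_centralizer_singleton_iff.mp hb.2).symm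

omit [Fintype L] hK in
theorem cyclicHall_disj (hKW₁ : K ⊓ W₁ = ⊥) (hW₂K : W₂ ≤ K) : W₁ ⊓ W₂ = ⊥ := by
  apply le_bot_iff.mp
  rw [← hKW₁]
  exact le_inf (inf_le_right.trans hW₂K) inf_le_left

omit [Fintype L] in
theorem cyclicHall_abelian (hW₁c : IsCyclic W₁) (hW₂c : IsCyclic W₂)
    (hcomm : ∀ a ∈ W₁, ∀ b ∈ W₂, a * b = b * a) :
    ∀ x ∈ W₁ ⊔ W₂, ∀ y ∈ W₁ ⊔ W₂, x * y = y * x := by
  intro x hx y hy
  obtain ⟨a, ha, b, hb, rfl⟩ := (mem_sup_iff_exists_mul_of_comm W₁ W₂ hcomm x).mp hx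
  obtain ⟨a', ha', b', hb', rfl⟩ := (mem_sup_iff_exists_mul_of_comm W₁ W₂ hcomm y).mp hy
  have h1 : a * a' = a' * a := congrArg Subtype.val
    ((IsCyclic.isMulCommutative (α := ↥W₁)).is_comm.comm ⟨a, ha⟩ ⟨a', ha'⟩)
  have h2 : b * b' = b' * b := congrArg Subtype.val
    ((IsCyclic.isMulCommutative (α := ↥W₂)).is_comm.comm ⟨b, hb⟩ ⟨b', hb'⟩)
  have h3 := hcomm a ha b' hb'
  have h4 := hcomm a' ha' b hb
  calc a * b * (a' * b') = a * (b * a') * b' := by group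
    _ = a * (a' * b) * b' := by rw [h4]
    _ = (a * a') * (b * b') := by group
    _ = (a' * a) * (b' * b) := by rw [h1, h2]
    _ = a' * (a * b') * b := by group
    _ = a' * (b' * a) * b := by rw [h3]
    _ = a' * b' * (a * b) := by group

omit [Fintype L] hK in
theorem cyclicHall_mem_K_iff (hKW₁ : K ⊓ W₁ = ⊥) (hW₂K : W₂ ≤ K)
    (hcomm : ∀ a ∈ W₁, ∀ b ∈ W₂, a * b = b * a) (w : L) (hw : w ∈ W₁ ⊔ W₂) :
    w ∈ K ↔ w ∈ W₂ := by
  constructor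
  · intro hwK
    obtain ⟨a, ha, b, hb, rfl⟩ := (mem_sup_iff_exists_mul_of_comm W₁ W₂ hcomm w).mp hw
    have haK : a ∈ K := by
      have := K.mul_mem hwK (K.inv_mem (hW₂K hb))
      simpa using this
    have ha1 : a = 1 := by
      have : a ∈ K ⊓ W₁ := ⟨haK, ha⟩
      rw [hKW₁] at this
      exact Subgroup.mem_bot.mp this
    rw [ha1, one_mul]
    exact hb
  · exact fun h => hW₂K h

/-- The elements of `W = W₁ ⊔ W₂` outside `K` are conjugated into `W` only by `W`. -/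
theorem cyclicHall_TI (hKW₁ : K ⊓ W₁ = ⊥) (hKW₁' : K ⊔ W₁ = ⊤) (hW₁c : IsCyclic W₁)
    (hcop : Nat.Coprime (Nat.card W₁) (Nat.card K)) (hW₂K : W₂ ≤ K)
    (hC : ∀ x ∈ W₁, x ≠ 1 → K ⊓ Subgroup.centralizer ({x} : Set L) = W₂)
    (w g : L) (hw : w ∈ W₁ ⊔ W₂) (hwK : w ∉ K) (hg : g⁻¹ * w * g ∈ W₁ ⊔ W₂) :
    g ∈ W₁ ⊔ W₂ := by
  have hcomm := cyclicHall_comm K W₁ W₂ hC
  obtain ⟨a, ha, b, hb, rfl⟩ := (mem_sup_iff_exists_mul_of_comm W₁ W₂ hcomm w).mp hw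
  obtain ⟨a', ha', b', hb', hg'⟩ := (mem_sup_iff_exists_mul_of_comm W₁ W₂ hcomm _).mp hg
  have ha1 : a ≠ 1 := by
    intro h
    apply hwK
    rw [h, one_mul]
    exact hW₂K hb
  obtain ⟨n, hn1, hn2⟩ := exists_crt_exponent (Nat.card W₁) (Nat.card K) hcop
  have hpowW₁ : ∀ u ∈ W₁, u ^ n = u := by
    intro u hu
    have h1 : n ≡ 1 [MOD orderOf u] := hn1.of_dvd (Subgroup.orderOf_dvd_natCard W₁ hu)
    have := (pow_eq_pow_iff_modEq (x := u) (n := n) (m := 1)).mpr h1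
    simpa using this
  have hpowK : ∀ k ∈ K, k ^ n = 1 := by
    intro k hk
    obtain ⟨t, rfl⟩ := hn2
    rw [pow_mul, pow_card_subgroup_eq_one K k hk, one_pow]
  have e1 : (a * b) ^ n = a := by
    rw [(show Commute a b from hcomm a ha b hb).mul_pow, hpowW₁ a ha, hpowK b (hW₂K hb), mul_one]
  have e2 : (a' * b') ^ n = a' := by
    rw [(show Commute a' b' from hcomm a' ha' b' hb').mul_pow, hpowW₁ a' ha',
      hpowK b' (hW₂K hb'), mul_one]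
  have e3 : g⁻¹ * a * g = a' := by
    have h1 : (g⁻¹ * (a * b) * g) ^ n = g⁻¹ * (a * b) ^ n * g := by
      have := conj_pow (a := g⁻¹) (b := a * b) (i := n)
      simpa using this
    rw [← hg', e2, e1] at h1
    exact h1.symm
  have hgL : g ∈ W₁ ⊔ K := by rw [sup_comm, hKW₁']; trivial
  obtain ⟨u, hu, k, hk, rfl⟩ := Subgroup.mem_sup_of_normal_right.mp hgL
  have hua : u⁻¹ * a * u = a := by
    have h1 : a * u = u * a := congrArg Subtype.val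
      ((IsCyclic.isMulCommutative (α := ↥W₁)).is_comm.comm ⟨a, ha⟩ ⟨u, hu⟩)
    rw [mul_assoc, h1, ← mul_assoc, inv_mul_cancel, one_mul]
  have e4 : k⁻¹ * a * k = a' := by
    rw [← e3]
    calc k⁻¹ * a * k = k⁻¹ * (u⁻¹ * a * u) * k := by rw [hua]
      _ = (u * k)⁻¹ * a * (u * k) := by group
  have e5 : k⁻¹ * a * k * a⁻¹ ∈ K ⊓ W₁ := by
    refine ⟨?_, ?_⟩
    · have h1 : a * k * a⁻¹ ∈ K := hK.conj_mem k hk a
      have := K.mul_mem (K.inv_mem hk) h1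
      simpa [mul_assoc] using this
    · rw [e4]
      exact W₁.mul_mem ha' (W₁.inv_mem ha)
  rw [hKW₁, Subgroup.mem_bot] at e5
  have e6 : k * a = a * k := by
    have h1 : k⁻¹ * a * k = a := by
      have := congrArg (fun z => z * a) e5
      simpa using this
    calc k * a = k * (k⁻¹ * a * k) := by rw [h1]
      _ = a * k := by group
  have hkW₂ : k ∈ W₂ := by
    rw [← hC a ha ha1]
    exact ⟨hk, Subgroup.mem_centralizer_singleton_iff.mpr e6⟩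
  exact Subgroup.mul_mem _ (Subgroup.mem_sup_left hu) (Subgroup.mem_sup_right hkW₂)

end CyclicHall

section Main

variable {L : Type*} [Group L] [Fintype L] (K W₁ W₂ : Subgroup L) [hK : K.Normal]

/-- Peterfalvi (4.3) (statement S1511). -/
theorem cyclicHall_mu (hKW₁ : K ⊓ W₁ = ⊥) (hKW₁' : K ⊔ W₁ = ⊤) (hW₁ : W₁ ≠ ⊥)
    (hW₁c : IsCyclic W₁) (hHall : Nat.Coprime (Nat.card W₁) W₁.index) (hW₂c : IsCyclic W₂)
    (hW₂K : W₂ ≤ K)
    (hC : ∀ x ∈ W₁, x ≠ 1 → K ⊓ Subgroup.centralizer ({x} : Set L) = W₂) :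
    ∃ (μ : (↥(W₁ ⊔ W₂) →* ℂˣ) → (L → ℂ)) (δ : (↥(W₁ ⊔ W₂) →* ℂˣ) → ℂ),
      Function.Injective μ ∧ (∀ ω, Cfsg.IsIrrCharacter L (μ ω)) ∧ (∀ ω, δ ω = 1 ∨ δ ω = -1) ∧
      (∀ ω ω' : ↥(W₁ ⊔ W₂) →* ℂˣ, (∀ w : ↥(W₁ ⊔ W₂), (w : L) ∈ W₂ → ω w = ω' w) →
        δ ω = δ ω' ∧ Cfsg.indFun (W₁ ⊔ W₂) (fun w => (ω w : ℂ) - (ω' w : ℂ)) =
          δ ω • (μ ω - μ ω')) ∧
      (∀ ω, ∀ w : ↥(W₁ ⊔ W₂), (w : L) ∉ W₂ → μ ω w = δ ω * (ω w : ℂ)) ∧
      (∀ θ : L → ℂ, Cfsg.IsIrrCharacter L θ → (∀ ω, θ ≠ μ ω) →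
        ∀ w : ↥(W₁ ⊔ W₂), (w : L) ∉ W₂ → θ w = 0) ∧
      (∀ ω, ∃ n : ℤ, μ ω 1 - δ ω = n * (Nat.card W₁ : ℂ)) := by
  -- basic facts
  have hcomm := cyclicHall_comm K W₁ W₂ hC
  have hdisj := cyclicHall_disj K W₁ W₂ hKW₁ hW₂K
  have habW := cyclicHall_abelian W₁ W₂ hW₁c hW₂c hcomm
  have hab₁ : ∀ a ∈ W₁, ∀ b ∈ W₁, a * b = b * a := fun a ha b hb =>
    habW a (Subgroup.mem_sup_left ha) b (Subgroup.mem_sup_left hb)
  have hcompl : K.IsComplement' W₁ := by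
    apply Subgroup.isComplement'_of_disjoint_and_mul_eq_univ (disjoint_iff.mpr hKW₁)
    rw [← Subgroup.normal_mul, hKW₁']
    rfl
  have hcard : Nat.card K * Nat.card W₁ = Nat.card L := hcompl.card_mul_card
  have hW₁pos : 0 < Nat.card W₁ := Nat.card_pos
  have hidx : W₁.index = Nat.card K := by
    have h := W₁.card_mul_index
    rw [← hcard, mul_comm (Nat.card K)] at h
    exact Nat.eq_of_mul_eq_mul_left hW₁pos h
  have hcopKW : Nat.Coprime (Nat.card W₁) (Nat.card K) := by rw [← hidx]; exact hHall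
  have hTI : ∀ w : ↥(W₁ ⊔ W₂), (w : L) ∉ W₂ →
      ∀ x : L, x⁻¹ * (w : L) * x ∈ W₁ ⊔ W₂ → x ∈ W₁ ⊔ W₂ := by
    intro w hw x hx
    exact cyclicHall_TI K W₁ W₂ hKW₁ hKW₁' hW₁c hcopKW hW₂K hC w x w.2
      (fun h => hw ((cyclicHall_mem_K_iff K W₁ W₂ hKW₁ hW₂K hcomm w w.2).mp h)) hx
  have : Finite (↥(W₁ ⊔ W₂) →* ℂˣ) := finite_monoidHom_units_of_comm (W₁ ⊔ W₂) habW
  have := Fintype.ofFinite (↥(W₁ ⊔ W₂) →* ℂˣ)
  -- the function of a linear character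
  obtain ⟨cf, hcf⟩ : ∃ cf : (↥(W₁ ⊔ W₂) →* ℂˣ) → (↥(W₁ ⊔ W₂) → ℂ),
      cf = fun ω w => ((ω w : ℂˣ) : ℂ) := ⟨_, rfl⟩
  have hcfa : ∀ ω w, cf ω w = ((ω w : ℂˣ) : ℂ) := fun ω w => by rw [hcf]
  have hcfmul : ∀ ω ω' w, cf (ω * ω') w = cf ω w * cf ω' w := by
    intro ω ω' w
    rw [hcfa, hcfa, hcfa, MonoidHom.mul_apply, Units.val_mul]
  have hcfchar : ∀ ω, Cfsg.IsCharacter ↥(W₁ ⊔ W₂) (cf ω) := by
    intro ω
    rw [hcf]
    exact Cfsg.Agent.Lib.helper19.isCharacter_of_hom ω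
  have hcfinner : ∀ ω ω', Cfsg.classInner (cf ω) (cf ω') = if ω = ω' then 1 else 0 := by
    intro ω ω'
    rw [hcf]
    exact classInner_hom ω ω'
  -- isometry for differences
  have hiso : ∀ ω₁ ω₂ ω₃ ω₄ : ↥(W₁ ⊔ W₂) →* ℂˣ,
      (∀ w : ↥(W₁ ⊔ W₂), (w : L) ∈ W₂ → ω₁ w = ω₂ w) →
      Cfsg.classInner (Cfsg.indFun (W₁ ⊔ W₂) (cf ω₁ - cf ω₂))
        (Cfsg.indFun (W₁ ⊔ W₂) (cf ω₃ - cf ω₄)) =
        (if ω₁ = ω₃ then 1 else 0) - (if ω₁ = ω₄ then 1 else 0) - (if ω₂ = ω₃ then 1 else 0) +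
          (if ω₂ = ω₄ then 1 else 0) := by
    intro ω₁ ω₂ ω₃ ω₄ h12
    have hTI' : ∀ w : ↥(W₁ ⊔ W₂), (cf ω₁ - cf ω₂) w ≠ 0 →
        ∀ x : L, x⁻¹ * (w : L) * x ∈ W₁ ⊔ W₂ → x ∈ W₁ ⊔ W₂ := by
      intro w hw x hx
      apply hTI w ?_ x hx
      intro hw2
      apply hw
      rw [Pi.sub_apply, hcfa, hcfa, h12 w hw2, sub_self]
    rw [classInner_indFun_of_TI (W₁ ⊔ W₂) _ _ habW hTI', classInner_sub_left,
      classInner_sub_right, classInner_sub_right, hcfinner, hcfinner, hcfinner, hcfinner]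
    ring
  -- the index type
  have hone₂ : ∀ w : ↥(W₁ ⊔ W₂), (w : L) ∈ W₂ → (1 : ↥(W₁ ⊔ W₂) →* ℂˣ) w = 1 := fun _ _ => rfl
  obtain ⟨i0, hi0⟩ : ∃ i0 : {φ : ↥(W₁ ⊔ W₂) →* ℂˣ // ∀ w : ↥(W₁ ⊔ W₂), (w : L) ∈ W₂ → φ w = 1},
      i0.1 = 1 := ⟨⟨1, hone₂⟩, rfl⟩
  have hΦcard : Nat.card {φ : ↥(W₁ ⊔ W₂) →* ℂˣ // ∀ w : ↥(W₁ ⊔ W₂), (w : L) ∈ W₂ → φ w = 1} =
      Nat.card W₁ := card_charsTrivialOn₂ W₁ W₂ hdisj hcomm hab₁
  obtain ⟨i1, hi1⟩ : ∃ i1 : {φ : ↥(W₁ ⊔ W₂) →* ℂˣ // ∀ w : ↥(W₁ ⊔ W₂), (w : L) ∈ W₂ → φ w = 1},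
      i1 ≠ i0 := by
    have h2 : 1 < Nat.card {φ : ↥(W₁ ⊔ W₂) →* ℂˣ //
        ∀ w : ↥(W₁ ⊔ W₂), (w : L) ∈ W₂ → φ w = 1} := by
      rw [hΦcard]
      have h1 : Nat.card W₁ ≠ 1 := fun h => hW₁ ((Subgroup.eq_bot_iff_card W₁).mpr h)
      omega
    have : Finite {φ : ↥(W₁ ⊔ W₂) →* ℂˣ // ∀ w : ↥(W₁ ⊔ W₂), (w : L) ∈ W₂ → φ w = 1} :=
      Nat.finite_of_card_ne_zero (by omega)
    have : Nontrivial {φ : ↥(W₁ ⊔ W₂) →* ℂˣ // ∀ w : ↥(W₁ ⊔ W₂), (w : L) ∈ W₂ → φ w = 1} :=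
      Finite.one_lt_card_iff_nontrivial.mp h2
    exact exists_ne i0
  have hi11 : i1.1 ≠ 1 := fun h => hi1 (Subtype.ext (h.trans hi0.symm))
  -- the exceptional characters for each family
  have hS : ∀ ψ : ↥(W₁ ⊔ W₂) →* ℂˣ, ∃ ε : ℂ, (ε = 1 ∨ ε = -1) ∧
      ∃ θ : {φ : ↥(W₁ ⊔ W₂) →* ℂˣ // ∀ w : ↥(W₁ ⊔ W₂), (w : L) ∈ W₂ → φ w = 1} → (L → ℂ),
      (∀ i, Cfsg.IsIrrCharacter L (θ i)) ∧
      ∀ j : {φ : ↥(W₁ ⊔ W₂) →* ℂˣ // ∀ w : ↥(W₁ ⊔ W₂), (w : L) ∈ W₂ → φ w = 1},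
        Cfsg.indFun (W₁ ⊔ W₂) (cf ψ - cf (j.1 * ψ)) = ε • (θ i0 - θ j) := by
    intro ψ
    have hgen : ∀ j : {φ : ↥(W₁ ⊔ W₂) →* ℂˣ // ∀ w : ↥(W₁ ⊔ W₂), (w : L) ∈ W₂ → φ w = 1},
        Cfsg.IsGeneralizedCharacter L (Cfsg.indFun (W₁ ⊔ W₂) (cf ψ - cf (j.1 * ψ))) := by
      intro j
      apply Cfsg.Agent.Lib.helper4.isGeneralizedCharacter_indFun
      exact ⟨cf ψ, cf (j.1 * ψ), hcfchar ψ, hcfchar (j.1 * ψ), rfl⟩
    have hone' : ∀ j : {φ : ↥(W₁ ⊔ W₂) →* ℂˣ // ∀ w : ↥(W₁ ⊔ W₂), (w : L) ∈ W₂ → φ w = 1},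
        Cfsg.indFun (W₁ ⊔ W₂) (cf ψ - cf (j.1 * ψ)) 1 = 0 := by
      intro j
      rw [Cfsg.Agent.Lib.helper4.indFun_one, Pi.sub_apply, hcfa, hcfa, map_one, map_one,
        sub_self, mul_zero]
    have hinn : ∀ j k : {φ : ↥(W₁ ⊔ W₂) →* ℂˣ // ∀ w : ↥(W₁ ⊔ W₂), (w : L) ∈ W₂ → φ w = 1},
        j ≠ i0 → k ≠ i0 →
        Cfsg.classInner (Cfsg.indFun (W₁ ⊔ W₂) (cf ψ - cf (j.1 * ψ)))
          (Cfsg.indFun (W₁ ⊔ W₂) (cf ψ - cf (k.1 * ψ))) = 1 + if j = k then 1 else 0 := by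
      intro j k hj hk
      rw [hiso ψ (j.1 * ψ) ψ (k.1 * ψ)
        (fun w hw => by rw [MonoidHom.mul_apply, j.2 w hw, one_mul])]
      have h1 : ψ ≠ k.1 * ψ := fun h =>
        hk (Subtype.ext ((hom_mul_eq_right' _ _ h.symm).trans hi0.symm))
      have h2 : j.1 * ψ ≠ ψ := fun h =>
        hj (Subtype.ext ((hom_mul_eq_right' _ _ h).trans hi0.symm))
      rw [if_pos rfl, if_neg h1, if_neg h2]
      by_cases hjk : j = k
      · rw [if_pos hjk, if_pos (by rw [hjk])]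
        ring
      · rw [if_neg hjk, if_neg (fun h => hjk (Subtype.ext (mul_right_cancel h)))]
        ring
    obtain ⟨ε, hε, θ, hθirr, -, hθ⟩ := abstract_exceptional i0 i1 hi1
      (fun j : {φ : ↥(W₁ ⊔ W₂) →* ℂˣ // ∀ w : ↥(W₁ ⊔ W₂), (w : L) ∈ W₂ → φ w = 1} =>
        Cfsg.indFun (W₁ ⊔ W₂) (cf ψ - cf (j.1 * ψ))) hgen hone' hinn
    refine ⟨ε, hε, θ, hθirr, ?_⟩
    intro j
    by_cases hj : j = i0
    · rw [hj]
      have h0 : cf ψ - cf (i0.1 * ψ) = 0 := by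
        rw [hi0, hom_one_mul', sub_self]
      rw [h0, Cfsg.Agent.Lib.helper4.indFun_zero, sub_self, smul_zero]
    · exact hθ j hj
  choose ε hε θ hθirr hθ using hS
  -- the two parts of a linear character
  obtain ⟨pφ, hpφ⟩ : ∃ pφ : (↥(W₁ ⊔ W₂) →* ℂˣ) →
      {φ : ↥(W₁ ⊔ W₂) →* ℂˣ // ∀ w : ↥(W₁ ⊔ W₂), (w : L) ∈ W₂ → φ w = 1},
      pφ = fun ω => ⟨charPart₁ W₁ W₂ hdisj hcomm ω, charPart₁_of_mem₂ W₁ W₂ hdisj hcomm ω⟩ :=
    ⟨_, rfl⟩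
  obtain ⟨pψ, hpψ⟩ : ∃ pψ : (↥(W₁ ⊔ W₂) →* ℂˣ) → (↥(W₁ ⊔ W₂) →* ℂˣ),
      pψ = fun ω => charPart₂ W₁ W₂ hdisj hcomm ω := ⟨_, rfl⟩
  have hpmul : ∀ ω, (pφ ω).1 * pψ ω = ω := by
    intro ω
    rw [hpφ, hpψ]
    exact charPart_mul W₁ W₂ hdisj hcomm ω
  have hpψ_agree : ∀ ω ω' : ↥(W₁ ⊔ W₂) →* ℂˣ,
      (∀ w : ↥(W₁ ⊔ W₂), (w : L) ∈ W₂ → ω w = ω' w) → pψ ω = pψ ω' := by
    intro ω ω' h
    rw [hpψ]
    apply hom_ext_of_sup
    · intro w hw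
      rw [charPart₂_of_mem₁ W₁ W₂ hdisj hcomm ω w hw, charPart₂_of_mem₁ W₁ W₂ hdisj hcomm ω' w hw]
    · intro w hw
      rw [charPart₂_of_mem₂ W₁ W₂ hdisj hcomm ω w hw, charPart₂_of_mem₂ W₁ W₂ hdisj hcomm ω' w hw,
        h w hw]
  have hpψ_self : ∀ ω, ∀ w : ↥(W₁ ⊔ W₂), (w : L) ∈ W₂ → ω w = pψ ω w := by
    intro ω w hw
    rw [hpψ]
    exact (charPart₂_of_mem₂ W₁ W₂ hdisj hcomm ω w hw).symm
  have hpψ_idem : ∀ ω, pψ (pψ ω) = pψ ω := fun ω =>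
    hpψ_agree (pψ ω) ω (fun w hw => (hpψ_self ω w hw).symm)
  obtain ⟨μ, hμ⟩ : ∃ μ : (↥(W₁ ⊔ W₂) →* ℂˣ) → (L → ℂ), μ = fun ω => θ (pψ ω) (pφ ω) := ⟨_, rfl⟩
  obtain ⟨δ, hδ⟩ : ∃ δ : (↥(W₁ ⊔ W₂) →* ℂˣ) → ℂ, δ = fun ω => ε (pψ ω) := ⟨_, rfl⟩
  have hμirr : ∀ ω, Cfsg.IsIrrCharacter L (μ ω) := fun ω => by rw [hμ]; exact hθirr _ _
  have hδpm : ∀ ω, δ ω = 1 ∨ δ ω = -1 := fun ω => by rw [hδ]; exact hε _
  have hδ_agree : ∀ ω ω' : ↥(W₁ ⊔ W₂) →* ℂˣ,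
      (∀ w : ↥(W₁ ⊔ W₂), (w : L) ∈ W₂ → ω w = ω' w) → δ ω = δ ω' := by
    intro ω ω' h
    rw [hδ]
    show ε (pψ ω) = ε (pψ ω')
    rw [hpψ_agree ω ω' h]
  have hK1 : ∀ ω, Cfsg.indFun (W₁ ⊔ W₂) (cf (pψ ω) - cf ω) = δ ω • (θ (pψ ω) i0 - μ ω) := by
    intro ω
    have h := hθ (pψ ω) (pφ ω)
    rw [hpmul ω] at h
    rw [hδ, hμ]
    exact h
  have h4 : ∀ ω ω' : ↥(W₁ ⊔ W₂) →* ℂˣ, (∀ w : ↥(W₁ ⊔ W₂), (w : L) ∈ W₂ → ω w = ω' w) →
      Cfsg.indFun (W₁ ⊔ W₂) (cf ω - cf ω') = δ ω • (μ ω - μ ω') := by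
    intro ω ω' h
    have hψ := hpψ_agree ω ω' h
    have e : cf ω - cf ω' = (cf (pψ ω) - cf ω') - (cf (pψ ω) - cf ω) := by abel
    have h2 := hK1 ω'
    rw [← hψ, ← hδ_agree ω ω' h] at h2
    rw [e, Cfsg.Agent.Lib.helper4.indFun_sub, hK1 ω, h2, ← smul_sub]
    congr 1
    abel
  have hzero : Cfsg.classInner (0 : L → ℂ) 0 = 0 := by
    unfold Cfsg.classInner
    simp
  have hnorm2 : ∀ ω ω' : ↥(W₁ ⊔ W₂) →* ℂˣ, (∀ w : ↥(W₁ ⊔ W₂), (w : L) ∈ W₂ → ω w = ω' w) →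
      ω ≠ ω' → μ ω ≠ μ ω' := by
    intro ω ω' h hne hμeq
    have h1 := h4 ω ω' h
    rw [hμeq, sub_self, smul_zero] at h1
    have h2 := hiso ω ω' ω ω' h
    rw [h1, hzero, if_pos rfl, if_neg hne, if_neg (Ne.symm hne), if_pos rfl] at h2
    norm_num at h2
  have hconjδ : ∀ ω, conj (δ ω) = δ ω := by
    intro ω
    rcases hδpm ω with h | h <;> rw [h] <;> simp
  have hδne : ∀ ω, δ ω ≠ 0 := by
    intro ω
    rcases hδpm ω with h | h <;> rw [h] <;> norm_num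
  -- injectivity
  have hinj : Function.Injective μ := by
    intro ω ω' hμeq
    by_contra hne
    by_cases hag : ∀ w : ↥(W₁ ⊔ W₂), (w : L) ∈ W₂ → ω w = ω' w
    · exact hnorm2 ω ω' hag hne hμeq
    · have hag1 : ∀ w : ↥(W₁ ⊔ W₂), (w : L) ∈ W₂ → ω w = (i1.1 * ω) w := by
        intro w hw
        rw [MonoidHom.mul_apply, i1.2 w hw, one_mul]
      have hag2 : ∀ w : ↥(W₁ ⊔ W₂), (w : L) ∈ W₂ → ω' w = (i1.1 * ω') w := by
        intro w hw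
        rw [MonoidHom.mul_apply, i1.2 w hw, one_mul]
      have hne1 : ω ≠ i1.1 * ω := fun h => hi11 (hom_mul_eq_right' _ _ h.symm)
      have hne2 : ω' ≠ i1.1 * ω' := fun h => hi11 (hom_mul_eq_right' _ _ h.symm)
      have hX := hiso ω (i1.1 * ω) ω' (i1.1 * ω') hag1
      have c1 : ω ≠ i1.1 * ω' := by
        intro h
        apply hag
        intro w hw
        rw [h, MonoidHom.mul_apply, i1.2 w hw, one_mul]
      have c2 : i1.1 * ω ≠ ω' := by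
        intro h
        apply hag
        intro w hw
        rw [← h, MonoidHom.mul_apply, i1.2 w hw, one_mul]
      have c3 : i1.1 * ω ≠ i1.1 * ω' := fun h => hne (mul_left_cancel h)
      rw [if_neg hne, if_neg c1, if_neg c2, if_neg c3, h4 ω _ hag1, h4 ω' _ hag2,
        Cfsg.Agent.Lib.helper4.classInner_smul_left, Cfsg.Agent.Lib.helper4.classInner_smul_right,
        Cfsg.Agent.Lib.helper4.classInner_irr_sub_irr (hμirr ω) (hμirr _) (hμirr ω') (hμirr _),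
        hconjδ] at hX
      have d1 : μ ω ≠ μ (i1.1 * ω') := by
        rw [hμeq]
        exact hnorm2 ω' _ hag2 hne2
      have d2 : μ (i1.1 * ω) ≠ μ ω' := by
        rw [← hμeq]
        exact fun h => hnorm2 ω _ hag1 hne1 h.symm
      rw [if_pos hμeq, if_neg d1, if_neg d2] at hX
      have hX' : (1 : ℂ) - 0 - 0 + (if μ (i1.1 * ω) = μ (i1.1 * ω') then 1 else 0) = 0 := by
        have h5 : δ ω * (δ ω' * ((1 : ℂ) - 0 - 0 +
            (if μ (i1.1 * ω) = μ (i1.1 * ω') then 1 else 0))) = 0 := by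
          rw [hX]; ring
        rcases mul_eq_zero.mp h5 with h6 | h6
        · exact absurd h6 (hδne ω)
        · rcases mul_eq_zero.mp h6 with h7 | h7
          · exact absurd h7 (hδne ω')
          · exact h7
      split_ifs at hX' <;> norm_num at hX'
  -- reciprocity relation
  have hR : ∀ χ : L → ℂ, Cfsg.IsIrrCharacter L χ → ∀ ω₁ ω₂ : ↥(W₁ ⊔ W₂) →* ℂˣ,
      (∀ w : ↥(W₁ ⊔ W₂), (w : L) ∈ W₂ → ω₁ w = ω₂ w) →
      Cfsg.classInner (fun w : ↥(W₁ ⊔ W₂) => χ w) (cf ω₁) -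
        Cfsg.classInner (fun w : ↥(W₁ ⊔ W₂) => χ w) (cf ω₂) =
        δ ω₁ * ((if χ = μ ω₁ then 1 else 0) - (if χ = μ ω₂ then 1 else 0)) := by
    intro χ hχ ω₁ ω₂ h
    have hχcl := Cfsg.Agent.Lib.helper4.isClassFunction_of_isIrrCharacter hχ
    have h1 := classInner_indFun_right' (W₁ ⊔ W₂) χ hχcl (cf ω₁ - cf ω₂)
    rw [classInner_sub_right, h4 ω₁ ω₂ h, Cfsg.Agent.Lib.helper4.classInner_smul_right,
      classInner_sub_right, Cfsg.Agent.Lib.helper4.classInner_irr hχ (hμirr ω₁),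
      Cfsg.Agent.Lib.helper4.classInner_irr hχ (hμirr ω₂), hconjδ] at h1
    exact h1.symm
  -- the formula for the values on `W`
  obtain ⟨g, hg⟩ : ∃ g : (L → ℂ) → (↥(W₁ ⊔ W₂) →* ℂˣ) → ℂ, g = fun χ ψ =>
      Cfsg.classInner (fun w : ↥(W₁ ⊔ W₂) => χ w) (cf ψ) -
        δ ψ * (if χ = μ ψ then 1 else 0) := ⟨_, rfl⟩
  have hformula : ∀ χ : L → ℂ, Cfsg.IsIrrCharacter L χ → ∀ w : ↥(W₁ ⊔ W₂),
      χ w = ∑ ω : ↥(W₁ ⊔ W₂) →* ℂˣ, (δ ω * (if χ = μ ω then 1 else 0)) * cf ω w +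
        ∑ ω : ↥(W₁ ⊔ W₂) →* ℂˣ, g χ (pψ ω) * cf ω w := by
    intro χ hχ w
    have hF := fourier_hom (W₁ ⊔ W₂) habW (fun w : ↥(W₁ ⊔ W₂) => χ w) w
    rw [← Finset.sum_add_distrib]
    refine hF.trans (Finset.sum_congr rfl ?_)
    intro ω _
    have h1 := hR χ hχ ω (pψ ω) (hpψ_self ω)
    have h2 : δ (pψ ω) = δ ω := (hδ_agree ω (pψ ω) (hpψ_self ω)).symm
    have e : (fun a : ↥(W₁ ⊔ W₂) => ((ω a : ℂˣ) : ℂ)) = cf ω := by rw [hcf]
    rw [← hcfa ω w, e, hg]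
    simp only
    rw [h2]
    linear_combination (cf ω w) * h1
  -- the second sum vanishes off `W₂`
  have hT0 : ∀ χ : L → ℂ, ∀ w : ↥(W₁ ⊔ W₂), (w : L) ∉ W₂ →
      ∑ ω : ↥(W₁ ⊔ W₂) →* ℂˣ, g χ (pψ ω) * cf ω w = 0 := by
    intro χ w hw
    -- a character trivial on `W₂` with value `≠ 1` at `w`
    have ha1 : supProj₁ W₁ W₂ hdisj hcomm w ≠ 1 := by
      intro h
      apply hw
      have h2 := supProj_mul W₁ W₂ hdisj hcomm w
      rw [h, Subgroup.coe_one, one_mul] at h2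
      rw [← h2]
      exact (supProj₂ W₁ W₂ hdisj hcomm w).2
    let _ : CommGroup W₁ := { (inferInstance : Group W₁) with
      mul_comm := fun a b => Subtype.ext (hab₁ a a.2 b b.2) }
    have : NeZero (Monoid.exponent W₁) := ⟨Monoid.exponent_ne_zero_of_finite⟩
    obtain ⟨l₀, hl₀⟩ := CommGroup.exists_apply_ne_one_of_hasEnoughRootsOfUnity W₁ ℂ ha1
    obtain ⟨φ₁, hφ₁⟩ : ∃ φ₁ : {φ : ↥(W₁ ⊔ W₂) →* ℂˣ //
        ∀ w : ↥(W₁ ⊔ W₂), (w : L) ∈ W₂ → φ w = 1}, φ₁.1 w = l₀ (supProj₁ W₁ W₂ hdisj hcomm w) :=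
      ⟨(charsTrivialOn₂Equiv W₁ W₂ hdisj hcomm).symm l₀, rfl⟩
    have hφ₁w : cf φ₁.1 w ≠ 1 := by
      rw [hcfa, hφ₁]
      intro h
      apply hl₀
      exact Units.ext h
    have e : ∑ ω : ↥(W₁ ⊔ W₂) →* ℂˣ, g χ (pψ ω) * cf ω w =
        cf φ₁.1 w * ∑ ω : ↥(W₁ ⊔ W₂) →* ℂˣ, g χ (pψ ω) * cf ω w := by
      rw [Finset.mul_sum]
      refine (Fintype.sum_equiv (Equiv.mulLeft φ₁.1) _ _ (fun ω => ?_)).symm
      show cf φ₁.1 w * (g χ (pψ ω) * cf ω w) = g χ (pψ (φ₁.1 * ω)) * cf (φ₁.1 * ω) w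
      have h1 : pψ (φ₁.1 * ω) = pψ ω := hpψ_agree _ _ (fun v hv => by
        rw [MonoidHom.mul_apply, φ₁.2 v hv, one_mul])
      rw [h1, hcfmul]
      ring
    have h0 : (1 - cf φ₁.1 w) * ∑ ω : ↥(W₁ ⊔ W₂) →* ℂˣ, g χ (pψ ω) * cf ω w = 0 := by
      linear_combination e
    rcases mul_eq_zero.mp h0 with h1 | h1
    · exfalso
      apply hφ₁w
      linear_combination -h1
    · exact h1
  -- the first sum
  have hfirst : ∀ χ : L → ℂ, ∀ w : ↥(W₁ ⊔ W₂), ∀ ω₀ : ↥(W₁ ⊔ W₂) →* ℂˣ, χ = μ ω₀ →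
      ∑ ω : ↥(W₁ ⊔ W₂) →* ℂˣ, (δ ω * (if χ = μ ω then 1 else 0)) * cf ω w =
        δ ω₀ * cf ω₀ w := by
    intro χ w ω₀ hχ
    rw [Finset.sum_eq_single ω₀]
    · rw [if_pos hχ, mul_one]
    · intro ω _ hω
      rw [if_neg, mul_zero, zero_mul]
      intro h
      exact hω (hinj (h.symm.trans hχ))
    · intro h
      exact absurd (Finset.mem_univ ω₀) h
  have hfirst0 : ∀ χ : L → ℂ, ∀ w : ↥(W₁ ⊔ W₂), (∀ ω, χ ≠ μ ω) →
      ∑ ω : ↥(W₁ ⊔ W₂) →* ℂˣ, (δ ω * (if χ = μ ω then 1 else 0)) * cf ω w = 0 := by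
    intro χ w hχ
    apply Finset.sum_eq_zero
    intro ω _
    rw [if_neg (hχ ω), mul_zero, zero_mul]
  refine ⟨μ, δ, hinj, hμirr, hδpm, ?_, ?_, ?_, ?_⟩
  · intro ω ω' h
    refine ⟨hδ_agree ω ω' h, ?_⟩
    have h1 := h4 ω ω' h
    rw [hcf] at h1
    exact h1
  · intro ω w hw
    rw [hformula (μ ω) (hμirr ω) w, hfirst (μ ω) w ω rfl, hT0 (μ ω) w hw, add_zero, hcfa]
  · intro χ hχ hne w hw
    rw [hformula χ hχ w, hfirst0 χ w hne, hT0 χ w hw, add_zero]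
  · intro ω
    have h1 := hformula (μ ω) (hμirr ω) 1
    rw [hfirst (μ ω) 1 ω rfl, hcfa, map_one, Units.val_one, mul_one] at h1
    have h2 : μ ω 1 - δ ω = ∑ ω' : ↥(W₁ ⊔ W₂) →* ℂˣ, g (μ ω) (pψ ω') := by
      have h3 : ∀ ω' : ↥(W₁ ⊔ W₂) →* ℂˣ, g (μ ω) (pψ ω') * cf ω' 1 = g (μ ω) (pψ ω') := by
        intro ω'
        rw [hcfa, map_one, Units.val_one, mul_one]
      rw [Finset.sum_congr rfl (fun ω' _ => h3 ω')] at h1
      have h4' : μ ω ((1 : ↥(W₁ ⊔ W₂)) : L) = μ ω 1 := rfl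
      rw [h4'] at h1
      rw [h1]
      ring
    rw [h2]
    -- integrality of g
    have hgint : ∀ ψ : ↥(W₁ ⊔ W₂) →* ℂˣ, ∃ z : ℤ, g (μ ω) ψ = z := by
      intro ψ
      obtain ⟨n, hn⟩ := Cfsg.Agent.Lib.helper4.exists_nat_classInner
        (Cfsg.Agent.Lib.helper4.isCharacter_restrict (W₁ ⊔ W₂)
          (Cfsg.Agent.Lib.helper4.isCharacter_of_isIrrCharacter (hμirr ω))) (hcfchar ψ)
      rw [hg]
      simp only
      rw [hn]
      rcases hδpm ψ with h | h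
      · by_cases hc : μ ω = μ ψ
        · exact ⟨n - 1, by rw [h, if_pos hc]; push_cast; ring⟩
        · exact ⟨n, by rw [h, if_neg hc]; push_cast; ring⟩
      · by_cases hc : μ ω = μ ψ
        · exact ⟨n + 1, by rw [h, if_pos hc]; push_cast; ring⟩
        · exact ⟨n, by rw [h, if_neg hc]; push_cast; ring⟩
    choose z hz using hgint
    -- sum over the decomposition
    have : Fintype {φ : ↥(W₁ ⊔ W₂) →* ℂˣ // ∀ w : ↥(W₁ ⊔ W₂), (w : L) ∈ W₂ → φ w = 1} :=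
      Fintype.ofFinite _
    have : Fintype {ψ : ↥(W₁ ⊔ W₂) →* ℂˣ // ∀ w : ↥(W₁ ⊔ W₂), (w : L) ∈ W₁ → ψ w = 1} :=
      Fintype.ofFinite _
    have h5 : ∑ ω' : ↥(W₁ ⊔ W₂) →* ℂˣ, g (μ ω) (pψ ω') =
        ∑ p : {φ : ↥(W₁ ⊔ W₂) →* ℂˣ // ∀ w : ↥(W₁ ⊔ W₂), (w : L) ∈ W₂ → φ w = 1} ×
          {ψ : ↥(W₁ ⊔ W₂) →* ℂˣ // ∀ w : ↥(W₁ ⊔ W₂), (w : L) ∈ W₁ → ψ w = 1},
          g (μ ω) p.2.1 := by
      apply Fintype.sum_equiv (charDecompEquiv W₁ W₂ hdisj hcomm)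
      intro ω'
      rw [hpψ]
      rfl
    rw [h5, Fintype.sum_prod_type]
    simp only [Finset.sum_const, Finset.card_univ, nsmul_eq_mul]
    rw [← Nat.card_eq_fintype_card, hΦcard]
    refine ⟨∑ ψ : {ψ : ↥(W₁ ⊔ W₂) →* ℂˣ // ∀ w : ↥(W₁ ⊔ W₂), (w : L) ∈ W₁ → ψ w = 1}, z ψ.1, ?_⟩
    rw [Finset.sum_congr rfl (fun ψ _ => hz ψ.1)]
    push_cast
    ring

end Main

end Cfsg.Agent.Lib.helper32
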