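import Mathlib
import Cfsg.Agent.Lib.helper4.Induction
import Cfsg.Agent.Lib.helper32.CyclicTI3

set_option autoImplicit false

/-!
# Cyclic TI families: the values on `W ∖ (W₁ ∪ W₂)` (helper32 library)

`vanish_of_orth_alpha`: a function on `W = W₁ ⊔ W₂` orthogonal to all `(1 - φ)(1 - ψ)` vanishes
outside `W₁ ∪ W₂`.  `cyclicTI_eq_on`: the `eq_on` field of `Cfsg.IsCyclicTIFamily` follows from
the other fields.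
-/

namespace Cfsg.Agent.Lib.helper32

open scoped ComplexConjugate

theorem vanish_of_orth_alpha {G : Type*} [Group G] [Fintype G] (W₁ W₂ : Subgroup G)
    (hdisj : W₁ ⊓ W₂ = ⊥) (hcomm : ∀ a ∈ W₁, ∀ b ∈ W₂, a * b = b * a)
    (hcyc : IsCyclic ↥(W₁ ⊔ W₂)) [Fintype ↥(W₁ ⊔ W₂)] (f : ↥(W₁ ⊔ W₂) → ℂ)
    (step1 : ∀ φ ψ : ↥(W₁ ⊔ W₂) →* ℂˣ, (∀ w : ↥(W₁ ⊔ W₂), (w : G) ∈ W₂ → φ w = 1) →
      (∀ w : ↥(W₁ ⊔ W₂), (w : G) ∈ W₁ → ψ w = 1) →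
      ∑ v : ↥(W₁ ⊔ W₂), (1 - (φ v : ℂ) - (ψ v : ℂ) + (φ v : ℂ) * (ψ v : ℂ)) * conj (f v) = 0)
    (w : ↥(W₁ ⊔ W₂)) (hw₁ : (w : G) ∉ W₁) (hw₂ : (w : G) ∉ W₂) : f w = 0 := by
  classical
  have hab : ∀ a ∈ W₁ ⊔ W₂, ∀ b ∈ W₁ ⊔ W₂, a * b = b * a :=
    fun a ha b hb => comm_of_isCyclic_sup W₁ W₂ hcyc a b ha hb
  have hfin : Finite (↥(W₁ ⊔ W₂) →* ℂˣ) := finite_monoidHom_units_of_comm _ hab
  have hft : Fintype (↥(W₁ ⊔ W₂) →* ℂˣ) := Fintype.ofFinite _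
  have hWc : (Nat.card ↥(W₁ ⊔ W₂) : ℂ) ≠ 0 := by exact_mod_cast Nat.card_pos.ne'
  set q₁ : ↥(W₁ ⊔ W₂) →* ↥(W₁ ⊔ W₂) :=
    (Subgroup.inclusion le_sup_left).comp (supProj₁ W₁ W₂ hdisj hcomm) with hq₁
  set q₂ : ↥(W₁ ⊔ W₂) →* ↥(W₁ ⊔ W₂) :=
    (Subgroup.inclusion le_sup_right).comp (supProj₂ W₁ W₂ hdisj hcomm) with hq₂
  have hq : ∀ v : ↥(W₁ ⊔ W₂), q₁ v * q₂ v = v :=
    fun v => Subtype.ext (supProj_mul W₁ W₂ hdisj hcomm v)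
  have hq₁w : q₁ w ≠ 1 := by
    intro h
    apply hw₂
    have h' := hq w
    rw [h, one_mul] at h'
    rw [← h']
    exact (supProj₂ W₁ W₂ hdisj hcomm w).2
  have hq₂w : q₂ w ≠ 1 := by
    intro h
    apply hw₁
    have h' := hq w
    rw [h, mul_one] at h'
    rw [← h']
    exact (supProj₁ W₁ W₂ hdisj hcomm w).2
  have hφl : ∀ (l : ↥(W₁ ⊔ W₂) →* ℂˣ) (v : ↥(W₁ ⊔ W₂)),
      charPart₁ W₁ W₂ hdisj hcomm l v = l (q₁ v) := fun _ _ => rfl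
  have hψm : ∀ (m : ↥(W₁ ⊔ W₂) →* ℂˣ) (v : ↥(W₁ ⊔ W₂)),
      charPart₂ W₁ W₂ hdisj hcomm m v = m (q₂ v) := fun _ _ => rfl
  have hAB : ∀ (q : ↥(W₁ ⊔ W₂) →* ↥(W₁ ⊔ W₂)), q w ≠ 1 → ∀ v : ↥(W₁ ⊔ W₂),
      ∑ l : ↥(W₁ ⊔ W₂) →* ℂˣ, conj ((l (q w) : ℂˣ) : ℂ) * (1 - ((l (q v) : ℂˣ) : ℂ)) =
        if q v = q w then -(Nat.card ↥(W₁ ⊔ W₂) : ℂ) else 0 := by
    intro q hqw v
    have e : ∀ l : ↥(W₁ ⊔ W₂) →* ℂˣ, conj ((l (q w) : ℂˣ) : ℂ) * (1 - ((l (q v) : ℂˣ) : ℂ)) =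
        ((l ((q w)⁻¹) : ℂˣ) : ℂ) - ((l ((q w)⁻¹ * q v) : ℂˣ) : ℂ) := by
      intro l
      rw [conj_units_hom, map_mul, map_inv, Units.val_mul]
      ring
    rw [Finset.sum_congr rfl (fun l _ => e l), Finset.sum_sub_distrib,
      sum_monoidHom_units_apply _ hab, sum_monoidHom_units_apply _ hab,
      if_neg (by simpa using hqw)]
    by_cases h : q v = q w
    · rw [if_pos h, if_pos (by rw [h]; simp)]; ring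
    · rw [if_neg h, if_neg (fun h' => h (by rw [inv_mul_eq_one] at h'; exact h'.symm))]; ring
  have hsum : ∑ v : ↥(W₁ ⊔ W₂),
      (∑ l : ↥(W₁ ⊔ W₂) →* ℂˣ, conj ((l (q₁ w) : ℂˣ) : ℂ) * (1 - ((l (q₁ v) : ℂˣ) : ℂ))) *
      (∑ m : ↥(W₁ ⊔ W₂) →* ℂˣ, conj ((m (q₂ w) : ℂˣ) : ℂ) * (1 - ((m (q₂ v) : ℂˣ) : ℂ))) *
      conj (f v) = 0 := by
    have e : ∀ v : ↥(W₁ ⊔ W₂),
        (∑ l : ↥(W₁ ⊔ W₂) →* ℂˣ, conj ((l (q₁ w) : ℂˣ) : ℂ) * (1 - ((l (q₁ v) : ℂˣ) : ℂ))) *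
        (∑ m : ↥(W₁ ⊔ W₂) →* ℂˣ, conj ((m (q₂ w) : ℂˣ) : ℂ) * (1 - ((m (q₂ v) : ℂˣ) : ℂ))) *
        conj (f v) =
        ∑ l : ↥(W₁ ⊔ W₂) →* ℂˣ, ∑ m : ↥(W₁ ⊔ W₂) →* ℂˣ,
          conj ((l (q₁ w) : ℂˣ) : ℂ) * conj ((m (q₂ w) : ℂˣ) : ℂ) *
          ((1 - ((charPart₁ W₁ W₂ hdisj hcomm l v : ℂˣ) : ℂ)
            - ((charPart₂ W₁ W₂ hdisj hcomm m v : ℂˣ) : ℂ)
            + ((charPart₁ W₁ W₂ hdisj hcomm l v : ℂˣ) : ℂ) *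
              ((charPart₂ W₁ W₂ hdisj hcomm m v : ℂˣ) : ℂ)) * conj (f v)) := by
      intro v
      rw [Finset.sum_mul_sum, Finset.sum_mul]
      apply Finset.sum_congr rfl
      intro l _
      rw [Finset.sum_mul]
      apply Finset.sum_congr rfl
      intro m _
      rw [hφl, hψm]
      ring
    rw [Finset.sum_congr rfl (fun v _ => e v), Finset.sum_comm]
    apply Finset.sum_eq_zero
    intro l _
    rw [Finset.sum_comm]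
    apply Finset.sum_eq_zero
    intro m _
    rw [← Finset.mul_sum, step1 _ _ (charPart₁_of_mem₂ W₁ W₂ hdisj hcomm l)
      (charPart₂_of_mem₁ W₁ W₂ hdisj hcomm m), mul_zero]
  have hsum2 : ∑ v : ↥(W₁ ⊔ W₂),
      (∑ l : ↥(W₁ ⊔ W₂) →* ℂˣ, conj ((l (q₁ w) : ℂˣ) : ℂ) * (1 - ((l (q₁ v) : ℂˣ) : ℂ))) *
      (∑ m : ↥(W₁ ⊔ W₂) →* ℂˣ, conj ((m (q₂ w) : ℂˣ) : ℂ) * (1 - ((m (q₂ v) : ℂˣ) : ℂ))) *
      conj (f v) = (Nat.card ↥(W₁ ⊔ W₂) : ℂ) ^ 2 * conj (f w) := by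
    rw [Finset.sum_eq_single w]
    · rw [hAB q₁ hq₁w w, hAB q₂ hq₂w w, if_pos rfl, if_pos rfl]; ring
    · intro v _ hv
      rw [hAB q₁ hq₁w v, hAB q₂ hq₂w v]
      by_cases h1 : q₁ v = q₁ w
      · by_cases h2 : q₂ v = q₂ w
        · exfalso
          apply hv
          rw [← hq v, ← hq w, h1, h2]
        · rw [if_neg h2]; ring
      · rw [if_neg h1]; ring
    · intro h
      exact absurd (Finset.mem_univ _) h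
  rw [hsum2] at hsum
  rcases mul_eq_zero.mp hsum with h | h
  · exact absurd (pow_eq_zero_iff (two_ne_zero) |>.mp h) hWc
  · exact (map_eq_zero _).mp h

/-- The `eq_on` property of a cyclic TI family follows from orthonormality, `χ 1 = 1` and the
induction identities. -/
theorem cyclicTI_eq_on {G : Type*} [Group G] [Fintype G] (W₁ W₂ : Subgroup G)
    (hdisj : W₁ ⊓ W₂ = ⊥) (hcomm : ∀ a ∈ W₁, ∀ b ∈ W₂, a * b = b * a)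
    (hcyc : IsCyclic ↥(W₁ ⊔ W₂)) (χ : (↥(W₁ ⊔ W₂) →* ℂˣ) → (G → ℂ))
    (hcf : ∀ ω, Cfsg.IsClassFunction G (χ ω))
    (horth1 : ∀ ω, Cfsg.classInner (χ ω) (χ ω) = 1)
    (horth0 : ∀ ω ω', ω ≠ ω' → Cfsg.classInner (χ ω) (χ ω') = 0)
    (hone : χ 1 = fun _ => 1)
    (hind : ∀ φ ψ : ↥(W₁ ⊔ W₂) →* ℂˣ, φ ≠ 1 → ψ ≠ 1 →
      (∀ w : ↥(W₁ ⊔ W₂), (w : G) ∈ W₂ → φ w = 1) → (∀ w : ↥(W₁ ⊔ W₂), (w : G) ∈ W₁ → ψ w = 1) →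
      Cfsg.indFun (W₁ ⊔ W₂) (fun w => 1 - (φ w : ℂ) - (ψ w : ℂ) + (φ w : ℂ) * (ψ w : ℂ)) =
        fun g => 1 - χ φ g - χ ψ g + χ (φ * ψ) g)
    (ω : ↥(W₁ ⊔ W₂) →* ℂˣ) (w : ↥(W₁ ⊔ W₂)) (hw₁ : (w : G) ∉ W₁) (hw₂ : (w : G) ∉ W₂) :
    χ ω w = (ω w : ℂ) := by
  classical
  have hft : Fintype ↥(W₁ ⊔ W₂) := Fintype.ofFinite _
  have hWc : (Nat.card ↥(W₁ ⊔ W₂) : ℂ) ≠ 0 := by exact_mod_cast Nat.card_pos.ne'
  have horth' : ∀ ω ω', Cfsg.classInner (χ ω) (χ ω') = if ω = ω' then 1 else 0 := by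
    intro ω ω'
    by_cases h : ω = ω'
    · rw [if_pos h, h, horth1]
    · rw [if_neg h, horth0 _ _ h]
  have key := vanish_of_orth_alpha W₁ W₂ hdisj hcomm hcyc (fun v => χ ω v - (ω v : ℂ)) ?_ w hw₁ hw₂
  · exact sub_eq_zero.mp key
  intro φ ψ hφ₂ hψ₁
  by_cases hφ : φ = 1
  · subst hφ
    apply Finset.sum_eq_zero
    intro v _
    simp
  by_cases hψ : ψ = 1
  · subst hψ
    apply Finset.sum_eq_zero
    intro v _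
    simp
  have hA : ∑ v : ↥(W₁ ⊔ W₂), (1 - (φ v : ℂ) - (ψ v : ℂ) + (φ v : ℂ) * (ψ v : ℂ)) *
      conj (χ ω v) = (Nat.card ↥(W₁ ⊔ W₂) : ℂ) *
        ((if (1 : ↥(W₁ ⊔ W₂) →* ℂˣ) = ω then 1 else 0) - (if φ = ω then 1 else 0)
          - (if ψ = ω then 1 else 0) + (if φ * ψ = ω then 1 else 0)) := by
    have h0 : Cfsg.classInner (Cfsg.indFun (W₁ ⊔ W₂)
        (fun w => 1 - (φ w : ℂ) - (ψ w : ℂ) + (φ w : ℂ) * (ψ w : ℂ))) (χ ω) =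
        (if (1 : ↥(W₁ ⊔ W₂) →* ℂˣ) = ω then 1 else 0) - (if φ = ω then 1 else 0)
          - (if ψ = ω then 1 else 0) + (if φ * ψ = ω then 1 else 0) := by
      rw [hind φ ψ hφ hψ hφ₂ hψ₁]
      have h1 : (fun g => 1 - χ φ g - χ ψ g + χ (φ * ψ) g) = χ 1 - χ φ - χ ψ + χ (φ * ψ) := by
        funext g
        simp only [Pi.add_apply, Pi.sub_apply, hone]
      rw [h1, classInner_add_left, classInner_sub_left, classInner_sub_left, horth', horth',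
        horth', horth']
    rw [Cfsg.Agent.Lib.helper4.frobenius_reciprocity _ _ (hcf ω)] at h0
    unfold Cfsg.classInner at h0
    rw [← h0]
    field_simp
  have hB : ∑ v : ↥(W₁ ⊔ W₂), (1 - (φ v : ℂ) - (ψ v : ℂ) + (φ v : ℂ) * (ψ v : ℂ)) *
      conj ((ω v : ℂˣ) : ℂ) = (Nat.card ↥(W₁ ⊔ W₂) : ℂ) *
        ((if (1 : ↥(W₁ ⊔ W₂) →* ℂˣ) = ω then 1 else 0) - (if φ = ω then 1 else 0)
          - (if ψ = ω then 1 else 0) + (if φ * ψ = ω then 1 else 0)) := by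
    have e : ∀ v : ↥(W₁ ⊔ W₂), (1 - (φ v : ℂ) - (ψ v : ℂ) + (φ v : ℂ) * (ψ v : ℂ)) *
        conj ((ω v : ℂˣ) : ℂ) =
        (((1 : ↥(W₁ ⊔ W₂) →* ℂˣ) v : ℂˣ) : ℂ) * conj ((ω v : ℂˣ) : ℂ)
          - ((φ v : ℂˣ) : ℂ) * conj ((ω v : ℂˣ) : ℂ) - ((ψ v : ℂˣ) : ℂ) * conj ((ω v : ℂˣ) : ℂ)
          + (((φ * ψ) v : ℂˣ) : ℂ) * conj ((ω v : ℂˣ) : ℂ) := by
      intro v
      rw [MonoidHom.one_apply, MonoidHom.mul_apply, Units.val_one, Units.val_mul]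
      ring
    rw [Finset.sum_congr rfl (fun v _ => e v), Finset.sum_add_distrib, Finset.sum_sub_distrib,
      Finset.sum_sub_distrib, sum_units_hom_mul_conj, sum_units_hom_mul_conj,
      sum_units_hom_mul_conj, sum_units_hom_mul_conj]
    simp only [mul_add, mul_sub, mul_ite, mul_one, mul_zero]
  have e2 : ∀ v : ↥(W₁ ⊔ W₂), (1 - (φ v : ℂ) - (ψ v : ℂ) + (φ v : ℂ) * (ψ v : ℂ)) *
      conj (χ ω v - (ω v : ℂ)) =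
      (1 - (φ v : ℂ) - (ψ v : ℂ) + (φ v : ℂ) * (ψ v : ℂ)) * conj (χ ω v)
        - (1 - (φ v : ℂ) - (ψ v : ℂ) + (φ v : ℂ) * (ψ v : ℂ)) * conj ((ω v : ℂˣ) : ℂ) := by
    intro v
    rw [map_sub]
    ring
  rw [Finset.sum_congr rfl (fun v _ => e2 v), Finset.sum_sub_distrib, hA, hB, sub_self]

end Cfsg.Agent.Lib.helper32
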