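import Cfsg.Agent.Lib.helper32.Grid2

set_option autoImplicit false

/-!
# Grids of norm-3 integer vectors (helper32 library, Peterfalvi (3.5))

`GridGram β`: `β : I → J → B → ℤ` with `(β i j, β i' j') = δ_ii' + δ_jj' + δ_ii' δ_jj'`.
If `I`, `J` have two or at least four elements, one of them at least four, then
`β i j = sx i • [x i] + sy j • [y j] + sz i j • [z i j]` with signs and pairwise distinct
"coordinates" (`GridGram.decomp`).
-/

namespace Cfsg.Agent.Lib.helper32

open Classical

section Grid3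

variable {B : Type*} [Fintype B] {I J : Type*}

theorem TwoOrBig.nonempty (hJ : TwoOrBig J) : Nonempty J := by
  rcases hJ with ⟨j1, -, -, -⟩ | ⟨hne, -⟩
  · exact ⟨j1⟩
  · exact hne

/-- The Gram matrix of the virtual characters `β i j` of Peterfalvi (3.5). -/
structure GridGram (β : I → J → B → ℤ) : Prop where
  gram : ∀ i j i' j', gip (β i j) (β i' j') =
    (if i = i' then 1 else 0) + (if j = j' then 1 else 0) + (if i = i' ∧ j = j' then 1 else 0)

/-- The conclusion of Peterfalvi (3.5) in coordinates. -/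
def GridDecomp (β : I → J → B → ℤ) : Prop :=
  ∃ (x : I → B) (y : J → B) (z : I → J → B) (sx : I → ℤ) (sy : J → ℤ) (sz : I → J → ℤ),
    (∀ i, sx i = 1 ∨ sx i = -1) ∧ (∀ j, sy j = 1 ∨ sy j = -1) ∧
    (∀ i j, sz i j = 1 ∨ sz i j = -1) ∧
    Function.Injective x ∧ Function.Injective y ∧
    (∀ i j i' j', z i j = z i' j' → i = i' ∧ j = j') ∧
    (∀ i j, x i ≠ y j) ∧ (∀ i i' j', x i ≠ z i' j') ∧ (∀ j i' j', y j ≠ z i' j') ∧
    ∀ i j b, β i j b = (if b = x i then sx i else 0) + (if b = y j then sy j else 0) +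
      (if b = z i j then sz i j else 0)

omit [Fintype B] in
theorem GridDecomp.transpose {β : I → J → B → ℤ} (h : GridDecomp (fun j i => β i j)) :
    GridDecomp β := by
  obtain ⟨x, y, z, sx, sy, sz, h1, h2, h3, h4, h5, h6, h7, h8, h9, h10⟩ := h
  refine ⟨y, x, fun i j => z j i, sy, sx, fun i j => sz j i, h2, h1, fun i j => h3 j i, h5, h4,
    ?_, fun i j => (h7 j i).symm, fun i i' j' => h9 i j' i', fun j i' j' => h8 j j' i', ?_⟩
  · intro i j i' j' hz
    exact (h6 j i j' i' hz).symm
  · intro i j b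
    exact (h10 j i b).trans (by ring)

namespace GridGram

variable {β : I → J → B → ℤ}

theorem transpose (h : GridGram β) : GridGram (fun j i => β i j) := by
  refine ⟨fun j i j' i' => ?_⟩
  show gip (β i j) (β i' j') = _
  rw [h.gram i j i' j']
  by_cases hi : i = i' <;> by_cases hj : j = j' <;> simp [hi, hj]

theorem norm (h : GridGram β) (i : I) (j : J) : gip (β i j) (β i j) = 3 := by
  rw [h.gram]
  simp

theorem twoRow (h : GridGram β) {i i' : I} (hne : i ≠ i') : TwoRow (β i) (β i') := by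
  refine ⟨fun j j' => ?_, fun j j' => ?_, fun j j' => ?_⟩
  · rw [h.gram]
    by_cases hj : j = j' <;> simp [hj]
  · rw [h.gram]
    by_cases hj : j = j' <;> simp [hj]
  · rw [h.gram]
    by_cases hj : j = j' <;> simp [hj, hne]

theorem row_eq (h : GridGram β) (hI2 : ∀ i : I, ∃ i', i' ≠ i) (i : I) {j j' : J} (hne : j ≠ j')
    {b : B} (h1 : β i j b ≠ 0) (h2 : β i j' b ≠ 0) : β i j b = β i j' b := by
  obtain ⟨i', hi'⟩ := hI2 i
  exact (h.twoRow (Ne.symm hi')).row_eq hne h1 h2

theorem row_uniq (h : GridGram β) (hI2 : ∀ i : I, ∃ i', i' ≠ i) (i : I) {j j' : J} (hne : j ≠ j')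
    {b b' : B} (h1 : β i j b ≠ 0) (h2 : β i j' b ≠ 0) (h1' : β i j b' ≠ 0) (h2' : β i j' b' ≠ 0) :
    b = b' := by
  obtain ⟨i', hi'⟩ := hI2 i
  exact (h.twoRow (Ne.symm hi')).row_uniq hne h1 h2 h1' h2'

theorem col_eq (h : GridGram β) (hJ2 : ∀ j : J, ∃ j', j' ≠ j) (j : J) {i i' : I} (hne : i ≠ i')
    {b : B} (h1 : β i j b ≠ 0) (h2 : β i' j b ≠ 0) : β i j b = β i' j b :=
  h.transpose.row_eq hJ2 j hne h1 h2

theorem col_uniq (h : GridGram β) (hJ2 : ∀ j : J, ∃ j', j' ≠ j) (j : J) {i i' : I} (hne : i ≠ i')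
    {b b' : B} (h1 : β i j b ≠ 0) (h2 : β i' j b ≠ 0) (h1' : β i j b' ≠ 0) (h2' : β i' j b' ≠ 0) :
    b = b' :=
  h.transpose.row_uniq hJ2 j hne h1 h2 h1' h2'

theorem row_center (h : GridGram β) (hI2 : ∀ i : I, ∃ i', i' ≠ i) (hJ : TwoOrBig J) (i : I) :
    ∃ a, ∀ j, β i j a ≠ 0 := by
  obtain ⟨i', hi'⟩ := hI2 i
  exact (h.twoRow (Ne.symm hi')).center hJ

theorem center_ne (h : GridGram β) (hI2 : ∀ i : I, ∃ i', i' ≠ i) (hJ : Big J) {i : I} {j : J}
    {x y : B} (hx : ∀ j', β i j' x ≠ 0) (hy : ∀ i', β i' j y ≠ 0) : x ≠ y := by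
  rintro rfl
  obtain ⟨i', hi'⟩ := hI2 i
  have key : ∀ j', j' ≠ j → ∃ f, f ≠ x ∧ β i j' f ≠ 0 ∧ β i' j f ≠ 0 := by
    intro j' hj'
    by_contra hcon
    have hcon' : ∀ f, f ≠ x → β i j' f ≠ 0 → β i' j f = 0 := by
      intro f h1 h2
      by_contra h3
      exact hcon ⟨f, h1, h2, h3⟩
    have hg : gip (β i j') (β i' j) = 0 := by
      rw [h.gram]
      simp [Ne.symm hi', hj']
    have hsum : gip (β i j') (β i' j) = β i j' x * β i' j x := by
      unfold gip
      apply Finset.sum_eq_single x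
      · intro b _ hb
        by_cases h0 : β i j' b = 0
        · rw [h0, zero_mul]
        · rw [hcon' b hb h0, mul_zero]
      · intro hn
        exact absurd (Finset.mem_univ _) hn
    rw [hsum] at hg
    rcases mul_eq_zero.mp hg with h0 | h0
    · exact hx j' h0
    · exact hy i' h0
  obtain ⟨j1, hj1, -, -⟩ := hJ j j j
  obtain ⟨j2, hj2, -, hj21⟩ := hJ j j j1
  obtain ⟨j3, hj3, hj31, hj32⟩ := hJ j j1 j2
  obtain ⟨f1, hf1, hf1a, hf1b⟩ := key j1 hj1
  obtain ⟨f2, hf2, hf2a, hf2b⟩ := key j2 hj2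
  obtain ⟨f3, hf3, hf3a, hf3b⟩ := key j3 hj3
  have h12 : f1 ≠ f2 := by
    rintro rfl
    exact hf1 (h.row_uniq hI2 i (Ne.symm hj21) hf1a hf2a (hx j1) (hx j2))
  have h13 : f1 ≠ f3 := by
    rintro rfl
    exact hf1 (h.row_uniq hI2 i (Ne.symm hj31) hf1a hf3a (hx j1) (hx j3))
  have h23 : f2 ≠ f3 := by
    rintro rfl
    exact hf2 (h.row_uniq hI2 i (Ne.symm hj32) hf2a hf3a (hx j2) (hx j3))
  exact n3_not_four (h.norm i' j) (Ne.symm hf1) (Ne.symm hf2) (Ne.symm hf3) h12 h13 h23 (hy i')
    hf1b hf2b hf3b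

theorem decomp_aux (h : GridGram β) (hI : TwoOrBig I) (hJ : Nonempty J ∧ Big J) :
    GridDecomp β := by
  have hI2 : ∀ i : I, ∃ i', i' ≠ i := hI.exists_ne
  have hJ' : TwoOrBig J := Or.inr hJ
  have hJ2 : ∀ j : J, ∃ j', j' ≠ j := hJ'.exists_ne
  choose x hx using h.row_center hI2 hJ'
  choose y hy using h.transpose.row_center hJ2 hI
  have hxy : ∀ i j, x i ≠ y j := fun i j => h.center_ne hI2 hJ.2 (hx i) (hy j)
  choose z hzx hzy hz using fun i j => n3_third (h.norm i j) (x i) (y j)
  have hsupp : ∀ i j b, β i j b ≠ 0 → b = x i ∨ b = y j ∨ b = z i j := fun i j =>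
    n3_three (h.norm i j) (hxy i j) (Ne.symm (hzx i j)) (Ne.symm (hzy i j)) (hx i j) (hy j i)
      (hz i j)
  obtain ⟨j0⟩ := hJ.1
  obtain ⟨i0⟩ := hI.nonempty
  have hxinj : Function.Injective x := by
    intro i i' hii
    by_contra hne
    have h1 : β i' j0 (x i) ≠ 0 := by rw [hii]; exact hx i' j0
    have h2 : x i = y j0 := h.col_uniq hJ2 j0 hne (hx i j0) h1 (hy j0 i) (hy j0 i')
    exact hxy i j0 h2
  have hyinj : Function.Injective y := by
    intro j j' hjj
    by_contra hne
    have h1 : β i0 j' (y j) ≠ 0 := by rw [hjj]; exact hy j' i0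
    have h2 : y j = x i0 := h.row_uniq hI2 i0 hne (hy j i0) h1 (hx i0 j) (hx i0 j')
    exact hxy i0 j h2.symm
  have hxz : ∀ i i' j', x i ≠ z i' j' := by
    intro i i' j' he
    by_cases hii : i = i'
    · subst hii
      exact hzx i j' he.symm
    · have h1 : β i' j' (x i) ≠ 0 := by rw [he]; exact hz i' j'
      have h2 : x i = y j' := h.col_uniq hJ2 j' hii (hx i j') h1 (hy j' i) (hy j' i')
      exact hzy i' j' (he.symm.trans h2)
  have hyz : ∀ j i' j', y j ≠ z i' j' := by
    intro j i' j' he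
    by_cases hjj : j = j'
    · subst hjj
      exact hzy i' j he.symm
    · have h1 : β i' j' (y j) ≠ 0 := by rw [he]; exact hz i' j'
      have h2 : y j = x i' := h.row_uniq hI2 i' hjj (hy j i') h1 (hx i' j) (hx i' j')
      exact hzx i' j' (he.symm.trans h2)
  have hzinj : ∀ i j i' j', z i j = z i' j' → i = i' ∧ j = j' := by
    intro i j i' j' he
    by_cases hii : i = i'
    · subst hii
      refine ⟨rfl, ?_⟩
      by_contra hjj
      have h1 : β i j' (z i j) ≠ 0 := by rw [he]; exact hz i j'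
      have h2 : z i j = x i := h.row_uniq hI2 i hjj (hz i j) h1 (hx i j) (hx i j')
      exact hzx i j h2
    · by_cases hjj : j = j'
      · subst hjj
        exfalso
        have h1 : β i' j (z i j) ≠ 0 := by rw [he]; exact hz i' j
        have h2 : z i j = y j := h.col_uniq hJ2 j hii (hz i j) h1 (hy j i) (hy j i')
        exact hzy i j h2
      · exfalso
        have hg : gip (β i j) (β i' j') = 0 := by
          rw [h.gram]
          simp [hii, hjj]
        have hsum : gip (β i j) (β i' j') = β i j (z i j) * β i' j' (z i j) := by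
          unfold gip
          apply Finset.sum_eq_single (z i j)
          · intro b _ hb
            by_cases h0 : β i j b = 0
            · rw [h0, zero_mul]
            by_cases h0' : β i' j' b = 0
            · rw [h0', mul_zero]
            exfalso
            rcases hsupp i j b h0 with e1 | e1 | e1
            · rw [e1] at h0'
              rcases hsupp i' j' (x i) h0' with e | e | e
              · exact hii (hxinj e)
              · exact hxy i j' e
              · exact hxz i i' j' e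
            · rw [e1] at h0'
              rcases hsupp i' j' (y j) h0' with e | e | e
              · exact hxy i' j e.symm
              · exact hjj (hyinj e)
              · exact hyz j i' j' e
            · exact hb e1
          · intro hn
            exact absurd (Finset.mem_univ _) hn
        rw [hsum] at hg
        rcases mul_eq_zero.mp hg with h0 | h0
        · exact hz i j h0
        · rw [he] at h0
          exact hz i' j' h0
  have hsx : ∀ i j, β i j (x i) = β i j0 (x i) := by
    intro i j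
    by_cases hj : j = j0
    · rw [hj]
    · exact h.row_eq hI2 i hj (hx i j) (hx i j0)
  have hsy : ∀ i j, β i j (y j) = β i0 j (y j) := by
    intro i j
    by_cases hi : i = i0
    · rw [hi]
    · exact h.col_eq hJ2 j hi (hy j i) (hy j i0)
  have hpm : ∀ i j b, β i j b ≠ 0 → β i j b = 1 ∨ β i j b = -1 := by
    intro i j b hb
    rcases n3_val (h.norm i j) b with h0 | h0 | h0
    · exact absurd h0 hb
    · exact Or.inl h0
    · exact Or.inr h0
  refine ⟨x, y, z, fun i => β i j0 (x i), fun j => β i0 j (y j), fun i j => β i j (z i j),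
    fun i => hpm i j0 _ (hx i j0), fun j => hpm i0 j _ (hy j i0), fun i j => hpm i j _ (hz i j),
    hxinj, hyinj, hzinj, hxy, hxz, hyz, ?_⟩
  intro i j b
  show β i j b = (if b = x i then β i j0 (x i) else 0) + (if b = y j then β i0 j (y j) else 0) +
    (if b = z i j then β i j (z i j) else 0)
  by_cases h1 : b = x i
  · rw [h1, if_pos rfl, if_neg (hxy i j), if_neg (Ne.symm (hzx i j)), hsx i j]
    ring
  by_cases h2 : b = y j
  · rw [h2, if_neg (Ne.symm (hxy i j)), if_pos rfl, if_neg (Ne.symm (hzy i j)), hsy i j]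
    ring
  by_cases h3 : b = z i j
  · rw [h3, if_neg (hzx i j), if_neg (hzy i j), if_pos rfl]
    ring
  · rw [if_neg h1, if_neg h2, if_neg h3]
    by_contra h0
    rcases hsupp i j b h0 with e | e | e
    · exact h1 e
    · exact h2 e
    · exact h3 e

/-- Peterfalvi (3.5), combinatorial form. -/
theorem decomp (h : GridGram β) (hI : TwoOrBig I) (hJ : TwoOrBig J)
    (hbig : (Nonempty J ∧ Big J) ∨ (Nonempty I ∧ Big I)) : GridDecomp β := by
  rcases hbig with hb | hb
  · exact h.decomp_aux hI hb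
  · exact (h.transpose.decomp_aux hJ hb).transpose

end GridGram

end Grid3

end Cfsg.Agent.Lib.helper32
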