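import Mathlib
import Cfsg.Agent.S1505
import Cfsg.Agent.Lib.helper4.Burnside2
import Cfsg.Agent.Lib.helper4.CharDecomp
import Cfsg.Agent.Lib.helper4.Induction
import Cfsg.Agent.Lib.helper19.LinChar
import Cfsg.Agent.Lib.helper32.CyclicTI4
import Cfsg.Agent.Lib.helper32.CyclicTIGalois
import Cfsg.Agent.Lib.helper32.Grid3

set_option autoImplicit false

/-!
# Existence of the cyclic TI family, Peterfalvi (3.2)/(3.5) (helper32 library)

The virtual characters `Ind (1 - φ)(1 - ψ) - 1` form a grid of norm-3 integer vectors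
(`exists_tiGrid`); the index sets have two or at least four elements, not both two
(`tiIdx_sizes`); `exists_signed_family` turns the combinatorial decomposition of the grid
into a signed family of irreducible characters; `tiEnc` encodes a linear character of
`W₁ ⊔ W₂` by its two parts.
-/

namespace Cfsg.Agent.Lib.helper32

open scoped ComplexConjugate

section TIGrid

variable {G : Type*} [Group G]

/-- The linear characters `≠ 1` of `W₁ ⊔ W₂` that are trivial on `W₂`. -/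
abbrev TIIdx₁ (W₁ W₂ : Subgroup G) : Type _ :=
  {φ : ↥(W₁ ⊔ W₂) →* ℂˣ // φ ≠ 1 ∧ ∀ w : ↥(W₁ ⊔ W₂), (w : G) ∈ W₂ → φ w = 1}

/-- The linear characters `≠ 1` of `W₁ ⊔ W₂` that are trivial on `W₁`. -/
abbrev TIIdx₂ (W₁ W₂ : Subgroup G) : Type _ :=
  {ψ : ↥(W₁ ⊔ W₂) →* ℂˣ // ψ ≠ 1 ∧ ∀ w : ↥(W₁ ⊔ W₂), (w : G) ∈ W₁ → ψ w = 1}

theorem classInner_int_comb [Fintype G] [Fintype (Cfsg.IrrCharacter G)]
    (c d : Cfsg.IrrCharacter G → ℤ) :
    Cfsg.classInner (∑ ψ : Cfsg.IrrCharacter G, (c ψ : ℂ) • (ψ : G → ℂ))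
      (∑ ψ : Cfsg.IrrCharacter G, (d ψ : ℂ) • (ψ : G → ℂ)) = ((gip c d : ℤ) : ℂ) := by
  rw [Cfsg.Agent.Lib.helper4.classInner_sum_irr_smul]
  unfold gip
  push_cast
  apply Finset.sum_congr rfl
  intro ψ _
  rw [show (starRingEnd ℂ) (d ψ : ℂ) = (d ψ : ℂ) from map_intCast _ _]

theorem isGeneralizedCharacter_tiAlpha {A : Type*} [Group A] (φ ψ : A →* ℂˣ) :
    Cfsg.IsGeneralizedCharacter A
      (fun w => 1 - (φ w : ℂ) - (ψ w : ℂ) + (φ w : ℂ) * (ψ w : ℂ)) := by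
  refine ⟨(fun _ => (1 : ℂ)) + (fun w => (((φ * ψ) w : ℂˣ) : ℂ)),
    (fun w => ((φ w : ℂˣ) : ℂ)) + (fun w => ((ψ w : ℂˣ) : ℂ)), ?_, ?_, ?_⟩
  · exact Cfsg.Agent.Lib.helper4.isCharacter_add Cfsg.Agent.Lib.helper4.isCharacter_one
      (Cfsg.Agent.Lib.helper19.isCharacter_of_hom (φ * ψ))
  · exact Cfsg.Agent.Lib.helper4.isCharacter_add (Cfsg.Agent.Lib.helper19.isCharacter_of_hom φ)
      (Cfsg.Agent.Lib.helper19.isCharacter_of_hom ψ)
  · funext w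
    simp only [Pi.add_apply, Pi.sub_apply, MonoidHom.mul_apply, Units.val_mul]
    ring

/-- The grid of coefficient vectors of `Ind (1 - φ)(1 - ψ) - 1`. -/
theorem exists_tiGrid [Fintype G] [Fintype (Cfsg.IrrCharacter G)] (W₁ W₂ : Subgroup G)
    (hW : Cfsg.IsSelfNormalizingCyclic W₁ W₂) :
    ∃ β : TIIdx₁ W₁ W₂ → TIIdx₂ W₁ W₂ → Cfsg.IrrCharacter G → ℤ,
      GridGram β ∧
      (∀ i j, β i j ⟨fun _ => 1, Cfsg.Agent.Lib.helper4.isIrrCharacter_one⟩ = 0) ∧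
      ∀ i j, Cfsg.indFun (W₁ ⊔ W₂)
        (fun w => 1 - (i.1 w : ℂ) - (j.1 w : ℂ) + (i.1 w : ℂ) * (j.1 w : ℂ)) =
        (fun _ => (1 : ℂ)) + ∑ b : Cfsg.IrrCharacter G, (β i j b : ℂ) • (b : G → ℂ) := by
  classical
  have hgen : ∀ (i : TIIdx₁ W₁ W₂) (j : TIIdx₂ W₁ W₂), Cfsg.IsGeneralizedCharacter G
      (Cfsg.indFun (W₁ ⊔ W₂)
        (fun w => 1 - (i.1 w : ℂ) - (j.1 w : ℂ) + (i.1 w : ℂ) * (j.1 w : ℂ)) -
        fun _ => (1 : ℂ)) :=
    fun i j => Cfsg.Agent.Lib.helper4.isGeneralizedCharacter_sub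
      (Cfsg.Agent.Lib.helper4.isGeneralizedCharacter_indFun _
        (isGeneralizedCharacter_tiAlpha i.1 j.1))
      (Cfsg.Agent.Lib.helper4.isGeneralizedCharacter_of_isCharacter
        Cfsg.Agent.Lib.helper4.isCharacter_one)
  choose β hexp hcoef _ using fun i j => Cfsg.Agent.Lib.helper4.exists_int_coeff (hgen i j)
  have h11 : Cfsg.classInner (fun _ : G => (1 : ℂ)) (fun _ => 1) = 1 :=
    Cfsg.Agent.Lib.helper4.classInner_irr_self Cfsg.Agent.Lib.helper4.isIrrCharacter_one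
  have hS := fun (i i' : TIIdx₁ W₁ W₂) (j j' : TIIdx₂ W₁ W₂) =>
    Cfsg.Agent.S1505.result W₁ W₂ hW i.1 i'.1 j.1 j'.1 i.2.1 i'.2.1 j.2.1 j'.2.1
      (fun w hw => ⟨i.2.2 w hw, i'.2.2 w hw⟩) (fun w hw => ⟨j.2.2 w hw, j'.2.2 w hw⟩)
  refine ⟨β, ⟨?_⟩, ?_, ?_⟩
  · intro i j i' j'
    obtain ⟨hA1, hAA⟩ := hS i i' j j'
    have hA1' := (hS i' i' j' j').1
    have h1A : Cfsg.classInner (fun _ : G => (1 : ℂ)) (Cfsg.indFun (W₁ ⊔ W₂)
        (fun w => 1 - (i'.1 w : ℂ) - (j'.1 w : ℂ) + (i'.1 w : ℂ) * (j'.1 w : ℂ))) = 1 := by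
      rw [classInner_conj_symm, hA1', map_one]
    have hc : ((gip (β i j) (β i' j') : ℤ) : ℂ) = Cfsg.classInner (Cfsg.indFun (W₁ ⊔ W₂)
        (fun w => 1 - (i.1 w : ℂ) - (j.1 w : ℂ) + (i.1 w : ℂ) * (j.1 w : ℂ)))
        (Cfsg.indFun (W₁ ⊔ W₂)
        (fun w => 1 - (i'.1 w : ℂ) - (j'.1 w : ℂ) + (i'.1 w : ℂ) * (j'.1 w : ℂ))) - 1 := by
      rw [← classInner_int_comb, ← hexp i j, ← hexp i' j',
        Cfsg.Agent.Lib.helper4.classInner_sub_left, Cfsg.Agent.Lib.helper4.classInner_sub_right,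
        Cfsg.Agent.Lib.helper4.classInner_sub_right, hA1, h1A, h11]
      ring
    rw [hAA] at hc
    by_cases hi : i = i' <;> by_cases hj : j = j'
    · rw [if_pos (congrArg Subtype.val hi), if_pos (congrArg Subtype.val hj)] at hc
      rw [if_pos hi, if_pos hj, if_pos ⟨hi, hj⟩]
      have h3 : ((gip (β i j) (β i' j') : ℤ) : ℂ) = ((3 : ℤ) : ℂ) := by rw [hc]; norm_num
      exact_mod_cast h3
    · rw [if_pos (congrArg Subtype.val hi), if_neg (fun h => hj (Subtype.ext h))] at hc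
      rw [if_pos hi, if_neg hj, if_neg (fun h => hj h.2)]
      have h3 : ((gip (β i j) (β i' j') : ℤ) : ℂ) = ((1 : ℤ) : ℂ) := by rw [hc]; norm_num
      exact_mod_cast h3
    · rw [if_neg (fun h => hi (Subtype.ext h)), if_pos (congrArg Subtype.val hj)] at hc
      rw [if_neg hi, if_pos hj, if_neg (fun h => hi h.1)]
      have h3 : ((gip (β i j) (β i' j') : ℤ) : ℂ) = ((1 : ℤ) : ℂ) := by rw [hc]; norm_num
      exact_mod_cast h3
    · rw [if_neg (fun h => hi (Subtype.ext h)), if_neg (fun h => hj (Subtype.ext h))] at hc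
      rw [if_neg hi, if_neg hj, if_neg (fun h => hi h.1)]
      have h3 : ((gip (β i j) (β i' j') : ℤ) : ℂ) = ((0 : ℤ) : ℂ) := by rw [hc]; norm_num
      exact_mod_cast h3
  · intro i j
    have h := hcoef i j ⟨fun _ => 1, Cfsg.Agent.Lib.helper4.isIrrCharacter_one⟩
    have h' : Cfsg.classInner (Cfsg.indFun (W₁ ⊔ W₂)
        (fun w => 1 - (i.1 w : ℂ) - (j.1 w : ℂ) + (i.1 w : ℂ) * (j.1 w : ℂ)) -
        fun _ => (1 : ℂ)) (fun _ => (1 : ℂ)) =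
        ((β i j ⟨fun _ => 1, Cfsg.Agent.Lib.helper4.isIrrCharacter_one⟩ : ℤ) : ℂ) := h
    rw [Cfsg.Agent.Lib.helper4.classInner_sub_left, (hS i i j j).1, h11, sub_self] at h'
    exact_mod_cast h'.symm
  · intro i j
    rw [← hexp i j, add_sub_cancel]

/-! ### Sizes of the index sets -/

open Classical in
/-- Adding the trivial character to `TIIdx₁` gives all linear characters trivial on `W₂`. -/
noncomputable def tiIdx₁Equiv (W₁ W₂ : Subgroup G) :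
    Option (TIIdx₁ W₁ W₂) ≃
      {φ : ↥(W₁ ⊔ W₂) →* ℂˣ // ∀ w : ↥(W₁ ⊔ W₂), (w : G) ∈ W₂ → φ w = 1} where
  toFun o := o.elim ⟨1, fun _ _ => rfl⟩ (fun i => ⟨i.1, i.2.2⟩)
  invFun s := if h : s.1 = 1 then none else some ⟨s.1, h, s.2⟩
  left_inv o := by
    cases o with
    | none => simp
    | some i => simp [i.2.1]
  right_inv s := by
    dsimp only
    by_cases h : s.1 = 1
    · rw [dif_pos h]
      exact Subtype.ext h.symm
    · rw [dif_neg h]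
      rfl

open Classical in
/-- Adding the trivial character to `TIIdx₂` gives all linear characters trivial on `W₁`. -/
noncomputable def tiIdx₂Equiv (W₁ W₂ : Subgroup G) :
    Option (TIIdx₂ W₁ W₂) ≃
      {ψ : ↥(W₁ ⊔ W₂) →* ℂˣ // ∀ w : ↥(W₁ ⊔ W₂), (w : G) ∈ W₁ → ψ w = 1} where
  toFun o := o.elim ⟨1, fun _ _ => rfl⟩ (fun i => ⟨i.1, i.2.2⟩)
  invFun s := if h : s.1 = 1 then none else some ⟨s.1, h, s.2⟩
  left_inv o := by
    cases o with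
    | none => simp
    | some i => simp [i.2.1]
  right_inv s := by
    dsimp only
    by_cases h : s.1 = 1
    · rw [dif_pos h]
      exact Subtype.ext h.symm
    · rw [dif_neg h]
      rfl

theorem not_both_three [Finite G] (W₁ W₂ : Subgroup G)
    (hW : Cfsg.IsSelfNormalizingCyclic W₁ W₂) :
    ¬ (Nat.card W₁ = 3 ∧ Nat.card W₂ = 3) := by
  obtain ⟨hne1, hne2, hdisj, hcomm, hcyc, -⟩ := hW
  rintro ⟨h1, h2⟩
  obtain ⟨a, ha⟩ := (Subgroup.ne_bot_iff_exists_ne_one).mp hne1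
  obtain ⟨b, hb⟩ := (Subgroup.ne_bot_iff_exists_ne_one).mp hne2
  have hoa : orderOf a = 3 := by
    have hd := orderOf_dvd_natCard a
    rw [h1] at hd
    exact ((Nat.prime_three.eq_one_or_self_of_dvd _ hd).resolve_left
      (fun h => ha (orderOf_eq_one_iff.mp h)))
  have hob : orderOf b = 3 := by
    have hd := orderOf_dvd_natCard b
    rw [h2] at hd
    exact ((Nat.prime_three.eq_one_or_self_of_dvd _ hd).resolve_left
      (fun h => hb (orderOf_eq_one_iff.mp h)))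
  have hoa' : orderOf (Subgroup.inclusion (le_sup_left : W₁ ≤ W₁ ⊔ W₂) a) = 3 := by
    rw [orderOf_injective _ (Subgroup.inclusion_injective le_sup_left), hoa]
  have hob' : orderOf (Subgroup.inclusion (le_sup_right : W₂ ≤ W₁ ⊔ W₂) b) = 3 := by
    rw [orderOf_injective _ (Subgroup.inclusion_injective le_sup_right), hob]
  have hmem := mem_zpowers_of_orderOf_eq (Subgroup.inclusion (le_sup_left : W₁ ≤ W₁ ⊔ W₂) a)
    (Subgroup.inclusion (le_sup_right : W₂ ≤ W₁ ⊔ W₂) b) (by rw [hoa', hob'])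
  obtain ⟨k, hk⟩ := Subgroup.mem_zpowers_iff.mp hmem
  have hk' : ((a : G)) ^ k = (b : G) := by
    have := congrArg Subtype.val hk
    simpa using this
  have hbW₁ : (b : G) ∈ W₁ := by
    rw [← hk']
    exact W₁.zpow_mem a.2 k
  have hb1 : (b : G) ∈ W₁ ⊓ W₂ := ⟨hbW₁, b.2⟩
  rw [hdisj, Subgroup.mem_bot] at hb1
  exact hb (Subtype.ext hb1)

theorem tiIdx_sizes [Finite G] (W₁ W₂ : Subgroup G) (hW : Cfsg.IsSelfNormalizingCyclic W₁ W₂)
    (hodd : Odd (Nat.card ↥(W₁ ⊔ W₂))) :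
    TwoOrBig (TIIdx₁ W₁ W₂) ∧ TwoOrBig (TIIdx₂ W₁ W₂) ∧
      ((Nonempty (TIIdx₂ W₁ W₂) ∧ Big (TIIdx₂ W₁ W₂)) ∨
        (Nonempty (TIIdx₁ W₁ W₂) ∧ Big (TIIdx₁ W₁ W₂))) := by
  have h33 := not_both_three W₁ W₂ hW
  obtain ⟨hne1, hne2, hdisj, hcomm, hcyc, -⟩ := hW
  have hab : ∀ a ∈ W₁ ⊔ W₂, ∀ b ∈ W₁ ⊔ W₂, a * b = b * a :=
    fun a ha b hb => comm_of_isCyclic_sup W₁ W₂ hcyc a b ha hb
  have hab₁ : ∀ a ∈ W₁, ∀ b ∈ W₁, a * b = b * a :=
    fun a ha b hb => hab a (Subgroup.mem_sup_left ha) b (Subgroup.mem_sup_left hb)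
  have hab₂ : ∀ a ∈ W₂, ∀ b ∈ W₂, a * b = b * a :=
    fun a ha b hb => hab a (Subgroup.mem_sup_right ha) b (Subgroup.mem_sup_right hb)
  have hfin : Finite (↥(W₁ ⊔ W₂) →* ℂˣ) := finite_monoidHom_units_of_comm _ hab
  have hc1 : Nat.card (TIIdx₁ W₁ W₂) + 1 = Nat.card W₁ := by
    rw [← card_charsTrivialOn₂ W₁ W₂ hdisj hcomm hab₁, ← Nat.card_congr (tiIdx₁Equiv W₁ W₂),
      Finite.card_option]
  have hc2 : Nat.card (TIIdx₂ W₁ W₂) + 1 = Nat.card W₂ := by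
    rw [← card_charsTrivialOn₁ W₁ W₂ hdisj hcomm hab₂, ← Nat.card_congr (tiIdx₂Equiv W₁ W₂),
      Finite.card_option]
  have hmul := card_sup_eq_mul W₁ W₂ hdisj hcomm
  rw [hmul, Nat.odd_mul] at hodd
  obtain ⟨⟨k1, hk1⟩, ⟨k2, hk2⟩⟩ := hodd
  have hn1 : Nat.card W₁ ≠ 1 := fun h => hne1 (Subgroup.eq_bot_of_card_eq W₁ h)
  have hn2 : Nat.card W₂ ≠ 1 := fun h => hne2 (Subgroup.eq_bot_of_card_eq W₂ h)
  have hI : Nat.card (TIIdx₁ W₁ W₂) = 2 ∨ 4 ≤ Nat.card (TIIdx₁ W₁ W₂) := by omega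
  have hJ : Nat.card (TIIdx₂ W₁ W₂) = 2 ∨ 4 ≤ Nat.card (TIIdx₂ W₁ W₂) := by omega
  refine ⟨twoOrBig_of_card hI, twoOrBig_of_card hJ, ?_⟩
  have h4 : 4 ≤ Nat.card (TIIdx₂ W₁ W₂) ∨ 4 ≤ Nat.card (TIIdx₁ W₁ W₂) := by
    by_contra hcon
    apply h33
    omega
  rcases h4 with h4 | h4
  · exact Or.inl (big_of_card h4)
  · exact Or.inr (big_of_card h4)

/-! ### From the combinatorial decomposition to a signed family -/

theorem exists_signed_family [Fintype G] [Fintype (Cfsg.IrrCharacter G)] {I J : Type*}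
    [Nonempty I] [Nonempty J] (β : I → J → Cfsg.IrrCharacter G → ℤ) (hdec : GridDecomp β)
    (one : Cfsg.IrrCharacter G) (hone : ∀ i j, β i j one = 0) :
    ∃ (Λ : Option I × Option J → Cfsg.IrrCharacter G) (σ : Option I × Option J → ℤ),
      Function.Injective Λ ∧ (∀ p, σ p = 1 ∨ σ p = -1) ∧ Λ (none, none) = one ∧
      σ (none, none) = 1 ∧
      ∀ i j, (∑ b : Cfsg.IrrCharacter G, (β i j b : ℂ) • (b : G → ℂ)) =
        fun g => - (σ (some i, none) : ℂ) * (Λ (some i, none) : G → ℂ) g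
          - (σ (none, some j) : ℂ) * (Λ (none, some j) : G → ℂ) g
          + (σ (some i, some j) : ℂ) * (Λ (some i, some j) : G → ℂ) g := by
  classical
  obtain ⟨x, y, z, sx, sy, sz, h1, h2, h3, h4, h5, h6, h7, h8, h9, h10⟩ := hdec
  obtain ⟨i0⟩ := ‹Nonempty I›
  obtain ⟨j0⟩ := ‹Nonempty J›
  have hx1 : ∀ i, one ≠ x i := by
    intro i e
    have h := h10 i j0 one
    rw [hone i j0, if_pos e, if_neg (by rw [e]; exact h7 i j0),
      if_neg (by rw [e]; exact h8 i i j0)] at h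
    rcases h1 i with h' | h' <;> rw [h'] at h <;> norm_num at h
  have hy1 : ∀ j, one ≠ y j := by
    intro j e
    have h := h10 i0 j one
    rw [hone i0 j, if_neg (by rw [e]; exact (h7 i0 j).symm), if_pos e,
      if_neg (by rw [e]; exact h9 j i0 j)] at h
    rcases h2 j with h' | h' <;> rw [h'] at h <;> norm_num at h
  have hz1 : ∀ i j, one ≠ z i j := by
    intro i j e
    have h := h10 i j one
    rw [hone i j, if_neg (by rw [e]; exact (h8 i i j).symm),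
      if_neg (by rw [e]; exact (h9 j i j).symm), if_pos e] at h
    rcases h3 i j with h' | h' <;> rw [h'] at h <;> norm_num at h
  refine ⟨fun p => match p with
      | (none, none) => one
      | (some i, none) => x i
      | (none, some j) => y j
      | (some i, some j) => z i j,
    fun p => match p with
      | (none, none) => 1
      | (some i, none) => - sx i
      | (none, some j) => - sy j
      | (some i, some j) => sz i j, ?_, ?_, rfl, rfl, ?_⟩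
  · rintro ⟨a, b⟩ ⟨a', b'⟩ h
    cases a with
    | none =>
      cases b with
      | none =>
        cases a' with
        | none =>
          cases b' with
          | none => rfl
          | some j' => exact absurd h (hy1 j')
        | some i' =>
          cases b' with
          | none => exact absurd h (hx1 i')
          | some j' => exact absurd h (hz1 i' j')
      | some j =>
        cases a' with
        | none =>
          cases b' with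
          | none => exact absurd h.symm (hy1 j)
          | some j' => rw [h5 h]
        | some i' =>
          cases b' with
          | none => exact absurd h.symm (h7 i' j)
          | some j' => exact absurd h (h9 j i' j')
    | some i =>
      cases b with
      | none =>
        cases a' with
        | none =>
          cases b' with
          | none => exact absurd h.symm (hx1 i)
          | some j' => exact absurd h (h7 i j')
        | some i' =>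
          cases b' with
          | none => rw [h4 h]
          | some j' => exact absurd h (h8 i i' j')
      | some j =>
        cases a' with
        | none =>
          cases b' with
          | none => exact absurd h.symm (hz1 i j)
          | some j' => exact absurd h.symm (h9 j' i j)
        | some i' =>
          cases b' with
          | none => exact absurd h.symm (h8 i' i j)
          | some j' =>
            obtain ⟨e1, e2⟩ := h6 i j i' j' h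
            rw [e1, e2]
  · rintro ⟨a, b⟩
    cases a with
    | none =>
      cases b with
      | none => exact Or.inl rfl
      | some j =>
        rcases h2 j with h' | h'
        · exact Or.inr (by show - sy j = -1; rw [h'])
        · exact Or.inl (by show - sy j = 1; rw [h']; norm_num)
    | some i =>
      cases b with
      | none =>
        rcases h1 i with h' | h'
        · exact Or.inr (by show - sx i = -1; rw [h'])
        · exact Or.inl (by show - sx i = 1; rw [h']; norm_num)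
      | some j => exact h3 i j
  · intro i j
    have e : ∀ b : Cfsg.IrrCharacter G, (β i j b : ℂ) • (b : G → ℂ) =
        (if b = x i then (sx i : ℂ) • (b : G → ℂ) else 0) +
        (if b = y j then (sy j : ℂ) • (b : G → ℂ) else 0) +
        (if b = z i j then (sz i j : ℂ) • (b : G → ℂ) else 0) := by
      intro b
      rw [h10 i j b]
      push_cast
      rw [add_smul, add_smul, ite_smul, ite_smul, ite_smul, zero_smul]
    rw [Finset.sum_congr rfl (fun b _ => e b), Finset.sum_add_distrib, Finset.sum_add_distrib,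
      Finset.sum_ite_eq', Finset.sum_ite_eq', Finset.sum_ite_eq', if_pos (Finset.mem_univ _),
      if_pos (Finset.mem_univ _), if_pos (Finset.mem_univ _)]
    funext g
    simp only [Pi.add_apply, Pi.smul_apply, smul_eq_mul]
    push_cast
    ring

/-! ### Encoding a linear character of `W₁ ⊔ W₂` by its two parts -/

open Classical in
/-- A linear character trivial on `W₂`, as an optional element of `TIIdx₁`. -/
noncomputable def encOpt₁ (W₁ W₂ : Subgroup G) (φ : ↥(W₁ ⊔ W₂) →* ℂˣ)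
    (h₂ : ∀ w : ↥(W₁ ⊔ W₂), (w : G) ∈ W₂ → φ w = 1) : Option (TIIdx₁ W₁ W₂) :=
  if h : φ = 1 then none else some ⟨φ, h, h₂⟩

open Classical in
/-- A linear character trivial on `W₁`, as an optional element of `TIIdx₂`. -/
noncomputable def encOpt₂ (W₁ W₂ : Subgroup G) (ψ : ↥(W₁ ⊔ W₂) →* ℂˣ)
    (h₁ : ∀ w : ↥(W₁ ⊔ W₂), (w : G) ∈ W₁ → ψ w = 1) : Option (TIIdx₂ W₁ W₂) :=
  if h : ψ = 1 then none else some ⟨ψ, h, h₁⟩

theorem encOpt₁_one (W₁ W₂ : Subgroup G)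
    (h₂ : ∀ w : ↥(W₁ ⊔ W₂), (w : G) ∈ W₂ → (1 : ↥(W₁ ⊔ W₂) →* ℂˣ) w = 1) :
    encOpt₁ W₁ W₂ 1 h₂ = none := dif_pos rfl

theorem encOpt₂_one (W₁ W₂ : Subgroup G)
    (h₁ : ∀ w : ↥(W₁ ⊔ W₂), (w : G) ∈ W₁ → (1 : ↥(W₁ ⊔ W₂) →* ℂˣ) w = 1) :
    encOpt₂ W₁ W₂ 1 h₁ = none := dif_pos rfl

theorem encOpt₁_mk (W₁ W₂ : Subgroup G) (i : TIIdx₁ W₁ W₂) :
    encOpt₁ W₁ W₂ i.1 i.2.2 = some i := dif_neg i.2.1

theorem encOpt₂_mk (W₁ W₂ : Subgroup G) (j : TIIdx₂ W₁ W₂) :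
    encOpt₂ W₁ W₂ j.1 j.2.2 = some j := dif_neg j.2.1

theorem encOpt₁_congr (W₁ W₂ : Subgroup G) {φ φ' : ↥(W₁ ⊔ W₂) →* ℂˣ} (h : φ = φ')
    (h₂ : ∀ w : ↥(W₁ ⊔ W₂), (w : G) ∈ W₂ → φ w = 1)
    (h₂' : ∀ w : ↥(W₁ ⊔ W₂), (w : G) ∈ W₂ → φ' w = 1) :
    encOpt₁ W₁ W₂ φ h₂ = encOpt₁ W₁ W₂ φ' h₂' := by
  subst h
  rfl

theorem encOpt₂_congr (W₁ W₂ : Subgroup G) {ψ ψ' : ↥(W₁ ⊔ W₂) →* ℂˣ} (h : ψ = ψ')
    (h₁ : ∀ w : ↥(W₁ ⊔ W₂), (w : G) ∈ W₁ → ψ w = 1)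
    (h₁' : ∀ w : ↥(W₁ ⊔ W₂), (w : G) ∈ W₁ → ψ' w = 1) :
    encOpt₂ W₁ W₂ ψ h₁ = encOpt₂ W₁ W₂ ψ' h₁' := by
  subst h
  rfl

theorem encOpt₁_inj (W₁ W₂ : Subgroup G) {φ φ' : ↥(W₁ ⊔ W₂) →* ℂˣ}
    (h₂ : ∀ w : ↥(W₁ ⊔ W₂), (w : G) ∈ W₂ → φ w = 1)
    (h₂' : ∀ w : ↥(W₁ ⊔ W₂), (w : G) ∈ W₂ → φ' w = 1)
    (h : encOpt₁ W₁ W₂ φ h₂ = encOpt₁ W₁ W₂ φ' h₂') : φ = φ' := by
  unfold encOpt₁ at h
  by_cases h1 : φ = 1 <;> by_cases h1' : φ' = 1
  · rw [h1, h1']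
  · rw [dif_pos h1, dif_neg h1'] at h
    exact absurd h (by simp)
  · rw [dif_neg h1, dif_pos h1'] at h
    exact absurd h (by simp)
  · rw [dif_neg h1, dif_neg h1'] at h
    exact congrArg Subtype.val (Option.some.inj h)

theorem encOpt₂_inj (W₁ W₂ : Subgroup G) {ψ ψ' : ↥(W₁ ⊔ W₂) →* ℂˣ}
    (h₁ : ∀ w : ↥(W₁ ⊔ W₂), (w : G) ∈ W₁ → ψ w = 1)
    (h₁' : ∀ w : ↥(W₁ ⊔ W₂), (w : G) ∈ W₁ → ψ' w = 1)
    (h : encOpt₂ W₁ W₂ ψ h₁ = encOpt₂ W₁ W₂ ψ' h₁') : ψ = ψ' := by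
  unfold encOpt₂ at h
  by_cases h1 : ψ = 1 <;> by_cases h1' : ψ' = 1
  · rw [h1, h1']
  · rw [dif_pos h1, dif_neg h1'] at h
    exact absurd h (by simp)
  · rw [dif_neg h1, dif_pos h1'] at h
    exact absurd h (by simp)
  · rw [dif_neg h1, dif_neg h1'] at h
    exact congrArg Subtype.val (Option.some.inj h)

/-- The encoding of a linear character of `W₁ ⊔ W₂` by its `W₁`-part and its `W₂`-part. -/
noncomputable def tiEnc (W₁ W₂ : Subgroup G) (hdisj : W₁ ⊓ W₂ = ⊥)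
    (hcomm : ∀ a ∈ W₁, ∀ b ∈ W₂, a * b = b * a) (ω : ↥(W₁ ⊔ W₂) →* ℂˣ) :
    Option (TIIdx₁ W₁ W₂) × Option (TIIdx₂ W₁ W₂) :=
  (encOpt₁ W₁ W₂ (charPart₁ W₁ W₂ hdisj hcomm ω) (charPart₁_of_mem₂ W₁ W₂ hdisj hcomm ω),
   encOpt₂ W₁ W₂ (charPart₂ W₁ W₂ hdisj hcomm ω) (charPart₂_of_mem₁ W₁ W₂ hdisj hcomm ω))

theorem tiEnc_injective (W₁ W₂ : Subgroup G) (hdisj : W₁ ⊓ W₂ = ⊥)
    (hcomm : ∀ a ∈ W₁, ∀ b ∈ W₂, a * b = b * a) :
    Function.Injective (tiEnc W₁ W₂ hdisj hcomm) := by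
  intro ω ω' h
  have h1 := encOpt₁_inj W₁ W₂ (charPart₁_of_mem₂ W₁ W₂ hdisj hcomm ω)
    (charPart₁_of_mem₂ W₁ W₂ hdisj hcomm ω') (congrArg Prod.fst h)
  have h2 := encOpt₂_inj W₁ W₂ (charPart₂_of_mem₁ W₁ W₂ hdisj hcomm ω)
    (charPart₂_of_mem₁ W₁ W₂ hdisj hcomm ω') (congrArg Prod.snd h)
  rw [← charPart_mul W₁ W₂ hdisj hcomm ω, ← charPart_mul W₁ W₂ hdisj hcomm ω', h1, h2]

theorem tiEnc_of_eq (W₁ W₂ : Subgroup G) (hdisj : W₁ ⊓ W₂ = ⊥)
    (hcomm : ∀ a ∈ W₁, ∀ b ∈ W₂, a * b = b * a) (ω φ ψ : ↥(W₁ ⊔ W₂) →* ℂˣ)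
    (hφ₂ : ∀ w : ↥(W₁ ⊔ W₂), (w : G) ∈ W₂ → φ w = 1)
    (hψ₁ : ∀ w : ↥(W₁ ⊔ W₂), (w : G) ∈ W₁ → ψ w = 1) (h : ω = φ * ψ) :
    tiEnc W₁ W₂ hdisj hcomm ω = (encOpt₁ W₁ W₂ φ hφ₂, encOpt₂ W₁ W₂ ψ hψ₁) := by
  have hd := charDecomp_unique W₁ W₂ (charPart₁ W₁ W₂ hdisj hcomm ω) φ
    (charPart₂ W₁ W₂ hdisj hcomm ω) ψ (charPart₁_of_mem₂ W₁ W₂ hdisj hcomm ω) hφ₂
    (charPart₂_of_mem₁ W₁ W₂ hdisj hcomm ω) hψ₁
    ((charPart_mul W₁ W₂ hdisj hcomm ω).trans h)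
  unfold tiEnc
  rw [Prod.mk.injEq]
  exact ⟨encOpt₁_congr W₁ W₂ hd.1 (charPart₁_of_mem₂ W₁ W₂ hdisj hcomm ω) hφ₂,
    encOpt₂_congr W₁ W₂ hd.2 (charPart₂_of_mem₁ W₁ W₂ hdisj hcomm ω) hψ₁⟩

theorem tiEnc_one (W₁ W₂ : Subgroup G) (hdisj : W₁ ⊓ W₂ = ⊥)
    (hcomm : ∀ a ∈ W₁, ∀ b ∈ W₂, a * b = b * a) :
    tiEnc W₁ W₂ hdisj hcomm 1 = (none, none) := by
  rw [tiEnc_of_eq W₁ W₂ hdisj hcomm 1 1 1 (fun _ _ => rfl) (fun _ _ => rfl)
    (one_mul (1 : ↥(W₁ ⊔ W₂) →* ℂˣ)).symm,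
    encOpt₁_one, encOpt₂_one]

theorem tiEnc_left (W₁ W₂ : Subgroup G) (hdisj : W₁ ⊓ W₂ = ⊥)
    (hcomm : ∀ a ∈ W₁, ∀ b ∈ W₂, a * b = b * a) (i : TIIdx₁ W₁ W₂) :
    tiEnc W₁ W₂ hdisj hcomm i.1 = (some i, none) := by
  rw [tiEnc_of_eq W₁ W₂ hdisj hcomm i.1 i.1 1 i.2.2 (fun _ _ => rfl) (mul_one i.1).symm,
    encOpt₁_mk, encOpt₂_one]

theorem tiEnc_right (W₁ W₂ : Subgroup G) (hdisj : W₁ ⊓ W₂ = ⊥)
    (hcomm : ∀ a ∈ W₁, ∀ b ∈ W₂, a * b = b * a) (j : TIIdx₂ W₁ W₂) :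
    tiEnc W₁ W₂ hdisj hcomm j.1 = (none, some j) := by
  rw [tiEnc_of_eq W₁ W₂ hdisj hcomm j.1 1 j.1 (fun _ _ => rfl) j.2.2 (one_mul j.1).symm,
    encOpt₁_one, encOpt₂_mk]

theorem tiEnc_mul (W₁ W₂ : Subgroup G) (hdisj : W₁ ⊓ W₂ = ⊥)
    (hcomm : ∀ a ∈ W₁, ∀ b ∈ W₂, a * b = b * a) (i : TIIdx₁ W₁ W₂) (j : TIIdx₂ W₁ W₂) :
    tiEnc W₁ W₂ hdisj hcomm (i.1 * j.1) = (some i, some j) := by
  rw [tiEnc_of_eq W₁ W₂ hdisj hcomm (i.1 * j.1) i.1 j.1 i.2.2 j.2.2 rfl,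
    encOpt₁_mk, encOpt₂_mk]

end TIGrid

end Cfsg.Agent.Lib.helper32
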