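import Mathlib
import Cfsg.Prelude.Def_FusionSystem
import Cfsg.Prelude.Def_CaseTheorems

/-! S5213 / G1 (architect helper89): a finite 2-group without an elementary abelian subgroup of
order at least 8 has 2-rank at most 2. -/

set_option autoImplicit false

open Cfsg

namespace Cfsg.Agent.Lib.helper32.FS13

/-- PIECE G1. -/
theorem rank_le_two {T : Type*} [Group T] [Finite T] (hT : IsPGroup 2 T)
    (h : ¬ Cfsg.PRankAtLeast 2 3 T) : Cfsg.PRankLE 2 2 T := by
  intro A hA hexp
  by_contra hlt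
  push Not at hlt
  have : Fact (Nat.Prime 2) := ⟨Nat.prime_two⟩
  obtain ⟨n, hn⟩ := IsPGroup.iff_card.mp (hT.to_subgroup A)
  apply h
  refine ⟨A, hA, hexp, ?_⟩
  rw [hn] at hlt ⊢
  have hn3 : 3 ≤ n := by
    by_contra hc
    have hn2 : n ≤ 2 := by omega
    have h1 : 2 ^ n ≤ 2 ^ 2 := Nat.pow_le_pow_right (by norm_num) hn2
    omega
  exact Nat.pow_le_pow_right (by norm_num) hn3

end Cfsg.Agent.Lib.helper32.FS13
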