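import Mathlib
import Cfsg.Prelude.Def_FusionSystem
import Cfsg.Prelude.Def_CaseTheorems

/-! S5213 / G2 (architect helper89): 2-rank at least 2 excludes 2-rank at most 1. -/

set_option autoImplicit false

open Cfsg

namespace Cfsg.Agent.Lib.helper32.FS13

/-- PIECE G2. -/
theorem rank_not_le_one {T : Type*} [Group T] [Finite T] (h : Cfsg.PRankAtLeast 2 2 T) :
    ¬ Cfsg.PRankLE 2 1 T := by
  intro h1
  obtain ⟨A, hA, hexp, hcard⟩ := h
  have h2 := h1 A hA hexp
  omega

end Cfsg.Agent.Lib.helper32.FS13
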