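import Mathlib
import Cfsg.Prelude.Def_Characters
import Cfsg.Prelude.Def_OddOrderChar
import Cfsg.Agent.Lib.helper4.CharDecomp
import Cfsg.Agent.Lib.helper4.CharTheory
import Cfsg.Agent.Lib.helper4.Induction
import Cfsg.Agent.Lib.helper32.Coh
import Cfsg.Agent.Lib.helper32.Coh3
import Cfsg.Agent.Lib.helper32.FrobKer

set_option autoImplicit false

/-!
# Coherent sets of characters of a Frobenius-type normaliser of a TI subgroup
(helper32 library)

`K ≤ N ≤ G`, `K` normal in `N` with the Frobenius condition inside `N`, and induction from `N`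
to `G` restricts back to the identity on class functions of `N` supported on `K` (at the
non-identity elements of `K`).  `S` is the set of irreducible characters of `N` not constant
on `K`, and `star` is a linear isometry on `ℤ[S]` extending induction on `ℤ[S]⁰`.
-/

namespace Cfsg.Agent.Lib.helper32

open Cfsg.Agent.Lib.helper4

universe u

section FrobCoh

variable {G : Type u} [Group G] [Fintype G] (K N : Subgroup G) [Fintype N]
  [hKN : (K.subgroupOf N).Normal]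
  (hfrob : ∀ n ∈ K.subgroupOf N, n ≠ 1 →
    Subgroup.centralizer ({n} : Set N) ≤ K.subgroupOf N)
  (hTIf : ∀ ψ : N → ℂ, Cfsg.IsClassFunction N ψ → (∀ x : N, (x : G) ∉ K → ψ x = 0) →
    ∀ t : N, (t : G) ∈ K → t ≠ 1 → Cfsg.indFun N ψ t = ψ t)
  (S : Set (N → ℂ))
  (hS : S = {χ : N → ℂ | Cfsg.IsIrrCharacter N χ ∧ ∃ k : N, (k : G) ∈ K ∧ χ k ≠ χ 1})
  (star : (N → ℂ) → (G → ℂ)) (hstar : Cfsg.IsLinearIsometryOn (Cfsg.zspan S) star)
  (hext : ∀ α ∈ Cfsg.zspanOn S ({1}ᶜ : Set N), star α = Cfsg.indFun N α)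

include hS in
omit [Fintype G] [Fintype N] hKN in
theorem frobCoh_mem_S {χ : N → ℂ} (hχ : χ ∈ S) :
    Cfsg.IsIrrCharacter N χ ∧ ∃ k ∈ K.subgroupOf N, χ k ≠ χ 1 := by
  rw [hS] at hχ
  obtain ⟨h1, k, hk, hne⟩ := hχ
  exact ⟨h1, k, hk, hne⟩

include hS in
omit [Fintype G] [Fintype N] hKN in
theorem frobCoh_S_of {χ : N → ℂ} (hχ : Cfsg.IsIrrCharacter N χ)
    (hrel : ∃ k ∈ K.subgroupOf N, χ k ≠ χ 1) : χ ∈ S := by
  rw [hS]
  obtain ⟨k, hk, hne⟩ := hrel
  exact ⟨hχ, k, hk, hne⟩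

include hfrob hS hstar hext in
/-- The key computation: if `Θ` is a class function of `G` and `Γ` a class function of `N` with
`⟨star β, Θ⟩ = ⟨β, Γ⟩` for all `β ∈ ℤ[S]⁰`, then `Θ - Γ` is constant on `K ∖ 1`, with the
explicit value below. -/
theorem frobCoh_const (Θ : G → ℂ) (hΘ : Cfsg.IsClassFunction G Θ) (Γ : N → ℂ)
    (hΓ : Cfsg.IsClassFunction N Γ)
    (horth : ∀ β ∈ Cfsg.zspanOn S ({1}ᶜ : Set N),
      Cfsg.classInner (star β) Θ = Cfsg.classInner β Γ)
    {ξ₀ : N → ℂ} (hξ₀ : ξ₀ ∈ S) (k : N) (hk : (k : G) ∈ K) (hk1 : k ≠ 1) :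
    Θ k - Γ k = (Θ 1 - Γ 1) -
      (Cfsg.classInner (fun n : N => Θ n) ξ₀ - Cfsg.classInner Γ ξ₀) / ξ₀ 1 *
        (Nat.card N : ℂ) := by
  classical
  obtain ⟨hξ₀irr, hξ₀rel⟩ := frobCoh_mem_S K N S hS hξ₀
  obtain ⟨d₀, hd₀, hd₀1⟩ := exists_pos_nat_degree hξ₀irr
  have hd₀0 : (d₀ : ℂ) ≠ 0 := by exact_mod_cast hd₀.ne'
  have hΘN : Cfsg.IsClassFunction N (fun n : N => Θ n) := isClassFunction_restrict N hΘ
  have hΔ : Cfsg.IsClassFunction N ((fun n : N => Θ n) - Γ) := by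
    intro g h
    show Θ ↑(h * g * h⁻¹) - Γ (h * g * h⁻¹) = Θ ↑g - Γ g
    rw [hΓ g h]
    congr 1
    exact hΘN g h
  have hprop : ∀ ξ : N → ℂ, Cfsg.IsIrrCharacter N ξ → (∃ k ∈ K.subgroupOf N, ξ k ≠ ξ 1) →
      Cfsg.classInner ((fun n : N => Θ n) - Γ) ξ =
        (Cfsg.classInner (fun n : N => Θ n) ξ₀ - Cfsg.classInner Γ ξ₀) / ξ₀ 1 * ξ 1 := by
    intro ξ hξ hξrel
    have hξS : ξ ∈ S := frobCoh_S_of K N S hS hξ hξrel
    obtain ⟨d, hd, hd1⟩ := exists_pos_nat_degree hξ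
    have hβ : (d₀ : ℤ) • ξ - (d : ℤ) • ξ₀ ∈ Cfsg.zspanOn S ({1}ᶜ : Set N) := by
      apply mem_zspanOn_compl_one (zspan_sub_mem (zspan_zsmul_mem (mem_zspan_of_mem hξS) _)
        (zspan_zsmul_mem (mem_zspan_of_mem hξ₀) _))
      rw [Pi.sub_apply, Pi.smul_apply, Pi.smul_apply, hd1, hd₀1]
      simp only [zsmul_eq_mul, Int.cast_natCast]
      ring
    have h1 : Cfsg.classInner (fun n : N => Θ n) ((d₀ : ℤ) • ξ - (d : ℤ) • ξ₀) =
        Cfsg.classInner Γ ((d₀ : ℤ) • ξ - (d : ℤ) • ξ₀) := by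
      rw [← classInner_conj_symm, ← frobenius_reciprocity N _ hΘ, ← hext _ hβ, horth _ hβ,
        classInner_conj_symm]
    rw [classInner_sub_right, classInner_sub_right, classInner_zsmul_right,
      classInner_zsmul_right, classInner_zsmul_right, classInner_zsmul_right] at h1
    push_cast at h1
    rw [classInner_sub_left, hd₀1, hd1]
    field_simp
    linear_combination h1
  have hA := apply_of_proportional (K.subgroupOf N) hΔ
    ((Cfsg.classInner (fun n : N => Θ n) ξ₀ - Cfsg.classInner Γ ξ₀) / ξ₀ 1) hprop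
    (k := k) hk hk1
  simpa only [Pi.sub_apply, OneMemClass.coe_one] using hA

include hfrob hTIf hS hstar hext in
/-- In the coherent Frobenius/TI situation there is a single integer `m` with
`star χ k - χ k = m χ(1) / [N : K]` for `χ ∈ S` and `1 ≠ k ∈ K`. -/
theorem frobCoh_int :
    ∃ m : ℤ, ∀ χ ∈ S, ∀ k : N, (k : G) ∈ K → k ≠ 1 →
      star χ k - χ k = (m : ℂ) * χ 1 / ((K.subgroupOf N).index : ℂ) := by
  classical
  by_cases hne : S.Nonempty
  swap
  · exact ⟨0, fun χ hχ => absurd ⟨χ, hχ⟩ hne⟩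
  obtain ⟨χ₀, hχ₀⟩ := hne
  have hstar' : Cfsg.IsLinearIsometryOn
      ((Submodule.span ℤ S : Submodule ℤ (N → ℂ)) : Set (N → ℂ)) star := hstar
  obtain ⟨hχ₀irr, hχ₀rel⟩ := frobCoh_mem_S K N S hS hχ₀
  obtain ⟨d₀, hd₀, hd₀1, hd₀dvd⟩ := irr_degree_nat_dvd hχ₀irr
  have hd₀0 : (d₀ : ℂ) ≠ 0 := by exact_mod_cast hd₀.ne'
  obtain ⟨c₀, hc₀⟩ := hd₀dvd
  have hidx0 : ((K.subgroupOf N).index : ℂ) ≠ 0 := by
    have : (K.subgroupOf N).index ≠ 0 := Subgroup.index_ne_zero_of_finite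
    exact_mod_cast this
  -- a non-identity element of K
  obtain ⟨k₁, hk₁, hk₁ne⟩ := hχ₀rel
  have hk₁1 : k₁ ≠ 1 := fun h => hk₁ne (by rw [h])
  have hχ₀rel : ∃ k ∈ K.subgroupOf N, χ₀ k ≠ χ₀ 1 := ⟨k₁, hk₁, hk₁ne⟩
  -- the constants
  let v : (N → ℂ) → ℂ := fun χ => (star χ 1 - χ 1) -
      (Cfsg.classInner (fun n : N => star χ n) χ₀ - Cfsg.classInner χ χ₀) / χ₀ 1 *
        (Nat.card N : ℂ)
  have hstargen : ∀ χ ∈ S, Cfsg.IsGeneralizedCharacter G (star χ) :=
    fun χ hχ => lio_gen hstar' (Submodule.subset_span hχ)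
  have hv : ∀ χ ∈ S, ∀ k : N, (k : G) ∈ K → k ≠ 1 → star χ k - χ k = v χ := by
    intro χ hχ k hk hk1
    obtain ⟨hχirr, -⟩ := frobCoh_mem_S K N S hS hχ
    exact frobCoh_const K N hfrob S hS star hstar hext (star χ)
      (isClassFunction_of_isGeneralizedCharacter (hstargen χ hχ)) χ
      (isClassFunction_of_isIrrCharacter hχirr)
      (fun β hβ => lio_inner hstar' hβ.1 (Submodule.subset_span hχ)) hχ₀ k hk hk1
  -- integrality of the constants
  have hvint : ∀ χ ∈ S, ∃ z : ℤ, v χ = z := by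
    intro χ hχ
    obtain ⟨hχirr, -⟩ := frobCoh_mem_S K N S hS hχ
    obtain ⟨n1, hn1⟩ := exists_int_degree (hstargen χ hχ)
    obtain ⟨d, -, hd1⟩ := exists_pos_nat_degree hχirr
    obtain ⟨a, ha⟩ := exists_int_classInner_irr
      (isGeneralizedCharacter_restrict N (hstargen χ hχ)) hχ₀irr
    obtain ⟨b, hb⟩ := exists_int_classInner_irr
      (isGeneralizedCharacter_of_isIrrCharacter hχirr) hχ₀irr
    refine ⟨n1 - d - (a - b) * c₀, ?_⟩
    show (star χ 1 - χ 1) -
      (Cfsg.classInner (fun n : N => star χ n) χ₀ - Cfsg.classInner χ χ₀) / χ₀ 1 *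
        (Nat.card N : ℂ) = _
    rw [hn1, hd1, ha, hb, hd₀1, hc₀]
    push_cast
    field_simp
  -- proportionality
  have hprop : ∀ χ ∈ S, ∀ ξ ∈ S, ξ 1 * v χ = χ 1 * v ξ := by
    intro χ hχ ξ hξ
    obtain ⟨hχirr, hχrel⟩ := frobCoh_mem_S K N S hS hχ
    obtain ⟨hξirr, hξrel⟩ := frobCoh_mem_S K N S hS hξ
    obtain ⟨dχ, -, hdχ⟩ := exists_pos_nat_degree hχirr
    obtain ⟨dξ, -, hdξ⟩ := exists_pos_nat_degree hξirr
    have hα : (dξ : ℤ) • χ - (dχ : ℤ) • ξ ∈ Cfsg.zspanOn S ({1}ᶜ : Set N) := by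
      apply mem_zspanOn_compl_one (zspan_sub_mem (zspan_zsmul_mem (mem_zspan_of_mem hχ) _)
        (zspan_zsmul_mem (mem_zspan_of_mem hξ) _))
      rw [Pi.sub_apply, Pi.smul_apply, Pi.smul_apply, hdχ, hdξ]
      simp only [zsmul_eq_mul, Int.cast_natCast]
      ring
    have hαcf : Cfsg.IsClassFunction N ((dξ : ℤ) • χ - (dχ : ℤ) • ξ) := by
      intro g h
      simp only [Pi.sub_apply, Pi.smul_apply]
      rw [isClassFunction_of_isIrrCharacter hχirr g h,
        isClassFunction_of_isIrrCharacter hξirr g h]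
    have hαK : ∀ x : N, (x : G) ∉ K → ((dξ : ℤ) • χ - (dχ : ℤ) • ξ) x = 0 := by
      intro x hx
      have hx' : x ∉ K.subgroupOf N := hx
      simp only [Pi.sub_apply, Pi.smul_apply]
      rw [relevant_vanish (K.subgroupOf N) hfrob hχirr hχrel hx',
        relevant_vanish (K.subgroupOf N) hfrob hξirr hξrel hx']
      simp
    have h1 := hTIf _ hαcf hαK k₁ hk₁ hk₁1
    rw [← hext _ hα, lio_sub hstar' (Submodule.smul_mem _ _ (Submodule.subset_span hχ))
      (Submodule.smul_mem _ _ (Submodule.subset_span hξ)),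
      lio_zsmul hstar' (Submodule.subset_span hχ), lio_zsmul hstar' (Submodule.subset_span hξ)]
      at h1
    simp only [Pi.sub_apply, Pi.smul_apply] at h1
    simp only [zsmul_eq_mul, Int.cast_natCast] at h1
    have e1 := hv χ hχ k₁ hk₁ hk₁1
    have e2 := hv ξ hξ k₁ hk₁ hk₁1
    rw [← e1, ← e2, hdχ, hdξ]
    linear_combination h1
  -- the integer
  obtain ⟨m, hm⟩ := frob_integrality (K.subgroupOf N) hfrob
    (v χ₀ * ((K.subgroupOf N).index : ℂ) / χ₀ 1)
    (by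
      intro ξ hξ hξrel
      have hξS : ξ ∈ S := frobCoh_S_of K N S hS hξ hξrel
      obtain ⟨z, hz⟩ := hvint ξ hξS
      refine ⟨z, ?_⟩
      rw [← hz]
      have h2 := hprop χ₀ hχ₀ ξ hξS
      rw [hd₀1] at h2 ⊢
      field_simp
      linear_combination h2)
    ⟨χ₀, hχ₀irr, hχ₀rel⟩
  refine ⟨m, ?_⟩
  intro χ hχ k hk hk1
  rw [hv χ hχ k hk hk1, ← hm]
  have h2 := hprop χ₀ hχ₀ χ hχ
  rw [hd₀1] at h2 ⊢
  field_simp
  linear_combination -h2

include hfrob hS hstar hext in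
/-- In the coherent Frobenius/TI situation with at least two members in `S`, an irreducible
character of `G` is `± star χ` for some `χ ∈ S` exactly when it is not constant on `K ∖ 1`. -/
theorem frobCoh_exceptional_iff (hKle : K ≤ N) (htwo : ∃ χ ∈ S, ∃ ξ ∈ S, χ ≠ ξ)
    (ψ : G → ℂ) (hψ : Cfsg.IsIrrCharacter G ψ) :
    (∃ χ ∈ S, ψ = star χ ∨ ψ = -star χ) ↔
      ∃ a ∈ K, ∃ b ∈ K, a ≠ 1 ∧ b ≠ 1 ∧ ψ a ≠ ψ b := by
  classical
  have hstar' : Cfsg.IsLinearIsometryOn
      ((Submodule.span ℤ S : Submodule ℤ (N → ℂ)) : Set (N → ℂ)) star := hstar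
  have hstargen : ∀ χ ∈ S, Cfsg.IsGeneralizedCharacter G (star χ) :=
    fun χ hχ => lio_gen hstar' (Submodule.subset_span hχ)
  constructor
  · rintro ⟨χ, hχ, hψχ⟩
    obtain ⟨hχirr, hχrel⟩ := frobCoh_mem_S K N S hS hχ
    -- another member of S
    have hother : ∃ ξ ∈ S, χ ≠ ξ := by
      obtain ⟨χ₁, hχ₁, χ₂, hχ₂, hne⟩ := htwo
      by_cases h : χ = χ₁
      · exact ⟨χ₂, hχ₂, by rw [h]; exact hne⟩
      · exact ⟨χ₁, hχ₁, h⟩
    obtain ⟨ξ, hξ, hne⟩ := hother
    obtain ⟨hξirr, hξrel⟩ := frobCoh_mem_S K N S hS hξ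
    obtain ⟨a, ha, b, hb, ha1, hb1, hab⟩ :=
      relevant_not_const (K.subgroupOf N) hfrob hχirr hχrel hξirr hξrel hne
    have hconst := frobCoh_const K N hfrob S hS star hstar hext (star χ)
      (isClassFunction_of_isGeneralizedCharacter (hstargen χ hχ)) χ
      (isClassFunction_of_isIrrCharacter hχirr)
      (fun β hβ => lio_inner hstar' hβ.1 (Submodule.subset_span hχ)) hχ
    have ea := hconst a ha ha1
    have eb := hconst b hb hb1
    have hstarab : star χ a ≠ star χ b := by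
      intro h
      apply hab
      have : star χ (a : G) - χ a = star χ (b : G) - χ b := by rw [ea, eb]
      rw [h] at this
      exact sub_right_injective this
    refine ⟨(a : G), ha, (b : G), hb, fun h => ha1 (Subtype.ext h), fun h => hb1 (Subtype.ext h),
      ?_⟩
    rcases hψχ with h | h
    · rw [h]; exact hstarab
    · rw [h]
      simp only [Pi.neg_apply]
      intro h'
      exact hstarab (neg_injective h')
  · rintro ⟨a, ha, b, hb, ha1, hb1, hab⟩
    by_contra hno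
    push Not at hno
    obtain ⟨χ₀, hχ₀, -⟩ := htwo
    have hzero : ∀ χ ∈ S, Cfsg.classInner (star χ) ψ = 0 := by
      intro χ hχ
      have hnorm : Cfsg.classInner (star χ) (star χ) = 1 := by
        rw [lio_inner hstar' (Submodule.subset_span hχ) (Submodule.subset_span hχ)]
        exact classInner_irr_self (frobCoh_mem_S K N S hS hχ).1
      rcases isIrrCharacter_or_neg_of_norm_one (hstargen χ hχ) hnorm with h | h
      · exact classInner_irr_ne h hψ (fun e => (hno χ hχ).1 e.symm)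
      · have h0 : Cfsg.classInner (-star χ) ψ = 0 :=
          classInner_irr_ne h hψ (fun e => (hno χ hχ).2 e.symm)
        rw [classInner_neg_left] at h0
        exact neg_eq_zero.mp h0
    have hzero' : ∀ β ∈ Submodule.span ℤ S, Cfsg.classInner (star β) ψ = 0 := by
      intro β hβ
      induction hβ using Submodule.span_induction with
      | mem x hx => exact hzero x hx
      | zero => rw [lio_zero hstar', classInner_zero_left]
      | add x y hx hy ihx ihy => rw [lio_add hstar' hx hy, classInner_add_left, ihx, ihy, add_zero]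
      | smul n x hx ihx => rw [lio_zsmul hstar' hx, classInner_zsmul_left, ihx, mul_zero]
    have hconst := frobCoh_const K N hfrob S hS star hstar hext ψ
      (isClassFunction_of_isIrrCharacter hψ) 0 (fun _ _ => rfl)
      (fun β hβ => by rw [hzero' β hβ.1, classInner_zero_right]) hχ₀
    have ea := hconst ⟨a, hKle ha⟩ ha (fun h => ha1 (congrArg Subtype.val h))
    have eb := hconst ⟨b, hKle hb⟩ hb (fun h => hb1 (congrArg Subtype.val h))
    apply hab
    have : ψ a - (0 : N → ℂ) ⟨a, hKle ha⟩ = ψ b - (0 : N → ℂ) ⟨b, hKle hb⟩ := by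
      rw [ea, eb]
    simpa using this

end FrobCoh

end Cfsg.Agent.Lib.helper32
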