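import Cfsg.Agent.Lib.helper3.GfHeis

set_option autoImplicit false

namespace Cfsg.Agent.Lib.helper3.Gf

universe u

open HG

section
variable {n : ℕ} [NeZero n] {L : Type u} [Field L] {σ : L →+* L} {lam : L} [h : HData n L σ lam]

/-- elements of `HN` commute with everything -/
theorem h32_HN_comm (m : HG n L σ lam) (hm : m ∈ (HN : Subgroup (HG n L σ lam))) (g : HG n L σ lam) :
    g * m = m * g := by
  obtain ⟨hx, hk⟩ := hm
  ext
  · simp [hx, hk, pw_zero]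
  · simp [hx, hk, pw_zero]; ring
  · simp [hk]

/-- HNG (M/L) : `N` consists of non-generators. -/
theorem hng (hnorm : ∀ x : L, ∃ z, z + σ z = x * σ x) (hH90 : ∀ z : L, z + σ z = 0 → ∃ x, x - σ x = z) :
    NonGen (HN : Subgroup (HG n L σ lam)) := by
  intro S hS
  have hNS : (HN : Subgroup (HG n L σ lam)) ≤ S := by
    intro m hm
    obtain ⟨hx, hk⟩ := hm
    have hmz : m.z + σ m.z = 0 := by
      have := m.hz
      rw [hx] at this
      simpa using this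
    obtain ⟨x, hxz⟩ := hH90 m.z hmz
    obtain ⟨z₁, hz₁⟩ := hnorm x
    obtain ⟨z₂, hz₂⟩ := hnorm 1
    let u : HG n L σ lam := ⟨x, z₁, 0, hz₁⟩
    let v : HG n L σ lam := ⟨1, z₂, 0, hz₂⟩
    have hcomm : u * v * u⁻¹ * v⁻¹ = m := by
      ext
      · simp [u, v, pw_zero, hx]
      · simp [u, v, pw_zero]
        rw [← hxz]; ring
      · simp [u, v, hk]
    -- decompose u and v
    have hnormal : (HN : Subgroup (HG n L σ lam)).Normal := by
      refine ⟨fun c hc g => ?_⟩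
      have e := h32_HN_comm c hc g
      rw [e, mul_assoc, mul_inv_cancel, mul_one]
      exact hc
    have hdec : ∀ g : HG n L σ lam, ∃ s ∈ S, ∃ c ∈ (HN : Subgroup (HG n L σ lam)), g = s * c := by
      intro g
      have hg : g ∈ S ⊔ (HN : Subgroup (HG n L σ lam)) := by rw [hS]; trivial
      obtain ⟨s, hs, c, hc, e⟩ := Subgroup.mem_sup_of_normal_right.mp hg
      exact ⟨s, hs, c, hc, e.symm⟩
    obtain ⟨s, hs, c, hc, hu⟩ := hdec u
    obtain ⟨s', hs', c', hc', hv⟩ := hdec v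
    have key : u * v * u⁻¹ * v⁻¹ = s * s' * s⁻¹ * s'⁻¹ := by
      rw [hu, hv]
      have e1 : ∀ g, g * c = c * g := h32_HN_comm c hc
      have e2 : ∀ g, g * c' = c' * g := h32_HN_comm c' hc'
      have e1' : ∀ g, g * c⁻¹ = c⁻¹ * g := h32_HN_comm c⁻¹ (Subgroup.inv_mem _ hc)
      have e2' : ∀ g, g * c'⁻¹ = c'⁻¹ * g := h32_HN_comm c'⁻¹ (Subgroup.inv_mem _ hc')
      simp only [mul_inv_rev]
      calc s * c * (s' * c') * (c⁻¹ * s⁻¹) * (c'⁻¹ * s'⁻¹)
          = s * c * s' * (c' * c⁻¹) * s⁻¹ * c'⁻¹ * s'⁻¹ := by group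
        _ = s * c * s' * (c⁻¹ * c') * s⁻¹ * c'⁻¹ * s'⁻¹ := by rw [e1' c']
        _ = s * (c * s') * c⁻¹ * (c' * s⁻¹) * c'⁻¹ * s'⁻¹ := by group
        _ = s * (s' * c) * c⁻¹ * (s⁻¹ * c') * c'⁻¹ * s'⁻¹ := by rw [← e1 s', ← e2 s⁻¹]
        _ = s * s' * s⁻¹ * s'⁻¹ := by group
    rw [← hcomm, key]
    exact Subgroup.mul_mem _ (Subgroup.mul_mem _ (Subgroup.mul_mem _ hs hs') (Subgroup.inv_mem _ hs))
      (Subgroup.inv_mem _ hs')
  rw [← hS]
  exact (sup_eq_left.mpr hNS).symm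

end

end Cfsg.Agent.Lib.helper3.Gf
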