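import Mathlib

set_option autoImplicit false

/-!
# Integer vectors of norm 3 (helper32 library, for Peterfalvi (3.5))

`gip f g` is the standard inner product of two integer vectors indexed by a finite type.
A vector of norm 3 has exactly three nonzero entries, all `±1`.  `pair_rule`: two norm-3 vectors
with inner product 1 (and a parity witness) have exactly one common support element, with
equal values.
-/

namespace Cfsg.Agent.Lib.helper32

open Classical

section Grid1

variable {B : Type*} [Fintype B]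

/-- The standard inner product of two integer vectors. -/
def gip (f g : B → ℤ) : ℤ := ∑ b, f b * g b

theorem gip_comm (f g : B → ℤ) : gip f g = gip g f := by
  unfold gip
  exact Finset.sum_congr rfl (fun b _ => mul_comm _ _)

theorem n3_val {f : B → ℤ} (h : gip f f = 3) (b : B) : f b = 0 ∨ f b = 1 ∨ f b = -1 := by
  have h1 : f b * f b ≤ 3 := by
    rw [← h]
    unfold gip
    exact Finset.single_le_sum (f := fun b => f b * f b) (fun i _ => mul_self_nonneg (f i))
      (Finset.mem_univ b)
  have h2 : -1 ≤ f b := by nlinarith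
  have h3 : f b ≤ 1 := by nlinarith
  omega

theorem n3_card {f : B → ℤ} (h : gip f f = 3) :
    (Finset.univ.filter (fun b => f b ≠ 0)).card = 3 := by
  have h1 : ((Finset.univ.filter (fun b => f b ≠ 0)).card : ℤ) = gip f f := by
    rw [Finset.card_filter]
    push_cast
    unfold gip
    apply Finset.sum_congr rfl
    intro b _
    rcases n3_val h b with hb | hb | hb <;> simp [hb]
  rw [h] at h1
  exact_mod_cast h1

theorem n3_not_four {f : B → ℤ} (h : gip f f = 3) {p1 p2 p3 p4 : B} (h12 : p1 ≠ p2)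
    (h13 : p1 ≠ p3) (h14 : p1 ≠ p4) (h23 : p2 ≠ p3) (h24 : p2 ≠ p4) (h34 : p3 ≠ p4)
    (h1 : f p1 ≠ 0) (h2 : f p2 ≠ 0) (h3 : f p3 ≠ 0) (h4 : f p4 ≠ 0) : False := by
  have hsub : ({p1, p2, p3, p4} : Finset B) ⊆ Finset.univ.filter (fun b => f b ≠ 0) := by
    intro b hb
    simp only [Finset.mem_insert, Finset.mem_singleton] at hb
    rw [Finset.mem_filter]
    refine ⟨Finset.mem_univ _, ?_⟩
    rcases hb with rfl | rfl | rfl | rfl <;> assumption
  have hc := Finset.card_le_card hsub
  rw [n3_card h] at hc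
  have h4c : ({p1, p2, p3, p4} : Finset B).card = 4 := by
    rw [Finset.card_insert_of_notMem, Finset.card_insert_of_notMem,
      Finset.card_insert_of_notMem, Finset.card_singleton]
    all_goals simp [*]
  omega

theorem n3_three {f : B → ℤ} (h : gip f f = 3) {p1 p2 p3 : B} (h12 : p1 ≠ p2) (h13 : p1 ≠ p3)
    (h23 : p2 ≠ p3) (h1 : f p1 ≠ 0) (h2 : f p2 ≠ 0) (h3 : f p3 ≠ 0) (b : B) (hb : f b ≠ 0) :
    b = p1 ∨ b = p2 ∨ b = p3 := by
  by_contra hcon
  push Not at hcon
  exact n3_not_four h h12 h13 (Ne.symm hcon.1) h23 (Ne.symm hcon.2.1) (Ne.symm hcon.2.2)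
    h1 h2 h3 hb

theorem n3_third {f : B → ℤ} (h : gip f f = 3) (p1 p2 : B) :
    ∃ p3, p3 ≠ p1 ∧ p3 ≠ p2 ∧ f p3 ≠ 0 := by
  by_contra hcon
  push Not at hcon
  have hsub : Finset.univ.filter (fun b => f b ≠ 0) ⊆ ({p1, p2} : Finset B) := by
    intro b hb
    rw [Finset.mem_filter] at hb
    simp only [Finset.mem_insert, Finset.mem_singleton]
    by_contra hb'
    push Not at hb'
    exact hb.2 (hcon b hb'.1 hb'.2)
  have hc := Finset.card_le_card hsub
  rw [n3_card h] at hc
  have : ({p1, p2} : Finset B).card ≤ 2 := Finset.card_le_two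
  omega

theorem gip_three (f g : B → ℤ) {p1 p2 p3 : B} (h12 : p1 ≠ p2) (h13 : p1 ≠ p3) (h23 : p2 ≠ p3)
    (hg : ∀ b, g b ≠ 0 → b = p1 ∨ b = p2 ∨ b = p3) :
    gip f g = f p1 * g p1 + f p2 * g p2 + f p3 * g p3 := by
  unfold gip
  rw [← Finset.sum_subset (Finset.subset_univ ({p1, p2, p3} : Finset B))]
  · rw [Finset.sum_insert (by simp [h12, h13]), Finset.sum_insert (by simp [h23]),
      Finset.sum_singleton]
    ring
  · intro b _ hb
    simp only [Finset.mem_insert, Finset.mem_singleton] at hb
    have : g b = 0 := by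
      by_contra h0
      exact hb (hg b h0)
    rw [this, mul_zero]

/-- Inner product with a vector having three entries `1`. -/
theorem gip_ones {g : B → ℤ} (hg : gip g g = 3) {p1 p2 p3 : B} (h12 : p1 ≠ p2) (h13 : p1 ≠ p3)
    (h23 : p2 ≠ p3) (v1 : g p1 = 1) (v2 : g p2 = 1) (v3 : g p3 = 1) (f : B → ℤ) :
    gip g f = f p1 + f p2 + f p3 := by
  rw [gip_comm, gip_three f g h12 h13 h23
    (n3_three hg h12 h13 h23 (by rw [v1]; norm_num) (by rw [v2]; norm_num) (by rw [v3]; norm_num)),
    v1, v2, v3]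
  ring

/-- Two norm-3 vectors with inner product 1, together with a parity witness `h`, have exactly one
common support element, where their values agree. -/
theorem pair_rule {f g h : B → ℤ} (hf : gip f f = 3) (hg : gip g g = 3) (hfg : gip f g = 1)
    (hhf : gip h f = 1) (hhg : gip h g = 0) :
    ∃ e, f e ≠ 0 ∧ g e ≠ 0 ∧ f e = g e ∧ ∀ b, f b ≠ 0 → g b ≠ 0 → b = e := by
  have hdiff : ∑ b, (f b - g b) * (f b - g b) = 4 := by
    have e1 : ∀ b, (f b - g b) * (f b - g b) = f b * f b - 2 * (f b * g b) + g b * g b :=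
      fun b => by ring
    simp only [e1, Finset.sum_add_distrib, Finset.sum_sub_distrib, ← Finset.mul_sum]
    unfold gip at hf hg hfg
    rw [hf, hg, hfg]
    norm_num
  have P1 : ∀ b, f b ≠ 0 → g b ≠ 0 → f b = g b := by
    intro e0 hfe hge
    by_contra hne
    have hval : (f e0 - g e0) * (f e0 - g e0) = 4 := by
      rcases n3_val hf e0 with h1 | h1 | h1 <;> rcases n3_val hg e0 with h2 | h2 | h2 <;>
        simp_all
    have hrest : ∀ b, b ≠ e0 → f b = g b := by
      intro b hb
      by_contra hbne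
      have hpos : 0 < (f b - g b) * (f b - g b) := by
        exact mul_self_pos.mpr (sub_ne_zero.mpr hbne)
      have h2 : (f e0 - g e0) * (f e0 - g e0) + (f b - g b) * (f b - g b) ≤
          ∑ b, (f b - g b) * (f b - g b) := by
        have hsub : ({e0, b} : Finset B) ⊆ Finset.univ := Finset.subset_univ _
        have h3 := Finset.sum_le_sum_of_subset_of_nonneg hsub
          (f := fun b => (f b - g b) * (f b - g b)) (fun i _ _ => mul_self_nonneg _)
        rwa [Finset.sum_pair (Ne.symm hb)] at h3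
      omega
    have hsum : gip h f - gip h g = h e0 * (f e0 - g e0) := by
      unfold gip
      rw [← Finset.sum_sub_distrib, Finset.sum_eq_single e0]
      · ring
      · intro b _ hb
        rw [hrest b hb]
        ring
      · intro hn
        exact absurd (Finset.mem_univ _) hn
    rw [hhf, hhg] at hsum
    rcases n3_val hf e0 with h1 | h1 | h1 <;> rcases n3_val hg e0 with h2 | h2 | h2 <;>
      simp_all <;> omega
  have hcard : ((Finset.univ.filter (fun b => f b ≠ 0 ∧ g b ≠ 0)).card : ℤ) = gip f g := by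
    rw [Finset.card_filter]
    push_cast
    unfold gip
    apply Finset.sum_congr rfl
    intro b _
    by_cases hb : f b ≠ 0 ∧ g b ≠ 0
    · rw [if_pos hb, ← P1 b hb.1 hb.2]
      rcases n3_val hf b with h1 | h1 | h1
      · exact absurd h1 hb.1
      · rw [h1]; norm_num
      · rw [h1]; norm_num
    · rw [if_neg hb]
      rw [not_and_or] at hb
      rcases hb with hb | hb
      · rw [not_not.mp hb, zero_mul]
      · rw [not_not.mp hb, mul_zero]
  rw [hfg] at hcard
  have hcard1 : (Finset.univ.filter (fun b => f b ≠ 0 ∧ g b ≠ 0)).card = 1 := by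
    exact_mod_cast hcard
  obtain ⟨e, he⟩ := Finset.card_eq_one.mp hcard1
  have hemem : e ∈ Finset.univ.filter (fun b => f b ≠ 0 ∧ g b ≠ 0) := by
    rw [he]
    exact Finset.mem_singleton_self e
  rw [Finset.mem_filter] at hemem
  refine ⟨e, hemem.2.1, hemem.2.2, P1 e hemem.2.1 hemem.2.2, ?_⟩
  intro b hfb hgb
  have hb : b ∈ Finset.univ.filter (fun b => f b ≠ 0 ∧ g b ≠ 0) := by
    rw [Finset.mem_filter]
    exact ⟨Finset.mem_univ _, hfb, hgb⟩
  rw [he] at hb
  exact Finset.mem_singleton.mp hb

theorem n3_natAbs_sum {f : B → ℤ} (h : gip f f = 3) : ∑ b, (f b).natAbs = 3 := by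
  have h1 : ((∑ b, (f b).natAbs : ℕ) : ℤ) = gip f f := by
    push_cast
    unfold gip
    apply Finset.sum_congr rfl
    intro b _
    rcases n3_val h b with hb | hb | hb <;> simp [hb]
  rw [h] at h1
  exact_mod_cast h1

theorem list_natAbs_le {f : B → ℤ} (h : gip f f = 3) (l : List B) (hl : l.Nodup) :
    (l.map (fun b => (f b).natAbs)).sum ≤ 3 := by
  rw [← List.sum_toFinset _ hl, ← n3_natAbs_sum h]
  exact Finset.sum_le_sum_of_subset (Finset.subset_univ _)

theorem zero_outside {f : B → ℤ} (h : gip f f = 3) (l : List B) (hl : l.Nodup)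
    (h3 : (l.map (fun b => (f b).natAbs)).sum = 3) (b : B) (hb : b ∉ l) : f b = 0 := by
  by_contra hne
  have h1 := list_natAbs_le h (b :: l) (List.nodup_cons.mpr ⟨hb, hl⟩)
  rw [List.map_cons, List.sum_cons, h3] at h1
  have : 0 < (f b).natAbs := Int.natAbs_pos.mpr hne
  omega

theorem pair_inside {f g : B → ℤ} (hf : gip f f = 3) (hnn : ∀ b, 0 ≤ f b * g b)
    (hfg : gip f g = 1) (l : List B) (hl : l.Nodup) :
    0 ≤ (l.map (fun b => f b * g b)).sum ∧ (l.map (fun b => f b * g b)).sum ≤ 1 ∧
    ((l.map (fun b => (f b).natAbs)).sum = 3 → (l.map (fun b => f b * g b)).sum = 1) := by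
  rw [← List.sum_toFinset _ hl]
  refine ⟨Finset.sum_nonneg (fun b _ => hnn b), ?_, ?_⟩
  · rw [← hfg]
    unfold gip
    exact Finset.sum_le_sum_of_subset_of_nonneg (Finset.subset_univ _) (fun b _ _ => hnn b)
  · intro h3
    rw [← hfg]
    unfold gip
    apply Finset.sum_subset (Finset.subset_univ _)
    intro b _ hb
    rw [List.mem_toFinset] at hb
    rw [zero_outside hf l hl h3 b hb, zero_mul]

end Grid1

end Cfsg.Agent.Lib.helper32
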