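import Cfsg.Agent.Lib.helper32.Grid1

set_option autoImplicit false

/-!
# Two rows of norm-3 integer vectors (helper32 library, for Peterfalvi (3.5))

`TwoRow c d`: families `c d : J → B → ℤ` of norm-3 vectors with `(c j, c j') = 1`,
`(d j, d j') = 1` for `j ≠ j'` and `(c j, d j') = δ`.  Main result: if `J` has at least four
elements then the supports of all `c j` share a common element (`TwoRow.sunflower`).
-/

namespace Cfsg.Agent.Lib.helper32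

open Classical

section Grid2

variable {B : Type*} [Fintype B] {J : Type*}

theorem t2_row_t (t1 t2 t3 t4 t5 t6 t7 : ℤ)
    (bt1 : -1 ≤ t1 ∧ t1 ≤ 1) (bt2 : -1 ≤ t2 ∧ t2 ≤ 1) (bt3 : -1 ≤ t3 ∧ t3 ≤ 1) (bt4 : -1 ≤ t4 ∧ t4 ≤ 1)
    (bt5 : -1 ≤ t5 ∧ t5 ≤ 1) (bt6 : -1 ≤ t6 ∧ t6 ≤ 1) (bt7 : -1 ≤ t7 ∧ t7 ≤ 1)
    (nt : t1.natAbs + (t2.natAbs + (t3.natAbs + (t4.natAbs + (t5.natAbs + (t6.natAbs + (t7.natAbs)))))) ≤ 3)
    (etp : t1 + t2 + t5 = 0)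
    (etq : t1 + t3 + t6 = 0)
    (etr : t1 + t4 + t7 = 0)
    (ett : t2 + t3 + t4 = 1)
    (gt2 : 0 ≤ t2) (gt3 : 0 ≤ t3) (gt4 : 0 ≤ t4) :
    (t1 = 0 ∧ t2 = 0 ∧ t3 = 0 ∧ t4 = 1 ∧ t5 = 0 ∧ t6 = 0 ∧ t7 = -1) ∨
      (t1 = 0 ∧ t2 = 0 ∧ t3 = 1 ∧ t4 = 0 ∧ t5 = 0 ∧ t6 = -1 ∧ t7 = 0) ∨
      (t1 = 0 ∧ t2 = 1 ∧ t3 = 0 ∧ t4 = 0 ∧ t5 = -1 ∧ t6 = 0 ∧ t7 = 0) := by
  obtain ⟨lt1, ut1⟩ := bt1
  obtain ⟨lt2, ut2⟩ := bt2
  obtain ⟨lt3, ut3⟩ := bt3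
  obtain ⟨lt4, ut4⟩ := bt4
  interval_cases t1 <;> interval_cases t2 <;> interval_cases t3 <;> interval_cases t4 <;> omega

theorem t2_row_p (p1 p2 p3 p4 p5 p6 p7 : ℤ)
    (bp1 : -1 ≤ p1 ∧ p1 ≤ 1) (bp2 : -1 ≤ p2 ∧ p2 ≤ 1) (bp3 : -1 ≤ p3 ∧ p3 ≤ 1) (bp4 : -1 ≤ p4 ∧ p4 ≤ 1)
    (bp5 : -1 ≤ p5 ∧ p5 ≤ 1) (bp6 : -1 ≤ p6 ∧ p6 ≤ 1) (bp7 : -1 ≤ p7 ∧ p7 ≤ 1)
    (np : p1.natAbs + (p2.natAbs + (p3.natAbs + (p4.natAbs + (p5.natAbs + (p6.natAbs + (p7.natAbs)))))) ≤ 3)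
    (epp : p1 + p2 + p5 = 1)
    (epq : p1 + p3 + p6 = 0)
    (epr : p1 + p4 + p7 = 0)
    (ept : p2 + p3 + p4 = 0)
    (gp1 : 0 ≤ p1) (gp2 : 0 ≤ p2) (gp5 : 0 ≤ p5) :
    (p1 = 0 ∧ p2 = 0 ∧ p3 = 0 ∧ p4 = 0 ∧ p5 = 1 ∧ p6 = 0 ∧ p7 = 0) ∨
      (p1 = 0 ∧ p2 = 1 ∧ p3 = -1 ∧ p4 = 0 ∧ p5 = 0 ∧ p6 = 1 ∧ p7 = 0) ∨
      (p1 = 0 ∧ p2 = 1 ∧ p3 = 0 ∧ p4 = -1 ∧ p5 = 0 ∧ p6 = 0 ∧ p7 = 1) ∨
      (p1 = 1 ∧ p2 = 0 ∧ p3 = 0 ∧ p4 = 0 ∧ p5 = 0 ∧ p6 = -1 ∧ p7 = -1) := by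
  obtain ⟨lp1, up1⟩ := bp1
  obtain ⟨lp2, up2⟩ := bp2
  obtain ⟨lp3, up3⟩ := bp3
  obtain ⟨lp4, up4⟩ := bp4
  interval_cases p1 <;> interval_cases p2 <;> interval_cases p3 <;> interval_cases p4 <;> omega

theorem t2_row_q (q1 q2 q3 q4 q5 q6 q7 : ℤ)
    (bq1 : -1 ≤ q1 ∧ q1 ≤ 1) (bq2 : -1 ≤ q2 ∧ q2 ≤ 1) (bq3 : -1 ≤ q3 ∧ q3 ≤ 1) (bq4 : -1 ≤ q4 ∧ q4 ≤ 1)
    (bq5 : -1 ≤ q5 ∧ q5 ≤ 1) (bq6 : -1 ≤ q6 ∧ q6 ≤ 1) (bq7 : -1 ≤ q7 ∧ q7 ≤ 1)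
    (nq : q1.natAbs + (q2.natAbs + (q3.natAbs + (q4.natAbs + (q5.natAbs + (q6.natAbs + (q7.natAbs)))))) ≤ 3)
    (eqp : q1 + q2 + q5 = 0)
    (eqq : q1 + q3 + q6 = 1)
    (eqr : q1 + q4 + q7 = 0)
    (eqt : q2 + q3 + q4 = 0)
    (gq1 : 0 ≤ q1) (gq3 : 0 ≤ q3) (gq6 : 0 ≤ q6) :
    (q1 = 0 ∧ q2 = -1 ∧ q3 = 1 ∧ q4 = 0 ∧ q5 = 1 ∧ q6 = 0 ∧ q7 = 0) ∨
      (q1 = 0 ∧ q2 = 0 ∧ q3 = 0 ∧ q4 = 0 ∧ q5 = 0 ∧ q6 = 1 ∧ q7 = 0) ∨
      (q1 = 0 ∧ q2 = 0 ∧ q3 = 1 ∧ q4 = -1 ∧ q5 = 0 ∧ q6 = 0 ∧ q7 = 1) ∨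
      (q1 = 1 ∧ q2 = 0 ∧ q3 = 0 ∧ q4 = 0 ∧ q5 = -1 ∧ q6 = 0 ∧ q7 = -1) := by
  obtain ⟨lq1, uq1⟩ := bq1
  obtain ⟨lq2, uq2⟩ := bq2
  obtain ⟨lq3, uq3⟩ := bq3
  obtain ⟨lq4, uq4⟩ := bq4
  interval_cases q1 <;> interval_cases q2 <;> interval_cases q3 <;> interval_cases q4 <;> omega

theorem t2_row_r (r1 r2 r3 r4 r5 r6 r7 : ℤ)
    (br1 : -1 ≤ r1 ∧ r1 ≤ 1) (br2 : -1 ≤ r2 ∧ r2 ≤ 1) (br3 : -1 ≤ r3 ∧ r3 ≤ 1) (br4 : -1 ≤ r4 ∧ r4 ≤ 1)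
    (br5 : -1 ≤ r5 ∧ r5 ≤ 1) (br6 : -1 ≤ r6 ∧ r6 ≤ 1) (br7 : -1 ≤ r7 ∧ r7 ≤ 1)
    (nr : r1.natAbs + (r2.natAbs + (r3.natAbs + (r4.natAbs + (r5.natAbs + (r6.natAbs + (r7.natAbs)))))) ≤ 3)
    (erp : r1 + r2 + r5 = 0)
    (erq : r1 + r3 + r6 = 0)
    (err : r1 + r4 + r7 = 1)
    (ert : r2 + r3 + r4 = 0)
    (gr1 : 0 ≤ r1) (gr4 : 0 ≤ r4) (gr7 : 0 ≤ r7) :
    (r1 = 0 ∧ r2 = -1 ∧ r3 = 0 ∧ r4 = 1 ∧ r5 = 1 ∧ r6 = 0 ∧ r7 = 0) ∨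
      (r1 = 0 ∧ r2 = 0 ∧ r3 = -1 ∧ r4 = 1 ∧ r5 = 0 ∧ r6 = 1 ∧ r7 = 0) ∨
      (r1 = 0 ∧ r2 = 0 ∧ r3 = 0 ∧ r4 = 0 ∧ r5 = 0 ∧ r6 = 0 ∧ r7 = 1) ∨
      (r1 = 1 ∧ r2 = 0 ∧ r3 = 0 ∧ r4 = 0 ∧ r5 = -1 ∧ r6 = -1 ∧ r7 = 0) := by
  obtain ⟨lr1, ur1⟩ := br1
  obtain ⟨lr2, ur2⟩ := br2
  obtain ⟨lr3, ur3⟩ := br3
  obtain ⟨lr4, ur4⟩ := br4
  interval_cases r1 <;> interval_cases r2 <;> interval_cases r3 <;> interval_cases r4 <;> omega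

theorem t2_arith (t1 t2 t3 t4 t5 t6 t7 p1 p2 p3 p4 p5 p6 p7 q1 q2 q3 q4 q5 q6 q7 r1 r2 r3 r4 r5 r6 r7 : ℤ)
    (bt1 : -1 ≤ t1 ∧ t1 ≤ 1) (bt2 : -1 ≤ t2 ∧ t2 ≤ 1) (bt3 : -1 ≤ t3 ∧ t3 ≤ 1) (bt4 : -1 ≤ t4 ∧ t4 ≤ 1)
    (bt5 : -1 ≤ t5 ∧ t5 ≤ 1) (bt6 : -1 ≤ t6 ∧ t6 ≤ 1) (bt7 : -1 ≤ t7 ∧ t7 ≤ 1)
    (nt : t1.natAbs + (t2.natAbs + (t3.natAbs + (t4.natAbs + (t5.natAbs + (t6.natAbs + (t7.natAbs)))))) ≤ 3)
    (bp1 : -1 ≤ p1 ∧ p1 ≤ 1) (bp2 : -1 ≤ p2 ∧ p2 ≤ 1) (bp3 : -1 ≤ p3 ∧ p3 ≤ 1) (bp4 : -1 ≤ p4 ∧ p4 ≤ 1)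
    (bp5 : -1 ≤ p5 ∧ p5 ≤ 1) (bp6 : -1 ≤ p6 ∧ p6 ≤ 1) (bp7 : -1 ≤ p7 ∧ p7 ≤ 1)
    (np : p1.natAbs + (p2.natAbs + (p3.natAbs + (p4.natAbs + (p5.natAbs + (p6.natAbs + (p7.natAbs)))))) ≤ 3)
    (bq1 : -1 ≤ q1 ∧ q1 ≤ 1) (bq2 : -1 ≤ q2 ∧ q2 ≤ 1) (bq3 : -1 ≤ q3 ∧ q3 ≤ 1) (bq4 : -1 ≤ q4 ∧ q4 ≤ 1)
    (bq5 : -1 ≤ q5 ∧ q5 ≤ 1) (bq6 : -1 ≤ q6 ∧ q6 ≤ 1) (bq7 : -1 ≤ q7 ∧ q7 ≤ 1)
    (nq : q1.natAbs + (q2.natAbs + (q3.natAbs + (q4.natAbs + (q5.natAbs + (q6.natAbs + (q7.natAbs)))))) ≤ 3)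
    (br1 : -1 ≤ r1 ∧ r1 ≤ 1) (br2 : -1 ≤ r2 ∧ r2 ≤ 1) (br3 : -1 ≤ r3 ∧ r3 ≤ 1) (br4 : -1 ≤ r4 ∧ r4 ≤ 1)
    (br5 : -1 ≤ r5 ∧ r5 ≤ 1) (br6 : -1 ≤ r6 ∧ r6 ≤ 1) (br7 : -1 ≤ r7 ∧ r7 ≤ 1)
    (nr : r1.natAbs + (r2.natAbs + (r3.natAbs + (r4.natAbs + (r5.natAbs + (r6.natAbs + (r7.natAbs)))))) ≤ 3)
    (etp : t1 + t2 + t5 = 0)
    (etq : t1 + t3 + t6 = 0)
    (etr : t1 + t4 + t7 = 0)
    (ett : t2 + t3 + t4 = 1)
    (gt2 : 0 ≤ t2) (gt3 : 0 ≤ t3) (gt4 : 0 ≤ t4)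
    (epp : p1 + p2 + p5 = 1)
    (epq : p1 + p3 + p6 = 0)
    (epr : p1 + p4 + p7 = 0)
    (ept : p2 + p3 + p4 = 0)
    (gp1 : 0 ≤ p1) (gp2 : 0 ≤ p2) (gp5 : 0 ≤ p5)
    (eqp : q1 + q2 + q5 = 0)
    (eqq : q1 + q3 + q6 = 1)
    (eqr : q1 + q4 + q7 = 0)
    (eqt : q2 + q3 + q4 = 0)
    (gq1 : 0 ≤ q1) (gq3 : 0 ≤ q3) (gq6 : 0 ≤ q6)
    (erp : r1 + r2 + r5 = 0)
    (erq : r1 + r3 + r6 = 0)
    (err : r1 + r4 + r7 = 1)
    (ert : r2 + r3 + r4 = 0)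
    (gr1 : 0 ≤ r1) (gr4 : 0 ≤ r4) (gr7 : 0 ≤ r7)
    (lotp : 0 ≤ t1 * p1 + (t2 * p2 + (t3 * p3 + (t4 * p4 + (t5 * p5 + (t6 * p6 + (t7 * p7)))))))
    (hitp : t1 * p1 + (t2 * p2 + (t3 * p3 + (t4 * p4 + (t5 * p5 + (t6 * p6 + (t7 * p7)))))) ≤ 1)
    (fltp : t1.natAbs + (t2.natAbs + (t3.natAbs + (t4.natAbs + (t5.natAbs + (t6.natAbs + (t7.natAbs)))))) = 3 → t1 * p1 + (t2 * p2 + (t3 * p3 + (t4 * p4 + (t5 * p5 + (t6 * p6 + (t7 * p7)))))) = 1)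
    (frtp : p1.natAbs + (p2.natAbs + (p3.natAbs + (p4.natAbs + (p5.natAbs + (p6.natAbs + (p7.natAbs)))))) = 3 → t1 * p1 + (t2 * p2 + (t3 * p3 + (t4 * p4 + (t5 * p5 + (t6 * p6 + (t7 * p7)))))) = 1)
    (lotq : 0 ≤ t1 * q1 + (t2 * q2 + (t3 * q3 + (t4 * q4 + (t5 * q5 + (t6 * q6 + (t7 * q7)))))))
    (hitq : t1 * q1 + (t2 * q2 + (t3 * q3 + (t4 * q4 + (t5 * q5 + (t6 * q6 + (t7 * q7)))))) ≤ 1)
    (fltq : t1.natAbs + (t2.natAbs + (t3.natAbs + (t4.natAbs + (t5.natAbs + (t6.natAbs + (t7.natAbs)))))) = 3 → t1 * q1 + (t2 * q2 + (t3 * q3 + (t4 * q4 + (t5 * q5 + (t6 * q6 + (t7 * q7)))))) = 1)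
    (frtq : q1.natAbs + (q2.natAbs + (q3.natAbs + (q4.natAbs + (q5.natAbs + (q6.natAbs + (q7.natAbs)))))) = 3 → t1 * q1 + (t2 * q2 + (t3 * q3 + (t4 * q4 + (t5 * q5 + (t6 * q6 + (t7 * q7)))))) = 1)
    (lotr : 0 ≤ t1 * r1 + (t2 * r2 + (t3 * r3 + (t4 * r4 + (t5 * r5 + (t6 * r6 + (t7 * r7)))))))
    (hitr : t1 * r1 + (t2 * r2 + (t3 * r3 + (t4 * r4 + (t5 * r5 + (t6 * r6 + (t7 * r7)))))) ≤ 1)
    (fltr : t1.natAbs + (t2.natAbs + (t3.natAbs + (t4.natAbs + (t5.natAbs + (t6.natAbs + (t7.natAbs)))))) = 3 → t1 * r1 + (t2 * r2 + (t3 * r3 + (t4 * r4 + (t5 * r5 + (t6 * r6 + (t7 * r7)))))) = 1)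
    (frtr : r1.natAbs + (r2.natAbs + (r3.natAbs + (r4.natAbs + (r5.natAbs + (r6.natAbs + (r7.natAbs)))))) = 3 → t1 * r1 + (t2 * r2 + (t3 * r3 + (t4 * r4 + (t5 * r5 + (t6 * r6 + (t7 * r7)))))) = 1)
    (lopq : 0 ≤ p1 * q1 + (p2 * q2 + (p3 * q3 + (p4 * q4 + (p5 * q5 + (p6 * q6 + (p7 * q7)))))))
    (hipq : p1 * q1 + (p2 * q2 + (p3 * q3 + (p4 * q4 + (p5 * q5 + (p6 * q6 + (p7 * q7)))))) ≤ 1)
    (flpq : p1.natAbs + (p2.natAbs + (p3.natAbs + (p4.natAbs + (p5.natAbs + (p6.natAbs + (p7.natAbs)))))) = 3 → p1 * q1 + (p2 * q2 + (p3 * q3 + (p4 * q4 + (p5 * q5 + (p6 * q6 + (p7 * q7)))))) = 1)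
    (frpq : q1.natAbs + (q2.natAbs + (q3.natAbs + (q4.natAbs + (q5.natAbs + (q6.natAbs + (q7.natAbs)))))) = 3 → p1 * q1 + (p2 * q2 + (p3 * q3 + (p4 * q4 + (p5 * q5 + (p6 * q6 + (p7 * q7)))))) = 1)
    (lopr : 0 ≤ p1 * r1 + (p2 * r2 + (p3 * r3 + (p4 * r4 + (p5 * r5 + (p6 * r6 + (p7 * r7)))))))
    (hipr : p1 * r1 + (p2 * r2 + (p3 * r3 + (p4 * r4 + (p5 * r5 + (p6 * r6 + (p7 * r7)))))) ≤ 1)
    (flpr : p1.natAbs + (p2.natAbs + (p3.natAbs + (p4.natAbs + (p5.natAbs + (p6.natAbs + (p7.natAbs)))))) = 3 → p1 * r1 + (p2 * r2 + (p3 * r3 + (p4 * r4 + (p5 * r5 + (p6 * r6 + (p7 * r7)))))) = 1)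
    (frpr : r1.natAbs + (r2.natAbs + (r3.natAbs + (r4.natAbs + (r5.natAbs + (r6.natAbs + (r7.natAbs)))))) = 3 → p1 * r1 + (p2 * r2 + (p3 * r3 + (p4 * r4 + (p5 * r5 + (p6 * r6 + (p7 * r7)))))) = 1)
    (loqr : 0 ≤ q1 * r1 + (q2 * r2 + (q3 * r3 + (q4 * r4 + (q5 * r5 + (q6 * r6 + (q7 * r7)))))))
    (hiqr : q1 * r1 + (q2 * r2 + (q3 * r3 + (q4 * r4 + (q5 * r5 + (q6 * r6 + (q7 * r7)))))) ≤ 1)
    (flqr : q1.natAbs + (q2.natAbs + (q3.natAbs + (q4.natAbs + (q5.natAbs + (q6.natAbs + (q7.natAbs)))))) = 3 → q1 * r1 + (q2 * r2 + (q3 * r3 + (q4 * r4 + (q5 * r5 + (q6 * r6 + (q7 * r7)))))) = 1)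
    (frqr : r1.natAbs + (r2.natAbs + (r3.natAbs + (r4.natAbs + (r5.natAbs + (r6.natAbs + (r7.natAbs)))))) = 3 → q1 * r1 + (q2 * r2 + (q3 * r3 + (q4 * r4 + (q5 * r5 + (q6 * r6 + (q7 * r7)))))) = 1)
    : False := by
  have ht := t2_row_t t1 t2 t3 t4 t5 t6 t7 bt1 bt2 bt3 bt4 bt5 bt6 bt7 nt etp etq etr ett gt2 gt3 gt4
  have hp := t2_row_p p1 p2 p3 p4 p5 p6 p7 bp1 bp2 bp3 bp4 bp5 bp6 bp7 np epp epq epr ept gp1 gp2 gp5
  have hq := t2_row_q q1 q2 q3 q4 q5 q6 q7 bq1 bq2 bq3 bq4 bq5 bq6 bq7 nq eqp eqq eqr eqt gq1 gq3 gq6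
  have hr := t2_row_r r1 r2 r3 r4 r5 r6 r7 br1 br2 br3 br4 br5 br6 br7 nr erp erq err ert gr1 gr4 gr7
  clear bt1 bt2 bt3 bt4 bt5 bt6 bt7 bp1 bp2 bp3 bp4 bp5 bp6 bp7 bq1 bq2 bq3 bq4 bq5 bq6 bq7 br1 br2 br3 br4 br5 br6 br7 nt np nq nr etp etq etr ett epp epq epr ept eqp eqq eqr eqt erp erq err ert gt2 gt3 gt4 gp1 gp2 gp5 gq1 gq3 gq6 gr1 gr4 gr7
  rcases ht with ⟨rfl, rfl, rfl, rfl, rfl, rfl, rfl⟩ | ⟨rfl, rfl, rfl, rfl, rfl, rfl, rfl⟩ | ⟨rfl, rfl, rfl, rfl, rfl, rfl, rfl⟩ <;>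
  rcases hp with ⟨rfl, rfl, rfl, rfl, rfl, rfl, rfl⟩ | ⟨rfl, rfl, rfl, rfl, rfl, rfl, rfl⟩ | ⟨rfl, rfl, rfl, rfl, rfl, rfl, rfl⟩ | ⟨rfl, rfl, rfl, rfl, rfl, rfl, rfl⟩ <;>
  first
  | (clear hq hr lotq hitq fltq frtq lotr hitr fltr frtr lopq hipq flpq frpq lopr hipr flpr frpr loqr hiqr flqr frqr; omega)
  | (rcases hq with ⟨rfl, rfl, rfl, rfl, rfl, rfl, rfl⟩ | ⟨rfl, rfl, rfl, rfl, rfl, rfl, rfl⟩ | ⟨rfl, rfl, rfl, rfl, rfl, rfl, rfl⟩ | ⟨rfl, rfl, rfl, rfl, rfl, rfl, rfl⟩ <;>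
     first
     | (clear hr lotr hitr fltr frtr lopr hipr flpr frpr loqr hiqr flqr frqr; omega)
     | (rcases hr with ⟨rfl, rfl, rfl, rfl, rfl, rfl, rfl⟩ | ⟨rfl, rfl, rfl, rfl, rfl, rfl, rfl⟩ | ⟨rfl, rfl, rfl, rfl, rfl, rfl, rfl⟩ | ⟨rfl, rfl, rfl, rfl, rfl, rfl, rfl⟩ <;> omega))

theorem n3_bound {f : B → ℤ} (h : gip f f = 3) (b : B) : -1 ≤ f b ∧ f b ≤ 1 := by
  rcases n3_val h b with hb | hb | hb <;> rw [hb] <;> norm_num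

theorem pair_inside2 {f g : B → ℤ} (hf : gip f f = 3) (hg : gip g g = 3)
    (hnn : ∀ b, 0 ≤ f b * g b) (hfg : gip f g = 1) (l : List B) (hl : l.Nodup) :
    0 ≤ (l.map (fun b => f b * g b)).sum ∧ (l.map (fun b => f b * g b)).sum ≤ 1 ∧
    ((l.map (fun b => (f b).natAbs)).sum = 3 → (l.map (fun b => f b * g b)).sum = 1) ∧
    ((l.map (fun b => (g b).natAbs)).sum = 3 → (l.map (fun b => f b * g b)).sum = 1) := by
  obtain ⟨h1, h2, h3⟩ := pair_inside hf hnn hfg l hl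
  refine ⟨h1, h2, h3, ?_⟩
  have hnn' : ∀ b, 0 ≤ g b * f b := fun b => by rw [mul_comm]; exact hnn b
  obtain ⟨-, -, h4⟩ := pair_inside hg hnn' (by rw [gip_comm]; exact hfg) l hl
  have hfun : (fun b => g b * f b) = (fun b => f b * g b) := funext (fun b => mul_comm _ _)
  rw [hfun] at h4
  exact h4

theorem gip_gauge (ε f g : B → ℤ) (hε : ∀ b, ε b * ε b = 1) :
    gip (fun b => ε b * f b) (fun b => ε b * g b) = gip f g := by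
  unfold gip
  apply Finset.sum_congr rfl
  intro b _
  have h1 : ε b * f b * (ε b * g b) = (ε b * ε b) * (f b * g b) := by ring
  rw [h1, hε, one_mul]

/-- Two rows of a grid of norm-3 vectors. -/
structure TwoRow (c d : J → B → ℤ) : Prop where
  cc : ∀ j j', gip (c j) (c j') = if j = j' then 3 else 1
  dd : ∀ j j', gip (d j) (d j') = if j = j' then 3 else 1
  cd : ∀ j j', gip (c j) (d j') = if j = j' then 1 else 0

namespace TwoRow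

variable {c d : J → B → ℤ}

theorem swap (h : TwoRow c d) : TwoRow d c := by
  refine ⟨h.dd, h.cc, fun j j' => ?_⟩
  rw [gip_comm, h.cd j' j]
  by_cases hj : j = j'
  · rw [if_pos hj, if_pos hj.symm]
  · rw [if_neg hj, if_neg (Ne.symm hj)]

theorem cc_self (h : TwoRow c d) (j : J) : gip (c j) (c j) = 3 := by rw [h.cc, if_pos rfl]

theorem cc_ne (h : TwoRow c d) {j j' : J} (hne : j ≠ j') : gip (c j) (c j') = 1 := by
  rw [h.cc, if_neg hne]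

theorem cd_self (h : TwoRow c d) (j : J) : gip (c j) (d j) = 1 := by rw [h.cd, if_pos rfl]

theorem cd_ne (h : TwoRow c d) {j j' : J} (hne : j ≠ j') : gip (c j) (d j') = 0 := by
  rw [h.cd, if_neg hne]

theorem row (h : TwoRow c d) {j j' : J} (hne : j ≠ j') :
    ∃ e, c j e ≠ 0 ∧ c j' e ≠ 0 ∧ c j e = c j' e ∧ ∀ b, c j b ≠ 0 → c j' b ≠ 0 → b = e :=
  pair_rule (h.cc_self j) (h.cc_self j') (h.cc_ne hne) (h := d j)
    (by rw [gip_comm, h.cd_self]) (by rw [gip_comm, h.cd_ne (Ne.symm hne)])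

theorem row_eq (h : TwoRow c d) {j j' : J} (hne : j ≠ j') {b : B} (h1 : c j b ≠ 0)
    (h2 : c j' b ≠ 0) : c j b = c j' b := by
  obtain ⟨e, _, _, he, huniq⟩ := h.row hne
  rw [huniq b h1 h2]
  exact he

theorem row_uniq (h : TwoRow c d) {j j' : J} (hne : j ≠ j') {b b' : B} (h1 : c j b ≠ 0)
    (h2 : c j' b ≠ 0) (h1' : c j b' ≠ 0) (h2' : c j' b' ≠ 0) : b = b' := by
  obtain ⟨e, _, _, _, huniq⟩ := h.row hne
  rw [huniq b h1 h2, huniq b' h1' h2']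

theorem row_nonneg (h : TwoRow c d) {j j' : J} (hne : j ≠ j') (b : B) : 0 ≤ c j b * c j' b := by
  by_cases h1 : c j b = 0
  · rw [h1, zero_mul]
  by_cases h2 : c j' b = 0
  · rw [h2, mul_zero]
  rw [← h.row_eq hne h1 h2]
  exact mul_self_nonneg _

theorem col (h : TwoRow c d) {j j' : J} (hne : j ≠ j') :
    ∃ e, c j e ≠ 0 ∧ d j e ≠ 0 ∧ c j e = d j e ∧ ∀ b, c j b ≠ 0 → d j b ≠ 0 → b = e :=
  pair_rule (h.cc_self j) (h.swap.cc_self j) (h.cd_self j) (h := c j')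
    (h.cc_ne (Ne.symm hne)) (h.cd_ne (Ne.symm hne))

theorem col_eq (h : TwoRow c d) {j j' : J} (hne : j ≠ j') {b : B} (h1 : c j b ≠ 0)
    (h2 : d j b ≠ 0) : c j b = d j b := by
  obtain ⟨e, _, _, he, huniq⟩ := h.col hne
  rw [huniq b h1 h2]
  exact he

theorem col_uniq (h : TwoRow c d) {j j' : J} (hne : j ≠ j') {b b' : B} (h1 : c j b ≠ 0)
    (h2 : d j b ≠ 0) (h1' : c j b' ≠ 0) (h2' : d j b' ≠ 0) : b = b' := by
  obtain ⟨e, _, _, _, huniq⟩ := h.col hne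
  rw [huniq b h1 h2, huniq b' h1' h2']

theorem col_nonneg (h : TwoRow c d) (hpos : ∀ j b, c j b ≠ 0 → c j b = 1) {j j' : J}
    (hne : j ≠ j') {b : B} (hb : c j b ≠ 0) : 0 ≤ d j b := by
  by_cases h2 : d j b = 0
  · rw [h2]
  rw [← h.col_eq hne hb h2, hpos j b hb]
  norm_num

theorem gauge (h : TwoRow c d) (ε : B → ℤ) (hε : ∀ b, ε b * ε b = 1) :
    TwoRow (fun j b => ε b * c j b) (fun j b => ε b * d j b) :=
  ⟨fun j j' => (gip_gauge ε (c j) (c j') hε).trans (h.cc j j'),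
   fun j j' => (gip_gauge ε (d j) (d j') hε).trans (h.dd j j'),
   fun j j' => (gip_gauge ε (c j) (d j') hε).trans (h.cd j j')⟩

theorem exists_gauge (h : TwoRow c d) :
    ∃ ε : B → ℤ, (∀ b, ε b * ε b = 1) ∧ ∀ j b, c j b ≠ 0 → ε b * c j b = 1 := by
  refine ⟨fun b => if hb : ∃ j, c j b ≠ 0 then c (Classical.choose hb) b else 1, ?_, ?_⟩
  · intro b
    dsimp only
    split_ifs with hb
    · have hs := Classical.choose_spec hb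
      rcases n3_val (h.cc_self (Classical.choose hb)) b with h0 | h1 | h1
      · exact absurd h0 hs
      · rw [h1]; norm_num
      · rw [h1]; norm_num
    · norm_num
  · intro j b hjb
    dsimp only
    have hb : ∃ j, c j b ≠ 0 := ⟨j, hjb⟩
    rw [dif_pos hb]
    have hs := Classical.choose_spec hb
    have heq : c (Classical.choose hb) b = c j b := by
      by_cases hj : Classical.choose hb = j
      · rw [hj]
      · exact h.row_eq hj hs hjb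
    rw [heq]
    rcases n3_val (h.cc_self j) b with h0 | h1 | h1
    · exact absurd h0 hjb
    · rw [h1]; norm_num
    · rw [h1]; norm_num

theorem partner (h : TwoRow c d) {p q r t : J} (hq : p ≠ q) (hr : p ≠ r) (ht : p ≠ t)
    (n1 : ∀ b, c p b ≠ 0 → c q b ≠ 0 → c r b ≠ 0 → False)
    (n2 : ∀ b, c p b ≠ 0 → c q b ≠ 0 → c t b ≠ 0 → False)
    (n3 : ∀ b, c p b ≠ 0 → c r b ≠ 0 → c t b ≠ 0 → False)
    (b : B) (hb : c p b ≠ 0) : c q b ≠ 0 ∨ c r b ≠ 0 ∨ c t b ≠ 0 := by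
  by_contra hcon
  push Not at hcon
  obtain ⟨hq0, hr0, ht0⟩ := hcon
  obtain ⟨e1, hpq1, hpq2, -, -⟩ := h.row hq
  obtain ⟨e2, hpr1, hpr2, -, -⟩ := h.row hr
  obtain ⟨e3, hpt1, hpt2, -, -⟩ := h.row ht
  have h1 : b ≠ e1 := by rintro rfl; exact hpq2 hq0
  have h2 : b ≠ e2 := by rintro rfl; exact hpr2 hr0
  have h3 : b ≠ e3 := by rintro rfl; exact hpt2 ht0
  have h4 : e1 ≠ e2 := by rintro rfl; exact n1 e1 hpq1 hpq2 hpr2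
  have h5 : e1 ≠ e3 := by rintro rfl; exact n2 e1 hpq1 hpq2 hpt2
  have h6 : e2 ≠ e3 := by rintro rfl; exact n3 e2 hpr1 hpr2 hpt2
  exact n3_not_four (h.cc_self p) h1 h2 h3 h4 h5 h6 hb hpq1 hpr1 hpt1

theorem t1_false (h : TwoRow c d) (hpos : ∀ j b, c j b ≠ 0 → c j b = 1) {p q r t : J}
    (hpq : p ≠ q) (hpr : p ≠ r) (hpt : p ≠ t) (hqr : q ≠ r) (hqt : q ≠ t) (hrt : r ≠ t)
    (n1 : ∀ b, c p b ≠ 0 → c q b ≠ 0 → c r b ≠ 0 → False)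
    (n2 : ∀ b, c p b ≠ 0 → c q b ≠ 0 → c t b ≠ 0 → False)
    (n3 : ∀ b, c p b ≠ 0 → c r b ≠ 0 → c t b ≠ 0 → False)
    (n4 : ∀ b, c q b ≠ 0 → c r b ≠ 0 → c t b ≠ 0 → False) : False := by
  have hev : ∀ b, Even (c p b + c q b + c r b + c t b) := by
    intro b
    have Pp := h.partner hpq hpr hpt n1 n2 n3 b
    have Pq := h.partner (Ne.symm hpq) hqr hqt (fun b h1 h2 h3 => n1 b h2 h1 h3)
      (fun b h1 h2 h3 => n2 b h2 h1 h3) n4 b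
    have Pr := h.partner (Ne.symm hpr) (Ne.symm hqr) hrt (fun b h1 h2 h3 => n1 b h2 h3 h1)
      (fun b h1 h2 h3 => n3 b h2 h1 h3) (fun b h1 h2 h3 => n4 b h2 h1 h3) b
    have Pt := h.partner (Ne.symm hpt) (Ne.symm hqt) (Ne.symm hrt)
      (fun b h1 h2 h3 => n2 b h2 h3 h1) (fun b h1 h2 h3 => n3 b h2 h3 h1)
      (fun b h1 h2 h3 => n4 b h2 h3 h1) b
    have vp : c p b = 0 ∨ c p b = 1 := by
      by_cases h0 : c p b = 0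
      · exact Or.inl h0
      · exact Or.inr (hpos p b h0)
    have vq : c q b = 0 ∨ c q b = 1 := by
      by_cases h0 : c q b = 0
      · exact Or.inl h0
      · exact Or.inr (hpos q b h0)
    have vr : c r b = 0 ∨ c r b = 1 := by
      by_cases h0 : c r b = 0
      · exact Or.inl h0
      · exact Or.inr (hpos r b h0)
    have vt : c t b = 0 ∨ c t b = 1 := by
      by_cases h0 : c t b = 0
      · exact Or.inl h0
      · exact Or.inr (hpos t b h0)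
    have m1 := n1 b
    have m2 := n2 b
    have m3 := n3 b
    have m4 := n4 b
    rw [Int.even_iff]
    generalize c p b = xp at *
    generalize c q b = xq at *
    generalize c r b = xr at *
    generalize c t b = xt at *
    rcases vp with rfl | rfl <;> rcases vq with rfl | rfl <;> rcases vr with rfl | rfl <;>
      rcases vt with rfl | rfl <;> simp_all
  have hsum : gip (fun b => c p b + c q b + c r b + c t b) (d p) = 1 := by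
    have h1 : gip (fun b => c p b + c q b + c r b + c t b) (d p) =
        gip (c p) (d p) + gip (c q) (d p) + gip (c r) (d p) + gip (c t) (d p) := by
      unfold gip
      simp only [add_mul, Finset.sum_add_distrib]
    rw [h1, h.cd_self, h.cd_ne (Ne.symm hpq), h.cd_ne (Ne.symm hpr), h.cd_ne (Ne.symm hpt)]
    norm_num
  have hev2 : Even (gip (fun b => c p b + c q b + c r b + c t b) (d p)) := by
    unfold gip
    apply Finset.even_sum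
    intro b _
    exact (hev b).mul_right _
  rw [hsum] at hev2
  exact absurd hev2 (by decide)

theorem t2_false (h : TwoRow c d) (hpos : ∀ j b, c j b ≠ 0 → c j b = 1) {p q r t : J}
    (hpq : p ≠ q) (hpr : p ≠ r) (hpt : p ≠ t) (hqr : q ≠ r) (hqt : q ≠ t) (hrt : r ≠ t)
    {a : B} (hpa : c p a ≠ 0) (hqa : c q a ≠ 0) (hra : c r a ≠ 0) (hta : c t a = 0) : False := by
  obtain ⟨bp, htbp, hpbp, -, -⟩ := h.row (Ne.symm hpt)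
  obtain ⟨bq, htbq, hqbq, -, -⟩ := h.row (Ne.symm hqt)
  obtain ⟨br, htbr, hrbr, -, -⟩ := h.row (Ne.symm hrt)
  have a_bp : a ≠ bp := by rintro rfl; exact htbp hta
  have a_bq : a ≠ bq := by rintro rfl; exact htbq hta
  have a_br : a ≠ br := by rintro rfl; exact htbr hta
  have bp_bq : bp ≠ bq := by
    intro e
    exact a_bp (h.row_uniq hpq hpbp (by rw [e]; exact hqbq) hpa hqa).symm
  have bp_br : bp ≠ br := by
    intro e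
    exact a_bp (h.row_uniq hpr hpbp (by rw [e]; exact hrbr) hpa hra).symm
  have bq_br : bq ≠ br := by
    intro e
    exact a_bq (h.row_uniq hqr hqbq (by rw [e]; exact hrbr) hqa hra).symm
  obtain ⟨up, up_a, up_bp, hpup⟩ := n3_third (h.cc_self p) a bp
  obtain ⟨uq, uq_a, uq_bq, hquq⟩ := n3_third (h.cc_self q) a bq
  obtain ⟨ur, ur_a, ur_br, hrur⟩ := n3_third (h.cc_self r) a br
  have a_up : a ≠ up := Ne.symm up_a
  have a_uq : a ≠ uq := Ne.symm uq_a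
  have a_ur : a ≠ ur := Ne.symm ur_a
  have bp_up : bp ≠ up := Ne.symm up_bp
  have bq_uq : bq ≠ uq := Ne.symm uq_bq
  have br_ur : br ≠ ur := Ne.symm ur_br
  have bp_uq : bp ≠ uq := by
    intro e
    exact a_bp (h.row_uniq hpq hpbp (by rw [e]; exact hquq) hpa hqa).symm
  have bp_ur : bp ≠ ur := by
    intro e
    exact a_bp (h.row_uniq hpr hpbp (by rw [e]; exact hrur) hpa hra).symm
  have bq_up : bq ≠ up := by
    intro e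
    exact a_bq (h.row_uniq hpq (by rw [e]; exact hpup) hqbq hpa hqa).symm
  have bq_ur : bq ≠ ur := by
    intro e
    exact a_bq (h.row_uniq hqr hqbq (by rw [e]; exact hrur) hqa hra).symm
  have br_up : br ≠ up := by
    intro e
    exact a_br (h.row_uniq hpr (by rw [e]; exact hpup) hrbr hpa hra).symm
  have br_uq : br ≠ uq := by
    intro e
    exact a_br (h.row_uniq hqr (by rw [e]; exact hquq) hrbr hqa hra).symm
  have up_uq : up ≠ uq := by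
    intro e
    exact a_up (h.row_uniq hpq hpup (by rw [e]; exact hquq) hpa hqa).symm
  have up_ur : up ≠ ur := by
    intro e
    exact a_up (h.row_uniq hpr hpup (by rw [e]; exact hrur) hpa hra).symm
  have uq_ur : uq ≠ ur := by
    intro e
    exact a_uq (h.row_uniq hqr hquq (by rw [e]; exact hrur) hqa hra).symm
  have Gp' : ∀ f : B → ℤ, gip (c p) f = f a + f bp + f up :=
    gip_ones (h.cc_self p) a_bp a_up bp_up (hpos p a hpa) (hpos p bp hpbp) (hpos p up hpup)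
  have Gq' : ∀ f : B → ℤ, gip (c q) f = f a + f bq + f uq :=
    gip_ones (h.cc_self q) a_bq a_uq bq_uq (hpos q a hqa) (hpos q bq hqbq) (hpos q uq hquq)
  have Gr' : ∀ f : B → ℤ, gip (c r) f = f a + f br + f ur :=
    gip_ones (h.cc_self r) a_br a_ur br_ur (hpos r a hra) (hpos r br hrbr) (hpos r ur hrur)
  have Gt' : ∀ f : B → ℤ, gip (c t) f = f bp + f bq + f br :=
    gip_ones (h.cc_self t) bp_bq bp_br bq_br (hpos t bp htbp) (hpos t bq htbq) (hpos t br htbr)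
  have hl : ([a, bp, bq, br, up, uq, ur] : List B).Nodup := by
    simp only [List.nodup_cons, List.mem_cons, List.not_mem_nil, or_false, not_or, List.nodup_nil, and_true, not_false_eq_true]
    exact ⟨⟨a_bp, a_bq, a_br, a_up, a_uq, a_ur⟩, ⟨bp_bq, bp_br, bp_up, bp_uq, bp_ur⟩, ⟨bq_br, bq_up, bq_uq, bq_ur⟩, ⟨br_up, br_uq, br_ur⟩, ⟨up_uq, up_ur⟩, uq_ur⟩
  have Bt : ∀ b, -1 ≤ d t b ∧ d t b ≤ 1 := fun b => n3_bound (h.swap.cc_self t) b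
  have Nt := list_natAbs_le (h.swap.cc_self t) [a, bp, bq, br, up, uq, ur] hl
  simp only [List.map_cons, List.map_nil, List.sum_cons, List.sum_nil, add_zero] at Nt
  have Gt : ∀ b, c t b ≠ 0 → 0 ≤ d t b := fun b hb => h.col_nonneg hpos (Ne.symm hpt) hb
  have etp : d t a + d t bp + d t up = 0 := by
    rw [← Gp' (d t)]; exact h.cd_ne hpt
  have etq : d t a + d t bq + d t uq = 0 := by
    rw [← Gq' (d t)]; exact h.cd_ne hqt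
  have etr : d t a + d t br + d t ur = 0 := by
    rw [← Gr' (d t)]; exact h.cd_ne hrt
  have ett : d t bp + d t bq + d t br = 1 := by
    rw [← Gt' (d t)]; exact h.cd_self t
  have Bp : ∀ b, -1 ≤ d p b ∧ d p b ≤ 1 := fun b => n3_bound (h.swap.cc_self p) b
  have Np := list_natAbs_le (h.swap.cc_self p) [a, bp, bq, br, up, uq, ur] hl
  simp only [List.map_cons, List.map_nil, List.sum_cons, List.sum_nil, add_zero] at Np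
  have Gp : ∀ b, c p b ≠ 0 → 0 ≤ d p b := fun b hb => h.col_nonneg hpos hpq hb
  have epp : d p a + d p bp + d p up = 1 := by
    rw [← Gp' (d p)]; exact h.cd_self p
  have epq : d p a + d p bq + d p uq = 0 := by
    rw [← Gq' (d p)]; exact h.cd_ne (Ne.symm hpq)
  have epr : d p a + d p br + d p ur = 0 := by
    rw [← Gr' (d p)]; exact h.cd_ne (Ne.symm hpr)
  have ept : d p bp + d p bq + d p br = 0 := by
    rw [← Gt' (d p)]; exact h.cd_ne (Ne.symm hpt)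
  have Bq : ∀ b, -1 ≤ d q b ∧ d q b ≤ 1 := fun b => n3_bound (h.swap.cc_self q) b
  have Nq := list_natAbs_le (h.swap.cc_self q) [a, bp, bq, br, up, uq, ur] hl
  simp only [List.map_cons, List.map_nil, List.sum_cons, List.sum_nil, add_zero] at Nq
  have Gq : ∀ b, c q b ≠ 0 → 0 ≤ d q b := fun b hb => h.col_nonneg hpos (Ne.symm hpq) hb
  have eqp : d q a + d q bp + d q up = 0 := by
    rw [← Gp' (d q)]; exact h.cd_ne hpq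
  have eqq : d q a + d q bq + d q uq = 1 := by
    rw [← Gq' (d q)]; exact h.cd_self q
  have eqr : d q a + d q br + d q ur = 0 := by
    rw [← Gr' (d q)]; exact h.cd_ne (Ne.symm hqr)
  have eqt : d q bp + d q bq + d q br = 0 := by
    rw [← Gt' (d q)]; exact h.cd_ne (Ne.symm hqt)
  have Br : ∀ b, -1 ≤ d r b ∧ d r b ≤ 1 := fun b => n3_bound (h.swap.cc_self r) b
  have Nr := list_natAbs_le (h.swap.cc_self r) [a, bp, bq, br, up, uq, ur] hl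
  simp only [List.map_cons, List.map_nil, List.sum_cons, List.sum_nil, add_zero] at Nr
  have Gr : ∀ b, c r b ≠ 0 → 0 ≤ d r b := fun b hb => h.col_nonneg hpos (Ne.symm hpr) hb
  have erp : d r a + d r bp + d r up = 0 := by
    rw [← Gp' (d r)]; exact h.cd_ne hpr
  have erq : d r a + d r bq + d r uq = 0 := by
    rw [← Gq' (d r)]; exact h.cd_ne hqr
  have err : d r a + d r br + d r ur = 1 := by
    rw [← Gr' (d r)]; exact h.cd_self r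
  have ert : d r bp + d r bq + d r br = 0 := by
    rw [← Gt' (d r)]; exact h.cd_ne (Ne.symm hrt)
  have Ptp := pair_inside2 (h.swap.cc_self t) (h.swap.cc_self p) (fun b => h.swap.row_nonneg (Ne.symm hpt) b) (h.swap.cc_ne (Ne.symm hpt)) [a, bp, bq, br, up, uq, ur] hl
  simp only [List.map_cons, List.map_nil, List.sum_cons, List.sum_nil, add_zero] at Ptp
  have Ptq := pair_inside2 (h.swap.cc_self t) (h.swap.cc_self q) (fun b => h.swap.row_nonneg (Ne.symm hqt) b) (h.swap.cc_ne (Ne.symm hqt)) [a, bp, bq, br, up, uq, ur] hl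
  simp only [List.map_cons, List.map_nil, List.sum_cons, List.sum_nil, add_zero] at Ptq
  have Ptr := pair_inside2 (h.swap.cc_self t) (h.swap.cc_self r) (fun b => h.swap.row_nonneg (Ne.symm hrt) b) (h.swap.cc_ne (Ne.symm hrt)) [a, bp, bq, br, up, uq, ur] hl
  simp only [List.map_cons, List.map_nil, List.sum_cons, List.sum_nil, add_zero] at Ptr
  have Ppq := pair_inside2 (h.swap.cc_self p) (h.swap.cc_self q) (fun b => h.swap.row_nonneg hpq b) (h.swap.cc_ne hpq) [a, bp, bq, br, up, uq, ur] hl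
  simp only [List.map_cons, List.map_nil, List.sum_cons, List.sum_nil, add_zero] at Ppq
  have Ppr := pair_inside2 (h.swap.cc_self p) (h.swap.cc_self r) (fun b => h.swap.row_nonneg hpr b) (h.swap.cc_ne hpr) [a, bp, bq, br, up, uq, ur] hl
  simp only [List.map_cons, List.map_nil, List.sum_cons, List.sum_nil, add_zero] at Ppr
  have Pqr := pair_inside2 (h.swap.cc_self q) (h.swap.cc_self r) (fun b => h.swap.row_nonneg hqr b) (h.swap.cc_ne hqr) [a, bp, bq, br, up, uq, ur] hl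
  simp only [List.map_cons, List.map_nil, List.sum_cons, List.sum_nil, add_zero] at Pqr
  exact t2_arith (d t a) (d t bp) (d t bq) (d t br) (d t up) (d t uq) (d t ur) (d p a) (d p bp) (d p bq) (d p br) (d p up) (d p uq) (d p ur) (d q a) (d q bp) (d q bq) (d q br) (d q up) (d q uq) (d q ur) (d r a) (d r bp) (d r bq) (d r br) (d r up) (d r uq) (d r ur)
    (Bt a) (Bt bp) (Bt bq) (Bt br) (Bt up) (Bt uq) (Bt ur) Nt
    (Bp a) (Bp bp) (Bp bq) (Bp br) (Bp up) (Bp uq) (Bp ur) Np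
    (Bq a) (Bq bp) (Bq bq) (Bq br) (Bq up) (Bq uq) (Bq ur) Nq
    (Br a) (Br bp) (Br bq) (Br br) (Br up) (Br uq) (Br ur) Nr
    etp etq etr ett (Gt bp (by assumption)) (Gt bq (by assumption)) (Gt br (by assumption))
    epp epq epr ept (Gp a (by assumption)) (Gp bp (by assumption)) (Gp up (by assumption))
    eqp eqq eqr eqt (Gq a (by assumption)) (Gq bq (by assumption)) (Gq uq (by assumption))
    erp erq err ert (Gr a (by assumption)) (Gr br (by assumption)) (Gr ur (by assumption))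
    Ptp.1 Ptp.2.1 Ptp.2.2.1 Ptp.2.2.2
    Ptq.1 Ptq.2.1 Ptq.2.2.1 Ptq.2.2.2
    Ptr.1 Ptr.2.1 Ptr.2.2.1 Ptr.2.2.2
    Ppq.1 Ppq.2.1 Ppq.2.2.1 Ppq.2.2.2
    Ppr.1 Ppr.2.1 Ppr.2.2.1 Ppr.2.2.2
    Pqr.1 Pqr.2.1 Pqr.2.2.1 Pqr.2.2.2

theorem four_common (h : TwoRow c d) (hpos : ∀ j b, c j b ≠ 0 → c j b = 1) {p q r t : J}
    (hpq : p ≠ q) (hpr : p ≠ r) (hpt : p ≠ t) (hqr : q ≠ r) (hqt : q ≠ t) (hrt : r ≠ t) :
    ∃ b, c p b ≠ 0 ∧ c q b ≠ 0 ∧ c r b ≠ 0 ∧ c t b ≠ 0 := by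
  by_contra hcon
  have hcon' : ∀ b, c p b ≠ 0 → c q b ≠ 0 → c r b ≠ 0 → c t b = 0 := by
    intro b h1 h2 h3
    by_contra h4
    exact hcon ⟨b, h1, h2, h3, h4⟩
  apply h.t1_false hpos hpq hpr hpt hqr hqt hrt
  · intro b h1 h2 h3
    exact h.t2_false hpos hpq hpr hpt hqr hqt hrt h1 h2 h3 (hcon' b h1 h2 h3)
  · intro b h1 h2 h3
    refine h.t2_false hpos hpq hpt hpr hqt hqr (Ne.symm hrt) h1 h2 h3 ?_
    by_contra h4
    exact absurd (hcon' b h1 h2 h4) h3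
  · intro b h1 h2 h3
    refine h.t2_false hpos hpr hpt hpq hrt (Ne.symm hqr) (Ne.symm hqt) h1 h2 h3 ?_
    by_contra h4
    exact absurd (hcon' b h1 h4 h2) h3
  · intro b h1 h2 h3
    refine h.t2_false hpos hqr hqt (Ne.symm hpq) hrt (Ne.symm hpr) (Ne.symm hpt) h1 h2 h3 ?_
    by_contra h4
    exact absurd (hcon' b h4 h1 h2) h3

end TwoRow

/-- `J` has at least four elements (given that it is nonempty). -/
def Big (J : Type*) : Prop := ∀ p q j : J, ∃ t, t ≠ p ∧ t ≠ q ∧ t ≠ j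

/-- `J` has exactly two or at least four elements. -/
def TwoOrBig (J : Type*) : Prop :=
  (∃ j1 j2 : J, j1 ≠ j2 ∧ ∀ j, j = j1 ∨ j = j2) ∨ (Nonempty J ∧ Big J)

theorem TwoOrBig.exists_ne (hJ : TwoOrBig J) (j : J) : ∃ j', j' ≠ j := by
  rcases hJ with ⟨j1, j2, h12, hall⟩ | ⟨_, hbig⟩
  · rcases hall j with rfl | rfl
    · exact ⟨j2, Ne.symm h12⟩
    · exact ⟨j1, h12⟩
  · obtain ⟨t, ht, -, -⟩ := hbig j j j
    exact ⟨t, ht⟩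

theorem big_of_card (h : 4 ≤ Nat.card J) : Nonempty J ∧ Big J := by
  have hfin : Finite J := Nat.finite_of_card_ne_zero (by omega)
  have hne : Nonempty J := by
    by_contra hemp
    rw [not_nonempty_iff] at hemp
    rw [Nat.card_of_isEmpty] at h
    omega
  refine ⟨hne, ?_⟩
  intro p q j
  have := Fintype.ofFinite J
  rw [Nat.card_eq_fintype_card, ← Finset.card_univ] at h
  have hlt : ({p, q, j} : Finset J).card < (Finset.univ : Finset J).card :=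
    lt_of_le_of_lt Finset.card_le_three (by omega)
  obtain ⟨t, -, ht⟩ := Finset.exists_mem_notMem_of_card_lt_card hlt
  simp only [Finset.mem_insert, Finset.mem_singleton, not_or] at ht
  exact ⟨t, ht.1, ht.2.1, ht.2.2⟩

theorem two_of_card (h : Nat.card J = 2) : ∃ j1 j2 : J, j1 ≠ j2 ∧ ∀ j, j = j1 ∨ j = j2 := by
  obtain ⟨x, y, hxy, huniv⟩ := Nat.card_eq_two_iff.mp h
  refine ⟨x, y, hxy, fun j => ?_⟩
  have : j ∈ ({x, y} : Set J) := by rw [huniv]; exact Set.mem_univ j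
  simpa using this

theorem twoOrBig_of_card (h : Nat.card J = 2 ∨ 4 ≤ Nat.card J) : TwoOrBig J := by
  rcases h with h | h
  · exact Or.inl (two_of_card h)
  · exact Or.inr (big_of_card h)

namespace TwoRow

variable {c d : J → B → ℤ}

theorem sunflower_pos (h : TwoRow c d) (hpos : ∀ j b, c j b ≠ 0 → c j b = 1) (hJ : Big J)
    {p q : J} (hpq : p ≠ q) {a : B} (hpa : c p a ≠ 0) (hqa : c q a ≠ 0) : ∀ j, c j a ≠ 0 := by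
  intro j
  by_cases hjp : j = p
  · rw [hjp]; exact hpa
  by_cases hjq : j = q
  · rw [hjq]; exact hqa
  obtain ⟨t, htp, htq, htj⟩ := hJ p q j
  obtain ⟨b, h1, h2, h3, -⟩ := h.four_common hpos hpq (Ne.symm hjp) (Ne.symm htp) (Ne.symm hjq)
    (Ne.symm htq) (Ne.symm htj)
  have hba : b = a := h.row_uniq hpq h1 h2 hpa hqa
  rw [← hba]
  exact h3

theorem sunflower (h : TwoRow c d) (hJ : Big J) {p q : J} (hpq : p ≠ q) {a : B}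
    (hpa : c p a ≠ 0) (hqa : c q a ≠ 0) : ∀ j, c j a ≠ 0 := by
  obtain ⟨ε, hε, hε1⟩ := h.exists_gauge
  have hg := h.gauge ε hε
  have hεne : ∀ b, ε b ≠ 0 := by
    intro b hb
    have h1 := hε b
    rw [hb] at h1
    norm_num at h1
  have hpos : ∀ j b, (fun j b => ε b * c j b) j b ≠ 0 → (fun j b => ε b * c j b) j b = 1 := by
    intro j b hjb
    exact hε1 j b (right_ne_zero_of_mul hjb)
  have hs := hg.sunflower_pos hpos hJ hpq (a := a) (mul_ne_zero (hεne a) hpa)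
    (mul_ne_zero (hεne a) hqa)
  intro j
  exact right_ne_zero_of_mul (hs j)

/-- The supports of the vectors of a row have a common element. -/
theorem center (h : TwoRow c d) (hJ : TwoOrBig J) : ∃ a, ∀ j, c j a ≠ 0 := by
  rcases hJ with ⟨j1, j2, h12, hall⟩ | ⟨⟨j0⟩, hbig⟩
  · obtain ⟨e, h1, h2, -, -⟩ := h.row h12
    refine ⟨e, fun j => ?_⟩
    rcases hall j with rfl | rfl
    · exact h1
    · exact h2
  · obtain ⟨j1, hj1, -, -⟩ := hbig j0 j0 j0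
    obtain ⟨e, h1, h2, -, -⟩ := h.row hj1
    exact ⟨e, h.sunflower hbig hj1 h1 h2⟩

end TwoRow

end Grid2

end Cfsg.Agent.Lib.helper32
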