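import Mathlib
import Cfsg.Agent.Lib.helper86.IvDefs

/-!
# S3928, piece BF (racing copy by helper32): the Brauer–Fowler count for an involutory automorphism
-/

set_option autoImplicit false

namespace Cfsg.Agent.Lib.helper86.IV

/-- BF : Brauer–Fowler count for an involutory automorphism. -/
theorem helper32_iv_bf {N : Type*} [Group N] [Finite N] (α : MulAut N) (h2 : ∀ g, α (α g) = g)
    (hne : ∃ g, α g ≠ g) :
    ∃ g : N, g ≠ 1 ∧ (Subgroup.centralizer {g}).index ≤ 2 * (Nat.card {c : N // α c = c}) ^ 2 := by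
  classical
  by_contra hcon
  push Not at hcon
  have : Fintype N := Fintype.ofFinite N
  have hc1 : 1 ≤ Nat.card {c : N // α c = c} := by
    have : Nonempty {c : N // α c = c} := ⟨⟨1, map_one α⟩⟩
    exact Nat.card_pos
  have hcF : Nat.card {c : N // α c = c} = (Finset.univ.filter (fun z : N => α z = z)).card := by
    rw [Nat.card_eq_fintype_card, Fintype.card_subtype]
  obtain ⟨c, hc⟩ : ∃ c, c = Nat.card {c : N // α c = c} := ⟨_, rfl⟩
  rw [← hc] at hcon hc1 hcF
  obtain ⟨K, hK⟩ : ∃ K : Finset N, K = Finset.univ.image (fun x : N => x * (α x)⁻¹) := ⟨_, rfl⟩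
  have hKinv : ∀ k ∈ K, α k = k⁻¹ := by
    intro k hk
    rw [hK] at hk
    obtain ⟨x, -, rfl⟩ := Finset.mem_image.1 hk
    rw [map_mul, map_inv, h2, mul_inv_rev, inv_inv]
  -- `|N| ≤ c * |K|`
  have hi : Fintype.card N ≤ c * K.card := by
    have h3 := Finset.card_le_mul_card_image (Finset.univ : Finset N) c
      (f := fun x : N => x * (α x)⁻¹) (by
        intro k hk
        obtain ⟨x, -, rfl⟩ := Finset.mem_image.1 hk
        rw [hcF]
        apply Finset.card_le_card_of_injOn (fun y => x⁻¹ * y)
        · intro y hy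
          simp only [Finset.coe_filter, Finset.mem_univ, true_and, Set.mem_ofPred_eq] at hy ⊢
          have h4 : α y = (α x) * x⁻¹ * y := by
            have h5 : (α y)⁻¹ = y⁻¹ * (x * (α x)⁻¹) := by rw [← hy]; group
            have h6 := congrArg (fun z => z⁻¹) h5
            simpa [mul_assoc] using h6
          rw [map_mul, map_inv, h4]
          group
        · intro y _ y' _ h
          exact mul_left_cancel h)
    rw [← hK] at h3
    simpa [Finset.card_univ] using h3
  have hn2 : 2 ≤ K.card := by
    obtain ⟨g, hg⟩ := hne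
    have h1K : (1 : N) ∈ K := by
      rw [hK]; exact Finset.mem_image.2 ⟨1, Finset.mem_univ _, by simp⟩
    have hgK : g * (α g)⁻¹ ∈ K := by
      rw [hK]; exact Finset.mem_image.2 ⟨g, Finset.mem_univ _, rfl⟩
    have hne' : g * (α g)⁻¹ ≠ 1 := by
      intro h
      exact hg (mul_inv_eq_one.1 h).symm
    have hsub : ({1, g * (α g)⁻¹} : Finset N) ⊆ K := by
      intro z hz
      simp only [Finset.mem_insert, Finset.mem_singleton] at hz
      rcases hz with rfl | rfl <;> assumption
    calc 2 = ({1, g * (α g)⁻¹} : Finset N).card := (Finset.card_pair hne'.symm).symm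
      _ ≤ K.card := Finset.card_le_card hsub
  -- double counting of the pairs
  have hPcard : (K ×ˢ K).card = K.card * K.card := Finset.card_product K K
  have hfib : (K ×ˢ K).card =
      ∑ g : N, ((K ×ˢ K).filter (fun p : N × N => p.1 * p.2⁻¹ = g)).card :=
    Finset.card_eq_sum_card_fiberwise (fun p _ => Finset.mem_coe.2 (Finset.mem_univ _))
  have hf1 : ((K ×ˢ K).filter (fun p : N × N => p.1 * p.2⁻¹ = 1)).card ≤ K.card := by
    apply Finset.card_le_card_of_injOn (fun p : N × N => p.1)
    · intro p hp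
      exact (Finset.mem_product.1 (Finset.mem_filter.1 hp).1).1
    · intro p hp p' hp' h
      have e1 : p.1 = p.2 := mul_inv_eq_one.1 (Finset.mem_filter.1 hp).2
      have e2 : p'.1 = p'.2 := mul_inv_eq_one.1 (Finset.mem_filter.1 hp').2
      have h' : p.1 = p'.1 := h
      exact Prod.ext h' (by rw [← e1, ← e2, h'])
  have hfg : ∀ g : N, g ≠ 1 →
      (2 * c ^ 2) * ((K ×ˢ K).filter (fun p : N × N => p.1 * p.2⁻¹ = g)).card ≤
        Fintype.card N := by
    intro g hg
    have hαg : α g ≠ 1 := by
      intro h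
      apply hg
      have h3 := congrArg α h
      rwa [h2, map_one] at h3
    have hidx := hcon (α g) hαg
    have hcm := Subgroup.card_mul_index (Subgroup.centralizer ({α g} : Set N))
    have hkey : ∀ p ∈ (K ×ˢ K).filter (fun p : N × N => p.1 * p.2⁻¹ = g),
        α g = p.1⁻¹ * g⁻¹ * p.1 := by
      intro p hp
      obtain ⟨hpK, hpg⟩ := Finset.mem_filter.1 hp
      obtain ⟨hp1, hp2⟩ := Finset.mem_product.1 hpK
      rw [← hpg, map_mul, map_inv, hKinv _ hp1, hKinv _ hp2]
      group
    have hle : ((K ×ˢ K).filter (fun p : N × N => p.1 * p.2⁻¹ = g)).card ≤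
        Nat.card (Subgroup.centralizer ({α g} : Set N)) := by
      rcases ((K ×ˢ K).filter (fun p : N × N => p.1 * p.2⁻¹ = g)).eq_empty_or_nonempty with
        he | ⟨p₀, hp₀⟩
      · rw [he]; simp
      · have hcard : Nat.card (Subgroup.centralizer ({α g} : Set N)) =
            (Finset.univ.filter
              (fun z : N => z ∈ Subgroup.centralizer ({α g} : Set N))).card := by
          rw [Nat.card_eq_fintype_card, Fintype.card_subtype]
        rw [hcard]
        apply Finset.card_le_card_of_injOn (fun p : N × N => p₀.1⁻¹ * p.1)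
        · intro p hp
          simp only [Finset.coe_filter, Finset.mem_univ, true_and, Set.mem_ofPred_eq]
          rw [Subgroup.mem_centralizer_singleton_iff]
          have e1 := hkey p hp
          have e0 := hkey p₀ hp₀
          calc p₀.1⁻¹ * p.1 * α g = p₀.1⁻¹ * p.1 * (p.1⁻¹ * g⁻¹ * p.1) := by rw [← e1]
            _ = (p₀.1⁻¹ * g⁻¹ * p₀.1) * (p₀.1⁻¹ * p.1) := by group
            _ = α g * (p₀.1⁻¹ * p.1) := by rw [← e0]
        · intro p hp p' hp' h
          have h' : p.1 = p'.1 := mul_left_cancel h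
          have e1 : p.2 = g⁻¹ * p.1 := by
            have := (Finset.mem_filter.1 hp).2
            rw [← this]; group
          have e2 : p'.2 = g⁻¹ * p'.1 := by
            have := (Finset.mem_filter.1 hp').2
            rw [← this]; group
          exact Prod.ext h' (by rw [e1, e2, h'])
    calc (2 * c ^ 2) * ((K ×ˢ K).filter (fun p : N × N => p.1 * p.2⁻¹ = g)).card
        ≤ (2 * c ^ 2) * Nat.card (Subgroup.centralizer ({α g} : Set N)) :=
          Nat.mul_le_mul_left _ hle
      _ ≤ (Subgroup.centralizer ({α g} : Set N)).index *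
            Nat.card (Subgroup.centralizer ({α g} : Set N)) := Nat.mul_le_mul_right _ hidx.le
      _ = Nat.card N := by rw [mul_comm]; exact hcm
      _ = Fintype.card N := Nat.card_eq_fintype_card
  -- arithmetic
  have hM1 : 1 ≤ Fintype.card N := Fintype.card_pos
  have ha : (2 * c ^ 2) * (K.card * K.card) ≤
      (2 * c ^ 2) * K.card + (Fintype.card N - 1) * Fintype.card N := by
    rw [← hPcard, hfib, ← Finset.add_sum_erase Finset.univ _ (Finset.mem_univ (1 : N)), mul_add,
      Finset.mul_sum]
    apply Nat.add_le_add (Nat.mul_le_mul_left _ hf1)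
    calc ∑ g ∈ Finset.univ.erase (1 : N),
          (2 * c ^ 2) * ((K ×ˢ K).filter (fun p : N × N => p.1 * p.2⁻¹ = g)).card
        ≤ ∑ _g ∈ Finset.univ.erase (1 : N), Fintype.card N :=
          Finset.sum_le_sum (fun g hg => hfg g (Finset.ne_of_mem_erase hg))
      _ = (Fintype.card N - 1) * Fintype.card N := by
          rw [Finset.sum_const, Finset.card_erase_of_mem (Finset.mem_univ _), Finset.card_univ,
            smul_eq_mul]
  obtain ⟨M, hM⟩ : ∃ M, M = Fintype.card N := ⟨_, rfl⟩
  obtain ⟨n, hn⟩ : ∃ n, n = K.card := ⟨_, rfl⟩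
  rw [← hM, ← hn] at ha
  rw [← hM] at hM1 hi
  rw [← hn] at hi hn2
  have e1 : (M - 1) * M + M = M * M := by
    obtain ⟨M', rfl⟩ := Nat.exists_eq_succ_of_ne_zero (by omega : M ≠ 0)
    simp only [Nat.succ_eq_add_one, Nat.add_sub_cancel]
    ring
  have e2 : M * M ≤ (c * n) * (c * n) := Nat.mul_le_mul hi hi
  have e3 : 2 * (c ^ 2 * (n * n)) < 2 * (c ^ 2 * n) + c ^ 2 * (n * n) := by nlinarith
  have e4 : 2 * (c ^ 2 * n) ≤ c ^ 2 * (n * n) := by
    have := Nat.mul_le_mul_left (c ^ 2 * n) hn2
    nlinarith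
  omega

end Cfsg.Agent.Lib.helper86.IV
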