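import Mathlib

/-!
# A Jordan-type bound for primitive coset actions (helper32)

`jordan_prime_cycle_index`: let `M` be a maximal subgroup of a finite group `G` and let `d ∈ G`
with `d ^ p = 1`, `p` prime, fix exactly `n + 1` of the `n + 1 + p` cosets of `M`.  Then `G` is
`(n + 2)`-fold transitive on `G ⧸ M` (Jordan), hence `(n + 1 + p)! / (p - 1)!` divides `|G|`.
-/

set_option autoImplicit false

namespace Cfsg.Agent.Lib.helper32

open MulAction

section Jordan

variable {G : Type*} [Group G]

/-- An element `d` with `d ^ p = 1`, `p` prime, acts transitively on the complement of its fixed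
point set when that complement has exactly `p` elements. -/
theorem exists_pow_smul_eq_of_prime {α : Type*} [MulAction G α] [Finite α] (d : G) (p : ℕ)
    (hp : p.Prime) (hd : d ^ p = 1)
    (hc : Nat.card {y : α // y ∉ fixedBy α d} = p) (x y : α) (hx : x ∉ fixedBy α d)
    (hy : y ∉ fixedBy α d) : ∃ i : ℕ, d ^ i • x = y := by
  have hmem : ∀ i : ℕ, d ^ i • x ∉ fixedBy α d := by
    intro i h
    apply hx
    rw [mem_fixedBy] at h ⊢
    have h1 : d ^ i • (d • x) = d ^ i • x := by
      rw [← mul_smul, ← pow_succ, pow_succ', mul_smul]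
      exact h
    exact smul_left_cancel _ h1
  let f : Fin p → {y : α // y ∉ fixedBy α d} := fun i => ⟨d ^ (i : ℕ) • x, hmem i⟩
  have key : ∀ m : ℕ, m < p → d ^ m • x = x → m = 0 := by
    intro m hm hmx
    by_contra hm0
    have hcop : Nat.Coprime m p := by
      rw [Nat.coprime_comm]
      exact (Nat.Prime.coprime_iff_not_dvd hp).mpr (fun h => hm0 (Nat.eq_zero_of_dvd_of_lt h hm))
    obtain ⟨a, -, ha⟩ := Nat.exists_mul_mod_eq_one_of_coprime hcop hp.one_lt
    have h1 : d ^ (m * a) = d := by
      rw [pow_eq_pow_mod (m * a) hd, ha, pow_one]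
    have h2 : d ^ m ∈ stabilizer G x := hmx
    have h3 : (d ^ m) ^ a ∈ stabilizer G x := pow_mem h2 a
    rw [← pow_mul, h1] at h3
    exact hx h3
  have hinj : Function.Injective f := by
    have aux : ∀ i j : Fin p, (i : ℕ) ≤ (j : ℕ) → f i = f j → i = j := by
      intro i j hij h
      have h' : d ^ (i : ℕ) • x = d ^ (j : ℕ) • x := congrArg Subtype.val h
      have h1 : d ^ ((j : ℕ) - (i : ℕ)) • x = x := by
        have h2 : d ^ (j : ℕ) = d ^ (i : ℕ) * d ^ ((j : ℕ) - (i : ℕ)) := by
          rw [← pow_add]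
          congr 1
          omega
        rw [h2, mul_smul] at h'
        exact (smul_left_cancel _ h').symm
      have h3 := key _ (by have := j.2; omega) h1
      exact Fin.ext (by omega)
    intro i j h
    rcases le_total (i : ℕ) (j : ℕ) with hij | hij
    · exact aux i j hij h
    · exact (aux j i hij h.symm).symm
  have hbij : Function.Bijective f := by
    apply hinj.bijective_of_nat_card_le
    rw [hc, Nat.card_fin]
  obtain ⟨i, hi⟩ := hbij.2 ⟨y, hy⟩
  exact ⟨i, congrArg Subtype.val hi⟩

set_option backward.isDefEq.respectTransparency false in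
/-- **Jordan's bound.**  If `M` is a maximal subgroup of the finite group `G` and `d ∈ G`,
`d ^ p = 1` with `p` prime, fixes exactly `n + 1` of the `n + 1 + p` cosets of `M`, then
`(n + 1 + p)! / (p - 1)!` divides `|G|`. -/
theorem jordan_prime_cycle_index [Finite G] (M : Subgroup G) (hM : IsCoatom M) (d : G)
    (p n : ℕ) (hp : p.Prime) (hd : d ^ p = 1)
    (hfix : (fixedBy (G ⧸ M) d).ncard = n + 1) (hidx : M.index = n + 1 + p) :
    ∃ k : ℕ, k ∣ Nat.card G ∧ k * (p - 1).factorial = (n + 1 + p).factorial := by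
  classical
  have hcard : Nat.card (G ⧸ M) = n + 1 + p := by rw [← hidx]; rfl
  have hp2 := hp.two_le
  have hnt : Nontrivial (G ⧸ M) := by
    apply (Finite.one_lt_card_iff_nontrivial).mp
    rw [hcard]; omega
  have hprimG : IsPreprimitive G (G ⧸ M) := by
    apply (isCoatom_stabilizer_iff_preprimitive (G := G) ((1 : G) : G ⧸ M)).mp
    rw [stabilizer_quotient]
    exact hM
  obtain ⟨s, hs⟩ : ∃ s : Set (G ⧸ M), s = fixedBy (G ⧸ M) d := ⟨_, rfl⟩
  rw [← hs] at hfix
  have hcompl : (sᶜ).ncard = p := by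
    have h := Set.ncard_add_ncard_compl s
    rw [hfix, hcard] at h
    omega
  have hdmem : d ∈ fixingSubgroup G s := by
    rw [mem_fixingSubgroup_iff]
    intro y hy
    rw [hs] at hy
    exact hy
  have hcardsub : Nat.card (SubMulAction.ofFixingSubgroup G s) = p := by
    rw [← hcompl, ← Nat.card_coe_set_eq]
    rfl
  have hc' : Nat.card {y : G ⧸ M // y ∉ fixedBy (G ⧸ M) d} = p := by
    rw [← hcompl, ← Nat.card_coe_set_eq, hs]
    rfl
  have hs' : ∀ z : G ⧸ M, z ∈ s ↔ z ∈ fixedBy (G ⧸ M) d := fun z => by rw [hs]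
  have htrans : IsPretransitive (fixingSubgroup G s) (SubMulAction.ofFixingSubgroup G s) := by
    refine ⟨fun x y => ?_⟩
    have hx : (x : G ⧸ M) ∉ fixedBy (G ⧸ M) d := by
      have := x.2
      rw [SubMulAction.mem_ofFixingSubgroup_iff] at this
      intro h
      exact this ((hs' _).mpr h)
    have hy : (y : G ⧸ M) ∉ fixedBy (G ⧸ M) d := by
      have := y.2
      rw [SubMulAction.mem_ofFixingSubgroup_iff] at this
      intro h
      exact this ((hs' _).mpr h)
    obtain ⟨i, hi⟩ := exists_pow_smul_eq_of_prime d p hp hd hc' (x : G ⧸ M) (y : G ⧸ M) hx hy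
    refine ⟨⟨d ^ i, pow_mem hdmem i⟩, ?_⟩
    rw [← SetLike.coe_eq_coe]
    exact hi
  have hprim : IsPreprimitive (fixingSubgroup G s) (SubMulAction.ofFixingSubgroup G s) := by
    apply IsPreprimitive.of_prime_card
    rw [hcardsub]
    exact hp
  have hmp : IsMultiplyPreprimitive G (G ⧸ M) (n + 2) :=
    hprimG.isMultiplyPreprimitive hfix (by rw [hcard]; omega) hprim
  have hmt : IsMultiplyPretransitive G (G ⧸ M) (n + 2) :=
    IsMultiplyPreprimitive.isMultiplyPretransitive G (G ⧸ M) (n + 2)
  -- a set with `n + 2` elements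
  have hne : (sᶜ).Nonempty := by
    rw [← Set.ncard_pos, hcompl]
    omega
  obtain ⟨x, hx⟩ := hne
  have ht : (insert x s).ncard = n + 2 := by
    rw [Set.ncard_insert_of_notMem hx, hfix]
  have h := hmt.index_of_fixingSubgroup_mul ht
  rw [hcard] at h
  have h2 : n + 1 + p - (n + 2) = p - 1 := by omega
  rw [h2] at h
  exact ⟨_, Subgroup.index_dvd_card _, h⟩

end Jordan

end Cfsg.Agent.Lib.helper32
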