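import Mathlib
import Cfsg.Prelude.Def_LieTypeChar
import Cfsg.Agent.Lib.helper44.LODefs
import Cfsg.Agent.Lib.helper6.LOARITH
import Cfsg.Agent.Lib.helper57.LOE6core
import Cfsg.Agent.S1062
import Cfsg.Agent.S1059

set_option autoImplicit false

namespace Cfsg.Agent.Lib.helper44.LO

open Cfsg

/-- F4 (racer copy). -/
theorem h32_lo_f4 {F : Type} [Field F] [Fintype F] (p : ℕ) (hp : p.Prime) [CharP F p] :
    LOGood p (Nat.card ↥(Cfsg.Lie.chevF4.group F)) := by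
  obtain ⟨f, _, hcard⟩ := FiniteField.card F p
  have hf : 1 ≤ (f : ℕ) := f.pos
  have hres := Cfsg.Agent.S1062.result (F := F) (q := p ^ (f : ℕ)) hcard
  have hq1 : 1 ≤ p ^ (f : ℕ) := Nat.one_le_pow _ _ hp.pos
  have hpq : p ∣ p ^ (f : ℕ) := dvd_pow_self p (by omega)
  have hnd := h57_not_dvd_pow_sub_one hp hpq hq1
  have hlt := h57_pow_sub_one_lt hq1
  refine lo_good hp (f : ℕ) hf 1 _ 24
    (((p ^ (f : ℕ)) ^ 2 - 1) * ((p ^ (f : ℕ)) ^ 6 - 1) * ((p ^ (f : ℕ)) ^ 8 - 1)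
      * ((p ^ (f : ℕ)) ^ 12 - 1)) 28
    ?_ ?_ ?_ ?_ (by norm_num) (by norm_num)
  · rw [hres, one_mul]
    simp only [mul_assoc]
  · intro h
    exact hp.one_lt.ne' (Nat.dvd_one.1 h)
  · intro h
    have n2 := hnd 2 (by norm_num)
    have n6 := hnd 6 (by norm_num)
    have n8 := hnd 8 (by norm_num)
    have n12 := hnd 12 (by norm_num)
    simp only [Nat.Prime.dvd_mul hp] at h
    rcases h with ((h | h) | h) | h <;> contradiction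
  · have hM : ((p ^ (f : ℕ)) ^ 2 - 1) * ((p ^ (f : ℕ)) ^ 6 - 1) * ((p ^ (f : ℕ)) ^ 8 - 1)
        * ((p ^ (f : ℕ)) ^ 12 - 1)
        < (p ^ (f : ℕ)) ^ 2 * (p ^ (f : ℕ)) ^ 6 * (p ^ (f : ℕ)) ^ 8 * (p ^ (f : ℕ)) ^ 12 :=
      Nat.mul_lt_mul'' (Nat.mul_lt_mul'' (Nat.mul_lt_mul'' (hlt 2) (hlt 6)) (hlt 8)) (hlt 12)
    have h28 : (p ^ (f : ℕ)) ^ 2 * (p ^ (f : ℕ)) ^ 6 * (p ^ (f : ℕ)) ^ 8 * (p ^ (f : ℕ)) ^ 12
        = 1 * (p ^ (f : ℕ)) ^ 28 := by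
      ring
    rw [h28] at hM
    exact hM

/-- G2 (racer copy). -/
theorem h32_lo_g2 {F : Type} [Field F] [Fintype F] (p : ℕ) (hp : p.Prime) [CharP F p] :
    LOGood p (Nat.card ↥(Cfsg.Lie.chevG2.group F)) := by
  obtain ⟨f, _, hcard⟩ := FiniteField.card F p
  have hf : 1 ≤ (f : ℕ) := f.pos
  have hres := Cfsg.Agent.S1059.result (F := F) (q := p ^ (f : ℕ)) hcard
  have hq1 : 1 ≤ p ^ (f : ℕ) := Nat.one_le_pow _ _ hp.pos
  have hpq : p ∣ p ^ (f : ℕ) := dvd_pow_self p (by omega)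
  have hnd := h57_not_dvd_pow_sub_one hp hpq hq1
  have hlt := h57_pow_sub_one_lt hq1
  refine lo_good hp (f : ℕ) hf 1 _ 6
    (((p ^ (f : ℕ)) ^ 2 - 1) * ((p ^ (f : ℕ)) ^ 6 - 1)) 8
    ?_ ?_ ?_ ?_ (by norm_num) (by norm_num)
  · rw [hres, one_mul]
    simp only [mul_assoc]
  · intro h
    exact hp.one_lt.ne' (Nat.dvd_one.1 h)
  · intro h
    have n2 := hnd 2 (by norm_num)
    have n6 := hnd 6 (by norm_num)
    simp only [Nat.Prime.dvd_mul hp] at h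
    rcases h with h | h <;> contradiction
  · have hM : ((p ^ (f : ℕ)) ^ 2 - 1) * ((p ^ (f : ℕ)) ^ 6 - 1)
        < (p ^ (f : ℕ)) ^ 2 * (p ^ (f : ℕ)) ^ 6 :=
      Nat.mul_lt_mul'' (hlt 2) (hlt 6)
    have h8 : (p ^ (f : ℕ)) ^ 2 * (p ^ (f : ℕ)) ^ 6 = 1 * (p ^ (f : ℕ)) ^ 8 := by
      ring
    rw [h8] at hM
    exact hM

end Cfsg.Agent.Lib.helper44.LO
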