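import Mathlib
import Cfsg.Agent.Lib.helper9.LcDefs

/-!
helper32: piece D of helper9's S0406 project (Leech lattice characterisation): parity of the
coordinates of a vector of the lattice, and the vectors with all coordinates divisible by 4.
-/

set_option autoImplicit false
open Matrix

namespace Cfsg.Agent.Lib.helper32
open Cfsg Cfsg.Agent.Lib.helper9

theorem lc_dot_single (u : GolayPt → ℤ) (p : GolayPt) (c : ℤ) :
    dotInt u (Pi.single p c) = c * u p := by
  unfold dotInt
  rw [Finset.sum_eq_single p]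
  · rw [Pi.single_eq_same, mul_comm]
  · intro b _ hb
    rw [Pi.single_eq_of_ne hb, mul_zero]
  · intro h
    exact absurd (Finset.mem_univ p) h

theorem lc_dot_add (u v w : GolayPt → ℤ) : dotInt u (v + w) = dotInt u v + dotInt u w := by
  unfold dotInt
  rw [← Finset.sum_add_distrib]
  apply Finset.sum_congr rfl
  intro i _
  rw [Pi.add_apply, mul_add]

theorem lc_parity (L : AddSubgroup (GolayPt → ℤ)) (hL : LcPre L) (u : GolayPt → ℤ) (hu : u ∈ L)
    (p q : GolayPt) : (2 : ℤ) ∣ u p - u q := by
  by_cases hpq : p = q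
  · subst hpq; simp
  · have h1 := hL.dot8 u hu _ (hL.gens p q hpq).1
    rw [lc_dot_add, lc_dot_single, lc_dot_single] at h1
    omega

theorem lc_single_eight_mem (L : AddSubgroup (GolayPt → ℤ)) (hL : LcPre L) (o : GolayPt) :
    (Pi.single o 8 : GolayPt → ℤ) ∈ L := by
  obtain ⟨q, hq⟩ : ∃ q : GolayPt, o ≠ q := by
    by_cases h : o = none
    · exact ⟨some 0, by rw [h]; simp⟩
    · exact ⟨none, h⟩
  have h1 := L.add_mem (hL.gens o q hq).1 (hL.gens o q hq).2
  have h2 : (Pi.single o 4 + Pi.single q 4 + (Pi.single o 4 - Pi.single q 4) : GolayPt → ℤ) =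
      Pi.single o 8 := by
    funext r
    simp only [Pi.add_apply, Pi.sub_apply]
    by_cases hr : r = o
    · subst hr
      simp
    · rw [Pi.single_eq_of_ne hr, Pi.single_eq_of_ne hr]
      ring
  rwa [h2] at h1

theorem lc_four_mem (L : AddSubgroup (GolayPt → ℤ)) (hL : LcPre L) (x : GolayPt → ℤ)
    (h4 : ∀ p, (4 : ℤ) ∣ x p) (h8 : (8 : ℤ) ∣ ∑ p, x p) : x ∈ L := by
  classical
  choose a ha using h4
  obtain ⟨m, hm⟩ := h8
  set o : GolayPt := none with ho
  have hx : x = ∑ p ∈ Finset.univ.erase o, a p • (Pi.single p 4 - Pi.single o 4 : GolayPt → ℤ) +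
      m • (Pi.single o 8 : GolayPt → ℤ) := by
    funext r
    simp only [Pi.add_apply, Finset.sum_apply, Pi.smul_apply, Pi.sub_apply, smul_eq_mul]
    by_cases hr : r = o
    · rw [hr]
      have h1 : ∑ p ∈ Finset.univ.erase o, a p * ((Pi.single p 4 : GolayPt → ℤ) o -
          (Pi.single o 4 : GolayPt → ℤ) o) = ∑ p ∈ Finset.univ.erase o, -(x p) := by
        apply Finset.sum_congr rfl
        intro p hp
        rw [Pi.single_eq_of_ne (Finset.ne_of_mem_erase hp).symm, Pi.single_eq_same, ha p]
        ring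
      rw [h1, Pi.single_eq_same, Finset.sum_neg_distrib]
      have h2 : x o + ∑ p ∈ Finset.univ.erase o, x p = ∑ p, x p :=
        Finset.add_sum_erase _ _ (Finset.mem_univ o)
      linarith
    · have h1 : ∑ p ∈ Finset.univ.erase o, a p * ((Pi.single p 4 : GolayPt → ℤ) r -
          (Pi.single o 4 : GolayPt → ℤ) r) =
          ∑ p ∈ Finset.univ.erase o, (if p = r then x r else 0) := by
        apply Finset.sum_congr rfl
        intro p hp
        rw [Pi.single_eq_of_ne hr]
        by_cases hpr : p = r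
        · subst hpr
          rw [Pi.single_eq_same, if_pos rfl, ha p]
          ring
        · rw [Pi.single_eq_of_ne (Ne.symm hpr), if_neg hpr]
          ring
      rw [h1, Finset.sum_ite_eq' , if_pos (Finset.mem_erase.mpr ⟨hr, Finset.mem_univ r⟩),
        Pi.single_eq_of_ne hr]
      ring
  rw [hx]
  apply L.add_mem
  · apply L.sum_mem
    intro p hp
    apply L.zsmul_mem
    exact (hL.gens p o (Finset.ne_of_mem_erase hp)).2
  · exact L.zsmul_mem (lc_single_eight_mem L hL o) m

theorem lc_four_sum (L : AddSubgroup (GolayPt → ℤ)) (hL : LcPre L) (x : GolayPt → ℤ)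
    (hx : x ∈ L) (h4 : ∀ p, (4 : ℤ) ∣ x p) : (8 : ℤ) ∣ ∑ p, x p := by
  classical
  by_contra hcon
  have h4s : (4 : ℤ) ∣ ∑ p, x p := Finset.dvd_sum (fun p _ => h4 p)
  set o : GolayPt := none with ho
  -- `x - 4 e_o` lies in `L`
  have hsum : ∑ p, (x - Pi.single o 4 : GolayPt → ℤ) p = (∑ p, x p) - 4 := by
    have h0 : ∑ p, (Pi.single o 4 : GolayPt → ℤ) p = 4 := by
      rw [Finset.sum_eq_single o]
      · exact Pi.single_eq_same o 4
      · intro b _ hb
        exact Pi.single_eq_of_ne hb 4
      · intro h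
        exact absurd (Finset.mem_univ o) h
    simp only [Pi.sub_apply, Finset.sum_sub_distrib]
    rw [h0]
  have h1 : (x - Pi.single o 4 : GolayPt → ℤ) ∈ L := by
    apply lc_four_mem L hL
    · intro p
      rw [Pi.sub_apply]
      apply dvd_sub (h4 p)
      by_cases hp : p = o
      · rw [hp, Pi.single_eq_same]
      · rw [Pi.single_eq_of_ne hp]; exact dvd_zero _
    · rw [hsum]
      omega
  have h2 : (Pi.single o 4 : GolayPt → ℤ) ∈ L := by
    have := L.sub_mem hx h1
    rwa [sub_sub_cancel] at this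
  have h3 : (Pi.single o 4 : GolayPt → ℤ) ≠ 0 := by
    intro h
    have := congrFun h o
    rw [Pi.single_eq_same] at this
    norm_num at this
  have h5 := hL.min32 _ h2 h3
  have h6 : sqNorm (Pi.single o 4 : GolayPt → ℤ) = 16 := by
    unfold sqNorm
    rw [Finset.sum_eq_single o]
    · rw [Pi.single_eq_same]; norm_num
    · intro b _ hb
      rw [Pi.single_eq_of_ne hb]; norm_num
    · intro h
      exact absurd (Finset.mem_univ o) h
  rw [h6] at h5
  norm_num at h5

end Cfsg.Agent.Lib.helper32
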