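import Mathlib
import Cfsg.Agent.Lib.helper9.LcDefs

/-!
helper32: piece F2 of helper9's S0406 project: a self-orthogonal binary code of length 24 has at
most `2 ^ 12` words.
-/

set_option autoImplicit false
open Matrix

namespace Cfsg.Agent.Lib.helper32
open Cfsg Cfsg.Agent.Lib.helper9

theorem lc_card_le_of_orth (C : Submodule (ZMod 2) (GolayPt → ZMod 2))
    (h : ∀ s ∈ C, ∀ t ∈ C, ∑ p, s p * t p = 0) : Nat.card C ≤ 4096 := by
  classical
  let B : LinearMap.BilinForm (ZMod 2) (GolayPt → ZMod 2) :=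
    Matrix.toBilin' (1 : Matrix GolayPt GolayPt (ZMod 2))
  have hB : B.Nondegenerate :=
    LinearMap.BilinForm.nondegenerate_toBilin'_iff_det_ne_zero.mpr (by rw [Matrix.det_one]; exact one_ne_zero)
  have hle : C ≤ B.orthogonal C := by
    intro m hm
    rw [LinearMap.BilinForm.mem_orthogonal_iff]
    intro n hn
    show Matrix.toBilin' (1 : Matrix GolayPt GolayPt (ZMod 2)) n m = 0
    rw [Matrix.toBilin'_apply', Matrix.one_mulVec]
    exact h n hn m hm
  have h1 := LinearMap.BilinForm.finrank_orthogonal hB C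
  have h2 : Module.finrank (ZMod 2) C ≤ Module.finrank (ZMod 2) (B.orthogonal C) :=
    Submodule.finrank_mono hle
  have h3 : Module.finrank (ZMod 2) (GolayPt → ZMod 2) = 24 := by
    rw [Module.finrank_fintype_fun_eq_card]
    rfl
  have h4 : Module.finrank (ZMod 2) C ≤ 12 := by omega
  have h5 : Nat.card C = 2 ^ Module.finrank (ZMod 2) C := by
    rw [Module.natCard_eq_pow_finrank (K := ZMod 2) (V := C)]
    simp
  rw [h5]
  calc 2 ^ Module.finrank (ZMod 2) C ≤ 2 ^ 12 := Nat.pow_le_pow_right (by norm_num) h4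
    _ = 4096 := by norm_num

end Cfsg.Agent.Lib.helper32
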