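import Mathlib
import Cfsg.Agent.Lib.helper9.LcDefs

/-!
helper32: piece H of helper9's S0406 project: there are at most `1104` integer vectors of
length 24 with all coordinates divisible by 4 and sum of squares 32.
-/

set_option autoImplicit false
open Matrix

namespace Cfsg.Agent.Lib.helper32
open Cfsg Cfsg.Agent.Lib.helper9

/-- The coordinates of a vector with entries divisible by 4 and norm 32 are `0` or `±4`. -/
theorem lc_four_values (u : GolayPt → ℤ) (h4 : ∀ p, (4 : ℤ) ∣ u p) (hn : sqNorm u = 32)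
    (p : GolayPt) : u p = 0 ∨ u p = 4 ∨ u p = -4 := by
  have h1 : u p ^ 2 ≤ 32 := by
    rw [← hn]
    unfold sqNorm
    exact Finset.single_le_sum (f := fun i => u i ^ 2) (fun i _ => sq_nonneg _)
      (Finset.mem_univ p)
  obtain ⟨k, hk⟩ := h4 p
  have h2 : k ^ 2 ≤ 2 := by rw [hk] at h1; nlinarith
  have h3 : -1 ≤ k := by nlinarith
  have h4 : k ≤ 1 := by nlinarith
  have h5 : k = -1 ∨ k = 0 ∨ k = 1 := by omega
  rcases h5 with h | h | h <;> rw [hk, h] <;> norm_num

/-- The support of such a vector has two elements. -/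
theorem lc_four_support (u : GolayPt → ℤ) (h4 : ∀ p, (4 : ℤ) ∣ u p) (hn : sqNorm u = 32) :
    (Finset.univ.filter (fun p => u p ≠ 0)).card = 2 := by
  classical
  have h1 : sqNorm u = ∑ p ∈ Finset.univ.filter (fun p => u p ≠ 0), (16 : ℤ) := by
    unfold sqNorm
    rw [Finset.sum_filter]
    apply Finset.sum_congr rfl
    intro p _
    rcases lc_four_values u h4 hn p with h | h | h <;> rw [h] <;> norm_num
  rw [hn, Finset.sum_const, nsmul_eq_mul] at h1
  have h2 : ((Finset.univ.filter (fun p => u p ≠ 0)).card : ℤ) = 2 := by linarith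
  exact_mod_cast h2

theorem lc_count_four :
    {u : GolayPt → ℤ | (∀ p, (4 : ℤ) ∣ u p) ∧ sqNorm u = 32}.ncard ≤ 1104 := by
  classical
  obtain ⟨f, hf⟩ : ∃ f : (GolayPt → ℤ) → (Σ _ : Finset GolayPt, Finset GolayPt),
      ∀ u, f u = ⟨Finset.univ.filter (fun p => u p ≠ 0), Finset.univ.filter (fun p => 0 < u p)⟩ :=
    ⟨fun u => ⟨Finset.univ.filter (fun p => u p ≠ 0), Finset.univ.filter (fun p => 0 < u p)⟩,
      fun u => rfl⟩
  obtain ⟨S, hSdef⟩ : ∃ S : Finset (Σ _ : Finset GolayPt, Finset GolayPt),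
      S = (Finset.powersetCard 2 (Finset.univ : Finset GolayPt)).sigma (fun T => T.powerset) :=
    ⟨_, rfl⟩
  have hS : S.card = 1104 := by
    rw [hSdef, Finset.card_sigma]
    have h1 : ∀ T ∈ Finset.powersetCard 2 (Finset.univ : Finset GolayPt),
        (T.powerset).card = 4 := by
      intro T hT
      rw [Finset.card_powerset, (Finset.mem_powersetCard.mp hT).2]
      norm_num
    rw [Finset.sum_congr rfl h1, Finset.sum_const, Finset.card_powersetCard, smul_eq_mul,
      Finset.card_univ]
    have h24 : Fintype.card GolayPt = 24 := by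
      rw [Fintype.card_option, ZMod.card]
    rw [h24]
    decide
  have hmaps : ∀ u ∈ {u : GolayPt → ℤ | (∀ p, (4 : ℤ) ∣ u p) ∧ sqNorm u = 32},
      f u ∈ (S : Set (Σ _ : Finset GolayPt, Finset GolayPt)) := by
    rintro u ⟨h4, hn⟩
    rw [Finset.mem_coe, hSdef, hf, Finset.mem_sigma]
    refine ⟨Finset.mem_powersetCard.mpr ⟨Finset.subset_univ _, lc_four_support u h4 hn⟩, ?_⟩
    rw [Finset.mem_powerset]
    intro p hp
    simp only [Finset.mem_filter, Finset.mem_univ, true_and] at hp ⊢
    omega
  have hinj : Set.InjOn f {u : GolayPt → ℤ | (∀ p, (4 : ℤ) ∣ u p) ∧ sqNorm u = 32} := by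
    rintro u ⟨h4, hn⟩ w ⟨h4', hn'⟩ hfw
    rw [hf, hf] at hfw
    have hT : Finset.univ.filter (fun p => u p ≠ 0) = Finset.univ.filter (fun p => w p ≠ 0) :=
      congrArg Sigma.fst hfw
    have hP : Finset.univ.filter (fun p => 0 < u p) = Finset.univ.filter (fun p => 0 < w p) := by
      have := (Sigma.mk.inj_iff.mp hfw).2
      exact eq_of_heq this
    funext p
    have hT' : u p ≠ 0 ↔ w p ≠ 0 := by
      have := Finset.ext_iff.mp hT p
      simpa using this
    have hP' : 0 < u p ↔ 0 < w p := by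
      have := Finset.ext_iff.mp hP p
      simpa using this
    rcases lc_four_values u h4 hn p with h | h | h <;>
      rcases lc_four_values w h4' hn' p with h' | h' | h' <;>
      first
        | (rw [h, h']; done)
        | (exfalso; rw [h, h'] at hT' hP'; omega)
  have := Set.ncard_le_ncard_of_injOn f hmaps hinj (Finset.finite_toSet S)
  rw [Set.ncard_coe_finset, hS] at this
  exact this

end Cfsg.Agent.Lib.helper32
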