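import Mathlib
import Cfsg.Agent.Lib.helper21.M11Defs2
import Cfsg.Agent.Lib.helper82.CharInt

/-!
helper32, piece T1 of the S0434 plan (`tools/S0434_SPEC.md`): the value of an irreducible
character at an element of order 3 has norm a natural number congruent to the square of the
degree modulo 3.
-/

set_option autoImplicit false

namespace Cfsg.Agent.Lib.helper32
open Cfsg Cfsg.Agent.Lib.helper4 Cfsg.Agent.Lib.helper21

universe u

/-- A primitive cube root of unity. -/
noncomputable def w3 : ℂ := ⟨-1 / 2, Real.sqrt 3 / 2⟩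

theorem w3_sq : w3 ^ 2 + w3 + 1 = 0 := by
  have h3 : Real.sqrt 3 * Real.sqrt 3 = 3 := Real.mul_self_sqrt (by norm_num)
  apply Complex.ext
  · simp only [w3, pow_two, Complex.add_re, Complex.mul_re, Complex.one_re, Complex.zero_re]
    nlinarith
  · simp only [w3, pow_two, Complex.add_im, Complex.mul_im, Complex.one_im, Complex.zero_im]
    ring

theorem w3_conj : (starRingEnd ℂ) w3 = -1 - w3 := by
  apply Complex.ext
  · simp only [w3, Complex.conj_re, Complex.sub_re, Complex.neg_re, Complex.one_re]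
    ring
  · simp only [w3, Complex.conj_im, Complex.sub_im, Complex.neg_im, Complex.one_im]
    ring

theorem cube_root_cases (μ : ℂ) (h : μ ^ 3 = 1) : μ = 1 ∨ μ = w3 ∨ μ = -1 - w3 := by
  have h1 : (μ - 1) * ((μ - w3) * (μ - (-1 - w3))) = 0 := by
    have := w3_sq
    linear_combination h - (μ - 1) * this
  rcases mul_eq_zero.mp h1 with h2 | h2
  · exact Or.inl (sub_eq_zero.mp h2)
  · rcases mul_eq_zero.mp h2 with h3 | h3
    · exact Or.inr (Or.inl (sub_eq_zero.mp h3))
    · exact Or.inr (Or.inr (sub_eq_zero.mp h3))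

/-- A sum of cube roots of unity is `u + v ω` with `u + v` congruent to the number of terms. -/
theorem multiset_cube_roots (R : Multiset ℂ) (h : ∀ μ ∈ R, μ ^ 3 = 1) :
    ∃ u v : ℤ, R.sum = (u : ℂ) + (v : ℂ) * w3 ∧ (3 : ℤ) ∣ u + v - (Multiset.card R : ℤ) := by
  induction R using Multiset.induction_on with
  | empty => exact ⟨0, 0, by simp, by simp⟩
  | cons a R ih =>
    obtain ⟨u, v, hs, hd⟩ := ih (fun μ hμ => h μ (Multiset.mem_cons_of_mem hμ))
    rcases cube_root_cases a (h a (Multiset.mem_cons_self a R)) with rfl | rfl | rfl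
    · refine ⟨u + 1, v, ?_, ?_⟩
      · rw [Multiset.sum_cons, hs]; push_cast; ring
      · rw [Multiset.card_cons]; push_cast
        have : u + 1 + v - ((Multiset.card R : ℤ) + 1) = u + v - (Multiset.card R : ℤ) := by ring
        rw [this]; exact hd
    · refine ⟨u, v + 1, ?_, ?_⟩
      · rw [Multiset.sum_cons, hs]; push_cast; ring
      · rw [Multiset.card_cons]; push_cast
        have : u + (v + 1) - ((Multiset.card R : ℤ) + 1) = u + v - (Multiset.card R : ℤ) := by ring
        rw [this]; exact hd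
    · refine ⟨u - 1, v - 1, ?_, ?_⟩
      · rw [Multiset.sum_cons, hs]; push_cast; ring
      · rw [Multiset.card_cons]; push_cast
        have : u - 1 + (v - 1) - ((Multiset.card R : ℤ) + 1) =
            u + v - (Multiset.card R : ℤ) - 3 := by ring
        rw [this]; exact dvd_sub hd (dvd_refl 3)

/-- The norm of `u + v ω`. -/
theorem norm_eisenstein (u v : ℤ) :
    ((u : ℂ) + (v : ℂ) * w3) * (starRingEnd ℂ) ((u : ℂ) + (v : ℂ) * w3) =
      ((u ^ 2 - u * v + v ^ 2 : ℤ) : ℂ) := by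
  rw [map_add, map_mul, map_intCast, map_intCast, w3_conj]
  push_cast
  linear_combination (-(v : ℂ) ^ 2) * w3_sq

/-- An endomorphism `f` with `f ^ 3 = 1`: the norm of its trace is a natural number congruent to
the square of the dimension modulo 3. -/
theorem trace_order_three {V : Type*} [AddCommGroup V] [Module ℂ V] [FiniteDimensional ℂ V]
    (f : Module.End ℂ V) (hf : f ^ 3 = 1) :
    ∃ N : ℕ, LinearMap.trace ℂ V f * (starRingEnd ℂ) (LinearMap.trace ℂ V f) = (N : ℂ) ∧
      (3 : ℤ) ∣ (N : ℤ) - (Module.finrank ℂ V : ℤ) ^ 2 := by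
  obtain ⟨s, hcard, hs, htr, -⟩ := Cfsg.Agent.Lib.helper82.exists_roots_of_pow_eq_one f 3 hf
  obtain ⟨u, v, hsum, hd⟩ := multiset_cube_roots s hs
  rw [hcard] at hd
  have hnn : 0 ≤ u ^ 2 - u * v + v ^ 2 := by nlinarith [sq_nonneg (u - v), sq_nonneg u, sq_nonneg v]
  refine ⟨(u ^ 2 - u * v + v ^ 2).toNat, ?_, ?_⟩
  · rw [htr, hsum, norm_eisenstein]
    have : (((u ^ 2 - u * v + v ^ 2).toNat : ℤ) : ℂ) = ((u ^ 2 - u * v + v ^ 2 : ℤ) : ℂ) := by
      rw [Int.toNat_of_nonneg hnn]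
    rw [← this]
    norm_cast
  · rw [Int.toNat_of_nonneg hnn]
    obtain ⟨k, hk⟩ := hd
    refine ⟨2 * (Module.finrank ℂ V : ℤ) * k + 3 * k ^ 2 - u * v, ?_⟩
    have hu : u = (Module.finrank ℂ V : ℤ) + 3 * k - v := by linarith
    rw [hu]
    ring

theorem irr_order_three_norm {G : Type u} [Group G] [Fintype G] (ψ : IrrCharacter G) (z : G)
    (hz : orderOf z = 3) :
    ∃ N : ℕ, (ψ : G → ℂ) z * (starRingEnd ℂ) ((ψ : G → ℂ) z) = (N : ℂ) ∧
      (3 : ℤ) ∣ (N : ℤ) - (charDegree (ψ : G → ℂ) : ℤ) ^ 2 := by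
  obtain ⟨χ, n, ρ, hirr, rfl⟩ := ψ
  have h3 : ρ z ^ 3 = 1 := by
    have := Cfsg.Agent.Lib.helper82.rep_pow_orderOf ρ z
    rwa [hz] at this
  obtain ⟨N, hN, hd⟩ := trace_order_three (ρ z) h3
  refine ⟨N, hN, ?_⟩
  show (3 : ℤ) ∣ (N : ℤ) - (charDegree ρ.character : ℤ) ^ 2
  rw [Cfsg.Agent.Lib.helper82.charDegree_char]
  exact hd

end Cfsg.Agent.Lib.helper32
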