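import Mathlib
import Cfsg.Agent.Lib.helper21.M11Defs2
import Cfsg.Agent.Lib.helper32.M11_T1
import Cfsg.Agent.Lib.helper42.M11_CL
import Cfsg.Agent.Lib.helper73.M11_V
import Cfsg.Agent.Lib.helper83.CharBasic
import Cfsg.Agent.Lib.helper82.CharSums

/-!
helper32, piece T2 of the S0434 plan (`tools/S0434_SPEC.md`): in a simple group of order 7920
every element of order 3 has a centralizer of order 18.
-/

set_option autoImplicit false

namespace Cfsg.Agent.Lib.helper32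
open Cfsg Cfsg.Agent.Lib.helper4 Cfsg.Agent.Lib.helper21

universe u

/-- The arithmetic at the end of the argument. -/
theorem m11t2_arith_aux : ∀ A ∈ Finset.range 11, ∀ Γ ∈ Finset.range 17, ∀ c ∈ Finset.range 89,
    (A % 3 = 0 ∧ 3 ≤ A ∧ Γ % 3 = 1 ∧ 792 * A + 495 * Γ < 7920 ∧ 4 + A + 2 * Γ ≤ c ∧
    (7920 - 792 * A - 495 * Γ) % (c * c) = 0) → c = 18 := by
  decide +kernel

theorem m11t2_arith (A : ℕ) (hA : A < 11) (Γ : ℕ) (hΓ : Γ < 17) (c : ℕ) (hc : c < 89)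
    (h1 : A % 3 = 0) (h2 : 3 ≤ A) (h3 : Γ % 3 = 1) (h4 : 792 * A + 495 * Γ < 7920)
    (h5 : 4 + A + 2 * Γ ≤ c) (h6 : (c * c) ∣ (7920 - 792 * A - 495 * Γ)) : c = 18 :=
  m11t2_arith_aux A (Finset.mem_range.mpr hA) Γ (Finset.mem_range.mpr hΓ) c (Finset.mem_range.mpr hc)
    ⟨h1, h2, h3, h4, h5, Nat.mod_eq_zero_of_dvd h6⟩

theorem centralizer_inv_eq {G : Type*} [Group G] (z : G) :
    Subgroup.centralizer ({z⁻¹} : Set G) = Subgroup.centralizer ({z} : Set G) := by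
  ext g
  simp only [Subgroup.mem_centralizer_iff, Set.mem_singleton_iff, forall_eq]
  constructor
  · intro h
    calc z * g = z * (g * z⁻¹) * z := by group
      _ = z * (z⁻¹ * g) * z := by rw [h]
      _ = g * z := by group
  · intro h
    calc z⁻¹ * g = z⁻¹ * (g * z) * z⁻¹ := by group
      _ = z⁻¹ * (z * g) * z⁻¹ := by rw [h]
      _ = g * z⁻¹ := by group

theorem m11_order_three_centralizer {G : Type u} [Group G] [Fintype G] [Fintype (IrrCharacter G)]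
    [IsSimpleGroup G] (hG : Nat.card G = 7920) (P : Subgroup G) (hP : Nat.card P = 11)
    (α₁ α₂ α₃ β γ₁ γ₂ ψ₁ ψ₂ ψ₃ : IrrCharacter G)
    (h : M11FullData P α₁ α₂ α₃ β γ₁ γ₂ ψ₁ ψ₂ ψ₃) (z : G) (hz : orderOf z = 3) :
    Nat.card (Subgroup.centralizer ({z} : Set G)) = 18 := by
  classical
  obtain ⟨hnd, hall, d1, d2, d3, d4, d5, d6, d7, d8, d9, hPx, hrel⟩ := h
  -- sums over the irreducible characters
  have hsum : ∀ F : IrrCharacter G → ℂ, ∑ χ, F χ = F (trivIrr G) + F α₁ + F α₂ + F α₃ + F β +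
      F γ₁ + F γ₂ + F ψ₁ + F ψ₂ + F ψ₃ := by
    intro F
    have huniv : (Finset.univ : Finset (IrrCharacter G)) =
        [trivIrr G, α₁, α₂, α₃, β, γ₁, γ₂, ψ₁, ψ₂, ψ₃].toFinset := by
      ext χ
      simp only [Finset.mem_univ, List.mem_toFinset, true_iff]
      exact hall χ
    rw [huniv, List.sum_toFinset _ hnd]
    simp only [List.map_cons, List.map_nil, List.sum_cons, List.sum_nil]
    ring
  -- an element of order 11
  have hPne : P ≠ ⊥ := by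
    intro hb
    rw [hb, Subgroup.card_bot] at hP
    omega
  obtain ⟨x, hxP, hx1⟩ := (Subgroup.ne_bot_iff_exists_ne_one).mp hPne |>.imp
    (fun x hx => hx) |> fun ⟨x, hx⟩ => (⟨(x : G), x.2, fun h => hx (Subtype.ext h)⟩ :
      ∃ x : G, x ∈ P ∧ x ≠ 1)
  have hx11 : orderOf x = 11 := by
    have h1 : orderOf (⟨x, hxP⟩ : P) ∣ 11 := hP ▸ orderOf_dvd_natCard _
    rw [Subgroup.orderOf_mk] at h1
    rcases (Nat.dvd_prime (by norm_num : Nat.Prime 11)).mp h1 with h2 | h2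
    · exact absurd (orderOf_eq_one_iff.mp h2) hx1
    · exact h2
  -- `z` is not conjugate into `P`
  have hzP : ∀ g : G, g * z * g⁻¹ ∈ P → z = 1 := by
    intro g hg
    exfalso
    have h1 : (⟨g * z * g⁻¹, hg⟩ : P) ^ 11 = 1 := by
      rw [← hP]; exact pow_card_eq_one'
    have h2 : (g * z * g⁻¹) ^ 11 = 1 := by
      have := congrArg Subtype.val h1
      simpa using this
    rw [conj_pow] at h2
    have h3 : z ^ 11 = 1 := by
      have : z ^ 11 = g⁻¹ * (g * z ^ 11 * g⁻¹) * g := by group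
      rw [this, h2]; group
    have h4 := orderOf_dvd_of_pow_eq_one h3
    rw [hz] at h4
    omega
  obtain ⟨-, hγ⟩ := hrel z hzP
  -- vanishing
  have hβz : (β : G → ℂ) z = 0 :=
    Cfsg.Agent.Lib.helper73.irr_vanish_of_defect_zero β 3 2 (by norm_num)
      (by rw [hG]; norm_num) (by rw [hG]; norm_num) (by rw [d4]; norm_num) z (by rw [hz])
  have hψ₁x : (ψ₁ : G → ℂ) x = 0 :=
    Cfsg.Agent.Lib.helper73.irr_vanish_of_defect_zero ψ₁ 11 1 (by norm_num)
      (by rw [hG]; norm_num) (by rw [hG]; norm_num) (by rw [d7]; norm_num) x (by rw [hx11])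
  have hψ₂x : (ψ₂ : G → ℂ) x = 0 :=
    Cfsg.Agent.Lib.helper73.irr_vanish_of_defect_zero ψ₂ 11 1 (by norm_num)
      (by rw [hG]; norm_num) (by rw [hG]; norm_num) (by rw [d8]; norm_num) x (by rw [hx11])
  have hψ₃x : (ψ₃ : G → ℂ) x = 0 :=
    Cfsg.Agent.Lib.helper73.irr_vanish_of_defect_zero ψ₃ 11 1 (by norm_num)
      (by rw [hG]; norm_num) (by rw [hG]; norm_num) (by rw [d9]; norm_num) x (by rw [hx11])
  obtain ⟨hα₁x, hα₂x, hα₃x, hβx, hγx⟩ := hPx x hxP hx1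
  -- the norms
  obtain ⟨A₁, hA₁, hA₁3⟩ := irr_order_three_norm α₁ z hz
  obtain ⟨A₂, hA₂, hA₂3⟩ := irr_order_three_norm α₂ z hz
  obtain ⟨A₃, hA₃, hA₃3⟩ := irr_order_three_norm α₃ z hz
  obtain ⟨Γ, hΓ, hΓ3⟩ := irr_order_three_norm γ₁ z hz
  obtain ⟨D₁, hD₁, hD₁3⟩ := irr_order_three_norm ψ₁ z hz
  obtain ⟨D₂, hD₂, hD₂3⟩ := irr_order_three_norm ψ₂ z hz
  obtain ⟨D₃, hD₃, hD₃3⟩ := irr_order_three_norm ψ₃ z hz
  rw [d1] at hA₁3
  rw [d2] at hA₂3
  rw [d3] at hA₃3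
  rw [d5] at hΓ3
  rw [d7] at hD₁3
  rw [d8] at hD₂3
  rw [d9] at hD₃3
  have hΓ' : (γ₂ : G → ℂ) z * (starRingEnd ℂ) ((γ₂ : G → ℂ) z) = (Γ : ℂ) := by rw [hγ, hΓ]
  have htriv : ∀ g : G, (trivIrr G : G → ℂ) g = 1 := fun g => rfl
  have hinv : ∀ χ : IrrCharacter G, (χ : G → ℂ) z⁻¹ = (starRingEnd ℂ) ((χ : G → ℂ) z) :=
    fun χ => Cfsg.Agent.Lib.helper83.irr_inv χ z
  have hone : ∀ χ : IrrCharacter G, (χ : G → ℂ) 1 = (charDegree (χ : G → ℂ) : ℂ) :=
    fun χ => Cfsg.Agent.Lib.helper82.irr_one_eq χ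
  -- the centralizer order
  obtain ⟨c, hc⟩ : ∃ c : ℕ, c = Nat.card (Subgroup.centralizer ({z} : Set G)) := ⟨_, rfl⟩
  -- second orthogonality
  have horth := Cfsg.Agent.Lib.helper83.second_orthogonality_of_isConj (IsConj.refl z)
  rw [hsum, htriv, hA₁, hA₂, hA₃, hβz, hΓ, hΓ', hD₁, hD₂, hD₃, ← hc] at horth
  have horth' : 1 + A₁ + A₂ + A₃ + 2 * Γ + D₁ + D₂ + D₃ = c := by
    have : ((1 + A₁ + A₂ + A₃ + 2 * Γ + D₁ + D₂ + D₃ : ℕ) : ℂ) = (c : ℂ) := by
      simp only [map_one, map_zero, mul_one, mul_zero] at horth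
      push_cast
      linear_combination horth
    exact_mod_cast this
  -- the class equation
  obtain ⟨n, hn, -⟩ := Cfsg.Agent.Lib.helper42.class_count_mul z z⁻¹ x
  rw [centralizer_inv_eq, ← hc, hG, hsum] at hn
  simp only [htriv] at hn
  simp only [hinv, hone, d1, d2, d3, d4, d5, d6, d7, d8, d9] at hn
  rw [hA₁, hA₂, hA₃, hβz, hΓ, hΓ', hD₁, hD₂, hD₃, hα₁x, hα₂x, hα₃x, hβx, hψ₁x, hψ₂x, hψ₃x] at hn
  have hγx' : (starRingEnd ℂ) ((γ₁ : G → ℂ) x) + (starRingEnd ℂ) ((γ₂ : G → ℂ) x) = -1 := by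
    rw [← map_add, hγx]; simp
  have hcl : n * c * c + 792 * (A₁ + A₂ + A₃) + 495 * Γ = 7920 := by
    have : ((n * c * c + 792 * (A₁ + A₂ + A₃) + 495 * Γ : ℕ) : ℂ) = ((7920 : ℕ) : ℂ) := by
      push_cast
      simp only [map_neg, map_one, map_zero] at hn
      linear_combination hn + (495 : ℂ) * (Γ : ℂ) * hγx'
    exact_mod_cast this
  -- arithmetic
  have e1 : A₁ % 3 = 1 := by omega
  have e2 : A₂ % 3 = 1 := by omega
  have e3 : A₃ % 3 = 1 := by omega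
  have e4 : Γ % 3 = 1 := by omega
  have e5 : D₁ % 3 = 1 := by omega
  have e6 : D₂ % 3 = 1 := by omega
  have e7 : D₃ % 3 = 1 := by omega
  have hne : 792 * (A₁ + A₂ + A₃) + 495 * Γ ≠ 7920 := by omega
  have hn1 : 1 ≤ n := by
    rcases Nat.eq_zero_or_pos n with h0 | h0
    · rw [h0] at hcl; simp at hcl; exact absurd hcl hne
    · exact h0
  have hc89 : c < 89 := by
    by_contra hcon
    have h1 : 89 * 89 ≤ c * c := Nat.mul_le_mul (by omega) (by omega)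
    have h2 : c * c ≤ n * c * c := by
      rw [mul_assoc]
      exact Nat.le_mul_of_pos_left _ hn1
    omega
  rw [← hc]
  apply m11t2_arith (A₁ + A₂ + A₃) (by omega) Γ (by omega) c hc89 (by omega) (by omega) e4
    (by
      have : 0 < n * c * c := by
        have hcpos : 0 < c := by omega
        positivity
      omega) (by omega)
  refine ⟨n, ?_⟩
  have : n * c * c = c * c * n := by ring
  omega

end Cfsg.Agent.Lib.helper32
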