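import Mathlib
import Cfsg.Agent.Lib.helper11.FrobData
import Cfsg.Agent.Lib.helper32.Sieve2

/-!
# No simple group of order 4212 (helper32)

Brauer–Tuan (S0904) gives a self-centralizing Sylow 13-subgroup with normalizer of order
`13 * 12`; the character data `frob_data` of helper11 for a Frobenius normalizer `13 : 12` is then
contradictory: the nontrivial constituents of `(1_P - λ)^G` have degrees `27, 12, 12, 12, 2, 2`
and the class equation gives `|C(t)|² ∈ {2928, 3024}`.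
-/

set_option autoImplicit false

namespace Cfsg.Agent.Lib.helper32

open Cfsg

universe u

set_option maxHeartbeats 4000000 in
/-- The possible profiles of a nontrivial irreducible character, packaged as linear data. -/
theorem frob156_profile (c s : ℤ) (d a b : ℕ) (hc : c * c ≤ 12) (hd : d ∣ 4212) (hd2 : 2 ≤ d)
    (hd64 : d ≤ 64) (hab : d = a + 12 * b) (hcab : c = (a : ℤ) - b) (q q₁ q₂ : ℕ)
    (h1 : (d : ℤ) - s = 4 * q) (h2 : (a : ℤ) - s = 2 * q₁) (h3 : (a : ℤ) + s = 2 * q₂) :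
    ∃ X27 X12 X2 X54 X3 X36 W F E : ℤ, E * d = 324 * c * (s * s) ∧
      c * c = X27 + X12 + 4 * X2 + 4 * X54 + 9 * X3 + 9 * X36 ∧
      c * d = 27 * X27 - 12 * X12 + 4 * X2 + 108 * X54 + 9 * X3 - 108 * X36 ∧
      729 * X27 + 144 * X12 + 4 * X2 + 2916 * X54 + 9 * X3 + 1296 * X36 ≤ (d : ℤ) * d ∧
      E = 1296 * X2 + 12 * X27 + 96 * W + F ∧ 0 ≤ W ∧ W ≤ X27 ∧
      -2916 * (X54 + X3 + X36) ≤ F ∧ F ≤ 2916 * (X54 + X3 + X36) ∧
      0 ≤ X27 ∧ 0 ≤ X12 ∧ 0 ≤ X2 ∧ 0 ≤ X54 ∧ 0 ≤ X3 ∧ 0 ≤ X36 := by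
  have hc1 : -3 ≤ c := by nlinarith
  have hc2 : c ≤ 3 := by nlinarith
  have hs1 : -64 ≤ s := by omega
  have hs2 : s ≤ 64 := by omega
  refine ⟨if c = 1 ∧ d = 27 then 1 else 0, if c = -1 ∧ d = 12 then 1 else 0,
    if c = 2 ∧ d = 2 then 1 else 0, if c = 2 ∧ d = 54 then 1 else 0,
    if c = 3 ∧ d = 3 then 1 else 0, if c = -3 ∧ d = 36 then 1 else 0,
    if c = 1 ∧ d = 27 ∧ s = 3 then 1 else 0,
    324 * c * (s * s) / d - 1296 * (if c = 2 ∧ d = 2 then 1 else 0)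
      - 12 * (if c = 1 ∧ d = 27 then 1 else 0)
      - 96 * (if c = 1 ∧ d = 27 ∧ s = 3 then 1 else 0),
    324 * c * (s * s) / d, ?_⟩
  interval_cases d <;> first | (exfalso; omega) | skip
  all_goals interval_cases c <;> first | (exfalso; omega) | skip
  all_goals interval_cases s <;> first | (exfalso; omega) | decide

set_option maxHeartbeats 1600000 in
/-- A simple group of order `4212` has no subgroup `P` of order `13` with `C_G(P) ≤ P` and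
`|N_G(P)| = 156`. -/
theorem no_frobenius_4212 {G : Type u} [Group G] [Finite G] [IsSimpleGroup G]
    (hG : Nat.card G = 4212) (P : Subgroup G) (hP : Nat.card P = 13)
    (hC : Subgroup.centralizer (P : Set G) ≤ P)
    (hN : Nat.card (Subgroup.normalizer (P : Set G)) = 13 * 12) : False := by
  classical
  have : Fintype G := Fintype.ofFinite G
  have : Fintype (IrrCharacter G) := Fintype.ofFinite _
  have := Fact.mk Nat.prime_two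
  have hnp : ¬ (Nat.card G).Prime := by rw [hG]; norm_num
  obtain ⟨J', hJ'⟩ := exists_prime_orderOf_dvd_card' (G := Subgroup.normalizer (P : Set G)) 2
    (by rw [hN]; norm_num)
  obtain ⟨t, htdef⟩ : ∃ t : G, t = (J' : G) := ⟨_, rfl⟩
  have htN : t ∈ Subgroup.normalizer (P : Set G) := by rw [htdef]; exact J'.2
  have hto : orderOf t = 2 := by rw [htdef, Subgroup.orderOf_coe]; exact hJ'
  have ht : t * t = 1 := by rw [← pow_two, ← hto]; exact pow_orderOf_eq_one t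
  have ht1 : t ≠ 1 := by
    rintro rfl
    rw [orderOf_one] at hto
    omega
  obtain ⟨c, s, d, a, b, triv, hct, hdt, hst, hc2, hdvd, hd2, hdge, hab, hcab, hq, hcd, hcs,
    hcls⟩ := Cfsg.Agent.Lib.helper11.frob_data hnp (p := 13) (e := 12) (by norm_num)
      (by norm_num) P hP hC hN rfl t htN ht ht1
  rw [hG] at hdvd hd2 hcls
  obtain ⟨m, hm⟩ : ∃ m : ℕ, m = Nat.card (Subgroup.centralizer ({t} : Set G)) := ⟨_, rfl⟩
  rw [← hm] at hcls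
  obtain ⟨S, hS⟩ : ∃ S : Finset (IrrCharacter G), S = Finset.univ.erase triv := ⟨_, rfl⟩
  have hmem : ∀ ψ, ψ ∈ S → ψ ≠ triv := by
    intro ψ hψ
    rw [hS] at hψ
    exact Finset.ne_of_mem_erase hψ
  have hsplit : ∀ f : IrrCharacter G → ℤ, ∑ ψ, f ψ = f triv + ∑ ψ ∈ S, f ψ := by
    intro f
    rw [hS]
    exact (Finset.add_sum_erase _ f (Finset.mem_univ triv)).symm
  -- the basic sums over the nontrivial characters
  have hc4 : ∑ ψ ∈ S, c ψ * c ψ = 12 := by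
    have h := hsplit (fun ψ => c ψ ^ 2)
    rw [hc2] at h
    simp only [hct] at h
    have h' : ∑ ψ ∈ S, c ψ ^ 2 = ∑ ψ ∈ S, c ψ * c ψ :=
      Finset.sum_congr rfl (fun ψ _ => pow_two _)
    rw [h'] at h
    push_cast at h
    omega
  have hcd1 : ∑ ψ ∈ S, c ψ * (d ψ : ℤ) = -1 := by
    have h := hsplit (fun ψ => c ψ * (d ψ : ℤ))
    rw [hcd] at h
    simp only [hct, hdt] at h
    push_cast at h
    omega
  have hdd : ∑ ψ ∈ S, (d ψ : ℤ) * (d ψ : ℤ) = 4211 := by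
    have h := hsplit (fun ψ => (d ψ : ℤ) * (d ψ : ℤ))
    have h2 : ∑ ψ, (d ψ : ℤ) * (d ψ : ℤ) = 4212 := by
      have : ((∑ ψ, d ψ ^ 2 : ℕ) : ℤ) = 4212 := by rw [hd2]; norm_num
      rw [← this]
      push_cast
      exact Finset.sum_congr rfl (fun ψ _ => (pow_two _).symm)
    rw [h2] at h
    simp only [hdt] at h
    push_cast at h
    omega
  -- per-character bounds
  have hcle : ∀ ψ, ψ ∈ S → c ψ * c ψ ≤ 12 := by
    intro ψ hψ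
    rw [← hc4]
    exact Finset.single_le_sum (f := fun ψ => c ψ * c ψ) (fun i _ => mul_self_nonneg _) hψ
  have hd64 : ∀ ψ, d ψ ≤ 64 := by
    intro ψ
    have h : d ψ ^ 2 ≤ ∑ ψ, d ψ ^ 2 :=
      Finset.single_le_sum (f := fun ψ => d ψ ^ 2) (fun i _ => Nat.zero_le _) (Finset.mem_univ ψ)
    rw [hd2] at h
    by_contra hlt
    have h65 : 65 ≤ d ψ := by omega
    nlinarith
  have hprof : ∀ ψ, ∃ X27 X12 X2 X54 X3 X36 W F E : ℤ, ψ ∈ S →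
      (E * (d ψ : ℤ) = 324 * c ψ * (s ψ * s ψ) ∧
      c ψ * c ψ = X27 + X12 + 4 * X2 + 4 * X54 + 9 * X3 + 9 * X36 ∧
      c ψ * (d ψ : ℤ) = 27 * X27 - 12 * X12 + 4 * X2 + 108 * X54 + 9 * X3 - 108 * X36 ∧
      729 * X27 + 144 * X12 + 4 * X2 + 2916 * X54 + 9 * X3 + 1296 * X36 ≤
        (d ψ : ℤ) * (d ψ : ℤ) ∧
      E = 1296 * X2 + 12 * X27 + 96 * W + F ∧ 0 ≤ W ∧ W ≤ X27 ∧
      -2916 * (X54 + X3 + X36) ≤ F ∧ F ≤ 2916 * (X54 + X3 + X36) ∧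
      0 ≤ X27 ∧ 0 ≤ X12 ∧ 0 ≤ X2 ∧ 0 ≤ X54 ∧ 0 ≤ X3 ∧ 0 ≤ X36) := by
    intro ψ
    by_cases hψ : ψ ∈ S
    · obtain ⟨q, q₁, q₂, h1, h2, h3⟩ := hq ψ
      obtain ⟨X27, X12, X2, X54, X3, X36, W, F, E, h⟩ :=
        frob156_profile (c ψ) (s ψ) (d ψ) (a ψ) (b ψ)
          (hcle ψ hψ) (hdvd ψ) (hdge ψ (hmem ψ hψ)) (hd64 ψ) (hab ψ) (hcab ψ) q q₁ q₂ h1 h2 h3
      exact ⟨X27, X12, X2, X54, X3, X36, W, F, E, fun _ => h⟩
    · exact ⟨0, 0, 0, 0, 0, 0, 0, 0, 0, fun h => absurd h hψ⟩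
  choose X27 X12 X2 X54 X3 X36 W F E hprof using hprof
  -- the class equation in integers
  have hmE : (m : ℤ) * m = 324 + ∑ ψ ∈ S, E ψ := by
    have hsplitC : ∑ ψ : IrrCharacter G, (c ψ : ℂ) * (s ψ : ℂ) ^ 2 / (d ψ : ℂ) =
        (c triv : ℂ) * (s triv : ℂ) ^ 2 / (d triv : ℂ) +
          ∑ ψ ∈ S, (c ψ : ℂ) * (s ψ : ℂ) ^ 2 / (d ψ : ℂ) := by
      rw [hS]
      exact (Finset.add_sum_erase _ (fun ψ : IrrCharacter G =>
        (c ψ : ℂ) * (s ψ : ℂ) ^ 2 / (d ψ : ℂ)) (Finset.mem_univ triv)).symm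
    have hterm : ∀ ψ ∈ S, (c ψ : ℂ) * (s ψ : ℂ) ^ 2 / (d ψ : ℂ) = (E ψ : ℂ) / 324 := by
      intro ψ hψ
      have h := (hprof ψ hψ).1
      have hd0 : (d ψ : ℂ) ≠ 0 := by
        have h2 := hdge ψ (hmem ψ hψ)
        have h3 : d ψ ≠ 0 := by omega
        exact_mod_cast h3
      have hC : (E ψ : ℂ) * (d ψ : ℂ) = 324 * (c ψ : ℂ) * ((s ψ : ℂ) * (s ψ : ℂ)) := by
        exact_mod_cast h
      field_simp
      linear_combination (-1 : ℂ) * hC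
    rw [hsplitC, Finset.sum_congr rfl hterm, ← Finset.sum_div, hct, hdt, hst] at hcls
    have h : (((m : ℤ) * m : ℤ) : ℂ) = ((324 + ∑ ψ ∈ S, E ψ : ℤ) : ℂ) := by
      push_cast
      push_cast at hcls
      linear_combination hcls / 13
    exact_mod_cast h
  -- summing the profile relations
  have e1 : ∑ ψ ∈ S, c ψ * c ψ = ∑ ψ ∈ S, X27 ψ + ∑ ψ ∈ S, X12 ψ + 4 * ∑ ψ ∈ S, X2 ψ +
      4 * ∑ ψ ∈ S, X54 ψ + 9 * ∑ ψ ∈ S, X3 ψ + 9 * ∑ ψ ∈ S, X36 ψ := by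
    rw [Finset.sum_congr rfl (fun ψ hψ => (hprof ψ hψ).2.1)]
    simp only [Finset.sum_add_distrib, Finset.mul_sum]
  have e2 : ∑ ψ ∈ S, c ψ * (d ψ : ℤ) = 27 * ∑ ψ ∈ S, X27 ψ - 12 * ∑ ψ ∈ S, X12 ψ +
      4 * ∑ ψ ∈ S, X2 ψ + 108 * ∑ ψ ∈ S, X54 ψ + 9 * ∑ ψ ∈ S, X3 ψ - 108 * ∑ ψ ∈ S, X36 ψ := by
    rw [Finset.sum_congr rfl (fun ψ hψ => (hprof ψ hψ).2.2.1)]
    simp only [Finset.sum_add_distrib, Finset.sum_sub_distrib, Finset.mul_sum]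
  rw [hc4] at e1
  rw [hcd1] at e2
  have e5 : 729 * ∑ ψ ∈ S, X27 ψ + 144 * ∑ ψ ∈ S, X12 ψ + 4 * ∑ ψ ∈ S, X2 ψ +
      2916 * ∑ ψ ∈ S, X54 ψ + 9 * ∑ ψ ∈ S, X3 ψ + 1296 * ∑ ψ ∈ S, X36 ψ ≤ 4211 := by
    have h := Finset.sum_le_sum (fun ψ hψ => (hprof ψ hψ).2.2.2.1)
    rw [hdd] at h
    simp only [Finset.sum_add_distrib, ← Finset.mul_sum] at h
    exact h
  have e6 : ∑ ψ ∈ S, E ψ = 1296 * ∑ ψ ∈ S, X2 ψ + 12 * ∑ ψ ∈ S, X27 ψ + 96 * ∑ ψ ∈ S, W ψ +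
      ∑ ψ ∈ S, F ψ := by
    rw [Finset.sum_congr rfl (fun ψ hψ => (hprof ψ hψ).2.2.2.2.1)]
    simp only [Finset.sum_add_distrib, Finset.mul_sum]
  have e7 : 0 ≤ ∑ ψ ∈ S, W ψ := Finset.sum_nonneg (fun ψ hψ => (hprof ψ hψ).2.2.2.2.2.1)
  have e8 : ∑ ψ ∈ S, W ψ ≤ ∑ ψ ∈ S, X27 ψ :=
    Finset.sum_le_sum (fun ψ hψ => (hprof ψ hψ).2.2.2.2.2.2.1)
  have e9 : -2916 * (∑ ψ ∈ S, X54 ψ + ∑ ψ ∈ S, X3 ψ + ∑ ψ ∈ S, X36 ψ) ≤ ∑ ψ ∈ S, F ψ := by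
    rw [← Finset.sum_add_distrib, ← Finset.sum_add_distrib, Finset.mul_sum]
    exact Finset.sum_le_sum (fun ψ hψ => (hprof ψ hψ).2.2.2.2.2.2.2.1)
  have e10 : ∑ ψ ∈ S, F ψ ≤ 2916 * (∑ ψ ∈ S, X54 ψ + ∑ ψ ∈ S, X3 ψ + ∑ ψ ∈ S, X36 ψ) := by
    rw [← Finset.sum_add_distrib, ← Finset.sum_add_distrib, Finset.mul_sum]
    exact Finset.sum_le_sum (fun ψ hψ => (hprof ψ hψ).2.2.2.2.2.2.2.2.1)
  have p1 : 0 ≤ ∑ ψ ∈ S, X27 ψ :=
    Finset.sum_nonneg (fun ψ hψ => (hprof ψ hψ).2.2.2.2.2.2.2.2.2.1)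
  have p2 : 0 ≤ ∑ ψ ∈ S, X12 ψ :=
    Finset.sum_nonneg (fun ψ hψ => (hprof ψ hψ).2.2.2.2.2.2.2.2.2.2.1)
  have p3 : 0 ≤ ∑ ψ ∈ S, X2 ψ :=
    Finset.sum_nonneg (fun ψ hψ => (hprof ψ hψ).2.2.2.2.2.2.2.2.2.2.2.1)
  have p4 : 0 ≤ ∑ ψ ∈ S, X54 ψ :=
    Finset.sum_nonneg (fun ψ hψ => (hprof ψ hψ).2.2.2.2.2.2.2.2.2.2.2.2.1)
  have p5 : 0 ≤ ∑ ψ ∈ S, X3 ψ :=
    Finset.sum_nonneg (fun ψ hψ => (hprof ψ hψ).2.2.2.2.2.2.2.2.2.2.2.2.2.1)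
  have p6 : 0 ≤ ∑ ψ ∈ S, X36 ψ :=
    Finset.sum_nonneg (fun ψ hψ => (hprof ψ hψ).2.2.2.2.2.2.2.2.2.2.2.2.2.2)
  rw [e6] at hmE
  generalize ∑ ψ ∈ S, X27 ψ = x27 at *
  generalize ∑ ψ ∈ S, X12 ψ = x12 at *
  generalize ∑ ψ ∈ S, X2 ψ = x2 at *
  generalize ∑ ψ ∈ S, X54 ψ = x54 at *
  generalize ∑ ψ ∈ S, X3 ψ = x3 at *
  generalize ∑ ψ ∈ S, X36 ψ = x36 at *
  generalize ∑ ψ ∈ S, W ψ = w at *
  generalize ∑ ψ ∈ S, F ψ = f at *
  clear hprof hsplit hcle hmem hS hcs hcd hc2 hcls hd64 hq hcab hab hdge hd2 hdvd hst hdt hct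
    hc4 hcd1 hdd
  have hx3 : x3 ≤ 1 := by omega
  have hx36 : x36 ≤ 1 := by omega
  have hx54 : x54 ≤ 1 := by omega
  have hx2 : x2 ≤ 3 := by omega
  have hM : (m : ℤ) * m = 2928 ∨ (m : ℤ) * m = 3024 := by
    interval_cases x3 <;> interval_cases x36 <;> interval_cases x54 <;> interval_cases x2 <;>
      omega
  have hm55 : m ≤ 54 ∨ 55 ≤ m := by omega
  rcases hm55 with h | h
  · have h54 : (m : ℤ) ≤ 54 := by exact_mod_cast h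
    have h2 : (m : ℤ) * m ≤ 54 * 54 := mul_self_le_mul_self (Int.natCast_nonneg m) h54
    rcases hM with h3 | h3 <;> linarith
  · have h55 : (55 : ℤ) ≤ m := by exact_mod_cast h
    have h2 : (55 : ℤ) * 55 ≤ (m : ℤ) * m := mul_self_le_mul_self (by norm_num) h55
    rcases hM with h3 | h3 <;> linarith

/-- There is no simple group of order `4212`. -/
theorem no_simple_4212 {G : Type u} [Group G] [Finite G] [IsSimpleGroup G] :
    Nat.card G ≠ 4212 := by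
  intro hS
  have h13 : Fact (Nat.Prime 13) := ⟨by norm_num⟩
  obtain ⟨P⟩ : Nonempty (Sylow 13 G) := inferInstance
  obtain ⟨hP, hC, e, he, he1, hN, hne, hmod, hn1, hfac⟩ :=
    bt_sylow (G := G) 2 3 13 2 4 Nat.prime_two Nat.prime_three (by norm_num) (by norm_num)
      (by norm_num) (by rw [hS]; norm_num) (by norm_num) P
  have he12 : e ≤ 12 := Nat.le_of_dvd (by norm_num) he
  have he2 : e = 12 := by
    interval_cases e <;> omega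
  subst he2
  exact no_frobenius_4212 hS (P : Subgroup G) hP hC.le hN

end Cfsg.Agent.Lib.helper32
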