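import Mathlib
import Cfsg.Agent.Lib.helper75.SimpleOrdA

/-!
# Simple groups with `p + 1` Sylow `p`-subgroups of prime order (helper32)

* `centralizer_le_of_sylow_succ`: if a simple group has exactly `p + 1` Sylow `p`-subgroups,
  of order `p`, then a Sylow `p`-subgroup is self-centralizing.
* `card_eq_of_sylow_succ`: then `|G| = (p + 1) p e` with `e ∣ p - 1`, `e ≠ 1`,
  `|N(P)| = p e`.
-/

set_option autoImplicit false

namespace Cfsg.Agent.Lib.helper32

open Cfsg.Agent.Lib.helper75 MulAction

section SylSucc

variable {G : Type*} [Group G] [Finite G]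

/-- If a simple group has exactly `p + 1` Sylow `p`-subgroups, each of order `p`, then a Sylow
`p`-subgroup is self-centralizing. -/
theorem centralizer_le_of_sylow_succ [IsSimpleGroup G] (p : ℕ) [Fact p.Prime] (P : Sylow p G)
    (hP : Nat.card P = p) (hn : Nat.card (Sylow p G) = p + 1) :
    Subgroup.centralizer ((P : Subgroup G) : Set G) ≤ P := by
  classical
  have hp : p.Prime := Fact.out
  have hnt : Nontrivial (Sylow p G) := by
    apply (Finite.one_lt_card_iff_nontrivial).mp
    rw [hn]
    have := hp.two_le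
    omega
  obtain ⟨Q, hQ⟩ := exists_ne P
  have hcycP : IsCyclic (P : Subgroup G) := isCyclic_of_prime_card hP
  have hcomm : ∀ u v : G, u ∈ (P : Subgroup G) → v ∈ (P : Subgroup G) → u * v = v * u := by
    intro u v hu hv
    have h := (IsCyclic.commGroup (α := (P : Subgroup G))).mul_comm ⟨u, hu⟩ ⟨v, hv⟩
    exact congrArg Subtype.val h
  have hPN : (P : Subgroup G) ≤ Subgroup.normalizer ((P : Subgroup G) : Set G) :=
    Subgroup.le_normalizer
  -- the map `Option P → Sylow p G`
  let f : Option (P : Subgroup G) → Sylow p G := fun o => o.elim P (fun u => (u : G) • Q)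
  have hfP : ∀ u : (P : Subgroup G), (u : G) • Q ≠ P := by
    intro u h
    apply hQ
    have h1 : (u : G) • P = P := Sylow.smul_eq_iff_mem_normalizer.mpr (hPN u.2)
    have h2 : (u : G) • Q = (u : G) • P := by rw [h, h1]
    exact smul_left_cancel _ h2
  have hnot : ¬ (P : Subgroup G) ≤ Subgroup.normalizer ((Q : Subgroup G) : Set G) := by
    intro h
    have h1 : Q ∈ fixedPoints (P : Subgroup G) (Sylow p G) :=
      ((P : Subgroup G).sylow_mem_fixedPoints_iff).mpr h
    have h2 : (P : Subgroup G) ≤ Q := (IsPGroup.sylow_mem_fixedPoints_iff P.isPGroup').mp h1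
    exact hQ (Sylow.ext (P.is_maximal' Q.isPGroup' h2))
  have hinj : Function.Injective f := by
    intro o₁ o₂ h
    rcases o₁ with _ | u <;> rcases o₂ with _ | v
    · rfl
    · exact absurd h.symm (hfP v)
    · exact absurd h (hfP u)
    · have h' : (u : G) • Q = (v : G) • Q := h
      have h1 : ((v : G)⁻¹ * (u : G)) • Q = Q := by
        rw [mul_smul, h', inv_smul_smul]
      have h2 : (v : G)⁻¹ * (u : G) ∈ Subgroup.normalizer ((Q : Subgroup G) : Set G) :=
        Sylow.smul_eq_iff_mem_normalizer.mp h1
      have hpc : Fact (Nat.card (P : Subgroup G)).Prime := ⟨by rw [hP]; exact hp⟩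
      rcases Subgroup.eq_bot_or_eq_top_of_prime_card
        ((Subgroup.normalizer ((Q : Subgroup G) : Set G)).subgroupOf (P : Subgroup G)) with hb | ht
      · have h3 : v⁻¹ * u ∈ (Subgroup.normalizer ((Q : Subgroup G) : Set G)).subgroupOf
            (P : Subgroup G) := by
          rw [Subgroup.mem_subgroupOf]
          exact h2
        rw [hb, Subgroup.mem_bot] at h3
        have h4 : u = v := by
          have := congrArg (fun x => v * x) h3
          simpa using this
        rw [h4]
      · exfalso
        apply hnot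
        exact Subgroup.subgroupOf_eq_top.mp ht
  have hbij : Function.Bijective f := by
    apply hinj.bijective_of_nat_card_le
    rw [hn, Finite.card_option, hP]
  have hall : ∀ R : Sylow p G, R = P ∨ ∃ u : (P : Subgroup G), R = (u : G) • Q := by
    intro R
    obtain ⟨o, ho⟩ := hbij.2 R
    rcases o with _ | u
    · left; exact ho.symm
    · right; exact ⟨u, ho.symm⟩
  -- the kernel of the action on the Sylow subgroups is trivial
  have hker : (MulAction.toPermHom G (Sylow p G)).ker = ⊥ := by
    rcases (MonoidHom.normal_ker (MulAction.toPermHom G (Sylow p G))).eq_bot_or_eq_top with h | h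
    · exact h
    · exfalso
      obtain ⟨h0, hh0⟩ := MulAction.exists_smul_eq G P Q
      have h1 : h0 ∈ (MulAction.toPermHom G (Sylow p G)).ker := by rw [h]; trivial
      rw [MonoidHom.mem_ker] at h1
      have h2 := congrArg (fun σ : Equiv.Perm (Sylow p G) => σ P) h1
      simp only [MulAction.toPermHom_apply, MulAction.toPerm_apply, Equiv.Perm.coe_one, id_eq] at h2
      exact hQ (hh0.symm.trans h2)
  intro c hc
  have hcN : c ∈ Subgroup.normalizer ((P : Subgroup G) : Set G) :=
    Subgroup.centralizer_le_normalizer _ hc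
  have hcP : c • P = P := Sylow.smul_eq_iff_mem_normalizer.mpr hcN
  have hcQ : c • Q ≠ P := by
    intro h
    apply hQ
    have h2 : c • Q = c • P := by rw [h, hcP]
    exact smul_left_cancel _ h2
  rcases hall (c • Q) with h | ⟨u, hu⟩
  · exact absurd h hcQ
  · -- g = u⁻¹ c acts trivially
    have hg : (u : G)⁻¹ * c ∈ (MulAction.toPermHom G (Sylow p G)).ker := by
      rw [MonoidHom.mem_ker]
      ext1 R
      simp only [MulAction.toPermHom_apply, MulAction.toPerm_apply, Equiv.Perm.coe_one, id_eq]
      have hgQ : ((u : G)⁻¹ * c) • Q = Q := by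
        rw [mul_smul, hu, inv_smul_smul]
      rcases hall R with h | ⟨v, hv⟩
      · rw [h, mul_smul, hcP]
        exact Sylow.smul_eq_iff_mem_normalizer.mpr (hPN (inv_mem u.2))
      · have hcv : c * (v : G) = (v : G) * c := by
          have := Subgroup.mem_centralizer_iff.mp hc (v : G) v.2
          exact this.symm
        have huv : (u : G)⁻¹ * (v : G) = (v : G) * (u : G)⁻¹ :=
          hcomm _ _ (inv_mem u.2) v.2
        have hgv : ((u : G)⁻¹ * c) * (v : G) = (v : G) * ((u : G)⁻¹ * c) := by
          rw [mul_assoc, hcv, ← mul_assoc, huv, mul_assoc]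
        rw [hv, ← mul_smul, hgv, mul_smul, hgQ]
    rw [hker, Subgroup.mem_bot] at hg
    have hcu : c = (u : G) := by
      have := congrArg (fun x => (u : G) * x) hg
      simpa using this
    rw [hcu]
    exact u.2

/-- If a simple group `G` of order `p m`, `p ∤ m`, has exactly `p + 1` Sylow `p`-subgroups,
then `|G| = (p + 1) p e` with `e ∣ p - 1`. -/
theorem card_eq_of_sylow_succ [IsSimpleGroup G] (p : ℕ) [Fact p.Prime] (m : ℕ)
    (hS : Nat.card G = p * m) (hpm : ¬ p ∣ m) (hm : 1 < m)
    (hn : Nat.card (Sylow p G) = p + 1) :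
    ∃ e : ℕ, e ∣ p - 1 ∧ e ≠ 1 ∧ m = (p + 1) * e := by
  have hp : p.Prime := Fact.out
  obtain ⟨P⟩ : Nonempty (Sylow p G) := inferInstance
  obtain ⟨hP, -, -, ⟨k, hk1, hk2⟩, e, he1, he2, he3⟩ := sylow_setup (p := p) m hS hpm hm P
  have hle := centralizer_le_of_sylow_succ p P hP hn
  have hge : (P : Subgroup G) ≤ Subgroup.centralizer ((P : Subgroup G) : Set G) := by
    have hcycP : IsCyclic (P : Subgroup G) := isCyclic_of_prime_card hP
    intro u hu
    rw [Subgroup.mem_centralizer_iff]
    intro v hv
    have h := (IsCyclic.commGroup (α := (P : Subgroup G))).mul_comm ⟨v, hv⟩ ⟨u, hu⟩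
    exact congrArg Subtype.val h
  have heq : Subgroup.centralizer ((P : Subgroup G) : Set G) = P := le_antisymm hle hge
  rw [heq, hP, hk1] at he3
  have hke : e = k := Nat.eq_of_mul_eq_mul_left hp.pos he3
  refine ⟨e, he1, he2, ?_⟩
  rw [← hk2, hn, hke]

end SylSucc

end Cfsg.Agent.Lib.helper32
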