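import Mathlib
import Cfsg.Agent.Lib.helper32.SylSucc

/-!
# No simple groups of order 4368, 5220, 5700 (helper32)

In each case the number of Sylow `p`-subgroups for the largest prime `p` is forced to be `p + 1`,
so that `|G| = (p + 1) p e` with `e ∣ p - 1`, which fails.
-/

set_option autoImplicit false

namespace Cfsg.Agent.Lib.helper32

open Cfsg.Agent.Lib.helper75 MulAction

section Ord4368

variable {G : Type*} [Group G] [Finite G] [IsSimpleGroup G]

/-- There is no simple group of order `4368 = 2⁴ · 3 · 7 · 13`. -/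
theorem no_simple_4368 : Nat.card G ≠ 4368 := by
  intro hS
  have h13 : Fact (Nat.Prime 13) := ⟨by norm_num⟩
  obtain ⟨P⟩ : Nonempty (Sylow 13 G) := inferInstance
  obtain ⟨hP, hn1, hmod, ⟨k, hk, hnk⟩, -⟩ :=
    sylow_setup (p := 13) 336 (by rw [hS]) (by norm_num) (by norm_num) P
  obtain ⟨n, hn⟩ : ∃ n, n = Nat.card (Sylow 13 G) := ⟨_, rfl⟩
  rw [← hn] at hn1 hmod hnk
  have hle : n ≤ 336 := Nat.le_of_dvd (by norm_num) (Dvd.intro _ hnk)
  have hn14 : n = 14 := by
    interval_cases n <;> omega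
  obtain ⟨e, he, -, hme⟩ := card_eq_of_sylow_succ (G := G) 13 336 (by rw [hS]) (by norm_num)
    (by norm_num) (by rw [← hn, hn14])
  have hle : e ≤ 12 := Nat.le_of_dvd (by norm_num) he
  omega

/-- There is no simple group of order `5220 = 2² · 3² · 5 · 29`. -/
theorem no_simple_5220 : Nat.card G ≠ 5220 := by
  intro hS
  have h29 : Fact (Nat.Prime 29) := ⟨by norm_num⟩
  obtain ⟨P⟩ : Nonempty (Sylow 29 G) := inferInstance
  obtain ⟨hP, hn1, hmod, ⟨k, hk, hnk⟩, -⟩ :=
    sylow_setup (p := 29) 180 (by rw [hS]) (by norm_num) (by norm_num) P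
  obtain ⟨n, hn⟩ : ∃ n, n = Nat.card (Sylow 29 G) := ⟨_, rfl⟩
  rw [← hn] at hn1 hmod hnk
  have hle : n ≤ 180 := Nat.le_of_dvd (by norm_num) (Dvd.intro _ hnk)
  have hn30 : n = 30 := by
    interval_cases n <;> omega
  obtain ⟨e, he, -, hme⟩ := card_eq_of_sylow_succ (G := G) 29 180 (by rw [hS]) (by norm_num)
    (by norm_num) (by rw [← hn, hn30])
  have hle : e ≤ 28 := Nat.le_of_dvd (by norm_num) he
  have he6 : e = 6 := by omega
  subst he6
  norm_num at he

/-- There is no simple group of order `5700 = 2² · 3 · 5² · 19`. -/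
theorem no_simple_5700 : Nat.card G ≠ 5700 := by
  intro hS
  have h19 : Fact (Nat.Prime 19) := ⟨by norm_num⟩
  obtain ⟨P⟩ : Nonempty (Sylow 19 G) := inferInstance
  obtain ⟨hP, hn1, hmod, ⟨k, hk, hnk⟩, -⟩ :=
    sylow_setup (p := 19) 300 (by rw [hS]) (by norm_num) (by norm_num) P
  obtain ⟨n, hn⟩ : ∃ n, n = Nat.card (Sylow 19 G) := ⟨_, rfl⟩
  rw [← hn] at hn1 hmod hnk
  have hle : n ≤ 300 := Nat.le_of_dvd (by norm_num) (Dvd.intro _ hnk)
  have hn20 : n = 20 := by
    interval_cases n <;> omega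
  obtain ⟨e, he, -, hme⟩ := card_eq_of_sylow_succ (G := G) 19 300 (by rw [hS]) (by norm_num)
    (by norm_num) (by rw [← hn, hn20])
  have hle : e ≤ 18 := Nat.le_of_dvd (by norm_num) he
  have he15 : e = 15 := by omega
  subst he15
  norm_num at he

end Ord4368

end Cfsg.Agent.Lib.helper32
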