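import Mathlib
import Cfsg.Agent.Lib.helper75.SimpleOrdA
import Cfsg.Agent.Lib.helper75.SylowPrime
import Cfsg.Agent.Lib.helper21.SylowCard
import Cfsg.Agent.Lib.helper6.IndexTwo

/-!
# Cyclic Sylow 2-subgroups in normalizers, and order 4760 (helper32)

* `not_simple_of_cyclic_two_in_normalizer`: a simple group `G` with `|G|_2 = 2 ^ k`, `k ≥ 1`,
  has no Sylow `p`-subgroup `P` of prime order with `|C(P)|` odd and `2 ^ k ∣ |N(P)|`
  (a Sylow 2-subgroup of `N(P)` would be cyclic).
* `no_simple_4760`.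
-/

set_option autoImplicit false

namespace Cfsg.Agent.Lib.helper32

open Cfsg.Agent.Lib.helper75 MulAction

section CyclicTwo

variable {G : Type*} [Group G] [Finite G]

omit [Finite G] in
/-- A finite simple group of order `> 2` has no subgroup of index two. -/
theorem no_index_two_of_simple [IsSimpleGroup G] (h3 : 2 < Nat.card G) (H : Subgroup G)
    (hH : H.index = 2) : False := by
  have hn : H.Normal := Subgroup.normal_of_index_eq_two hH
  rcases hn.eq_bot_or_eq_top with h | h
  · rw [h, Subgroup.index_bot] at hH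
    omega
  · rw [h, Subgroup.index_top] at hH
    omega

/-- If the `2`-part `2 ^ k` of `|G|` divides `|N(P)|` for a Sylow `p`-subgroup `P` of prime
order whose centralizer has odd order, then `G` is not simple. -/
theorem not_simple_of_cyclic_two_in_normalizer [IsSimpleGroup G] {p : ℕ} [Fact p.Prime]
    (P : Sylow p G) (hP : Nat.card P = p) (k : ℕ) (hk : 1 ≤ k) (h1 : 2 ^ k ∣ Nat.card G)
    (h2 : ¬ 2 ^ (k + 1) ∣ Nat.card G)
    (hN : 2 ^ k ∣ Nat.card (Subgroup.normalizer ((P : Subgroup G) : Set G)))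
    (hC : ¬ 2 ∣ Nat.card (Subgroup.centralizer ((P : Subgroup G) : Set G))) : False := by
  have hf2 : Fact (Nat.Prime 2) := ⟨Nat.prime_two⟩
  obtain ⟨N, hNdef⟩ : ∃ N : Subgroup G, N = Subgroup.normalizer ((P : Subgroup G) : Set G) :=
    ⟨_, rfl⟩
  rw [← hNdef] at hN
  obtain ⟨T₀⟩ : Nonempty (Sylow 2 N) := inferInstance
  have hT₀ : Nat.card T₀ = 2 ^ k := by
    apply Cfsg.Agent.Lib.helper21.sylow_card_eq_pow T₀ k hN
    intro h
    exact h2 (h.trans (Subgroup.card_subgroup_dvd_card N))
  obtain ⟨T, hTdef⟩ : ∃ T : Subgroup G, T = (T₀ : Subgroup N).map N.subtype := ⟨_, rfl⟩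
  have hTcard : Nat.card T = 2 ^ k := by
    rw [hTdef, Subgroup.card_map_of_injective N.subtype_injective, hT₀]
  have hTN : T ≤ Subgroup.normalizer ((P : Subgroup G) : Set G) := by
    rw [hTdef, ← hNdef]
    exact Subgroup.map_subtype_le _
  have hTC : ∀ t ∈ T, t ∈ Subgroup.centralizer ((P : Subgroup G) : Set G) → t = 1 := by
    intro t ht htC
    have ho1 : orderOf t ∣ 2 ^ k := by
      have := orderOf_dvd_natCard (⟨t, ht⟩ : T)
      rwa [Subgroup.orderOf_mk, hTcard] at this
    have ho2 : orderOf t ∣ Nat.card (Subgroup.centralizer ((P : Subgroup G) : Set G)) := by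
      have := orderOf_dvd_natCard
        (⟨t, htC⟩ : Subgroup.centralizer ((P : Subgroup G) : Set G))
      rwa [Subgroup.orderOf_mk] at this
    obtain ⟨j, -, hj⟩ := (Nat.dvd_prime_pow Nat.prime_two).mp ho1
    rcases j with _ | j
    · rw [pow_zero] at hj
      exact orderOf_eq_one_iff.mp hj
    · exfalso
      apply hC
      rw [hj] at ho2
      exact (dvd_pow_self 2 (Nat.succ_ne_zero j)).trans ho2
  have hcyc : IsCyclic T := isCyclic_of_normalizing_faithful P hP T hTN hTC
  have hpg : IsPGroup 2 T := IsPGroup.of_card hTcard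
  obtain ⟨Q, hQ⟩ := hpg.exists_le_sylow
  have hQcard : Nat.card Q = 2 ^ k := Cfsg.Agent.Lib.helper21.sylow_card_eq_pow Q k h1 h2
  have hTQ : T = (Q : Subgroup G) :=
    Subgroup.eq_of_le_of_card_ge hQ (by rw [hTcard, hQcard])
  have hQcyc : IsCyclic (Q : Subgroup G) := by rw [← hTQ]; exact hcyc
  have heven : Even (Nat.card G) := by
    rw [even_iff_two_dvd]
    exact (dvd_pow_self 2 (by omega)).trans h1
  obtain ⟨H, hH⟩ := Cfsg.Agent.Lib.helper6.exists_index_two_of_cyclic_sylow Q hQcyc heven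
  have h3 : 2 < Nat.card G := by
    have hp : p.Prime := Fact.out
    have hpd : p ∣ Nat.card G := by
      rw [← hP]; exact Subgroup.card_subgroup_dvd_card _
    have h2d : 2 ∣ Nat.card G := even_iff_two_dvd.mp heven
    by_contra hcon
    have hle : Nat.card G ≤ 2 := by omega
    have hpos : 0 < Nat.card G := Nat.card_pos
    have hp2 : p ≤ 2 := (Nat.le_of_dvd hpos hpd).trans hle
    have hpeq : p = 2 := le_antisymm hp2 hp.two_le
    apply hC
    have hPle : (P : Subgroup G) ≤ Subgroup.centralizer ((P : Subgroup G) : Set G) := by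
      have hcycP : IsCyclic (P : Subgroup G) := isCyclic_of_prime_card hP
      have := IsCyclic.isMulCommutative (α := (P : Subgroup G))
      intro x hx
      rw [Subgroup.mem_centralizer_iff]
      intro y hy
      have := mul_comm' (⟨y, hy⟩ : (P : Subgroup G)) ⟨x, hx⟩
      exact congrArg Subtype.val this
    have hdvd := Subgroup.card_dvd_of_le hPle
    rw [hP] at hdvd
    have h2p : 2 ∣ p := by rw [hpeq]
    exact h2p.trans hdvd
  exact no_index_two_of_simple h3 H hH

end CyclicTwo

section Ord4760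

variable {G : Type*} [Group G] [Finite G] [IsSimpleGroup G]

/-- There is no simple group of order `4760 = 2³ · 5 · 7 · 17`. -/
theorem no_simple_4760 : Nat.card G ≠ 4760 := by
  intro hS
  have h17 : Fact (Nat.Prime 17) := ⟨by norm_num⟩
  have h2 : Fact (Nat.Prime 2) := ⟨Nat.prime_two⟩
  obtain ⟨P⟩ : Nonempty (Sylow 17 G) := inferInstance
  obtain ⟨hP, hn1, hmod, ⟨k, hk, hnk⟩, e, he, he1, hCe⟩ :=
    sylow_setup (p := 17) 280 (by rw [hS]) (by norm_num) (by norm_num) P
  obtain ⟨n, hn⟩ : ∃ n, n = Nat.card (Sylow 17 G) := ⟨_, rfl⟩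
  rw [← hn] at hn1 hmod hnk
  have hle : n ≤ 280 := Nat.le_of_dvd (by norm_num) (Dvd.intro _ hnk)
  have hn35 : n = 35 := by
    interval_cases n <;> omega
  subst hn35
  have hk8 : k = 8 := by omega
  subst hk8
  rw [hk] at hCe
  have hstab : stabilizer G P = Subgroup.normalizer ((P : Subgroup G) : Set G) :=
    Sylow.stabilizer_eq_normalizer P
  by_cases h2C : 2 ∣ Nat.card (Subgroup.centralizer ((P : Subgroup G) : Set G))
  · obtain ⟨t, htC, ht⟩ := exists_mem_orderOf_prime _ 2 h2C
    obtain ⟨c1, c2, c3⟩ := sylow_involution_counts P (by rw [← hn]; norm_num)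
      (by rw [hS]; norm_num) t ht htC
    rw [← hn] at c2 c3
    omega
  · exact not_simple_of_cyclic_two_in_normalizer P hP 3 (by norm_num) (by rw [hS]; norm_num)
      (by rw [hS]; norm_num) (by rw [← hstab, hk]; norm_num) h2C

end Ord4760

end Cfsg.Agent.Lib.helper32
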