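import Mathlib
import Cfsg.Agent.Lib.helper11.FrobData
import Cfsg.Agent.Lib.helper32.SylSucc

/-!
# No simple group of order 4896 (helper32)

A simple group of order `4896 = 2⁵ · 3² · 17` would have `18` Sylow 17-subgroups, hence a
self-centralizing Sylow 17-subgroup with normalizer of order `17 · 16`
(`centralizer_le_of_sylow_succ`).  The character data `frob_data` of helper11 for a Frobenius
normalizer `17 : 16` is then contradictory: the nontrivial constituents of `(1_P - λ)^G` have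
degrees `3, 18, 2, 16, 16` or `3, 18, 18, 18` plus `16⁴` or `32`, and the class equation gives
`|C(t)|² ∈ {1792, 768}`.
-/

set_option autoImplicit false

namespace Cfsg.Agent.Lib.helper32

open Cfsg Cfsg.Agent.Lib.helper75 MulAction

universe u

set_option maxHeartbeats 8000000 in
/-- The possible profiles of a nontrivial irreducible character, packaged as linear data. -/
theorem frob272_profile (c s : ℤ) (d a b : ℕ) (hc : c * c ≤ 16) (hd : d ∣ 4896) (hd2 : 2 ≤ d)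
    (hd69 : d ≤ 69) (hab : d = a + 16 * b) (hcab : c = (a : ℤ) - b) (q q₁ q₂ : ℕ)
    (h1 : (d : ℤ) - s = 4 * q) (h2 : (a : ℤ) - s = 2 * q₁) (h3 : (a : ℤ) + s = 2 * q₂) :
    ∃ X48 X32 X16 X18 X2 X36 X3 X4 W18 W2 W3 Fs F E : ℤ, E * d = 288 * c * (s * s) ∧
      c * c = 9 * X48 + 4 * X32 + X16 + X18 + 4 * X2 + 4 * X36 + 9 * X3 + 16 * X4 ∧
      c * d = -144 * X48 - 64 * X32 - 16 * X16 + 18 * X18 + 4 * X2 + 72 * X36 + 9 * X3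
        + 16 * X4 ∧
      c * s = 2 * X18 - 4 * W18 + 4 * X2 - 8 * W2 + 9 * X3 - 12 * W3 + Fs ∧
      E = 64 * X18 + 1152 * X2 + 2592 * X3 - 2304 * W3 + F ∧
      0 ≤ W18 ∧ W18 ≤ X18 ∧ 0 ≤ W2 ∧ W2 ≤ X2 ∧ 0 ≤ W3 ∧ W3 ≤ X3 ∧
      -16 * (X36 + X4) ≤ Fs ∧ Fs ≤ 16 * (X36 + X4) ∧
      -4608 * (X36 + X4) ≤ F ∧ F ≤ 4608 * (X36 + X4) ∧
      0 ≤ X48 ∧ 0 ≤ X32 ∧ 0 ≤ X16 ∧ 0 ≤ X18 ∧ 0 ≤ X2 ∧ 0 ≤ X36 ∧ 0 ≤ X3 ∧ 0 ≤ X4 := by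
  have hc1 : -4 ≤ c := by nlinarith
  have hc2 : c ≤ 4 := by nlinarith
  have hs1 : -69 ≤ s := by omega
  have hs2 : s ≤ 69 := by omega
  refine ⟨if c = -3 ∧ d = 48 then 1 else 0, if c = -2 ∧ d = 32 then 1 else 0,
    if c = -1 ∧ d = 16 then 1 else 0, if c = 1 ∧ d = 18 then 1 else 0,
    if c = 2 ∧ d = 2 then 1 else 0, if c = 2 ∧ d = 36 then 1 else 0,
    if c = 3 ∧ d = 3 then 1 else 0, if c = 4 ∧ d = 4 then 1 else 0,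
    if c = 1 ∧ d = 18 ∧ s = -2 then 1 else 0, if c = 2 ∧ d = 2 ∧ s = -2 then 1 else 0,
    if c = 3 ∧ d = 3 ∧ s = -1 then 1 else 0,
    c * s - 2 * (if c = 1 ∧ d = 18 then 1 else 0)
      + 4 * (if c = 1 ∧ d = 18 ∧ s = -2 then 1 else 0)
      - 4 * (if c = 2 ∧ d = 2 then 1 else 0)
      + 8 * (if c = 2 ∧ d = 2 ∧ s = -2 then 1 else 0)
      - 9 * (if c = 3 ∧ d = 3 then 1 else 0)
      + 12 * (if c = 3 ∧ d = 3 ∧ s = -1 then 1 else 0),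
    288 * c * (s * s) / d - 64 * (if c = 1 ∧ d = 18 then 1 else 0)
      - 1152 * (if c = 2 ∧ d = 2 then 1 else 0)
      - 2592 * (if c = 3 ∧ d = 3 then 1 else 0)
      + 2304 * (if c = 3 ∧ d = 3 ∧ s = -1 then 1 else 0),
    288 * c * (s * s) / d, ?_⟩
  interval_cases d <;> first | (exfalso; omega) | skip
  all_goals interval_cases c <;> first | (exfalso; omega) | skip
  all_goals interval_cases s <;> first | (exfalso; omega) | decide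

set_option maxHeartbeats 1600000 in
/-- A simple group of order `4896` has no subgroup `P` of order `17` with `C_G(P) ≤ P` and
`|N_G(P)| = 272`. -/
theorem no_frobenius_4896 {G : Type u} [Group G] [Finite G] [IsSimpleGroup G]
    (hG : Nat.card G = 4896) (P : Subgroup G) (hP : Nat.card P = 17)
    (hC : Subgroup.centralizer (P : Set G) ≤ P)
    (hN : Nat.card (Subgroup.normalizer (P : Set G)) = 17 * 16) : False := by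
  classical
  have : Fintype G := Fintype.ofFinite G
  have : Fintype (IrrCharacter G) := Fintype.ofFinite _
  have := Fact.mk Nat.prime_two
  have hnp : ¬ (Nat.card G).Prime := by rw [hG]; norm_num
  obtain ⟨J', hJ'⟩ := exists_prime_orderOf_dvd_card' (G := Subgroup.normalizer (P : Set G)) 2
    (by rw [hN]; norm_num)
  obtain ⟨t, htdef⟩ : ∃ t : G, t = (J' : G) := ⟨_, rfl⟩
  have htN : t ∈ Subgroup.normalizer (P : Set G) := by rw [htdef]; exact J'.2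
  have hto : orderOf t = 2 := by rw [htdef, Subgroup.orderOf_coe]; exact hJ'
  have ht : t * t = 1 := by rw [← pow_two, ← hto]; exact pow_orderOf_eq_one t
  have ht1 : t ≠ 1 := by
    rintro rfl
    rw [orderOf_one] at hto
    omega
  obtain ⟨c, s, d, a, b, triv, hct, hdt, hst, hc2, hdvd, hd2, hdge, hab, hcab, hq, hcd, hcs,
    hcls⟩ := Cfsg.Agent.Lib.helper11.frob_data hnp (p := 17) (e := 16) (by norm_num)
      (by norm_num) P hP hC hN rfl t htN ht ht1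
  rw [hG] at hdvd hd2 hcls
  obtain ⟨m, hm⟩ : ∃ m : ℕ, m = Nat.card (Subgroup.centralizer ({t} : Set G)) := ⟨_, rfl⟩
  rw [← hm] at hcls
  obtain ⟨S, hS⟩ : ∃ S : Finset (IrrCharacter G), S = Finset.univ.erase triv := ⟨_, rfl⟩
  have hmem : ∀ ψ, ψ ∈ S → ψ ≠ triv := by
    intro ψ hψ
    rw [hS] at hψ
    exact Finset.ne_of_mem_erase hψ
  have hsplit : ∀ f : IrrCharacter G → ℤ, ∑ ψ, f ψ = f triv + ∑ ψ ∈ S, f ψ := by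
    intro f
    rw [hS]
    exact (Finset.add_sum_erase _ f (Finset.mem_univ triv)).symm
  -- the basic sums over the nontrivial characters
  have hc4 : ∑ ψ ∈ S, c ψ * c ψ = 16 := by
    have h := hsplit (fun ψ => c ψ ^ 2)
    rw [hc2] at h
    simp only [hct] at h
    have h' : ∑ ψ ∈ S, c ψ ^ 2 = ∑ ψ ∈ S, c ψ * c ψ :=
      Finset.sum_congr rfl (fun ψ _ => pow_two _)
    rw [h'] at h
    push_cast at h
    omega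
  have hcd1 : ∑ ψ ∈ S, c ψ * (d ψ : ℤ) = -1 := by
    have h := hsplit (fun ψ => c ψ * (d ψ : ℤ))
    rw [hcd] at h
    simp only [hct, hdt] at h
    push_cast at h
    omega
  have hcs1 : ∑ ψ ∈ S, c ψ * s ψ = -1 := by
    have h := hsplit (fun ψ => c ψ * s ψ)
    rw [hcs] at h
    simp only [hct, hst] at h
    omega
  -- per-character bounds
  have hcle : ∀ ψ, ψ ∈ S → c ψ * c ψ ≤ 16 := by
    intro ψ hψ
    rw [← hc4]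
    exact Finset.single_le_sum (f := fun ψ => c ψ * c ψ) (fun i _ => mul_self_nonneg _) hψ
  have hd69 : ∀ ψ, d ψ ≤ 69 := by
    intro ψ
    have h : d ψ ^ 2 ≤ ∑ ψ, d ψ ^ 2 :=
      Finset.single_le_sum (f := fun ψ => d ψ ^ 2) (fun i _ => Nat.zero_le _) (Finset.mem_univ ψ)
    rw [hd2] at h
    by_contra hlt
    have h70 : 70 ≤ d ψ := by omega
    nlinarith
  have hprof : ∀ ψ, ∃ X48 X32 X16 X18 X2 X36 X3 X4 W18 W2 W3 Fs F E : ℤ, ψ ∈ S →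
      (E * (d ψ : ℤ) = 288 * c ψ * (s ψ * s ψ) ∧
      c ψ * c ψ = 9 * X48 + 4 * X32 + X16 + X18 + 4 * X2 + 4 * X36 + 9 * X3 + 16 * X4 ∧
      c ψ * (d ψ : ℤ) = -144 * X48 - 64 * X32 - 16 * X16 + 18 * X18 + 4 * X2 + 72 * X36
        + 9 * X3 + 16 * X4 ∧
      c ψ * s ψ = 2 * X18 - 4 * W18 + 4 * X2 - 8 * W2 + 9 * X3 - 12 * W3 + Fs ∧
      E = 64 * X18 + 1152 * X2 + 2592 * X3 - 2304 * W3 + F ∧
      0 ≤ W18 ∧ W18 ≤ X18 ∧ 0 ≤ W2 ∧ W2 ≤ X2 ∧ 0 ≤ W3 ∧ W3 ≤ X3 ∧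
      -16 * (X36 + X4) ≤ Fs ∧ Fs ≤ 16 * (X36 + X4) ∧
      -4608 * (X36 + X4) ≤ F ∧ F ≤ 4608 * (X36 + X4) ∧
      0 ≤ X48 ∧ 0 ≤ X32 ∧ 0 ≤ X16 ∧ 0 ≤ X18 ∧ 0 ≤ X2 ∧ 0 ≤ X36 ∧ 0 ≤ X3 ∧ 0 ≤ X4) := by
    intro ψ
    by_cases hψ : ψ ∈ S
    · obtain ⟨q, q₁, q₂, h1, h2, h3⟩ := hq ψ
      obtain ⟨X48, X32, X16, X18, X2, X36, X3, X4, W18, W2, W3, Fs, F, E, h⟩ :=
        frob272_profile (c ψ) (s ψ) (d ψ) (a ψ) (b ψ)
          (hcle ψ hψ) (hdvd ψ) (hdge ψ (hmem ψ hψ)) (hd69 ψ) (hab ψ) (hcab ψ) q q₁ q₂ h1 h2 h3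
      exact ⟨X48, X32, X16, X18, X2, X36, X3, X4, W18, W2, W3, Fs, F, E, fun _ => h⟩
    · exact ⟨0, 0, 0, 0, 0, 0, 0, 0, 0, 0, 0, 0, 0, 0, fun h => absurd h hψ⟩
  choose X48 X32 X16 X18 X2 X36 X3 X4 W18 W2 W3 Fs F E hprof using hprof
  -- the class equation in integers
  have hmE : (m : ℤ) * m = 288 + ∑ ψ ∈ S, E ψ := by
    have hsplitC : ∑ ψ : IrrCharacter G, (c ψ : ℂ) * (s ψ : ℂ) ^ 2 / (d ψ : ℂ) =
        (c triv : ℂ) * (s triv : ℂ) ^ 2 / (d triv : ℂ) +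
          ∑ ψ ∈ S, (c ψ : ℂ) * (s ψ : ℂ) ^ 2 / (d ψ : ℂ) := by
      rw [hS]
      exact (Finset.add_sum_erase _ (fun ψ : IrrCharacter G =>
        (c ψ : ℂ) * (s ψ : ℂ) ^ 2 / (d ψ : ℂ)) (Finset.mem_univ triv)).symm
    have hterm : ∀ ψ ∈ S, (c ψ : ℂ) * (s ψ : ℂ) ^ 2 / (d ψ : ℂ) = (E ψ : ℂ) / 288 := by
      intro ψ hψ
      have h := (hprof ψ hψ).1
      have hd0 : (d ψ : ℂ) ≠ 0 := by
        have h2 := hdge ψ (hmem ψ hψ)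
        have h3 : d ψ ≠ 0 := by omega
        exact_mod_cast h3
      have hC : (E ψ : ℂ) * (d ψ : ℂ) = 288 * (c ψ : ℂ) * ((s ψ : ℂ) * (s ψ : ℂ)) := by
        exact_mod_cast h
      field_simp
      linear_combination (-1 : ℂ) * hC
    rw [hsplitC, Finset.sum_congr rfl hterm, ← Finset.sum_div, hct, hdt, hst] at hcls
    have h : (((m : ℤ) * m : ℤ) : ℂ) = ((288 + ∑ ψ ∈ S, E ψ : ℤ) : ℂ) := by
      push_cast
      push_cast at hcls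
      linear_combination hcls / 17
    exact_mod_cast h
  -- summing the profile relations
  have e1 : ∑ ψ ∈ S, c ψ * c ψ = 9 * ∑ ψ ∈ S, X48 ψ + 4 * ∑ ψ ∈ S, X32 ψ + ∑ ψ ∈ S, X16 ψ +
      ∑ ψ ∈ S, X18 ψ + 4 * ∑ ψ ∈ S, X2 ψ + 4 * ∑ ψ ∈ S, X36 ψ + 9 * ∑ ψ ∈ S, X3 ψ +
      16 * ∑ ψ ∈ S, X4 ψ := by
    rw [Finset.sum_congr rfl (fun ψ hψ => (hprof ψ hψ).2.1)]
    simp only [Finset.sum_add_distrib, Finset.mul_sum]
  have e2 : ∑ ψ ∈ S, c ψ * (d ψ : ℤ) = -144 * ∑ ψ ∈ S, X48 ψ - 64 * ∑ ψ ∈ S, X32 ψ -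
      16 * ∑ ψ ∈ S, X16 ψ + 18 * ∑ ψ ∈ S, X18 ψ + 4 * ∑ ψ ∈ S, X2 ψ + 72 * ∑ ψ ∈ S, X36 ψ +
      9 * ∑ ψ ∈ S, X3 ψ + 16 * ∑ ψ ∈ S, X4 ψ := by
    rw [Finset.sum_congr rfl (fun ψ hψ => (hprof ψ hψ).2.2.1)]
    simp only [Finset.sum_add_distrib, Finset.sum_sub_distrib, Finset.mul_sum]
  have e3 : ∑ ψ ∈ S, c ψ * s ψ = 2 * ∑ ψ ∈ S, X18 ψ - 4 * ∑ ψ ∈ S, W18 ψ + 4 * ∑ ψ ∈ S, X2 ψ -
      8 * ∑ ψ ∈ S, W2 ψ + 9 * ∑ ψ ∈ S, X3 ψ - 12 * ∑ ψ ∈ S, W3 ψ + ∑ ψ ∈ S, Fs ψ := by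
    rw [Finset.sum_congr rfl (fun ψ hψ => (hprof ψ hψ).2.2.2.1)]
    simp only [Finset.sum_add_distrib, Finset.sum_sub_distrib, Finset.mul_sum]
  have e6 : ∑ ψ ∈ S, E ψ = 64 * ∑ ψ ∈ S, X18 ψ + 1152 * ∑ ψ ∈ S, X2 ψ + 2592 * ∑ ψ ∈ S, X3 ψ -
      2304 * ∑ ψ ∈ S, W3 ψ + ∑ ψ ∈ S, F ψ := by
    rw [Finset.sum_congr rfl (fun ψ hψ => (hprof ψ hψ).2.2.2.2.1)]
    simp only [Finset.sum_add_distrib, Finset.sum_sub_distrib, Finset.mul_sum]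
  rw [hc4] at e1
  rw [hcd1] at e2
  rw [hcs1] at e3
  have w1 : 0 ≤ ∑ ψ ∈ S, W18 ψ := Finset.sum_nonneg (fun ψ hψ => (hprof ψ hψ).2.2.2.2.2.1)
  have w2 : ∑ ψ ∈ S, W18 ψ ≤ ∑ ψ ∈ S, X18 ψ :=
    Finset.sum_le_sum (fun ψ hψ => (hprof ψ hψ).2.2.2.2.2.2.1)
  have w3 : 0 ≤ ∑ ψ ∈ S, W2 ψ := Finset.sum_nonneg (fun ψ hψ => (hprof ψ hψ).2.2.2.2.2.2.2.1)
  have w4 : ∑ ψ ∈ S, W2 ψ ≤ ∑ ψ ∈ S, X2 ψ :=
    Finset.sum_le_sum (fun ψ hψ => (hprof ψ hψ).2.2.2.2.2.2.2.2.1)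
  have w5 : 0 ≤ ∑ ψ ∈ S, W3 ψ :=
    Finset.sum_nonneg (fun ψ hψ => (hprof ψ hψ).2.2.2.2.2.2.2.2.2.1)
  have w6 : ∑ ψ ∈ S, W3 ψ ≤ ∑ ψ ∈ S, X3 ψ :=
    Finset.sum_le_sum (fun ψ hψ => (hprof ψ hψ).2.2.2.2.2.2.2.2.2.2.1)
  have f1 : -16 * (∑ ψ ∈ S, X36 ψ + ∑ ψ ∈ S, X4 ψ) ≤ ∑ ψ ∈ S, Fs ψ := by
    rw [← Finset.sum_add_distrib, Finset.mul_sum]
    exact Finset.sum_le_sum (fun ψ hψ => (hprof ψ hψ).2.2.2.2.2.2.2.2.2.2.2.1)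
  have f2 : ∑ ψ ∈ S, Fs ψ ≤ 16 * (∑ ψ ∈ S, X36 ψ + ∑ ψ ∈ S, X4 ψ) := by
    rw [← Finset.sum_add_distrib, Finset.mul_sum]
    exact Finset.sum_le_sum (fun ψ hψ => (hprof ψ hψ).2.2.2.2.2.2.2.2.2.2.2.2.1)
  have f3 : -4608 * (∑ ψ ∈ S, X36 ψ + ∑ ψ ∈ S, X4 ψ) ≤ ∑ ψ ∈ S, F ψ := by
    rw [← Finset.sum_add_distrib, Finset.mul_sum]
    exact Finset.sum_le_sum (fun ψ hψ => (hprof ψ hψ).2.2.2.2.2.2.2.2.2.2.2.2.2.1)
  have f4 : ∑ ψ ∈ S, F ψ ≤ 4608 * (∑ ψ ∈ S, X36 ψ + ∑ ψ ∈ S, X4 ψ) := by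
    rw [← Finset.sum_add_distrib, Finset.mul_sum]
    exact Finset.sum_le_sum (fun ψ hψ => (hprof ψ hψ).2.2.2.2.2.2.2.2.2.2.2.2.2.2.1)
  have p1 : 0 ≤ ∑ ψ ∈ S, X48 ψ :=
    Finset.sum_nonneg (fun ψ hψ => (hprof ψ hψ).2.2.2.2.2.2.2.2.2.2.2.2.2.2.2.1)
  have p2 : 0 ≤ ∑ ψ ∈ S, X32 ψ :=
    Finset.sum_nonneg (fun ψ hψ => (hprof ψ hψ).2.2.2.2.2.2.2.2.2.2.2.2.2.2.2.2.1)
  have p3 : 0 ≤ ∑ ψ ∈ S, X16 ψ :=
    Finset.sum_nonneg (fun ψ hψ => (hprof ψ hψ).2.2.2.2.2.2.2.2.2.2.2.2.2.2.2.2.2.1)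
  have p4 : 0 ≤ ∑ ψ ∈ S, X18 ψ :=
    Finset.sum_nonneg (fun ψ hψ => (hprof ψ hψ).2.2.2.2.2.2.2.2.2.2.2.2.2.2.2.2.2.2.1)
  have p5 : 0 ≤ ∑ ψ ∈ S, X2 ψ :=
    Finset.sum_nonneg (fun ψ hψ => (hprof ψ hψ).2.2.2.2.2.2.2.2.2.2.2.2.2.2.2.2.2.2.2.1)
  have p6 : 0 ≤ ∑ ψ ∈ S, X36 ψ :=
    Finset.sum_nonneg (fun ψ hψ => (hprof ψ hψ).2.2.2.2.2.2.2.2.2.2.2.2.2.2.2.2.2.2.2.2.1)
  have p7 : 0 ≤ ∑ ψ ∈ S, X3 ψ :=
    Finset.sum_nonneg (fun ψ hψ => (hprof ψ hψ).2.2.2.2.2.2.2.2.2.2.2.2.2.2.2.2.2.2.2.2.2.1)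
  have p8 : 0 ≤ ∑ ψ ∈ S, X4 ψ :=
    Finset.sum_nonneg (fun ψ hψ => (hprof ψ hψ).2.2.2.2.2.2.2.2.2.2.2.2.2.2.2.2.2.2.2.2.2.2)
  rw [e6] at hmE
  generalize ∑ ψ ∈ S, X48 ψ = x48 at *
  generalize ∑ ψ ∈ S, X32 ψ = x32 at *
  generalize ∑ ψ ∈ S, X16 ψ = x16 at *
  generalize ∑ ψ ∈ S, X18 ψ = x18 at *
  generalize ∑ ψ ∈ S, X2 ψ = x2 at *
  generalize ∑ ψ ∈ S, X36 ψ = x36 at *
  generalize ∑ ψ ∈ S, X3 ψ = x3 at *
  generalize ∑ ψ ∈ S, X4 ψ = x4 at *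
  generalize ∑ ψ ∈ S, W18 ψ = w18 at *
  generalize ∑ ψ ∈ S, W2 ψ = w2' at *
  generalize ∑ ψ ∈ S, W3 ψ = w3' at *
  generalize ∑ ψ ∈ S, Fs ψ = fs at *
  generalize ∑ ψ ∈ S, F ψ = f at *
  clear hprof hsplit hcle hmem hS hcs hcd hc2 hcls hd69 hq hcab hab hdge hd2 hdvd hst hdt hct
    hc4 hcd1 hcs1
  have hx4 : x4 = 0 := by omega
  subst hx4
  have hx3 : x3 = 1 := by omega
  subst hx3
  have hx36 : x36 = 0 := by omega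
  subst hx36
  have hx48 : x48 = 0 := by omega
  subst hx48
  have hx2 : x2 = 0 ∨ x2 = 1 := by omega
  have hM : (m : ℤ) * m = 1792 ∨ (m : ℤ) * m = 768 := by
    rcases hx2 with h | h <;> subst h <;> omega
  rcases hM with hM | hM
  · have hm55 : m ≤ 42 ∨ 43 ≤ m := by omega
    rcases hm55 with h | h
    · have h54 : (m : ℤ) ≤ 42 := by exact_mod_cast h
      have h2 : (m : ℤ) * m ≤ 42 * 42 := mul_self_le_mul_self (Int.natCast_nonneg m) h54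
      linarith
    · have h55 : (43 : ℤ) ≤ m := by exact_mod_cast h
      have h2 : (43 : ℤ) * 43 ≤ (m : ℤ) * m := mul_self_le_mul_self (by norm_num) h55
      linarith
  · have hm55 : m ≤ 27 ∨ 28 ≤ m := by omega
    rcases hm55 with h | h
    · have h54 : (m : ℤ) ≤ 27 := by exact_mod_cast h
      have h2 : (m : ℤ) * m ≤ 27 * 27 := mul_self_le_mul_self (Int.natCast_nonneg m) h54
      linarith
    · have h55 : (28 : ℤ) ≤ m := by exact_mod_cast h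
      have h2 : (28 : ℤ) * 28 ≤ (m : ℤ) * m := mul_self_le_mul_self (by norm_num) h55
      linarith

/-- There is no simple group of order `4896 = 2⁵ · 3² · 17`. -/
theorem no_simple_4896 {G : Type u} [Group G] [Finite G] [IsSimpleGroup G] :
    Nat.card G ≠ 4896 := by
  intro hS
  have h17 : Fact (Nat.Prime 17) := ⟨by norm_num⟩
  obtain ⟨P⟩ : Nonempty (Sylow 17 G) := inferInstance
  obtain ⟨hP, hn1, hmod, ⟨k, hk, hnk⟩, -⟩ :=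
    sylow_setup (p := 17) 288 (by rw [hS]) (by norm_num) (by norm_num) P
  obtain ⟨n, hn⟩ : ∃ n, n = Nat.card (Sylow 17 G) := ⟨_, rfl⟩
  rw [← hn] at hn1 hmod hnk
  have hle : n ≤ 288 := Nat.le_of_dvd (by norm_num) (Dvd.intro _ hnk)
  have hn18 : n = 18 := by
    interval_cases n <;> omega
  subst hn18
  have hk16 : k = 16 := by omega
  subst hk16
  have hC := centralizer_le_of_sylow_succ 17 P hP hn.symm
  have hstab : stabilizer G P = Subgroup.normalizer ((P : Subgroup G) : Set G) :=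
    Sylow.stabilizer_eq_normalizer P
  rw [hstab] at hk
  exact no_frobenius_4896 hS (P : Subgroup G) hP hC hk

end Cfsg.Agent.Lib.helper32
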