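import Mathlib
import Cfsg.Agent.Lib.helper21.PrimeTI
import Cfsg.Agent.Lib.helper21.PrimeTICor

/-!
# Exceptional characters for a self-centralizing subgroup of prime order: the boundary case
(helper32)

A variant of helper21's `exceptional_of_prime_self_centralizing` with the hypothesis
`e (e + 1) < p - 1` weakened to `e ^ 2 < p - 1`, `2 ≤ e` (so that e.g. `p = 7`, `e = 2` is
covered), following the same proof; in the boundary case `n = e + 1` the second solution of the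
norm equation is excluded by the degree equation.
-/

set_option autoImplicit false

namespace Cfsg.Agent.Lib.helper32

open Cfsg Cfsg.Agent.Lib.helper4 Cfsg.Agent.Lib.helper21
open scoped ComplexConjugate

universe u

section Main

variable {G : Type u} [Group G] [Fintype G]

theorem exceptional_of_prime_self_centralizing_sq [Fintype (IrrCharacter G)] {p e : ℕ}
    (hp : p.Prime) (P : Subgroup G) (hP : Nat.card P = p)
    (hC : Subgroup.centralizer (P : Set G) ≤ P)
    (hN : Nat.card (Subgroup.normalizer (P : Set G)) = p * e) (he : e * e < p - 1)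
    (he2 : 2 ≤ e) :
    ∃ (ε : ℤ) (a : IrrCharacter G → ℤ) (S : Finset (IrrCharacter G)), (ε = 1 ∨ ε = -1) ∧
      a ⟨fun _ => 1, isIrrCharacter_one⟩ = 1 ∧ ∑ ψ, a ψ ^ 2 = (e : ℤ) ∧
      (∀ ψ, a ψ ≠ 0 → ∃ k : ℤ, (ψ : G → ℂ) 1 = ((a ψ + p * k : ℤ) : ℂ)) ∧
      e + 1 ≤ S.card ∧ p - 1 ≤ e * S.card ∧
      ∀ χ ∈ S, a χ = 0 ∧ ∑ ψ, (a ψ : ℂ) * (ψ : G → ℂ) 1 = (ε : ℂ) * (χ : G → ℂ) 1 := by
  classical
  have := Fintype.ofFinite P
  have := Fintype.ofFinite (IrrCharacter P)
  have hcardP : (Nat.card P : ℂ) ≠ 0 := by rw [hP]; exact_mod_cast hp.ne_zero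
  obtain ⟨one, hone⟩ : ∃ one : P → ℂ, one = fun _ => 1 := ⟨_, rfl⟩
  have h1P : IsIrrCharacter P one := by rw [hone]; exact isIrrCharacter_one
  obtain ⟨triv, htriv⟩ : ∃ triv : IrrCharacter P, triv = ⟨one, h1P⟩ := ⟨_, rfl⟩
  -- the number of irreducible characters of `P`
  have hcardIrr : Fintype.card (IrrCharacter P) = p := by
    have h := sum_irr_degree_sq (G := P)
    have h2 : ∀ χ : IrrCharacter P, (χ : P → ℂ) 1 ^ 2 = 1 := fun χ => by
      rw [irr_apply_one_of_prime_card hp hP χ.2, one_pow]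
    rw [Finset.sum_congr rfl (fun χ _ => h2 χ), Finset.sum_const, Finset.card_univ, hP] at h
    simpa using h
  obtain ⟨s, hs⟩ : ∃ s : Finset (IrrCharacter P), s = Finset.univ.erase triv := ⟨_, rfl⟩
  have hscard : s.card = p - 1 := by
    rw [hs, Finset.card_erase_of_mem (Finset.mem_univ _), Finset.card_univ, hcardIrr]
  have hsmem : ∀ b : IrrCharacter P, b ∈ s ↔ (b : P → ℂ) ≠ one := by
    intro b
    rw [hs, Finset.mem_erase, htriv]
    simp [Subtype.ext_iff]
  -- fibres of induction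
  have hfib : ∀ b ∈ s, (s.filter (fun b' : IrrCharacter P =>
      indFun P (b' : P → ℂ) = indFun P (b : P → ℂ))).card ≤ e := by
    intro b hb
    have hb1 := (hsmem b).mp hb
    have h1 : ∑ b' ∈ s.filter (fun b' : IrrCharacter P =>
        indFun P (b' : P → ℂ) = indFun P (b : P → ℂ)), tiCount P (b' : P → ℂ) (b : P → ℂ) =
        (s.filter (fun b' : IrrCharacter P =>
          indFun P (b' : P → ℂ) = indFun P (b : P → ℂ))).card * p := by
      apply Finset.sum_const_nat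
      intro b' hb'
      rw [Finset.mem_filter] at hb'
      rw [tiCount_of_indFun_eq hp hP hC b'.2 b.2 (hone ▸ (hsmem b').mp hb'.1) (hone ▸ hb1) hb'.2,
        hP]
    have h2 : ∑ b' ∈ s.filter (fun b' : IrrCharacter P =>
        indFun P (b' : P → ℂ) = indFun P (b : P → ℂ)), tiCount P (b' : P → ℂ) (b : P → ℂ) ≤
        ∑ b' : IrrCharacter P, tiCount P (b' : P → ℂ) (b : P → ℂ) :=
      Finset.sum_le_sum_of_subset (Finset.subset_univ _)
    rw [h1, sum_tiCount hp hP b.2, hN, mul_comm] at h2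
    exact Nat.le_of_mul_le_mul_left h2 hp.pos
  obtain ⟨n, r, hrs, hrinj, hrsurj, hcard⟩ :=
    exists_fin_reps s (fun b : IrrCharacter P => indFun P (b : P → ℂ)) e hfib
  rw [hscard] at hcard
  have hn : e + 1 ≤ n := by
    by_contra hcon
    have h1 : e * n ≤ e * e := Nat.mul_le_mul_left e (by omega)
    omega
  obtain ⟨i₀, hi₀⟩ : ∃ i₀ : Fin n, i₀ = ⟨0, by omega⟩ := ⟨_, rfl⟩
  obtain ⟨ν, hνdef⟩ : ∃ ν : Fin n → (P → ℂ), ν = fun i => (r i : P → ℂ) := ⟨_, rfl⟩
  have hνirr : ∀ i, IsIrrCharacter P (ν i) := fun i => by rw [hνdef]; exact (r i).2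
  have hν1 : ∀ i, ν i ≠ one := fun i => by rw [hνdef]; exact (hsmem (r i)).mp (hrs i)
  have hνinj : ∀ i j, indFun P (ν i) = indFun P (ν j) → i = j := fun i j h => by
    rw [hνdef] at h; exact hrinj i j h
  have hνsurj : ∀ b : P → ℂ, IsIrrCharacter P b → b ≠ one → ∃ i, indFun P b = indFun P (ν i) := by
    intro b hb hb1
    obtain ⟨i, hi⟩ := hrsurj ⟨b, hb⟩ ((hsmem _).mpr hb1)
    exact ⟨i, by rw [hνdef]; exact hi⟩
  -- values of the kernel
  have hK0 : ∀ i j, i ≠ j → tiK P (ν i) (ν j) = 0 := by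
    intro i j hij
    rw [tiK_eq_tiCount hp hP (hνirr i) (hνirr j),
      tiCount_eq_zero_of_indFun_ne (fun h => hij (hνinj i j h))]
    simp
  have hK1 : ∀ i, tiK P (ν i) (ν i) = 1 := by
    intro i
    rw [tiK_eq_tiCount hp hP (hνirr i) (hνirr i),
      tiCount_self hp hP hC (hνirr i) (hone ▸ hν1 i)]
    exact inv_mul_cancel₀ hcardP
  have hK10 : ∀ i, tiK P (ν i) one = 0 := by
    intro i
    rw [tiK_eq_tiCount hp hP (hνirr i) h1P]
    subst hone
    rw [tiCount_one_left (hν1 i)]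
    simp
  have hK01 : ∀ i, tiK P one (ν i) = 0 := by
    intro i
    rw [tiK_eq_tiCount hp hP h1P (hνirr i)]
    subst hone
    rw [tiCount_one_right (hν1 i)]
    simp
  have hK11 : tiK P one one = (e : ℂ) := by
    rw [tiK_eq_tiCount hp hP h1P h1P]
    subst hone
    rw [tiCount_one_one, hN]
    rw [hP] at hcardP ⊢
    push_cast
    field_simp
  have hdeg1 : ∀ i, ν i 1 = 1 := fun i => irr_apply_one_of_prime_card hp hP (hνirr i)
  -- the isometry lemma
  obtain ⟨ε, hε, μ, hμirr, hμinj, hτ⟩ := Cfsg.Agent.S0198.result n i₀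
    (fun i => indFun P (ν i) - indFun P (ν i₀)) (sub_self _)
    (fun i => ⟨_, _, isCharacter_indFun P (isCharacter_of_isIrrCharacter (hνirr i)),
      isCharacter_indFun P (isCharacter_of_isIrrCharacter (hνirr i₀)), rfl⟩)
    (fun i => by rw [Pi.sub_apply, indFun_one, indFun_one, hdeg1, hdeg1, sub_self])
    (fun i j hi hj => by
      rw [classInner_indFun_sub_indFun_sub hp hP (hνirr i) (hνirr i₀), hK1 i₀, hK0 i i₀ hi,
        hK0 i₀ j (Ne.symm hj)]
      by_cases hij : i = j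
      · rw [if_pos hij, hij, hK1]; norm_num
      · rw [if_neg hij, hK0 i j hij]; norm_num)
  obtain ⟨εz, hεz, rfl⟩ : ∃ εz : ℤ, (εz = 1 ∨ εz = -1) ∧ ε = (εz : ℂ) := by
    rcases hε with h | h
    · exact ⟨1, Or.inl rfl, by rw [h]; simp⟩
    · exact ⟨-1, Or.inr rfl, by rw [h]; simp⟩
  have hεsq : εz ^ 2 = 1 := by rcases hεz with h | h <;> rw [h] <;> norm_num
  obtain ⟨Γ, hΓdef⟩ : ∃ Γ : G → ℂ,
      Γ = indFun P (ν i₀) - indFun P one - (εz : ℂ) • μ i₀ := ⟨_, rfl⟩
  have hΓgen : IsGeneralizedCharacter G Γ := by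
    rw [hΓdef]
    exact isGeneralizedCharacter_sub (isGeneralizedCharacter_sub
      (isGeneralizedCharacter_of_isCharacter
        (isCharacter_indFun P (isCharacter_of_isIrrCharacter (hνirr i₀))))
      (isGeneralizedCharacter_of_isCharacter
        (isCharacter_indFun P (isCharacter_of_isIrrCharacter h1P))))
      (isGeneralizedCharacter_intCast_smul εz (isGeneralizedCharacter_of_isIrrCharacter (hμirr i₀)))
  have hΔ : ∀ i, indFun P (ν i) - indFun P one = (εz : ℂ) • μ i + Γ := by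
    intro i
    have h := hτ i
    rw [hΓdef]
    funext x
    have hx := congrFun h x
    simp only [Pi.sub_apply, Pi.smul_apply, Pi.add_apply, smul_eq_mul] at hx ⊢
    linear_combination hx
  obtain ⟨c, hΓsum, hc, hnorm⟩ := exists_int_coeff hΓgen
  obtain ⟨M, hM⟩ : ∃ M : Fin n → IrrCharacter G, M = fun i => ⟨μ i, hμirr i⟩ := ⟨_, rfl⟩
  have hMval : ∀ i, (M i : G → ℂ) = μ i := fun i => by rw [hM]
  have hMinj : Function.Injective M := fun i j h => hμinj (by rw [← hMval i, ← hMval j, h])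
  -- the norm of `Δ_i`
  have hΔnorm : ∀ i, classInner (indFun P (ν i) - indFun P one)
      (indFun P (ν i) - indFun P one) = (e : ℂ) + 1 := by
    intro i
    rw [classInner_indFun_sub_indFun_sub hp hP (hνirr i) h1P, hK1, hK10, hK01, hK11]
    ring
  have hcμ : ∀ i, classInner (μ i) Γ = (c (M i) : ℂ) := by
    intro i
    rw [← classInner_conj_symm, ← hMval i, hc (M i)]
    simp
  have hb : ∀ i, (e : ℤ) = 2 * εz * c (M i) + ∑ ψ, c ψ ^ 2 := by
    intro i
    have h := hΔnorm i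
    rw [hΔ i, classInner_add_left, classInner_add_right, classInner_add_right,
      classInner_smul_left, classInner_smul_left, classInner_smul_right, classInner_smul_right,
      classInner_irr_self (hμirr i), hcμ i, ← hMval i, hc (M i), hnorm] at h
    have h' : ((εz * (εz * 1 + c (M i)) + (εz * c (M i) + ∑ ψ, c ψ ^ 2) : ℤ) : ℂ) =
        ((e + 1 : ℤ) : ℂ) := by
      simp only [map_intCast] at h
      push_cast at h ⊢
      linear_combination h
    have h'' := Int.cast_injective h'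
    linear_combination (-1 : ℤ) * h'' + hεsq
  -- the trivial character
  obtain ⟨oneG, honeG⟩ : ∃ oneG : IrrCharacter G, oneG = ⟨fun _ => 1, isIrrCharacter_one⟩ :=
    ⟨_, rfl⟩
  have honeGval : (oneG : G → ℂ) = fun _ => 1 := by rw [honeG]
  have hD : ∀ i, classInner (indFun P (ν i) - indFun P one) (oneG : G → ℂ) = -1 := by
    intro i
    have hcl : IsClassFunction G (oneG : G → ℂ) := isClassFunction_of_isIrrCharacter oneG.2
    rw [classInner_sub_left, frobenius_reciprocity P _ hcl, frobenius_reciprocity P _ hcl]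
    have hres : (fun h : P => (oneG : G → ℂ) h) = one := by rw [honeGval, hone]
    rw [hres, classInner_irr_ne (hνirr i) h1P (hν1 i), classInner_irr_self h1P]
    norm_num
  have hc1 : ∀ i, (-1 : ℤ) = εz * (if M i = oneG then 1 else 0) + c oneG := by
    intro i
    have h := hD i
    rw [hΔ i, classInner_add_left, classInner_smul_left, hc oneG, ← hMval i,
      classInner_irr (M i).2 oneG.2] at h
    have hiff : ((M i : G → ℂ) = (oneG : G → ℂ)) ↔ M i = oneG := Subtype.ext_iff.symm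
    by_cases hMi : M i = oneG
    · rw [if_pos hMi]
      rw [if_pos (hiff.mpr hMi)] at h
      exact_mod_cast h.symm
    · rw [if_neg hMi]
      rw [if_neg (fun hh => hMi (hiff.mp hh))] at h
      exact_mod_cast h.symm
  have hex : ∃ i, M i ≠ oneG := by
    by_contra hcon
    push Not at hcon
    have h01 : (⟨0, by omega⟩ : Fin n) = ⟨1, by omega⟩ :=
      hMinj ((hcon _).trans (hcon _).symm)
    simp [Fin.ext_iff] at h01
  have hcone : c oneG = -1 := by
    obtain ⟨i, hi⟩ := hex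
    have h := hc1 i
    rw [if_neg hi] at h
    omega
  have hMne : ∀ i, M i ≠ oneG := by
    intro i hi
    have h := hc1 i
    rw [if_pos hi, hcone] at h
    rcases hεz with h' | h' <;> rw [h'] at h <;> omega
  -- the exceptional characters do not occur in `Γ`
  have hconst : ∀ i, c (M i) = c (M i₀) := by
    intro i
    have h1 := hb i
    have h2 := hb i₀
    rcases hεz with h' | h' <;> rw [h'] at h1 h2 <;> omega
  have hlower : 1 + (n : ℤ) * c (M i₀) ^ 2 ≤ ∑ ψ, c ψ ^ 2 := by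
    have hnotin : oneG ∉ Finset.univ.image M := by
      intro h
      obtain ⟨i, -, hi⟩ := Finset.mem_image.mp h
      exact hMne i hi
    have h1 : ∑ ψ ∈ insert oneG (Finset.univ.image M), c ψ ^ 2 ≤ ∑ ψ, c ψ ^ 2 :=
      Finset.sum_le_sum_of_subset_of_nonneg (Finset.subset_univ _) (fun _ _ _ => sq_nonneg _)
    rw [Finset.sum_insert hnotin, Finset.sum_image (fun i _ j _ h => hMinj h), hcone,
      Finset.sum_congr rfl (fun i _ => by rw [hconst i]), Finset.sum_const, Finset.card_univ,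
      Fintype.card_fin] at h1
    simpa using h1
  -- the value of `Γ` at the identity
  have hΓ1 : Γ 1 = ∑ ψ : IrrCharacter G, (c ψ : ℂ) * (ψ : G → ℂ) 1 := by
    have h := congrFun hΓsum 1
    rw [Finset.sum_apply] at h
    exact h
  have hγ : c (M i₀) = 0 := by
    by_contra hne
    have hg2 : 1 ≤ c (M i₀) ^ 2 := by
      have : 0 < c (M i₀) ^ 2 := by positivity
      omega
    have h3 : ((e : ℤ) + 1) * c (M i₀) ^ 2 ≤ (n : ℤ) * c (M i₀) ^ 2 :=
      mul_le_mul_of_nonneg_right (by exact_mod_cast hn) (sq_nonneg _)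
    have h5 : (e : ℤ) * 1 ≤ (e : ℤ) * c (M i₀) ^ 2 :=
      mul_le_mul_of_nonneg_left hg2 (Int.natCast_nonneg e)
    have h2 := hb i₀
    -- the only other solution: `c (M i) = -ε` for all `i`, `n = e + 1`, nothing else
    have hk : c (M i₀) = -εz := by
      rcases hεz with h' | h' <;> rw [h'] at h2 ⊢
      · have h6 : (c (M i₀) + 1) ^ 2 ≤ 0 := by nlinarith
        have h7 : c (M i₀) + 1 = 0 := by
          have := le_antisymm h6 (sq_nonneg _)
          exact pow_eq_zero_iff (two_ne_zero) |>.mp this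
        omega
      · have h6 : (c (M i₀) - 1) ^ 2 ≤ 0 := by nlinarith
        have h7 : c (M i₀) - 1 = 0 := by
          have := le_antisymm h6 (sq_nonneg _)
          exact pow_eq_zero_iff (two_ne_zero) |>.mp this
        omega
    have hk2 : c (M i₀) ^ 2 = 1 := by rw [hk]; rw [neg_sq]; exact hεsq
    have hsum : ∑ ψ, c ψ ^ 2 = (e : ℤ) + 2 := by
      rw [hk] at h2
      have : 2 * εz * -εz = -2 := by linear_combination (-2 : ℤ) * hεsq
      omega
    have hnle : (n : ℤ) ≤ e + 1 := by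
      rw [hk2, hsum] at hlower
      omega
    have hneq : n = e + 1 := by omega
    have hnotin : oneG ∉ Finset.univ.image M := by
      intro h
      obtain ⟨i, -, hi⟩ := Finset.mem_image.mp h
      exact hMne i hi
    have hT' : ∑ ψ ∈ insert oneG (Finset.univ.image M), c ψ ^ 2 = ∑ ψ, c ψ ^ 2 := by
      rw [Finset.sum_insert hnotin, Finset.sum_image (fun i _ j _ h => hMinj h), hcone,
        Finset.sum_congr rfl (fun i _ => by rw [hconst i]), Finset.sum_const, Finset.card_univ,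
        Fintype.card_fin, hk2, hsum, hneq]
      simp
      ring
    have hzero : ∀ ψ, ψ ∉ insert oneG (Finset.univ.image M) → c ψ = 0 := by
      intro ψ hψ
      by_contra h0
      have hlt : ∑ ψ ∈ insert oneG (Finset.univ.image M), c ψ ^ 2 < ∑ ψ, c ψ ^ 2 :=
        Finset.sum_lt_sum_of_subset (Finset.subset_univ _) (Finset.mem_univ ψ) hψ
          (by positivity) (fun _ _ _ => sq_nonneg _)
      rw [hT'] at hlt
      exact lt_irrefl _ hlt
    have hsumG : Γ 1 = ((-1 - εz * ∑ i, (charDegree (M i : G → ℂ) : ℤ) : ℤ) : ℂ) := by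
      rw [hΓ1]
      have hsub : ∑ ψ : IrrCharacter G, (c ψ : ℂ) * (ψ : G → ℂ) 1 =
          ∑ ψ ∈ insert oneG (Finset.univ.image M), (c ψ : ℂ) * (ψ : G → ℂ) 1 := by
        symm
        apply Finset.sum_subset (Finset.subset_univ _)
        intro ψ _ hψ
        rw [hzero ψ hψ]
        simp
      rw [hsub, Finset.sum_insert hnotin, Finset.sum_image (fun i _ j _ h => hMinj h), hcone,
        honeGval, Finset.sum_congr rfl (fun i _ => by
          rw [hconst i, hk, Cfsg.Agent.Lib.helper82.irr_one_eq (M i)])]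
      push_cast
      rw [Finset.mul_sum]
      simp only [neg_mul, Finset.sum_neg_distrib]
      ring
    have h0 := congrFun (hΔ i₀) 1
    rw [Pi.sub_apply, indFun_one, indFun_one, hdeg1, hone, sub_self, Pi.add_apply, Pi.smul_apply,
      smul_eq_mul, hsumG, ← hMval i₀, Cfsg.Agent.Lib.helper82.irr_one_eq (M i₀)] at h0
    have h0' : (0 : ℤ) = εz * (charDegree (M i₀ : G → ℂ) : ℤ) +
        (-1 - εz * ∑ i, (charDegree (M i : G → ℂ) : ℤ)) := by exact_mod_cast h0
    have hsplit : ∑ i, (charDegree (M i : G → ℂ) : ℤ) = (charDegree (M i₀ : G → ℂ) : ℤ) +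
        ∑ i ∈ Finset.univ.erase i₀, (charDegree (M i : G → ℂ) : ℤ) :=
      (Finset.add_sum_erase _ _ (Finset.mem_univ i₀)).symm
    have hrest : ((n : ℤ) - 1) ≤ ∑ i ∈ Finset.univ.erase i₀, (charDegree (M i : G → ℂ) : ℤ) := by
      have h1 : ∀ i ∈ Finset.univ.erase i₀, (1 : ℤ) ≤ (charDegree (M i : G → ℂ) : ℤ) := by
        intro i _
        have := Cfsg.Agent.Lib.helper82.irr_charDegree_pos (M i)
        exact_mod_cast this
      have h2 := Finset.card_nsmul_le_sum (Finset.univ.erase i₀) _ 1 h1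
      rw [Finset.card_erase_of_mem (Finset.mem_univ _), Finset.card_univ, Fintype.card_fin] at h2
      have h3 : ((n - 1 : ℕ) : ℤ) = (n : ℤ) - 1 := by
        rw [Nat.cast_sub (by omega)]; simp
      rw [nsmul_eq_mul, mul_one, h3] at h2
      exact h2
    rw [hsplit] at h0'
    have hn3 : (2 : ℤ) ≤ (n : ℤ) - 1 := by
      have : 3 ≤ n := by omega
      have : (3 : ℤ) ≤ (n : ℤ) := by exact_mod_cast this
      omega
    rcases hεz with h' | h' <;> rw [h'] at h0' <;> omega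
  have hcM : ∀ i, c (M i) = 0 := fun i => (hconst i).trans hγ
  have hsumsq : ∑ ψ, c ψ ^ 2 = (e : ℤ) := by
    have h2 := hb i₀
    rw [hγ] at h2
    omega
  have hdegeq : ∀ i, ∑ ψ : IrrCharacter G, ((-c ψ : ℤ) : ℂ) * (ψ : G → ℂ) 1 =
      (εz : ℂ) * (M i : G → ℂ) 1 := by
    intro i
    have h := congrFun (hΔ i) 1
    rw [Pi.sub_apply, indFun_one, indFun_one, hdeg1, hone, sub_self, Pi.add_apply, Pi.smul_apply,
      smul_eq_mul, hΓ1, ← hMval i] at h
    have h2 : ∑ ψ : IrrCharacter G, ((-c ψ : ℤ) : ℂ) * (ψ : G → ℂ) 1 =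
        -∑ ψ : IrrCharacter G, (c ψ : ℂ) * (ψ : G → ℂ) 1 := by
      rw [← Finset.sum_neg_distrib]
      apply Finset.sum_congr rfl
      intro ψ _
      push_cast
      ring
    rw [h2]
    linear_combination h
  -- congruences for the non-exceptional characters
  have hcong : ∀ ψ : IrrCharacter G, c ψ ≠ 0 →
      ∃ k : ℤ, (ψ : G → ℂ) 1 = ((-c ψ + p * k : ℤ) : ℂ) := by
    intro ψ hψ
    have hψM : ∀ i, μ i ≠ (ψ : G → ℂ) := by
      intro i h
      apply hψ
      have : M i = ψ := Subtype.ext (by rw [hMval i, h])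
      rw [← this]
      exact hcM i
    have hψcl : IsClassFunction G (ψ : G → ℂ) := isClassFunction_of_isIrrCharacter ψ.2
    obtain ⟨m1, hm1⟩ := exists_int_classInner
      (isGeneralizedCharacter_of_isCharacter
        (isCharacter_indFun P (isCharacter_of_isIrrCharacter h1P)))
      (isGeneralizedCharacter_of_isIrrCharacter ψ.2)
    have hval : ∀ b : IrrCharacter P, b ∈ s →
        classInner (indFun P (b : P → ℂ)) (ψ : G → ℂ) = ((c ψ + m1 : ℤ) : ℂ) := by
      intro b hb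
      obtain ⟨i, hi⟩ := hνsurj b b.2 ((hsmem b).mp hb)
      have h1 : indFun P (ν i) = (εz : ℂ) • μ i + Γ + indFun P one := by
        rw [← hΔ i]; ring
      rw [hi, h1, classInner_add_left, classInner_add_left, classInner_smul_left,
        classInner_irr_ne (hμirr i) ψ.2 (hψM i), hc ψ, hm1]
      push_cast
      ring
    have hres := classFunction_eq_sum_irr (isClassFunction_restrict P hψcl)
    have hres1 := congrFun hres 1
    rw [Finset.sum_apply] at hres1
    have hterm : ∀ b : IrrCharacter P,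
        (classInner (fun h : P => (ψ : G → ℂ) h) (b : P → ℂ) • (b : P → ℂ)) 1 =
          conj (classInner (indFun P (b : P → ℂ)) (ψ : G → ℂ)) := by
      intro b
      rw [Pi.smul_apply, irr_apply_one_of_prime_card hp hP b.2, smul_eq_mul, mul_one,
        frobenius_reciprocity P _ hψcl, classInner_conj_symm]
    rw [Finset.sum_congr rfl (fun b _ => hterm b),
      ← Finset.add_sum_erase Finset.univ _ (Finset.mem_univ triv), ← hs,
      Finset.sum_congr rfl (fun b hb => by rw [hval b hb]), Finset.sum_const, hscard, htriv] at hres1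
    simp only [] at hres1
    rw [hm1] at hres1
    refine ⟨c ψ + m1, ?_⟩
    have hp1 : ((p - 1 : ℕ) : ℂ) = (p : ℂ) - 1 := by
      rw [Nat.cast_sub hp.one_le]; simp
    have hres2 : (ψ : G → ℂ) 1 = (m1 : ℂ) + ((p : ℂ) - 1) * ((c ψ : ℂ) + (m1 : ℂ)) := by
      have : (ψ : G → ℂ) 1 = (ψ : G → ℂ) ((1 : P) : G) := by simp
      rw [this, hres1, nsmul_eq_mul, hp1]
      simp
    rw [hres2]
    push_cast
    ring
  refine ⟨εz, fun ψ => -c ψ, Finset.univ.image M, hεz, ?_, ?_, ?_, ?_, ?_, ?_⟩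
  · show -c ⟨fun _ => 1, isIrrCharacter_one⟩ = 1
    rw [← honeG, hcone]; norm_num
  · rw [← hsumsq]
    exact Finset.sum_congr rfl (fun ψ _ => by ring)
  · intro ψ hψ
    exact hcong ψ (fun h => hψ (by simp [h]))
  · rw [Finset.card_image_of_injective _ hMinj, Finset.card_univ, Fintype.card_fin]
    exact hn
  · rw [Finset.card_image_of_injective _ hMinj, Finset.card_univ, Fintype.card_fin]
    exact hcard
  · intro χ hχ
    obtain ⟨i, -, rfl⟩ := Finset.mem_image.mp hχ
    exact ⟨by simp [hcM i], hdegeq i⟩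

/-- `exceptional_of_prime_self_centralizing_sq` in terms of the degrees `charDegree`. -/
theorem exceptional_degrees_sq [Fintype (IrrCharacter G)] {p e : ℕ}
    (hp : p.Prime) (P : Subgroup G) (hP : Nat.card P = p)
    (hC : Subgroup.centralizer (P : Set G) ≤ P)
    (hN : Nat.card (Subgroup.normalizer (P : Set G)) = p * e) (he : e * e < p - 1)
    (he2 : 2 ≤ e) :
    ∃ (ε : ℤ) (a : IrrCharacter G → ℤ) (S : Finset (IrrCharacter G)) (f₀ : ℕ),
      (ε = 1 ∨ ε = -1) ∧ a ⟨fun _ => 1, isIrrCharacter_one⟩ = 1 ∧ ∑ ψ, a ψ ^ 2 = (e : ℤ) ∧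
      (∀ ψ, a ψ ≠ 0 → (p : ℤ) ∣ (charDegree (ψ : G → ℂ) : ℤ) - a ψ) ∧
      e + 1 ≤ S.card ∧ p - 1 ≤ e * S.card ∧
      (∀ χ ∈ S, a χ = 0 ∧ charDegree (χ : G → ℂ) = f₀) ∧
      ∑ ψ, a ψ * (charDegree (ψ : G → ℂ) : ℤ) = ε * f₀ := by
  obtain ⟨ε, a, S, hε, ha1, hasq, hcong, hS, hS', hSχ⟩ :=
    exceptional_of_prime_self_centralizing_sq hp P hP hC hN he he2
  have hSne : S.Nonempty := Finset.card_pos.mp (by omega)
  obtain ⟨χ₀, hχ₀⟩ := hSne
  have hεne : (ε : ℂ) ≠ 0 := by
    rcases hε with h | h <;> rw [h] <;> norm_num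
  have hdeg : ∀ ψ : IrrCharacter G, (ψ : G → ℂ) 1 = (charDegree (ψ : G → ℂ) : ℂ) :=
    fun ψ => Cfsg.Agent.Lib.helper82.irr_one_eq ψ
  refine ⟨ε, a, S, charDegree (χ₀ : G → ℂ), hε, ha1, hasq, ?_, hS, hS', ?_, ?_⟩
  · intro ψ hψ
    obtain ⟨k, hk⟩ := hcong ψ hψ
    rw [hdeg ψ] at hk
    have hk' : (charDegree (ψ : G → ℂ) : ℤ) = a ψ + p * k := by exact_mod_cast hk
    exact ⟨k, by rw [hk']; ring⟩
  · intro χ hχ
    refine ⟨(hSχ χ hχ).1, ?_⟩
    have h1 := (hSχ χ hχ).2
    rw [(hSχ χ₀ hχ₀).2, hdeg, hdeg] at h1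
    have h2 := mul_left_cancel₀ hεne h1
    exact_mod_cast h2.symm
  · have h1 := (hSχ χ₀ hχ₀).2
    rw [hdeg] at h1
    have h2 : ((∑ ψ, a ψ * (charDegree (ψ : G → ℂ) : ℤ) : ℤ) : ℂ) =
        ((ε * (charDegree (χ₀ : G → ℂ) : ℤ) : ℤ) : ℂ) := by
      push_cast
      rw [← h1]
      exact Finset.sum_congr rfl (fun ψ _ => by rw [hdeg])
    exact Int.cast_injective h2


end Main

section SimpleExc

variable {G : Type u} [Group G] [Finite G]

/-- Exceptional characters in a finite simple group with a self-centralizing subgroup `P` of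
prime order `p` whose normalizer has order `p e`, `2 ≤ e`, `e ^ 2 < p - 1`: a sign `ε`, the
common degree `f₀` of the exceptional characters, and the finite set `T` of nontrivial
non-exceptional characters `ψ` with nonzero coefficient `a ψ`. -/
theorem simple_exceptional_aux_of [IsSimpleGroup G] (p e : ℕ) (hp : p.Prime)
    (P : Subgroup G) (hP : Nat.card P = p) (hC : Subgroup.centralizer (P : Set G) ≤ P)
    (hN : Nat.card (Subgroup.normalizer (P : Set G)) = p * e) (hlt : e * e < p - 1)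
    (he2 : 2 ≤ e) :
    ∃ (ε : ℤ) (f₀ : ℕ) (T : Finset (IrrCharacter G)) (a : IrrCharacter G → ℤ),
      (ε = 1 ∨ ε = -1) ∧ 1 < f₀ ∧ f₀ ∣ Nat.card G ∧ ∑ ψ ∈ T, a ψ ^ 2 = (e : ℤ) - 1 ∧
      (∀ ψ ∈ T, a ψ ≠ 0 ∧ 1 < charDegree (ψ : G → ℂ) ∧ charDegree (ψ : G → ℂ) ∣ Nat.card G ∧
        (p : ℤ) ∣ (charDegree (ψ : G → ℂ) : ℤ) - a ψ) ∧
      1 + ∑ ψ ∈ T, a ψ * (charDegree (ψ : G → ℂ) : ℤ) = ε * f₀ ∧
      1 + ∑ ψ ∈ T, charDegree (ψ : G → ℂ) ^ 2 + (e + 1) * f₀ ^ 2 ≤ Nat.card G := by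
  classical
  have := Fintype.ofFinite G
  have := Fintype.ofFinite (IrrCharacter G)
  obtain ⟨ε, a, S, f₀, hε, ha1, hasq, hcong, hS, -, hSχ, hdegeq⟩ :=
    exceptional_degrees_sq hp P hP hC hN hlt he2
  obtain ⟨oneG, honeG⟩ : ∃ oneG : IrrCharacter G, oneG = ⟨fun _ => 1, isIrrCharacter_one⟩ :=
    ⟨_, rfl⟩
  rw [← honeG] at ha1
  have honeGval : (oneG : G → ℂ) = fun _ => 1 := by rw [honeG]
  have hnp : ¬ (Nat.card G).Prime := by
    intro h
    have hdvd : p * e ∣ Nat.card G := by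
      rw [← hN]; exact Subgroup.card_subgroup_dvd_card _
    have hpd : p ∣ Nat.card G := (Dvd.intro _ rfl).trans hdvd
    have hpe : p = Nat.card G := (Nat.prime_dvd_prime_iff_eq hp h).mp hpd
    rw [← hpe] at hdvd
    have h1 := Nat.le_of_dvd hp.pos hdvd
    have h2 : p * 2 ≤ p * e := Nat.mul_le_mul_left p he2
    have h3 := hp.pos
    omega
  have hdegone : charDegree (oneG : G → ℂ) = 1 := by
    have h := Cfsg.Agent.Lib.helper82.irr_one_eq oneG
    rw [honeGval] at h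
    have h' : ((1 : ℕ) : ℂ) = (charDegree (fun _ : G => (1 : ℂ)) : ℂ) := by simpa using h
    rw [honeGval]
    exact (Nat.cast_injective h').symm
  have hgt : ∀ ψ : IrrCharacter G, ψ ≠ oneG → 1 < charDegree (ψ : G → ℂ) := by
    intro ψ hψ
    apply one_lt_charDegree_of_simple hnp
    intro h
    exact hψ (Subtype.ext (by rw [h, honeGval]))
  have hdvd : ∀ ψ : IrrCharacter G, charDegree (ψ : G → ℂ) ∣ Nat.card G := fun ψ =>
    Cfsg.Agent.Lib.helper82.irr_degree_dvd_card ψ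
  obtain ⟨χ₀, hχ₀⟩ : S.Nonempty := Finset.card_pos.mp (by omega)
  have hSne : ∀ χ ∈ S, χ ≠ oneG := by
    intro χ hχ h
    have := (hSχ χ hχ).1
    rw [h, ha1] at this
    omega
  obtain ⟨T, hT⟩ : ∃ T : Finset (IrrCharacter G),
      T = (Finset.univ.erase oneG).filter (fun ψ => a ψ ≠ 0) := ⟨_, rfl⟩
  have hTmem : ∀ ψ, ψ ∈ T ↔ ψ ≠ oneG ∧ a ψ ≠ 0 := by
    intro ψ
    rw [hT, Finset.mem_filter, Finset.mem_erase]
    simp
  have hsqsum : ∑ ψ : IrrCharacter G, charDegree (ψ : G → ℂ) ^ 2 = Nat.card G := by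
    have h := sum_irr_degree_sq (G := G)
    have h' : ((∑ ψ : IrrCharacter G, charDegree (ψ : G → ℂ) ^ 2 : ℕ) : ℂ) =
        ((Nat.card G : ℕ) : ℂ) := by
      rw [← h]
      push_cast
      exact Finset.sum_congr rfl (fun ψ _ => by rw [Cfsg.Agent.Lib.helper82.irr_one_eq ψ])
    exact Nat.cast_injective h'
  refine ⟨ε, f₀, T, a, hε, ?_, ?_, ?_, ?_, ?_, ?_⟩
  · rw [← (hSχ χ₀ hχ₀).2]; exact hgt χ₀ (hSne χ₀ hχ₀)
  · rw [← (hSχ χ₀ hχ₀).2]; exact hdvd χ₀
  · rw [hT, Finset.sum_filter_of_ne (fun ψ _ h => by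
      intro h0; apply h; rw [h0]; norm_num)]
    rw [← Finset.add_sum_erase Finset.univ _ (Finset.mem_univ oneG), ha1] at hasq
    linarith
  · intro ψ hψ
    obtain ⟨h1, h2⟩ := (hTmem ψ).mp hψ
    exact ⟨h2, hgt ψ h1, hdvd ψ, hcong ψ h2⟩
  · rw [hT, Finset.sum_filter_of_ne (fun ψ _ h => by
      intro h0; apply h; rw [h0]; norm_num)]
    rw [← Finset.add_sum_erase Finset.univ _ (Finset.mem_univ oneG), ha1, hdegone] at hdegeq
    rw [← hdegeq]
    norm_num
  · have hdisj : Disjoint T S := by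
      rw [Finset.disjoint_left]
      intro ψ hψT hψS
      exact ((hTmem ψ).mp hψT).2 (hSχ ψ hψS).1
    have hnotin : oneG ∉ T ∪ S := by
      intro h
      rcases Finset.mem_union.mp h with h | h
      · exact ((hTmem oneG).mp h).1 rfl
      · exact hSne oneG h rfl
    have h1 : ∑ ψ ∈ insert oneG (T ∪ S), charDegree (ψ : G → ℂ) ^ 2 ≤
        ∑ ψ : IrrCharacter G, charDegree (ψ : G → ℂ) ^ 2 :=
      Finset.sum_le_sum_of_subset (Finset.subset_univ _)
    have hS2 : ∑ χ ∈ S, charDegree (χ : G → ℂ) ^ 2 = S.card * f₀ ^ 2 := by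
      rw [Finset.sum_congr rfl (fun χ hχ => by rw [(hSχ χ hχ).2]), Finset.sum_const, smul_eq_mul]
    rw [Finset.sum_insert hnotin, Finset.sum_union hdisj, hdegone, hsqsum, hS2, one_pow] at h1
    have h2 : (e + 1) * f₀ ^ 2 ≤ S.card * f₀ ^ 2 := Nat.mul_le_mul_right _ hS
    linarith

/-- The case `e = 2`, `p ≥ 7`: one nontrivial non-exceptional character of degree `f₁ ≡ δ`
modulo `p`, and `1 + δ f₁ = ε f₀` for the degree `f₀` of the (at least three) exceptional
characters. -/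
theorem simple_exceptional_two_of [IsSimpleGroup G] (p : ℕ) (hp : p.Prime) (h5 : 5 < p)
    (P : Subgroup G) (hP : Nat.card P = p) (hC : Subgroup.centralizer (P : Set G) ≤ P)
    (hN : Nat.card (Subgroup.normalizer (P : Set G)) = p * 2) :
    ∃ (δ ε : ℤ) (f₁ f₀ : ℕ), (δ = 1 ∨ δ = -1) ∧ (ε = 1 ∨ ε = -1) ∧ 1 < f₁ ∧
      f₁ ∣ Nat.card G ∧ 1 < f₀ ∧ f₀ ∣ Nat.card G ∧ (p : ℤ) ∣ (f₁ : ℤ) - δ ∧
      1 + δ * f₁ = ε * f₀ ∧ 1 + f₁ ^ 2 + 3 * f₀ ^ 2 ≤ Nat.card G := by
  classical
  obtain ⟨ε, f₀, T, a, hε, hf₀, hf₀d, hsq, hT, hdeg, hsum⟩ :=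
    simple_exceptional_aux_of p 2 hp P hP hC hN (by omega) le_rfl
  have hsq' : ∑ ψ ∈ T, a ψ ^ 2 = 1 := by rw [hsq]; norm_num
  obtain ⟨ψ₁, hψ₁, ha₁, hrest⟩ := exists_of_sum_sq_eq_one T a hsq'
  have hTeq : T = {ψ₁} := by
    ext ψ
    rw [Finset.mem_singleton]
    constructor
    · intro hψ
      by_contra hne
      exact (hT ψ hψ).1 (hrest ψ hψ hne)
    · rintro rfl; exact hψ₁
  rw [hTeq, Finset.sum_singleton] at hdeg hsum
  obtain ⟨-, hgt, hdvd, hcong⟩ := hT ψ₁ hψ₁
  exact ⟨a ψ₁, ε, charDegree (ψ₁ : G → ℂ), f₀, ha₁, hε, hgt, hdvd, hf₀, hf₀d, hcong, hdeg,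
    by linarith⟩

end SimpleExc

end Cfsg.Agent.Lib.helper32
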