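import Mathlib
import Cfsg.Agent.Lib.helper32.PrimeTI2
import Cfsg.Agent.Lib.helper32.Sieve2

/-!
# No simple group of order 5600 (helper32)

Brauer–Tuan (S0904) gives a self-centralizing Sylow 7-subgroup; its normalizer has order `14`
(`e ∣ 6`, `n₇ e = 800`, `n₇ ≡ 1 mod 7`).  The exceptional characters for `p = 7`, `e = 2`
(`simple_exceptional_two_of`) then give degrees `f₁ ≡ δ mod 7`, `f₀` dividing `5600` with
`1 + δ f₁ = ε f₀`, which is impossible.
-/

set_option autoImplicit false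

namespace Cfsg.Agent.Lib.helper32

open Cfsg

universe u

/-- There is no simple group of order `5600 = 2⁵ · 5² · 7`. -/
theorem no_simple_5600 {G : Type u} [Group G] [Finite G] [IsSimpleGroup G] :
    Nat.card G ≠ 5600 := by
  intro hS
  have h7 : Fact (Nat.Prime 7) := ⟨by norm_num⟩
  obtain ⟨P⟩ : Nonempty (Sylow 7 G) := inferInstance
  obtain ⟨hP, hC, e, he, he1, hN, hne, hmod, hn1, hfac⟩ :=
    bt_sylow (G := G) 2 5 7 5 2 Nat.prime_two (by norm_num) (by norm_num)
      (by norm_num) (by norm_num) (by rw [hS]; norm_num) (by norm_num) P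
  have he6 : e ≤ 6 := Nat.le_of_dvd (by norm_num) he
  have he2 : e = 2 := by
    interval_cases e <;> omega
  subst he2
  obtain ⟨δ, ε, f₁, f₀, hδ, hε, hf1, hf1d, hf0, hf0d, hcong, hdeg, hsum⟩ :=
    simple_exceptional_two_of 7 (by norm_num) (by norm_num) (P : Subgroup G) hP hC.le hN
  rw [hS] at hf1d hf0d hsum
  have hf1le : f₁ ≤ 74 := by nlinarith
  have hf0le : f₀ ≤ 43 := by nlinarith
  rcases hδ with rfl | rfl <;> rcases hε with rfl | rfl
  · -- f₀ = f₁ + 1, f₁ ≡ 1 mod 7
    have h1 : f₀ = f₁ + 1 := by omega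
    subst h1
    have h2 : f₁ % 7 = 1 := by omega
    interval_cases f₁ <;> omega
  · omega
  · omega
  · -- f₀ = f₁ - 1, f₁ ≡ 6 mod 7
    have h1 : f₁ = f₀ + 1 := by omega
    subst h1
    have h2 : (f₀ + 1) % 7 = 6 := by omega
    interval_cases f₀ <;> omega

end Cfsg.Agent.Lib.helper32
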