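import Mathlib
import Cfsg.Prelude.Def_Characters
import Cfsg.Prelude.Def_OddOrderChar
import Cfsg.Agent.Lib.helper4.Induction
import Cfsg.Agent.Lib.helper4.CharTheory
import Cfsg.Agent.Lib.helper32.Dade2
import Cfsg.Agent.Lib.helper32.Coh3
import Cfsg.Agent.Lib.helper32.CyclicTI

/-! S1542 (architect helper65), piece P1: the Dade map is induction when all the supporting
subgroups `H a` (`a ∈ A`) are trivial. -/

set_option autoImplicit false

namespace Cfsg.Agent.Lib.helper32.PF1542

open Cfsg

/-- P1 : under Dade's hypothesis with trivial supporting subgroups, the Dade map coincides with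
induction on class functions of `L` vanishing off `A`. -/
theorem dade_eq_indFun {G : Type*} [Group G] [Fintype G] (A : Set G) (L : Subgroup G) [Fintype L]
    (H : G → Subgroup G) (hD : DadeHypothesis A L H) (hH : ∀ a ∈ A, H a = ⊥) (α : L → ℂ)
    (hα : IsClassFunction L α) (hαA : ∀ x : L, (x : G) ∉ A → α x = 0) :
    dadeIsometry A L H α = indFun L α := by
  obtain ⟨Δ, hΔ⟩ : ∃ Δ : G → ℂ, Δ = dadeIsometry A L H α - indFun L α := ⟨_, rfl⟩
  have hcl1 := Cfsg.Agent.Lib.helper32.isClassFunction_dadeIsometry A L H hD α hα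
  have hcl2 := Cfsg.Agent.Lib.helper32.isClassFunction_indFun L α
  have hclΔ : IsClassFunction G Δ := by
    intro g h
    rw [hΔ]
    simp only [Pi.sub_apply]
    rw [hcl1 g h, hcl2 g h]
  have h1 : classInner (dadeIsometry A L H α) Δ = classInner α (fun a : L => Δ a) := by
    apply Cfsg.Agent.Lib.helper32.dade_classInner A L H hD α hα hαA Δ hclΔ
    intro a ha
    rw [hH a ha, Subgroup.card_bot, Subgroup.coe_bot, finsum_mem_singleton, mul_one]
    simp
  have h2 : classInner (indFun L α) Δ = classInner α (fun a : L => Δ a) :=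
    Cfsg.Agent.Lib.helper4.frobenius_reciprocity L α hclΔ
  have h3 : classInner Δ Δ = 0 := by
    have h5 : classInner Δ Δ = classInner (dadeIsometry A L H α) Δ - classInner (indFun L α) Δ := by
      rw [← Cfsg.Agent.Lib.helper4.classInner_sub_left, ← hΔ]
    rw [h5, h1, h2, sub_self]
  have h4 := Cfsg.Agent.Lib.helper32.classInner_self_eq_zero h3
  rw [hΔ] at h4
  exact sub_eq_zero.mp h4

end Cfsg.Agent.Lib.helper32.PF1542
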