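import Mathlib
import Cfsg.Agent.Lib.helper75.FpfRank

/-! S1542 (architect helper65), group-theoretic pieces P2, P3:
* `index_dvd_of_exponent_dvd` : for a Frobenius group `N = H ⋊ U` of odd order, `|N : H|` divides
  every multiple of the exponent of `N ⧸ H` (the Sylow subgroups of `U` are cyclic).
* `sq_le_index_commutator` : a non-abelian `p`-group `H` has `p ^ 2 ≤ |H : H'|`.
* `exception_false` : the exceptional case of the Feit coherence theorem (S1535) is impossible when
  `|N : H|` divides `p - 1` and `N` has odd order. -/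

set_option autoImplicit false
set_option linter.style.haveILetI false

namespace Cfsg.Agent.Lib.helper32.PF1542

/-- A finite nilpotent group whose commutator subgroup has prime index is abelian. -/
theorem helper32_comm_of_index_commutator_prime {P : Type*} [Group P] [Finite P]
    [Group.IsNilpotent P] (p : ℕ) (hp : p.Prime) (hidx : (commutator P).index = p) :
    ∀ a b : P, a * b = b * a := by
  have : Fact p.Prime := ⟨hp⟩
  have hcard : Nat.card (P ⧸ commutator P) = p := by
    rw [← Subgroup.index_eq_card]; exact hidx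
  haveI : IsCyclic (P ⧸ commutator P) := isCyclic_of_prime_card hcard
  obtain ⟨g, hg⟩ := IsCyclic.exists_generator (α := P ⧸ commutator P)
  obtain ⟨x, rfl⟩ := QuotientGroup.mk_surjective g
  have htop : Subgroup.zpowers x = ⊤ := by
    rcases eq_top_or_exists_le_coatom (Subgroup.zpowers x) with h | ⟨M, hM, hxM⟩
    · exact h
    · exfalso
      haveI hMn : M.Normal :=
        Subgroup.NormalizerCondition.normal_of_coatom M Group.normalizerCondition_of_isNilpotent hM
      have hDM : commutator P ≤ M := by
        haveI : Nontrivial (P ⧸ M) := by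
          rw [← Finite.one_lt_card_iff_nontrivial, ← Subgroup.index_eq_card]
          have h1 : M.index ≠ 1 := fun h => hM.1 (Subgroup.index_eq_one.mp h)
          have h0 : M.index ≠ 0 := Subgroup.index_ne_zero_of_finite
          omega
        have hlt := Group.IsSolvable.commutator_lt_top_of_nontrivial (P ⧸ M)
        set C : Subgroup P := (commutator (P ⧸ M)).comap (QuotientGroup.mk' M) with hCdef
        have hMC : M ≤ C := by
          intro y hy
          rw [hCdef, Subgroup.mem_comap]
          have : (QuotientGroup.mk' M) y = 1 := by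
            rw [QuotientGroup.mk'_apply, QuotientGroup.eq_one_iff]; exact hy
          rw [this]; exact Subgroup.one_mem _
        have hCtop : C ≠ ⊤ := by
          intro h
          apply hlt.ne
          rw [eq_top_iff]
          intro q _
          obtain ⟨y, rfl⟩ := QuotientGroup.mk_surjective q
          have hy : y ∈ C := by rw [h]; trivial
          rw [hCdef, Subgroup.mem_comap] at hy
          exact hy
        have hCM : C = M := by
          by_contra hne
          exact hCtop (hM.2 C (lt_of_le_of_ne hMC (Ne.symm hne)))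
        rw [commutator_def, Subgroup.commutator_le]
        intro a _ b _
        rw [← hCM, hCdef, Subgroup.mem_comap, map_commutatorElement, commutator_def]
        exact Subgroup.commutator_mem_commutator (Subgroup.mem_top _) (Subgroup.mem_top _)
      apply hM.1
      rw [eq_top_iff]
      intro y _
      obtain ⟨k, hk⟩ := Subgroup.mem_zpowers_iff.mp (hg (QuotientGroup.mk y))
      have h1 : (x ^ k)⁻¹ * y ∈ commutator P := by
        rw [← QuotientGroup.eq]
        rw [← hk]; rfl
      have h2 : (x ^ k) ∈ M := M.zpow_mem (hxM (Subgroup.mem_zpowers x)) k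
      have h3 : y = x ^ k * ((x ^ k)⁻¹ * y) := by group
      rw [h3]; exact M.mul_mem h2 (hDM h1)
  intro a b
  have ha : a ∈ Subgroup.zpowers x := by rw [htop]; trivial
  have hb : b ∈ Subgroup.zpowers x := by rw [htop]; trivial
  obtain ⟨i, rfl⟩ := Subgroup.mem_zpowers_iff.mp ha
  obtain ⟨j, rfl⟩ := Subgroup.mem_zpowers_iff.mp hb
  rw [← zpow_add, ← zpow_add, add_comm]

/-- P3 : a non-abelian `p`-group `H` has `p ^ 2 ≤ |H : H'|` (the index appearing in the exceptional
case of the Feit coherence theorem S1535). -/
theorem sq_le_index_commutator {N : Type*} [Group N] [Finite N] (H : Subgroup N) (p m : ℕ)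
    (hp : p.Prime) (hcard : Nat.card H = p ^ m) (hnc : ¬ IsMulCommutative H) :
    p ^ 2 ≤ (⁅H, H⁆.subgroupOf H).index := by
  have heq : ⁅H, H⁆.subgroupOf H = commutator H := by
    rw [← Subgroup.map_subtype_commutator H]
    exact Subgroup.comap_map_eq_self_of_injective H.subtype_injective _
  rw [heq]
  have : Fact p.Prime := ⟨hp⟩
  have hPG : IsPGroup p H := IsPGroup.of_card hcard
  haveI : Group.IsNilpotent H := hPG.isNilpotent
  have hdvd : (commutator H).index ∣ p ^ m := by
    rw [← hcard]; exact Subgroup.index_dvd_card _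
  obtain ⟨k, hk, hidx⟩ := (Nat.dvd_prime_pow hp).mp hdvd
  rcases k with _ | _ | k
  · exfalso
    have htop : commutator H = ⊤ := Subgroup.index_eq_one.mp (by simpa using hidx)
    haveI : Nontrivial H := by
      by_contra hnt
      rw [not_nontrivial_iff_subsingleton] at hnt
      exact hnc ⟨⟨fun a b => Subsingleton.elim _ _⟩⟩
    exact (Group.IsSolvable.commutator_lt_top_of_nontrivial H).ne htop
  · exfalso
    apply hnc
    exact ⟨⟨helper32_comm_of_index_commutator_prime p hp (by simpa using hidx)⟩⟩
  · rw [hidx]
    exact Nat.pow_le_pow_right hp.pos (by omega)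

/-- P2 : for a Frobenius group `N = H ⋊ U` of odd order (kernel `H`, complement `U`), the index
`|N : H|` divides every multiple of the exponent of `N ⧸ H`. -/
theorem index_dvd_of_exponent_dvd {N : Type*} [Group N] [Finite N] (hodd : Odd (Nat.card N))
    (H : Subgroup N) [H.Normal] (hH1 : H ≠ ⊥)
    (hC : ∀ h ∈ H, h ≠ 1 → Subgroup.centralizer ({h} : Set N) ≤ H)
    (U : Subgroup N) (hU : Subgroup.IsComplement' H U) (d : ℕ)
    (hd : Monoid.exponent (N ⧸ H) ∣ d) : H.index ∣ d := by
  have hidx : H.index = Nat.card U := hU.symm.index_eq_card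
  rw [hidx]
  by_cases hU1 : U = ⊥
  · rw [hU1, Subgroup.card_bot]; exact one_dvd d
  have hdisj : ∀ g : N, g ∈ H → g ∈ U → g = 1 := by
    intro g hgH hgU
    have := hU.disjoint
    rw [Subgroup.disjoint_def] at this
    exact this hgH hgU
  have hfpf : ∀ h ∈ U, h ≠ 1 → H ⊓ Subgroup.centralizer {h} = ⊥ := by
    intro h hh hh1
    rw [Subgroup.eq_bot_iff_forall]
    intro k hk
    obtain ⟨hkH, hkc⟩ := Subgroup.mem_inf.mp hk
    by_contra hk1
    apply hh1
    apply hdisj h _ hh
    apply hC k hkH hk1
    rw [Subgroup.mem_centralizer_iff]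
    intro y hy
    rw [Set.mem_singleton_iff] at hy
    subst hy
    have h2 := (Subgroup.mem_centralizer_iff.mp hkc) h (Set.mem_singleton h)
    exact h2.symm
  have hFC := Cfsg.Agent.Lib.helper75.isFrobeniusComplement_of_fpf_complement H U hU hH1 hU1 hfpf
  have hpow : ∀ x ∈ U, x ^ d = 1 := by
    intro x hx
    apply hdisj _ _ (U.pow_mem hx d)
    have h1 : ((x : N ⧸ H)) ^ d = 1 := by
      obtain ⟨c, rfl⟩ := hd
      rw [pow_mul, Monoid.pow_exponent_eq_one, one_pow]
    rw [← QuotientGroup.eq_one_iff]
    exact h1
  by_cases hd0 : d = 0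
  · rw [hd0]; exact dvd_zero _
  have hUodd : Odd (Nat.card U) := Odd.of_dvd_nat hodd (Subgroup.card_subgroup_dvd_card U)
  have hcard0 : Nat.card U ≠ 0 := Nat.card_pos.ne'
  rw [← Nat.factorization_prime_le_iff_dvd hcard0 hd0]
  intro q hq
  haveI : Fact q.Prime := ⟨hq⟩
  rw [← hq.pow_dvd_iff_le_factorization hd0]
  have P : Sylow q U := default
  have hPcard : Nat.card P = q ^ (Nat.card U).factorization q := P.card_eq_multiplicity
  rcases Cfsg.Agent.Lib.helper75.frob_sylow_cyclic_or_quat U hFC q P with hcyc | ⟨h2, -⟩
  · obtain ⟨g, hg⟩ := IsCyclic.exists_generator (α := P)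
    have hord : orderOf g = Nat.card P := orderOf_eq_card_of_forall_mem_zpowers hg
    rw [← hPcard, ← hord]
    apply orderOf_dvd_of_pow_eq_one
    have h1 := hpow ((g : U) : N) (g : U).2
    apply Subtype.ext
    apply Subtype.ext
    simpa using h1
  · subst h2
    have h0 : (Nat.card U).factorization 2 = 0 := by
      apply Nat.factorization_eq_zero_of_not_dvd
      exact hUodd.not_two_dvd_nat
    rw [h0, pow_zero]; exact one_dvd d

/-- P3' : the exceptional case of S1535 cannot occur when `|N : H|` divides `p - 1` and `N` has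
odd order. -/
theorem exception_false {N : Type*} [Group N] [Finite N] (hodd : Odd (Nat.card N))
    (H : Subgroup N) (p m : ℕ) (hp : p.Prime) (hcard : Nat.card H = p ^ m)
    (hnc : ¬ IsMulCommutative H)
    (hle : (⁅H, H⁆.subgroupOf H).index ≤ 4 * H.index ^ 2 + 1) (he : H.index ∣ p - 1) : False := by
  have h1 := sq_le_index_commutator H p m hp hcard hnc
  have hm : m ≠ 0 := by
    rintro rfl
    rw [pow_zero] at hcard
    apply hnc
    haveI : Subsingleton H := (Nat.card_eq_one_iff_unique.mp hcard).1
    exact ⟨⟨fun a b => Subsingleton.elim _ _⟩⟩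
  have hpN : p ∣ Nat.card N := by
    have h2 : p ∣ Nat.card H := by rw [hcard]; exact dvd_pow_self p hm
    exact h2.trans (Subgroup.card_subgroup_dvd_card H)
  have hpodd : Odd p := Odd.of_dvd_nat hodd hpN
  have heodd : Odd H.index := Odd.of_dvd_nat hodd (Subgroup.index_dvd_card H)
  have hp2 : 2 ∣ p - 1 := by
    obtain ⟨c, hc⟩ := hpodd
    exact ⟨c, by omega⟩
  have hcop : Nat.Coprime 2 H.index := Nat.coprime_two_left.mpr heodd
  have h2e : 2 * H.index ∣ p - 1 := hcop.mul_dvd_of_dvd_of_dvd hp2 he
  have hp1 : 0 < p - 1 := by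
    have := hp.two_le; omega
  have h3 : 2 * H.index ≤ p - 1 := Nat.le_of_dvd hp1 h2e
  have h4 : p = (p - 1) + 1 := by omega
  set e := H.index
  set q := p - 1
  rw [h4] at h1
  nlinarith
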