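import Mathlib
import Cfsg.Prelude.Def_Characters
import Cfsg.Prelude.Def_OddOrderChar
import Cfsg.Agent.S1500
import Cfsg.Agent.S1501
import Cfsg.Agent.S1535
import Cfsg.Agent.Lib.helper32.Sib1
import Cfsg.Agent.Lib.helper32.Sib2
import Cfsg.Agent.Lib.helper32.FrobKer
import Cfsg.Agent.Lib.helper32.Dade2
import Cfsg.Agent.Lib.helper32.Coh3

/-! S1542 (architect helper65): the Feit coherence theorem for Frobenius groups (S1535) applied
to a Dade map.  `frob_dade_coherent_or` : for a Frobenius kernel `K` of `L` (odd order) whose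
non-identity elements lie in the Dade set `A`, the characters induced from the non-principal
irreducible characters of `K` are irreducible, and they are coherent for the Dade map unless `K`
is a non-abelian `p`-group with small abelianisation. -/

set_option autoImplicit false
set_option linter.unusedSectionVars false

namespace Cfsg.Agent.Lib.helper32.PF1542

open Cfsg

universe u

section Basic

variable {G : Type u} [Group G]

open Classical in
theorem dadeIsometry_add' (A : Set G) (L : Subgroup G) (H : G → Subgroup G) (α β : L → ℂ) :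
    dadeIsometry A L H (α + β) = dadeIsometry A L H α + dadeIsometry A L H β := by
  funext g
  unfold dadeIsometry
  by_cases h : ∃ a : ↥L, (a : G) ∈ A ∧ ∃ x : G, ∃ u ∈ H (a : G), x * g * x⁻¹ = (a : G) * u
  · simp only [Pi.add_apply, dif_pos h]
  · simp only [Pi.add_apply, dif_neg h, add_zero]

open Classical in
theorem dadeIsometry_zsmul' (A : Set G) (L : Subgroup G) (H : G → Subgroup G) (n : ℤ)
    (α : L → ℂ) : dadeIsometry A L H (n • α) = n • dadeIsometry A L H α := by
  funext g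
  unfold dadeIsometry
  by_cases h : ∃ a : ↥L, (a : G) ∈ A ∧ ∃ x : G, ∃ u ∈ H (a : G), x * g * x⁻¹ = (a : G) * u
  · simp only [Pi.smul_apply, dif_pos h]
  · simp only [Pi.smul_apply, dif_neg h, smul_zero]

theorem dadeIsometry_apply_one (A : Set G) (L : Subgroup G) (H : G → Subgroup G)
    (hD : DadeHypothesis A L H) (α : L → ℂ) : dadeIsometry A L H α 1 = 0 := by
  apply Cfsg.Agent.Lib.helper32.dadeIsometry_apply_of_not
  rintro ⟨a, ha, u, hu, x, hx⟩
  have h1 : a * u = 1 := by rw [← hx]; group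
  have hau : u⁻¹ = a := (eq_inv_of_mul_eq_one_left h1).symm
  have haH : a ∈ H a := by
    have h2 := (H a).inv_mem hu
    rwa [hau] at h2
  have hmem : a ∈ H a ⊓ (L ⊓ Subgroup.centralizer ({a} : Set G)) := by
    have hc : a ∈ Subgroup.centralizer ({a} : Set G) := by
      rw [Subgroup.mem_centralizer_iff]
      intro y hy
      rw [Set.mem_singleton_iff] at hy
      rw [hy]
    exact Subgroup.mem_inf.mpr ⟨haH, Subgroup.mem_inf.mpr ⟨hD.subset ha, hc⟩⟩
  rw [hD.inf_eq_bot a ha] at hmem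
  have h3 : a = 1 := Subgroup.mem_bot.mp hmem
  rw [h3] at ha
  exact hD.one_not_mem ha

end Basic

section Frob

variable {N : Type u} [Group N] [Fintype N] (K : Subgroup N) [K.Normal]

/-- Centraliser form of the Frobenius condition. -/
theorem frob_comm_form (hC : ∀ k ∈ K, k ≠ 1 → Subgroup.centralizer ({k} : Set N) ≤ K) :
    ∀ k ∈ K, k ≠ 1 → ∀ x : N, x * k = k * x → x ∈ K := by
  intro k hk hk1 x hx
  apply hC k hk hk1
  rw [Subgroup.mem_centralizer_iff]
  intro y hy
  rw [Set.mem_singleton_iff] at hy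
  rw [hy]; exact hx.symm

/-- Functions induced from the non-principal irreducible characters of a Frobenius kernel are
irreducible. -/
theorem frob_induced_irr (hC : ∀ k ∈ K, k ≠ 1 → Subgroup.centralizer ({k} : Set N) ≤ K) :
    ∀ χ ∈ inducedIrrAbove K ⊥, IsIrrCharacter N χ := by
  rintro χ ⟨θ, hθ, hne, -, rfl⟩
  exact Cfsg.Agent.Lib.helper32.frobC_irr K (frob_comm_form K hC) hθ hne

/-- For a Frobenius kernel `K` of `N`, the functions induced from the non-principal irreducible
characters of `K` are exactly the irreducible characters of `N` not constant on `K`. -/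
theorem frob_induced_set_eq (hC : ∀ k ∈ K, k ≠ 1 → Subgroup.centralizer ({k} : Set N) ≤ K) :
    inducedIrrAbove K ⊥ = {χ : N → ℂ | IsIrrCharacter N χ ∧ ∃ h ∈ K, χ h ≠ χ 1} := by
  classical
  ext χ
  constructor
  · intro hχ
    have hχirr := frob_induced_irr K hC χ hχ
    refine ⟨hχirr, ?_⟩
    obtain ⟨θ, hθ, hne, -, rfl⟩ := hχ
    by_contra hcon
    push Not at hcon
    have hsum := Cfsg.Agent.Lib.helper32.sum_indFun_normal K θ
    have h0 : classInner θ (fun _ => (1 : ℂ)) = 0 :=
      Cfsg.Agent.Lib.helper4.classInner_irr_ne hθ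
        Cfsg.Agent.Lib.helper83.isIrrCharacter_one hne
    have hK0 : (Nat.card K : ℂ) ≠ 0 := by
      have : Nat.card K ≠ 0 := Nat.card_pos.ne'
      exact_mod_cast this
    have h1 : ∑ k : K, θ k = 0 := by
      unfold classInner at h0
      rcases mul_eq_zero.mp h0 with h | h
      · exact absurd h (inv_ne_zero hK0)
      · simpa using h
    rw [h1, mul_zero] at hsum
    have h2 : ∑ k : K, indFun K θ (k : N) = (Nat.card K : ℂ) * indFun K θ 1 := by
      rw [Finset.sum_congr rfl (fun (k : K) _ => hcon (k : N) k.2), Finset.sum_const,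
        Finset.card_univ, nsmul_eq_mul, Nat.card_eq_fintype_card]
    rw [h2] at hsum
    obtain ⟨d, hd, hd1, -⟩ := Cfsg.Agent.Lib.helper32.irr_degree_nat_dvd hχirr
    rw [hd1] at hsum
    have hd0 : (d : ℂ) ≠ 0 := by exact_mod_cast hd.ne'
    exact (mul_ne_zero hK0 hd0) hsum
  · rintro ⟨hχ, hrel⟩
    obtain ⟨φ, hφ, hφ1, rfl⟩ := Cfsg.Agent.Lib.helper32.relevant_eq_ind K hC hχ hrel
    refine ⟨φ, hφ, hφ1, fun a ha => ?_, rfl⟩
    have h1 : (a : N) = 1 := Subgroup.mem_bot.mp ha
    have h2 : a = 1 := Subtype.ext h1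
    rw [h2]

/-- Integer combinations, vanishing at `1`, of the characters induced from a Frobenius kernel
`K` are virtual characters vanishing off `K` and at `1`. -/
theorem frob_zspanOn_facts (hC : ∀ k ∈ K, k ≠ 1 → Subgroup.centralizer ({k} : Set N) ≤ K)
    {α : N → ℂ} (hα : α ∈ zspanOn (inducedIrrAbove K ⊥) {1}ᶜ) :
    IsGeneralizedCharacter N α ∧ IsClassFunction N α ∧ ∀ x : N, (x ∉ K ∨ x = 1) → α x = 0 := by
  have hchar : ∀ ξ ∈ inducedIrrAbove K ⊥, IsCharacter N ξ :=
    fun ξ hξ => Cfsg.Agent.Lib.helper4.isCharacter_of_isIrrCharacter (frob_induced_irr K hC ξ hξ)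
  have hgen : IsGeneralizedCharacter N α :=
    Cfsg.Agent.Lib.helper32.zspan_isGeneralizedCharacter hchar hα.1
  refine ⟨hgen, Cfsg.Agent.Lib.helper4.isClassFunction_of_isGeneralizedCharacter hgen, ?_⟩
  intro x hx
  by_cases hx1 : x = 1
  · rw [hx1]; exact hα.2 1 (by simp)
  · have hxK : x ∉ K := hx.resolve_right hx1
    apply Cfsg.Agent.Lib.helper32.zspan_apply_eq_zero _ hα.1
    rintro χ ⟨θ, -, -, -, rfl⟩
    exact Cfsg.Agent.Lib.helper32.indFun_normal_apply_of_not_mem K θ hxK

end Frob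

/-- The wrapper: S1535 for the Dade map. -/
theorem frob_dade_coherent_or {G : Type u} [Group G] [Fintype G] (L : Subgroup G) [Fintype L]
    (K : Subgroup L) [K.Normal] (hK1 : K ≠ ⊥) (hK2 : K ≠ ⊤)
    (hC : ∀ k ∈ K, k ≠ 1 → Subgroup.centralizer ({k} : Set L) ≤ K) (hodd : Odd (Nat.card L))
    (A : Set G) (R : G → Subgroup G) (hD : DadeHypothesis A L R)
    (hA : ∀ x : L, x ∈ K → x ≠ 1 → (x : G) ∈ A) :
    (∀ χ ∈ inducedIrrAbove K ⊥, IsIrrCharacter L χ) ∧
    (IsCoherent (inducedIrrAbove K ⊥) {1}ᶜ (dadeIsometry A L R) ∨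
      ∃ p : ℕ, p.Prime ∧ (∃ m : ℕ, Nat.card K = p ^ m) ∧ ¬ IsMulCommutative K ∧
        (⁅K, K⁆.subgroupOf K).index ≤ 4 * K.index ^ 2 + 1) := by
  classical
  refine ⟨frob_induced_irr K hC, ?_⟩
  have hfacts : ∀ α ∈ zspanOn (inducedIrrAbove K ⊥) {1}ᶜ,
      IsGeneralizedCharacter L α ∧ IsClassFunction L α ∧ ∀ x : L, (x : G) ∉ A → α x = 0 := by
    intro α hα
    obtain ⟨h1, h2, h3⟩ := frob_zspanOn_facts K hC hα
    refine ⟨h1, h2, fun x hx => h3 x ?_⟩
    by_cases hx1 : x = 1
    · exact Or.inr hx1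
    · exact Or.inl (fun h => hx (hA x h hx1))
  have hτ : IsLinearIsometryOn (zspanOn (inducedIrrAbove K ⊥) {1}ᶜ) (dadeIsometry A L R) := by
    refine ⟨fun α _ β _ => dadeIsometry_add' A L R α β,
      fun α _ n => dadeIsometry_zsmul' A L R n α, ?_, ?_⟩
    · intro α hα β hβ
      exact (Cfsg.Agent.S1500.result A L R hD α (hfacts α hα).2.1 (hfacts α hα).2.2).1 β
        (hfacts β hβ).2.1 (hfacts β hβ).2.2
    · intro α hα
      exact Cfsg.Agent.S1501.result A L R hD α (hfacts α hα).1 (hfacts α hα).2.2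
  have hτ1 : ∀ α ∈ zspanOn (inducedIrrAbove K ⊥) {1}ᶜ, dadeIsometry A L R α 1 = 0 :=
    fun α _ => dadeIsometry_apply_one A L R hD α
  have he : Nat.card K ≠ K.index + 1 := by
    have h1 : Odd (Nat.card K) := Odd.of_dvd_nat hodd (Subgroup.card_subgroup_dvd_card K)
    have h2 : Odd K.index := Odd.of_dvd_nat hodd (Subgroup.index_dvd_card K)
    intro h
    rw [h] at h1
    obtain ⟨a, ha⟩ := h1
    obtain ⟨b, hb⟩ := h2
    omega
  rw [frob_induced_set_eq K hC] at hτ hτ1 ⊢
  exact Cfsg.Agent.S1535.result K hK1 hK2 hC he (dadeIsometry A L R) hτ hτ1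

end Cfsg.Agent.Lib.helper32.PF1542
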