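import Mathlib
import Cfsg.Prelude.Def_Characters
import Cfsg.Prelude.Def_OddOrderChar
import Cfsg.Prelude.Def_OddOrderLocal
import Cfsg.Prelude.Def_OddOrder
import Cfsg.Agent.S1537
import Cfsg.Agent.Lib.helper32.PF1542G
import Cfsg.Agent.Lib.helper32.PF1542D
import Cfsg.Agent.Lib.helper32.PF1542W
import Cfsg.Agent.Lib.helper32.Sib5
import Cfsg.Agent.Lib.helper65.BGType2

/-! S1542: coherence of the characters induced from `L_F` for a Frobenius maximal subgroup `L`
of Type I, with respect to the Dade map of `(A(L), L, R)`.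
Assembly: S1537 (Dade's hypothesis) + S1535 (Feit's coherence theorem, through the wrapper
`frob_dade_coherent_or`); the exceptional case of S1535 is handled by the Type I alternatives:
`L_F` a TI-subset (Sibley's theorem + the Dade map is induction), `L_F` abelian (impossible),
exponent condition (`|L : L_F|` divides `p - 1`, impossible by counting). -/

set_option autoImplicit false

namespace Cfsg.Agent.Lib.helper32.PF1542

open Cfsg

universe u

theorem s1542_main {G : Type u} [Group G] [Fintype G] (hG : IsMinSimpleOddOrder G)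
    (L : Subgroup G) [Fintype L] (hL : IsCoatom L) (hI : IsOfTypeI L)
    (hfrob : ∀ x ∈ fittingHallOf L, x ≠ 1 →
      L ⊓ Subgroup.centralizer ({x} : Set G) ≤ fittingHallOf L) :
    (∀ χ ∈ inducedIrrAbove (fittingHall L) ⊥, IsIrrCharacter L χ) ∧
      IsCoherent (inducedIrrAbove (fittingHall L) ⊥) {1}ᶜ
        (dadeIsometry (typeA L) L (supportR L)) := by
  classical
  have hI' := hI
  obtain ⟨hF, hcase⟩ := hI
  obtain ⟨-, hodd, hK1, hK2, U, -, hUc, -, -⟩ := hF
  have hmemK : ∀ x : L, x ∈ fittingHall L ↔ (x : G) ∈ fittingHallOf L := by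
    intro x
    constructor
    · intro hx
      exact Subgroup.mem_map_of_mem L.subtype hx
    · intro hx
      obtain ⟨y, hy, hyx⟩ := Subgroup.mem_map.mp hx
      have h1 : y = x := Subtype.ext hyx
      rw [← h1]; exact hy
  have hC : ∀ k ∈ fittingHall L, k ≠ 1 →
      Subgroup.centralizer ({k} : Set L) ≤ fittingHall L := by
    intro k hk hk1 x hx
    rw [hmemK]
    apply hfrob (k : G) ((hmemK k).mp hk) (fun h => hk1 (Subtype.ext h))
    refine Subgroup.mem_inf.mpr ⟨x.2, ?_⟩
    rw [Subgroup.mem_centralizer_iff]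
    intro y hy
    rw [Set.mem_singleton_iff] at hy
    rw [hy]
    have h1 := (Subgroup.mem_centralizer_iff.mp hx) k (Set.mem_singleton k)
    exact congrArg Subtype.val h1
  have hD : DadeHypothesis (typeA L) L (supportR L) :=
    (Cfsg.Agent.S1537.result hG L hL (typeA L) (Or.inr (Or.inl rfl))).2
  have htypeA : typeA L =
      {a | a ∈ L ∧ a ≠ 1 ∧ ∃ x ∈ fittingHallOf L, x ≠ 1 ∧ a * x = x * a} := by
    unfold typeA
    rw [if_pos hI']
  have hA : ∀ x : L, x ∈ fittingHall L → x ≠ 1 → (x : G) ∈ typeA L := by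
    intro x hx hx1
    rw [htypeA]
    have hx1' : (x : G) ≠ 1 := fun h => hx1 (Subtype.ext h)
    exact ⟨x.2, hx1', (x : G), (hmemK x).mp hx, hx1', rfl⟩
  obtain ⟨hirr, hcoh | ⟨p, hp, ⟨m, hm⟩, hnc, hle⟩⟩ :=
    frob_dade_coherent_or L (fittingHall L) hK1 hK2 hC hodd (typeA L) (supportR L) hD hA
  · exact ⟨hirr, hcoh⟩
  refine ⟨hirr, ?_⟩
  have hcardHg : Nat.card (fittingHallOf L) = Nat.card (fittingHall L) := by
    unfold fittingHallOf
    exact Subgroup.card_map_of_injective L.subtype_injective
  rcases hcase with hTI | ⟨hab, -, -⟩ | ⟨hexp, -⟩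
  · -- `L_F` is a TI-subset: Sibley's theorem, and the Dade map is induction
    have hHgL : fittingHallOf L ≤ L := by
      intro g hg
      obtain ⟨y, -, rfl⟩ := Subgroup.mem_map.mp hg
      exact y.2
    have hne1 : ∃ x ∈ (fittingHallOf L : Set G), x ≠ 1 := by
      obtain ⟨k, hk1⟩ := (Subgroup.ne_bot_iff_exists_ne_one).mp hK1
      exact ⟨(k.1 : G), (hmemK k.1).mp k.2, fun h => hk1 (Subtype.ext (Subtype.ext h))⟩
    have hnormal : ∀ x ∈ L, ∀ h ∈ fittingHallOf L, x * h * x⁻¹ ∈ fittingHallOf L := by
      intro x hx h hh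
      obtain ⟨k, hk, rfl⟩ := Subgroup.mem_map.mp hh
      have hn : (fittingHall L).Normal := inferInstance
      have h1 := hn.conj_mem k hk ⟨x, hx⟩
      exact (hmemK _).mp h1
    have hN : Subgroup.normalizer (fittingHallOf L : Set G) = L :=
      Cfsg.Agent.Lib.helper65.BGType2.normalizer_eq_of_coatom hG.2.1 hL hHgL hne1 hnormal
    have hcent : ∀ h ∈ fittingHallOf L, h ≠ 1 → ∀ x ∈ L, x * h = h * x →
        x ∈ fittingHallOf L := by
      intro h hh hh1 x hx hcomm
      apply hfrob h hh hh1
      refine Subgroup.mem_inf.mpr ⟨hx, ?_⟩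
      rw [Subgroup.mem_centralizer_iff]
      intro y hy
      rw [Set.mem_singleton_iff] at hy
      rw [hy]; exact hcomm.symm
    have hlt : fittingHallOf L < L := by
      refine lt_of_le_of_ne hHgL ?_
      intro h
      apply hK2
      rw [eq_top_iff]
      intro x _
      rw [hmemK, h]; exact x.2
    have hne_bot : fittingHallOf L ≠ ⊥ := by
      obtain ⟨x, hx, hx1⟩ := hne1
      intro h
      have hx' : x ∈ fittingHallOf L := hx
      rw [h] at hx'
      exact hx1 (Subgroup.mem_bot.mp hx')
    have : Fact p.Prime := ⟨hp⟩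
    have hnil : Group.IsNilpotent (fittingHallOf L) := by
      have hPG : IsPGroup p (fittingHallOf L) := IsPGroup.of_card (hcardHg.trans hm)
      exact hPG.isNilpotent
    have hsib := Cfsg.Agent.Lib.helper32.sibley (H := fittingHallOf L) (L := L)
      ⟨hlt, hne_bot, hnormal, hcent, hTI, hN⟩ hodd hnil
    have hsub : (fittingHallOf L).subgroupOf L = fittingHall L := by
      ext x
      rw [Subgroup.mem_subgroupOf, hmemK]
    rw [hsub] at hsib
    obtain ⟨hex, τ₁, hiso, hext⟩ := hsib
    refine ⟨hex, τ₁, hiso, fun α hα => ?_⟩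
    rw [hext α hα]
    obtain ⟨-, hcl, hvan⟩ := frob_zspanOn_facts (fittingHall L) hC hα
    symm
    apply dade_eq_indFun (typeA L) L (supportR L) hD _ α hcl
    · intro x hx
      apply hvan
      by_cases hx1 : x = 1
      · exact Or.inr hx1
      · exact Or.inl (fun h => hx (hA x h hx1))
    · intro a ha
      rw [htypeA] at ha
      obtain ⟨haL, ha1, x, hx, hx1, hax⟩ := ha
      have haH : a ∈ fittingHallOf L := hcent x hx hx1 a haL hax
      have hCa : Subgroup.centralizer ({a} : Set G) ≤ L := by
        intro c hc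
        have hca : c * a * c⁻¹ = a := by
          have h1 := (Subgroup.mem_centralizer_iff.mp hc) a (Set.mem_singleton a)
          rw [← h1]; group
        by_contra hcL
        have hcN : c ∉ Subgroup.normalizer (fittingHallOf L : Set G) := by
          rw [hN]; exact hcL
        exact ha1 (hTI c hcN a haH (by rw [hca]; exact haH))
      unfold supportR
      rw [dif_neg]
      intro h
      exact h.1 hCa
  · -- `L_F` abelian: impossible
    exfalso
    apply hnc
    refine ⟨⟨fun a b => ?_⟩⟩
    have h1 := hab.is_comm.comm (⟨(a.1 : G), (hmemK a.1).mp a.2⟩ : fittingHallOf L)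
      ⟨(b.1 : G), (hmemK b.1).mp b.2⟩
    have h2 : (a.1.1 : G) * b.1.1 = b.1.1 * a.1.1 := congrArg Subtype.val h1
    apply Subtype.ext
    apply Subtype.ext
    exact h2
  · -- exponent condition: impossible by counting
    exfalso
    have hm0 : m ≠ 0 := by
      rintro rfl
      rw [pow_zero] at hm
      exact hK1 (Subgroup.card_eq_one.mp hm)
    have hpd : p ∣ Nat.card (fittingHallOf L) := by
      rw [hcardHg, hm]; exact dvd_pow_self p hm0
    have he := index_dvd_of_exponent_dvd hodd (fittingHall L) hK1 hC U hUc (p - 1)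
      (hexp p hp hpd)
    exact exception_false hodd (fittingHall L) p m hp hm hnc hle he

end Cfsg.Agent.Lib.helper32.PF1542
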