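import Mathlib
import Cfsg.Prelude.Def_FusionSystem
import Cfsg.Prelude.Def_EvenType

set_option autoImplicit false

/-! S5238 BLOCK F, piece FD3 (racer copy by helper32, prefixed `h32_`). -/

namespace Cfsg.Agent.Lib.helper88.PearlF

open Cfsg Cfsg.FusionSystem

/-- FD3 (racer copy): a finite group with a normal Sylow `p`-subgroup has no strongly
`p`-embedded subgroup; the same for all its quotients. -/
theorem h32_not_stronglyPEmbedded_of_normal_sylow {X : Type*} [Group X] [Finite X] (p : ℕ)
    [Fact p.Prime] (P : Sylow p X) (hP : (P : Subgroup X).Normal) (N : Subgroup X) [N.Normal]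
    (Y : Subgroup (X ⧸ N)) : ¬ IsStronglyPEmbedded p Y := by
  rintro ⟨hdvd, hY, Q, hQ⟩
  have hp : p.Prime := Fact.out
  have hsurj : Function.Surjective (QuotientGroup.mk' N) := QuotientGroup.mk'_surjective N
  -- the image of `P` is a normal Sylow subgroup of the quotient
  have hPn : ((P.mapSurjective hsurj : Sylow p (X ⧸ N)) : Subgroup (X ⧸ N)).Normal := by
    rw [Sylow.coe_mapSurjective]
    exact Subgroup.Normal.map hP _ hsurj
  have hsub : Subsingleton (Sylow p (X ⧸ N)) :=
    (Sylow.unique_of_normal _ hPn).instSubsingleton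
  have hQe : Q = P.mapSurjective hsurj := Subsingleton.elim _ _
  have hQn : (Q : Subgroup (X ⧸ N)).Normal := by rw [hQe]; exact hPn
  -- `Q` is nontrivial: it contains an element of order `p`
  obtain ⟨g, hg⟩ := exists_prime_orderOf_dvd_card' (G := X ⧸ N) p hdvd
  have hgp : IsPGroup p (Subgroup.zpowers g) := by
    apply IsPGroup.of_card (n := 1)
    rw [Nat.card_zpowers, hg, pow_one]
  obtain ⟨Q', hQ'⟩ := hgp.exists_le_sylow
  have hQ'e : Q' = Q := Subsingleton.elim _ _
  have hgQ : Subgroup.zpowers g ≤ (Q : Subgroup (X ⧸ N)) := hQ'e ▸ hQ'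
  -- so the normalizer of `Q` (the whole group) lies in the 1-generated core
  have hrank : ¬ PRankLE p (1 - 1) (Q : Subgroup (X ⧸ N)) := by
    intro hr
    have h1 := hr ((Subgroup.zpowers g).subgroupOf (Q : Subgroup (X ⧸ N)))
      (by
        constructor
        constructor
        rintro ⟨⟨a, ha⟩, ha'⟩ ⟨⟨b, hb⟩, hb'⟩
        rw [Subgroup.mem_subgroupOf] at ha' hb'
        simp only at ha' hb'
        obtain ⟨i, rfl⟩ := Subgroup.mem_zpowers_iff.mp ha'
        obtain ⟨j, rfl⟩ := Subgroup.mem_zpowers_iff.mp hb'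
        apply Subtype.ext
        apply Subtype.ext
        simp only [Subgroup.coe_mul]
        exact (Commute.zpow_zpow (Commute.refl g) i j).eq)
      (by
        rintro ⟨a, ha⟩ ha'
        rw [Subgroup.mem_subgroupOf] at ha'
        simp only at ha'
        obtain ⟨i, rfl⟩ := Subgroup.mem_zpowers_iff.mp ha'
        apply Subtype.ext
        simp only [Subgroup.coe_pow, Subgroup.coe_one]
        rw [← zpow_natCast, ← zpow_mul, mul_comm, zpow_mul, zpow_natCast, ← hg, pow_orderOf_eq_one,
          one_zpow])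
    have h2 : Nat.card ((Subgroup.zpowers g).subgroupOf (Q : Subgroup (X ⧸ N))) = p := by
      rw [Nat.card_congr (Subgroup.subgroupOfEquivOfLe hgQ).toEquiv, Nat.card_zpowers, hg]
    rw [h2] at h1
    simp only [Nat.sub_self, pow_zero] at h1
    exact absurd h1 (not_le.mpr hp.one_lt)
  have hle : Subgroup.normalizer (((Q : Subgroup (X ⧸ N)) : Subgroup (X ⧸ N)) : Set (X ⧸ N)) ≤
      kGeneratedCore p 1 (Q : Subgroup (X ⧸ N)) := by
    unfold kGeneratedCore
    exact le_iSup (fun R : {R : Subgroup (X ⧸ N) // R ≤ (Q : Subgroup (X ⧸ N)) ∧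
      ¬ PRankLE p (1 - 1) R} => Subgroup.normalizer ((R : Subgroup (X ⧸ N)) : Set (X ⧸ N)))
      ⟨(Q : Subgroup (X ⧸ N)), le_refl _, hrank⟩
  have htop : Subgroup.normalizer ((Q : Subgroup (X ⧸ N)) : Set (X ⧸ N)) = ⊤ :=
    Subgroup.normalizer_eq_top_iff.mpr hQn
  apply hY
  rw [eq_top_iff, ← htop]
  exact hle.trans hQ

end Cfsg.Agent.Lib.helper88.PearlF
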