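import Mathlib
import Cfsg.Agent.Lib.helper68.HallPet
import Cfsg.Agent.Lib.helper15.MaxClass

/-! S5238 BLOCK G (helper33's split), pieces A2 and A3 (helper32). -/

set_option autoImplicit false

namespace Cfsg.Agent.Lib.helper33.PearlG

open Cfsg.Agent.Lib.helper68

variable {G : Type*} [Group G] [Finite G]

/-- A2. A `p`-group of order `≥ p ^ 2` has derived subgroup of index `≥ p ^ 2`. -/
theorem card_gam2_le (p : ℕ) [Fact p.Prime] (n : ℕ) (hG : Nat.card G = p ^ n) (hn : 2 ≤ n) :
    Nat.card (gam G 2) ≤ p ^ (n - 2) := by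
  have hp : p.Prime := Fact.out
  have h1 : gam G 2 = commutator G := rfl
  obtain ⟨c, hc⟩ := Cfsg.Agent.Lib.helper15.MaxClass.sq_dvd_index_commutator hG hn
  have hcm := Subgroup.card_mul_index (commutator G)
  rw [hG, hc] at hcm
  have hc0 : 0 < c := by
    rcases Nat.eq_zero_or_pos c with h0 | h0
    · rw [h0, mul_zero, mul_zero] at hcm
      exact absurd hcm.symm (pow_pos hp.pos n).ne'
    · exact h0
  have e : p ^ n = p ^ (n - 2) * p ^ 2 := by
    rw [← pow_add]
    congr 1
    omega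
  rw [h1]
  have h2 : Nat.card (commutator G) * p ^ 2 ≤ p ^ (n - 2) * p ^ 2 := by
    rw [← e, ← hcm]
    calc Nat.card (commutator G) * p ^ 2 = Nat.card (commutator G) * (p ^ 2 * 1) := by rw [mul_one]
      _ ≤ Nat.card (commutator G) * (p ^ 2 * c) :=
        Nat.mul_le_mul_left _ (Nat.mul_le_mul_left _ hc0)
  exact Nat.le_of_mul_le_mul_right h2 (pow_pos hp.pos 2)

/-- A3. -/
theorem surj_card (p : ℕ) [Fact p.Prime] (n : ℕ) (hG : Nat.card G = p ^ n) (x : G)
    (hC : Nat.card (Subgroup.centralizer ({x} : Set G)) = p ^ 2)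
    (hr : (Set.range (fun g : G => com x g)).ncard * p ^ 2 = p ^ n)
    (hle : 2 ≤ n → Nat.card (gam G 2) ≤ p ^ (n - 2)) :
    2 ≤ n ∧ Nat.card (gam G 2) = p ^ (n - 2) ∧ ∀ m ∈ gam G 2, ∃ g : G, com x g = m := by
  have hp : p.Prime := Fact.out
  have hn : 2 ≤ n := by
    have h1 : Nat.card (Subgroup.centralizer ({x} : Set G)) ≤ Nat.card G :=
      Subgroup.card_le_card_group _
    rw [hC, hG] at h1
    exact (Nat.pow_le_pow_iff_right hp.one_lt).mp h1
  have e : p ^ n = p ^ (n - 2) * p ^ 2 := by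
    rw [← pow_add]
    congr 1
    omega
  have hrc : (Set.range (fun g : G => com x g)).ncard = p ^ (n - 2) := by
    rw [e] at hr
    exact Nat.eq_of_mul_eq_mul_right (pow_pos hp.pos 2) hr
  have htop : ∀ g : G, g ∈ gam G 1 := by
    intro g
    unfold gam
    simp
  have hsub : Set.range (fun g : G => com x g) ⊆ ((gam G 2 : Subgroup G) : Set G) := by
    rintro _ ⟨g, rfl⟩
    exact com_mem (htop x) (htop g)
  have hfin : ((gam G 2 : Subgroup G) : Set G).Finite := Set.toFinite _
  have hcard2 : ((gam G 2 : Subgroup G) : Set G).ncard = Nat.card (gam G 2) := by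
    rw [← Nat.card_coe_set_eq]
    rfl
  have hle2 : ((gam G 2 : Subgroup G) : Set G).ncard ≤ (Set.range (fun g : G => com x g)).ncard := by
    rw [hcard2, hrc]
    exact hle hn
  have heq : Set.range (fun g : G => com x g) = ((gam G 2 : Subgroup G) : Set G) :=
    Set.eq_of_subset_of_ncard_le hsub hle2 hfin
  refine ⟨hn, ?_, ?_⟩
  · rw [← hcard2, ← heq, hrc]
  · intro m hm
    have hm' : m ∈ Set.range (fun g : G => com x g) := by
      rw [heq]
      exact hm
    obtain ⟨g, hg⟩ := hm'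
    exact ⟨g, hg⟩

end Cfsg.Agent.Lib.helper33.PearlG
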