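import Mathlib
import Cfsg.Agent.Lib.helper68.HallPet
import Cfsg.Agent.Lib.helper15.MaxClass
import Cfsg.Agent.S0112

set_option autoImplicit false

/-! S5238 BLOCK G (helper65's split S5238G), piece K1 (racer copy by helper32, prefixed `h32_`). -/

namespace Cfsg.Agent.Lib.helper65.PearlG

open Cfsg.Agent.Lib.helper68

variable {G : Type*} [Group G] [Finite G]

/-- K1 (racer copy). Maximal class: `card (gam G i) = p ^ (n - i)` for `2 ≤ i ≤ n`. -/
theorem h32_pg_card (p : ℕ) [Fact p.Prime] (n : ℕ) (hG : Nat.card G = p ^ n) (x : G)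
    (hC : Nat.card (Subgroup.centralizer ({x} : Set G)) = p ^ 2) (i : ℕ) (hi : 2 ≤ i)
    (hin : i ≤ n) : Nat.card (gam G i) = p ^ (n - i) := by
  have hp : p.Prime := Fact.out
  obtain ⟨A, hAdef⟩ : ∃ A : Subgroup G, A = Subgroup.centralizer ({x} : Set G) := ⟨_, rfl⟩
  have hA : Nat.card A = p ^ 2 := by rw [hAdef]; exact hC
  have hxA : x ∈ A := by
    rw [hAdef, Subgroup.mem_centralizer_iff]
    intro y hy
    rw [Set.mem_singleton_iff] at hy
    rw [hy]
  -- `A` is abelian (order `p²`)
  have hAcomm : ∀ a ∈ A, ∀ b ∈ A, a * b = b * a := by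
    intro a ha b hb
    have hAm : IsMulCommutative A := IsPGroup.isMulCommutative_of_card_eq_prime_sq hA
    have hc : ∀ u v : A, u * v = v * u := fun u v => hAm.is_comm.comm u v
    have := hc ⟨a, ha⟩ ⟨b, hb⟩
    exact congrArg Subtype.val this
  have hCA : Subgroup.centralizer (A : Set G) = A := by
    apply le_antisymm
    · intro g hg
      rw [hAdef, Subgroup.mem_centralizer_iff]
      intro y hy
      rw [Set.mem_singleton_iff] at hy
      rw [hy]
      exact (Subgroup.mem_centralizer_iff.mp hg) x hxA
    · intro a ha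
      rw [Subgroup.mem_centralizer_iff]
      intro b hb
      exact hAcomm b hb a ha
  have hcl : Group.nilpotencyClass G = n - 1 := Cfsg.Agent.S0112.result n hG A hA hCA
  have hcm := Subgroup.card_mul_index (gam G i)
  rw [hG] at hcm
  have hpos : 0 < p := hp.pos
  rcases Nat.lt_or_ge n 3 with hn | hn
  · -- `n = 2`: `G` is abelian
    have hi2 : i = 2 := by omega
    have hn2 : n = 2 := by omega
    subst hi2
    subst hn2
    have hGm : IsMulCommutative G := IsPGroup.isMulCommutative_of_card_eq_prime_sq hG
    have hGc : ∀ a b : G, a * b = b * a := fun a b => hGm.is_comm.comm a b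
    have hbot : gam G 2 = ⊥ := by
      unfold gam
      have h1 : (⊤ : Subgroup G).lowerCentralSeries (2 - 1) = commutator G := rfl
      rw [h1, commutator_def, Subgroup.commutator_eq_bot_iff_le_centralizer]
      intro a _
      rw [Subgroup.mem_centralizer_iff]
      intro b _
      exact hGc b a
    rw [hbot]
    simp
  · have hidx : ((⊤ : Subgroup G).lowerCentralSeries (i - 1)).index = p ^ (i - 1 + 1) :=
      Cfsg.Agent.Lib.helper15.MaxClass.index_lcs_of_maxClass hG hcl hn (i - 1) (by omega) (by omega)
    have hidx' : (gam G i).index = p ^ i := by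
      unfold gam
      rw [hidx]
      congr 1
      omega
    rw [hidx'] at hcm
    have e : p ^ n = p ^ (n - i) * p ^ i := by
      rw [← pow_add]
      congr 1
      omega
    rw [e] at hcm
    exact Nat.eq_of_mul_eq_mul_right (pow_pos hpos i) hcm

end Cfsg.Agent.Lib.helper65.PearlG
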