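import Mathlib
import Cfsg.Agent.Lib.helper68.HallPet
import Cfsg.Agent.Lib.helper65.PearlPow
import Cfsg.Agent.Lib.helper32.PearlGK1
import Cfsg.Agent.Lib.helper37.PearlGK23
import Cfsg.Agent.Lib.helper40.PearlGK4core
import Cfsg.Agent.Lib.helper39.PearlGK5core
import Cfsg.Agent.Lib.helper69.PearlGK7core
import Cfsg.Agent.Lib.helper5.PearlK9A
import Cfsg.Agent.Lib.helper36.PearlGK9B
import Cfsg.Agent.Lib.helper36.PearlGHP
import Cfsg.Agent.Lib.helper97.PearlF4Base

/-! S5238 BLOCK G (helper65's split S5238G): racer copies (prefixed `h32_`) of the wrappers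
K4 `pg_uniserial`, K5 `pg_F3`, K6 `pg_F4_base`, K7 `pg_F4_step` and of the assembly `pg_F4`,
built on the landed cores and on `h32_pg_card`. -/

set_option autoImplicit false

namespace Cfsg.Agent.Lib.helper65.PearlG

open Cfsg.Agent.Lib.helper68 Cfsg.Agent.Lib.helper65.PearlPow

variable {G : Type*} [Group G] [Finite G]

/-- K4 (racer copy). -/
theorem h32_pg_uniserial (p : ℕ) [Fact p.Prime] (n : ℕ) (hG : Nat.card G = p ^ n) (x : G)
    (hC : Nat.card (Subgroup.centralizer ({x} : Set G)) = p ^ 2) (i : ℕ) (hi : 2 ≤ i)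
    (hin : i + 2 ≤ n) (m : G) (hm : m ∈ gam G i) (hm' : m ∉ gam G (i + 1)) :
    com m x ∉ gam G (i + 2) :=
  h40_pg_uniserial_core p n hG x hC (fun j hj hjn => h32_pg_card p n hG x hC j hj hjn)
    i hi hin m hm hm'

/-- K5 (racer copy). -/
theorem h32_pg_F3 (p : ℕ) [Fact p.Prime] (hp2 : p ≠ 2) (n : ℕ) (hG : Nat.card G = p ^ n) (x : G)
    (hx : x ^ p = 1) (hC : Nat.card (Subgroup.centralizer ({x} : Set G)) = p ^ 2) (i : ℕ)
    (hi : 2 ≤ i) (m : G) (hm : m ∈ gam G i) : m ^ p ∈ gam G (i + p - 1) := by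
  have hGp : IsPGroup p G := IsPGroup.of_card hG
  refine h39_pg_F3_core p n hG x hx hC (fun j hj hjn => h32_pg_card p n hG x hC j hj hjn)
    ?_ (fun T j h2 k hk a ha => pg_lcs_sub_add T j h2 k hk a ha)
    (fun T N hM a b ha hb => pg_hp p hGp T N hM a b ha hb) i hi m hm
  intro hn m' hm'
  obtain ⟨g, -, hg⟩ := pg_com_surj p n hG x hC 1 le_rfl (by omega) m' hm'
  exact ⟨g, hg⟩

/-- K6 (racer copy). -/
theorem h32_pg_F4_base (p : ℕ) [Fact p.Prime] (hp2 : p ≠ 2) (n : ℕ) (hG : Nat.card G = p ^ n) (x : G)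
    (hx : x ^ p = 1) (hC : Nat.card (Subgroup.centralizer ({x} : Set G)) = p ^ 2)
    (hn : p + 2 ≤ n) (m : G) (hm : m ∈ gam G (n - p)) (hm' : m ∉ gam G (n - p + 1)) :
    m ^ p ≠ 1 := by
  have hp : p.Prime := Fact.out
  have hbot : gam G n = ⊥ := by
    have h1 := h32_pg_card p n hG x hC n (by omega) le_rfl
    rw [Nat.sub_self, pow_zero] at h1
    exact Subgroup.card_eq_one.mp h1
  have hx1 : x ∈ gam G 1 := by
    unfold gam
    simp
  have h := Cfsg.Agent.Lib.helper97.h97_pearl_f4_base p hp n hn x hx hbot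
    (by
      intro m1 hm1
      have e : n - p - 1 + 1 = n - p := by omega
      have := pg_com_surj p n hG x hC (n - p - 1) (by omega) (by omega) m1 (by rw [e]; exact hm1)
      exact this)
    (by
      intro i hi hin m1 hm1 hm1'
      exact ⟨com_mem hm1 hx1, h32_pg_uniserial p n hG x hC i hi hin m1 hm1 hm1'⟩)
    (fun i hi m1 hm1 => h32_pg_F3 p hp2 n hG x hx hC i hi m1 hm1) m hm hm'
  intro h1
  apply h.2
  rw [h1]
  exact Subgroup.one_mem _

/-- K7 (racer copy). -/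
theorem h32_pg_F4_step (p : ℕ) [Fact p.Prime] (hp2 : p ≠ 2) (n : ℕ) (hG : Nat.card G = p ^ n) (x : G)
    (hx : x ^ p = 1) (hC : Nat.card (Subgroup.centralizer ({x} : Set G)) = p ^ 2) (i : ℕ)
    (hi : 2 ≤ i) (hin : i + p + 1 ≤ n)
    (ih : ∀ m' ∈ gam G (i + 1), m' ∉ gam G (i + 2) → m' ^ p ∉ gam G (i + p + 1))
    (m : G) (hm : m ∈ gam G i) (hm' : m ∉ gam G (i + 1)) : m ^ p ∉ gam G (i + p) := by
  have hGp : IsPGroup p G := IsPGroup.of_card hG
  have hp2' : 2 ≤ p := (Fact.out : p.Prime).two_le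
  exact h69_pg_F4_step_core p hp2 n x i hi hin
    (fun m1 hm1 hm1' => h32_pg_uniserial p n hG x hC i hi (by omega) m1 hm1 hm1')
    (fun j hj m1 hm1 => h32_pg_F3 p hp2 n hG x hx hC j hj m1 hm1)
    (fun T j h k hk a ha => pg_lcs_sub_mul T j h k hk a ha)
    (fun T N hM a b ha hb => pg_hp p hGp T N hM a b ha hb) ih m hm hm'

/-- K8 (racer copy of the assembly): F4 in the shape the JUMP lemmas take. -/
theorem h32_pg_F4 (p : ℕ) [Fact p.Prime] (hp2 : p ≠ 2) (n : ℕ) (hG : Nat.card G = p ^ n) (x : G)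
    (hx : x ^ p = 1) (hC : Nat.card (Subgroup.centralizer ({x} : Set G)) = p ^ 2) :
    ∀ i, 2 ≤ i → i + p ≤ n → ∀ m ∈ gam G i, m ∉ gam G (i + 1) →
      m ^ p ∈ gam G (i + p - 1) ∧ m ^ p ∉ gam G (i + p) := by
  have key : ∀ d i, 2 ≤ i → i + p + d = n → ∀ m ∈ gam G i, m ∉ gam G (i + 1) →
      m ^ p ∉ gam G (i + p) := by
    intro d
    induction d with
    | zero =>
      intro i hi hin m hm hm' hmp
      have hbot : gam G n = ⊥ := by
        have h1 := h32_pg_card p n hG x hC n (by omega) le_rfl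
        rw [Nat.sub_self, pow_zero] at h1
        exact Subgroup.card_eq_one.mp h1
      have e1 : i + p = n := by omega
      rw [e1, hbot, Subgroup.mem_bot] at hmp
      have e2 : i = n - p := by omega
      subst e2
      exact h32_pg_F4_base p hp2 n hG x hx hC (by omega) m hm hm' hmp
    | succ d ih =>
      intro i hi hin m hm hm'
      refine h32_pg_F4_step p hp2 n hG x hx hC i hi (by omega) ?_ m hm hm'
      intro m' hm1 hm2
      have := ih (i + 1) (by omega) (by omega) m' hm1 hm2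
      rwa [show i + 1 + p = i + p + 1 by omega] at this
  intro i hi hin m hm hm'
  exact ⟨h32_pg_F3 p hp2 n hG x hx hC i hi m hm, key (n - (i + p)) i hi (by omega) m hm hm'⟩

end Cfsg.Agent.Lib.helper65.PearlG
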