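import Mathlib
import Cfsg.Prelude.Def_Local
import Cfsg.Prelude.Def_Solvable
import Cfsg.Agent.Lib.helper40.Cores
import Cfsg.Agent.Lib.helper38.PSolvable
import Cfsg.Agent.Lib.helper29.PSolv

/-!
helper32, piece RS-E2 of the S5156 project (helper88): if a normal subgroup `N` of the finite
group `G` is `p`-soluble and its index is a power of `p` or prime to `p`, then `G` is `p`-soluble.
-/

set_option autoImplicit false

universe u

namespace Cfsg.Agent.Lib.helper32.RS

/-- The trivial group is `p`-soluble. -/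
theorem isPSolvable_of_subsingleton {G : Type*} [Group G] [Subsingleton G] (p : ℕ) :
    Cfsg.IsPSolvable p G :=
  ⟨0, fun _ => ⊥, rfl, Subsingleton.elim _ _, monotone_const, fun _ => inferInstance,
    fun i => i.elim0⟩

/-- A group whose order is a power of `p` or prime to `p` is `p`-soluble. -/
theorem isPSolvable_of_card {G : Type*} [Group G] (p : ℕ)
    (h : (∃ m : ℕ, Nat.card G = p ^ m) ∨ (Nat.card G).Coprime p) : Cfsg.IsPSolvable p G := by
  apply Cfsg.Agent.Lib.helper29.isPSolvable_of_quotient p (⊤ : Subgroup G)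
  · rw [Subgroup.card_top]; exact h
  · have : Subsingleton (G ⧸ (⊤ : Subgroup G)) := QuotientGroup.subsingleton_quotient_top
    exact isPSolvable_of_subsingleton p

/-- `O_p(G)` is characteristic. -/
theorem pCore_char (p : ℕ) (G : Type*) [Group G] : (Cfsg.pCore p G).Characteristic := by
  rw [Subgroup.characteristic_iff_map_le]
  intro φ
  apply le_sSup
  refine ⟨?_, ?_⟩
  · exact (Cfsg.Agent.Lib.helper40.pCore_normal' p G).map φ.toMonoidHom φ.surjective
  · exact (Sylow.sSup_of_normal _ (fun _ h => h.2) (fun _ h => h.1) :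
      IsPGroup p (Cfsg.pCore p G)).map _

/-- `O_{p'}(G)` is characteristic in a finite group. -/
theorem pPrimeCore_char (p : ℕ) (G : Type*) [Group G] [Finite G] :
    (Cfsg.pPrimeCore p G).Characteristic := by
  rw [Subgroup.characteristic_iff_map_le]
  intro φ
  apply Cfsg.Agent.Lib.helper40.le_pPrimeCore
  · exact (Cfsg.Agent.Lib.helper40.pPrimeCore_normal' p G).map φ.toMonoidHom φ.surjective
  · rw [Subgroup.card_map_of_injective φ.injective]
    exact Cfsg.Agent.Lib.helper40.pPrimeCore_card_coprime p G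

/-- A nontrivial `p`-soluble normal subgroup `N` of a finite group `G` contains a nontrivial
normal subgroup of `G` whose order is a power of `p` or prime to `p`. -/
theorem exists_normal_le_of_isPSolvable {G : Type*} [Group G] [Finite G] (p : ℕ) [Fact p.Prime]
    (N : Subgroup G) [N.Normal] (hN : Cfsg.IsPSolvable p ↥N) (hne : N ≠ ⊥) :
    ∃ K : Subgroup G, K.Normal ∧ K ≤ N ∧ K ≠ ⊥ ∧
      ((∃ m : ℕ, Nat.card K = p ^ m) ∨ (Nat.card K).Coprime p) := by
  have : Nontrivial ↥N := (Subgroup.nontrivial_iff_ne_bot N).mpr hne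
  obtain ⟨M, hMn, hMne, hM⟩ := Cfsg.Agent.Lib.helper38.exists_normal_ne_bot_pgroup_or_pprime hN
  rcases hM with hM | hM
  · have := pCore_char p ↥N
    have hle : M ≤ Cfsg.pCore p ↥N := le_sSup ⟨hMn, hM⟩
    have hCne : Cfsg.pCore p ↥N ≠ ⊥ := fun h => hMne (le_bot_iff.mp (h ▸ hle))
    have hCp : IsPGroup p (Cfsg.pCore p ↥N) :=
      Sylow.sSup_of_normal _ (fun _ h => h.2) (fun _ h => h.1)
    refine ⟨(Cfsg.pCore p ↥N).map N.subtype, inferInstance, Subgroup.map_subtype_le _, ?_, ?_⟩
    · intro h
      apply hCne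
      rwa [Subgroup.map_eq_bot_iff_of_injective _ N.subtype_injective] at h
    · left
      rw [Subgroup.card_map_of_injective N.subtype_injective]
      exact IsPGroup.iff_card.mp hCp
  · have := pPrimeCore_char p ↥N
    have hle : M ≤ Cfsg.pPrimeCore p ↥N := Cfsg.Agent.Lib.helper40.le_pPrimeCore M hMn hM
    have hCne : Cfsg.pPrimeCore p ↥N ≠ ⊥ := fun h => hMne (le_bot_iff.mp (h ▸ hle))
    refine ⟨(Cfsg.pPrimeCore p ↥N).map N.subtype, inferInstance, Subgroup.map_subtype_le _, ?_, ?_⟩
    · intro h
      apply hCne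
      rwa [Subgroup.map_eq_bot_iff_of_injective _ N.subtype_injective] at h
    · right
      rw [Subgroup.card_map_of_injective N.subtype_injective]
      exact Cfsg.Agent.Lib.helper40.pPrimeCore_card_coprime p ↥N

theorem isPSolvable_of_normal_of_index_aux (p : ℕ) [Fact p.Prime] :
    ∀ (n : ℕ) (G : Type u) [Group G] [Finite G] (N : Subgroup G) [N.Normal],
      Nat.card G = n → Cfsg.IsPSolvable p ↥N →
      ((∃ k : ℕ, N.index = p ^ k) ∨ N.index.Coprime p) → Cfsg.IsPSolvable p G := by
  intro n
  induction n using Nat.strong_induction_on with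
  | _ n ih =>
    intro G _ _ N _ hcard hN hidx
    by_cases hne : N = ⊥
    · subst hne
      rw [Subgroup.index_bot] at hidx
      exact isPSolvable_of_card p hidx
    · obtain ⟨K, hKn, hKN, hKne, hK⟩ := exists_normal_le_of_isPSolvable p N hN hne
      have hlt : Nat.card (G ⧸ K) < n := by
        rw [← hcard, Subgroup.card_eq_card_quotient_mul_card_subgroup K]
        have h1 : 1 < Nat.card K := (Subgroup.one_lt_card_iff_ne_bot K).mpr hKne
        have h2 : 0 < Nat.card (G ⧸ K) := Nat.card_pos
        nlinarith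
      have hsurj := QuotientGroup.mk'_surjective K
      have : (N.map (QuotientGroup.mk' K)).Normal :=
        Subgroup.Normal.map inferInstance _ hsurj
      have hN' : Cfsg.IsPSolvable p ↥(N.map (QuotientGroup.mk' K)) :=
        Cfsg.Agent.Lib.helper38.isPSolvable_of_surjective ((QuotientGroup.mk' K).subgroupMap N)
          ((QuotientGroup.mk' K).subgroupMap_surjective N) hN
      have hidx' : (N.map (QuotientGroup.mk' K)).index = N.index :=
        Subgroup.index_map_eq N hsurj (by rw [QuotientGroup.ker_mk']; exact hKN)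
      have hq : Cfsg.IsPSolvable p (G ⧸ K) :=
        ih _ hlt (G ⧸ K) (N.map (QuotientGroup.mk' K)) rfl hN' (by rw [hidx']; exact hidx)
      exact Cfsg.Agent.Lib.helper29.isPSolvable_of_quotient p K hK hq

theorem isPSolvable_of_normal_of_index {G : Type*} [Group G] [Finite G] (p : ℕ) [Fact p.Prime]
    (N : Subgroup G) [N.Normal] (hN : Cfsg.IsPSolvable p ↥N)
    (hidx : (∃ k : ℕ, N.index = p ^ k) ∨ N.index.Coprime p) : Cfsg.IsPSolvable p G :=
  isPSolvable_of_normal_of_index_aux p _ G N rfl hN hidx

end Cfsg.Agent.Lib.helper32.RS
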