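import Mathlib
import Cfsg.Prelude.Def_Local
import Cfsg.Prelude.Def_Transfer

/-!
helper32, piece RS-E4 of the S5156 project (helper88): a finite `p`-soluble group generated by
its `p`-elements and also by its `p'`-elements is trivial.
-/

set_option autoImplicit false

namespace Cfsg.Agent.Lib.helper32.RS

/-- If `A` is a normal subgroup of the finite group `G` and the order of `g` is prime to the
index of `A`, then `g ∈ A`. -/
theorem mem_of_orderOf_coprime_index {G : Type*} [Group G] [Finite G] (A : Subgroup G) [A.Normal]
    (g : G) (hg : (orderOf g).Coprime A.index) : g ∈ A := by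
  have h1 : orderOf (QuotientGroup.mk' A g) ∣ orderOf g := orderOf_map_dvd _ g
  have h2 : orderOf (QuotientGroup.mk' A g) ∣ A.index := by
    have := orderOf_dvd_natCard (QuotientGroup.mk' A g)
    rwa [← Subgroup.index_eq_card] at this
  have h3 : orderOf (QuotientGroup.mk' A g) = 1 :=
    Nat.eq_one_of_dvd_coprimes hg h1 h2
  rw [orderOf_eq_one_iff] at h3
  exact (QuotientGroup.eq_one_iff g).mp h3

theorem subsingleton_of_isPSolvable_of_residuals {G : Type*} [Group G] [Finite G] (p : ℕ)
    [Fact p.Prime] (h : Cfsg.IsPSolvable p G)
    (h1 : Subgroup.closure {g : G | ∃ k : ℕ, orderOf g = p ^ k} = ⊤)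
    (h2 : Cfsg.pResidual p G = ⊤) : Subsingleton G := by
  have hp : p.Prime := Fact.out
  obtain ⟨n, H, h0, hlast, hmono, hnorm, hfac⟩ := h
  by_contra hcon
  rw [not_subsingleton_iff_nontrivial] at hcon
  -- no term of the chain is the whole group
  have key : ∀ i : Fin (n + 1), H i ≠ ⊤ := by
    intro i
    induction i using Fin.induction with
    | zero => rw [h0]; exact bot_ne_top
    | succ i ih =>
      intro htop
      apply ih
      have hA := hnorm i.castSucc
      have hidx := hfac i
      rw [htop, Subgroup.relIndex_top_right] at hidx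
      rcases hidx with ⟨m, hm⟩ | hc
      · rw [eq_top_iff, ← h2]
        unfold Cfsg.pResidual
        rw [Subgroup.closure_le]
        intro g hg
        apply mem_of_orderOf_coprime_index
        rw [hm]
        exact Nat.Coprime.pow_right m hg
      · rw [eq_top_iff, ← h1, Subgroup.closure_le]
        rintro g ⟨k, hk⟩
        apply mem_of_orderOf_coprime_index
        rw [hk]
        exact Nat.Coprime.pow_left k hc.symm
  exact key _ hlast

end Cfsg.Agent.Lib.helper32.RS
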