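import Mathlib
import Cfsg.Agent.Lib.helper81.S0197Defs
import Cfsg.Agent.Lib.helper79.FiniteOrderTrace

/-!
# S0197 piece EIG: eigenvalue multiplicities of an element of finite order

If `x ^ n = 1` and `ζ` is a primitive `n`-th root of unity then for every irreducible character
`χ` there are natural numbers `m j` with `χ (x ^ k) = ∑ j < n, m j * ζ ^ (j * k)` for all `k`.
-/

set_option autoImplicit false

namespace Cfsg.Agent.Lib.helper32.S0197

open Cfsg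

universe u

/-- General version for any representation. -/
theorem exists_mult_of_rep {G V : Type*} [Group G] [AddCommGroup V] [Module ℂ V]
    [FiniteDimensional ℂ V] (ρ : Representation ℂ G V) (x : G)
    (n : ℕ) (hn : 0 < n) (hx : x ^ n = 1) (ζ : ℂ) (hζ : IsPrimitiveRoot ζ n) :
    ∃ m : ℕ → ℕ, ∀ k : ℕ,
      ρ.character (x ^ k) = ∑ j ∈ Finset.range n, (m j : ℂ) * ζ ^ (j * k) := by
  classical
  obtain ⟨S, m, hS, -, hk, -⟩ := Cfsg.Agent.Lib.helper79.character_pow_eq_sum ρ x n hn.ne' hx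
  refine ⟨fun j => if ζ ^ j ∈ S then m (ζ ^ j) else 0, fun k => ?_⟩
  rw [hk k]
  have h1 : ∑ j ∈ Finset.range n, ((if ζ ^ j ∈ S then m (ζ ^ j) else 0 : ℕ) : ℂ) * ζ ^ (j * k)
      = ∑ j ∈ (Finset.range n).filter (fun j => ζ ^ j ∈ S), (m (ζ ^ j) : ℂ) * (ζ ^ j) ^ k := by
    rw [Finset.sum_filter]
    refine Finset.sum_congr rfl fun j _ => ?_
    split_ifs with h
    · rw [pow_mul]
    · simp
  rw [h1]
  symm
  have : NeZero n := ⟨hn.ne'⟩
  refine Finset.sum_bij (fun j _ => ζ ^ j) ?_ ?_ ?_ ?_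
  · intro j hj
    exact (Finset.mem_filter.mp hj).2
  · intro j hj j' hj' h
    exact hζ.pow_inj (Finset.mem_range.mp (Finset.mem_filter.mp hj).1)
      (Finset.mem_range.mp (Finset.mem_filter.mp hj').1) h
  · intro μ hμ
    obtain ⟨j, hj, rfl⟩ := hζ.eq_pow_of_pow_eq_one (hS μ hμ)
    exact ⟨j, Finset.mem_filter.mpr ⟨Finset.mem_range.mpr hj, hμ⟩, rfl⟩
  · intro j hj
    rfl

/-- **Piece EIG.** -/
theorem exists_mult_of_pow_eq_one {G : Type u} [Group G] [Finite G] (χ : IrrCharacter G) (x : G)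
    (n : ℕ) (hn : 0 < n) (hx : x ^ n = 1) (ζ : ℂ) (hζ : IsPrimitiveRoot ζ n) :
    ∃ m : ℕ → ℕ, ∀ k : ℕ,
      (χ : G → ℂ) (x ^ k) = ∑ j ∈ Finset.range n, (m j : ℂ) * ζ ^ (j * k) := by
  obtain ⟨χ, d, ρ, hirr, rfl⟩ := χ
  exact exists_mult_of_rep ρ x n hn hx ζ hζ

end Cfsg.Agent.Lib.helper32.S0197
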