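import Mathlib
import Cfsg.Agent.Lib.helper81.S0197Defs
import Cfsg.Agent.Lib.helper83.CharBasic2
import Cfsg.Agent.Lib.helper32.S0197EIG

/-!
# S0197 piece VAL: the character values at `t, z^2, w, z` and their congruences

`z` of order 8 with `z ~ z^3`, `w` of order 6 with `w ~ w⁻¹`, `z^4 = w^3 = t`.
For every irreducible character the values at `t, z^2, w` are integers `T, Y, W`, the value at
`z` is `a + b s` with `s^2 = -2`, and `Y ≡ a (2)`, `T ≡ Y + 2 b (4)`, `W ≡ T (3)`.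
-/

set_option autoImplicit false

namespace Cfsg.Agent.Lib.helper32.S0197

open Cfsg Cfsg.Agent.Lib.helper81.S0197

universe u

theorem prim8_four {ζ : ℂ} (hζ : IsPrimitiveRoot ζ 8) : ζ ^ 4 = -1 := by
  have h8 : ζ ^ 8 = 1 := hζ.pow_eq_one
  have hne : ζ ^ 4 ≠ 1 := hζ.pow_ne_one_of_pos_of_lt (by norm_num) (by norm_num)
  have h : (ζ ^ 4 - 1) * (ζ ^ 4 + 1) = 0 := by linear_combination h8
  rcases mul_eq_zero.mp h with h1 | h1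
  · exact absurd (sub_eq_zero.mp h1) hne
  · exact eq_neg_of_add_eq_zero_left h1

theorem prim6_sq {ω : ℂ} (hω : IsPrimitiveRoot ω 6) : ω ^ 2 = ω - 1 := by
  have h6 : ω ^ 6 = 1 := hω.pow_eq_one
  have hne3 : ω ^ 3 ≠ 1 := hω.pow_ne_one_of_pos_of_lt (by norm_num) (by norm_num)
  have hne2 : ω ^ 2 ≠ 1 := hω.pow_ne_one_of_pos_of_lt (by norm_num) (by norm_num)
  have h : (ω ^ 3 - 1) * ((ω + 1) * (ω ^ 2 - ω + 1)) = 0 := by linear_combination h6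
  rcases mul_eq_zero.mp h with h1 | h1
  · exact absurd (sub_eq_zero.mp h1) hne3
  · rcases mul_eq_zero.mp h1 with h2 | h2
    · exfalso
      apply hne2
      have : ω = -1 := eq_neg_of_add_eq_zero_left h2
      rw [this]
      norm_num
    · linear_combination h2

theorem red8 (m : ℕ → ℕ) (η : ℂ) (hη : η ^ 4 = -1) :
    ∑ j ∈ Finset.range 8, (m j : ℂ) * η ^ j =
      (((m 0 : ℤ) - m 4 : ℤ) : ℂ) + (((m 1 : ℤ) - m 5 : ℤ) : ℂ) * η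
        + (((m 2 : ℤ) - m 6 : ℤ) : ℂ) * η ^ 2 + (((m 3 : ℤ) - m 7 : ℤ) : ℂ) * η ^ 3 := by
  simp only [Finset.sum_range_succ, Finset.sum_range_zero]
  push_cast
  linear_combination ((m 4 : ℂ) + m 5 * η + m 6 * η ^ 2 + m 7 * η ^ 3) * hη

theorem red4 (m : ℕ → ℕ) (η : ℂ) (hη : η ^ 2 = -1) :
    ∑ j ∈ Finset.range 8, (m j : ℂ) * η ^ j =
      (((m 0 : ℤ) - m 2 + m 4 - m 6 : ℤ) : ℂ) + (((m 1 : ℤ) - m 3 + m 5 - m 7 : ℤ) : ℂ) * η := by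
  simp only [Finset.sum_range_succ, Finset.sum_range_zero]
  push_cast
  linear_combination ((m 2 : ℂ) + m 3 * η + m 4 * (η ^ 2 - 1) + m 5 * η * (η ^ 2 - 1)
    + m 6 * (η ^ 4 - η ^ 2 + 1) + m 7 * η * (η ^ 4 - η ^ 2 + 1)) * hη

theorem redneg8 (m : ℕ → ℕ) (η : ℂ) (hη : η = -1) :
    ∑ j ∈ Finset.range 8, (m j : ℂ) * η ^ j =
      (((m 0 : ℤ) - m 1 + m 2 - m 3 + m 4 - m 5 + m 6 - m 7 : ℤ) : ℂ) := by
  subst hη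
  simp only [Finset.sum_range_succ, Finset.sum_range_zero]
  push_cast
  ring

theorem red6 (n : ℕ → ℕ) (η : ℂ) (hη : η ^ 2 = η - 1) :
    ∑ j ∈ Finset.range 6, (n j : ℂ) * η ^ j =
      (((n 0 : ℤ) - n 2 - n 3 + n 5 : ℤ) : ℂ) + (((n 1 : ℤ) + n 2 - n 4 - n 5 : ℤ) : ℂ) * η := by
  simp only [Finset.sum_range_succ, Finset.sum_range_zero]
  push_cast
  linear_combination ((n 2 : ℂ) + n 3 * (η + 1) + n 4 * η * (η + 1)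
    + n 5 * (η ^ 3 + η ^ 2 - 1)) * hη

theorem redneg6 (n : ℕ → ℕ) (η : ℂ) (hη : η = -1) :
    ∑ j ∈ Finset.range 6, (n j : ℂ) * η ^ j =
      (((n 0 : ℤ) - n 1 + n 2 - n 3 + n 4 - n 5 : ℤ) : ℂ) := by
  subst hη
  simp only [Finset.sum_range_succ, Finset.sum_range_zero]
  push_cast
  ring

/-- values on a cyclic group of order 8 generated by `z` with `z ~ z^3` -/
theorem val8 {ζ : ℂ} (hζ : IsPrimitiveRoot ζ 8) (f : ℕ → ℂ) (m : ℕ → ℕ)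
    (hf : ∀ k : ℕ, f k = ∑ j ∈ Finset.range 8, (m j : ℂ) * ζ ^ (j * k))
    (h13 : f 1 = f 3) (h26 : f 2 = f 6) :
    ∃ a b Y T : ℤ, f 1 = (a : ℂ) + (b : ℂ) * (ζ + ζ ^ 3) ∧ f 2 = (Y : ℂ) ∧ f 4 = (T : ℂ) ∧
      (2 : ℤ) ∣ Y - a ∧ (4 : ℤ) ∣ T - Y - 2 * b := by
  have h4 := prim8_four hζ
  have hf' : ∀ k : ℕ, f k = ∑ j ∈ Finset.range 8, (m j : ℂ) * (ζ ^ k) ^ j := by
    intro k
    rw [hf k]
    refine Finset.sum_congr rfl fun j _ => ?_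
    rw [pow_mul']
  have e1 : f 1 = (((m 0 : ℤ) - m 4 : ℤ) : ℂ) + (((m 1 : ℤ) - m 5 : ℤ) : ℂ) * ζ
      + (((m 2 : ℤ) - m 6 : ℤ) : ℂ) * ζ ^ 2 + (((m 3 : ℤ) - m 7 : ℤ) : ℂ) * ζ ^ 3 := by
    rw [hf' 1, red8 m (ζ ^ 1) (by rw [pow_one]; exact h4), pow_one]
  have e3 : f 3 = (((m 0 : ℤ) - m 4 : ℤ) : ℂ) + (((m 3 : ℤ) - m 7 : ℤ) : ℂ) * ζ
      - (((m 2 : ℤ) - m 6 : ℤ) : ℂ) * ζ ^ 2 + (((m 1 : ℤ) - m 5 : ℤ) : ℂ) * ζ ^ 3 := by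
    rw [hf' 3, red8 m (ζ ^ 3) (by linear_combination (ζ ^ 8 - ζ ^ 4 + 1) * h4)]
    linear_combination ((((m 2 : ℤ) - m 6 : ℤ) : ℂ) * ζ ^ 2
      + (((m 3 : ℤ) - m 7 : ℤ) : ℂ) * ζ * (ζ ^ 4 - 1)) * h4
  have e2 : f 2 = (((m 0 : ℤ) - m 2 + m 4 - m 6 : ℤ) : ℂ)
      + (((m 1 : ℤ) - m 3 + m 5 - m 7 : ℤ) : ℂ) * ζ ^ 2 := by
    rw [hf' 2, red4 m (ζ ^ 2) (by linear_combination h4)]
  have e6 : f 6 = (((m 0 : ℤ) - m 2 + m 4 - m 6 : ℤ) : ℂ)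
      - (((m 1 : ℤ) - m 3 + m 5 - m 7 : ℤ) : ℂ) * ζ ^ 2 := by
    rw [hf' 6, red4 m (ζ ^ 6) (by linear_combination (ζ ^ 8 - ζ ^ 4 + 1) * h4)]
    linear_combination ((((m 1 : ℤ) - m 3 + m 5 - m 7 : ℤ) : ℂ) * ζ ^ 2) * h4
  have e4 : f 4 = (((m 0 : ℤ) - m 1 + m 2 - m 3 + m 4 - m 5 + m 6 - m 7 : ℤ) : ℂ) := by
    rw [hf' 4, redneg8 m (ζ ^ 4) h4]
  have hζ0 : ζ ≠ 0 := hζ.ne_zero (by norm_num)
  -- from `f 2 = f 6`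
  have hE : (m 1 : ℤ) - m 3 + m 5 - m 7 = 0 := by
    have k1 : (((m 1 : ℤ) - m 3 + m 5 - m 7 : ℤ) : ℂ) * ζ ^ 2 = 0 := by
      have := e2.symm.trans (h26.trans e6)
      linear_combination (1 / 2 : ℂ) * this
    rcases mul_eq_zero.mp k1 with h | h
    · exact_mod_cast h
    · exact absurd h (pow_ne_zero 2 hζ0)
  -- from `f 1 = f 3`
  have hPQ : (m 1 : ℤ) - m 5 - (m 3 - m 7) = 0 ∧ 2 * ((m 2 : ℤ) - m 6) = 0 := by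
    have k2 : (((m 1 : ℤ) - m 5 - (m 3 - m 7) : ℤ) : ℂ) * (ζ - ζ ^ 3)
        + ((2 * ((m 2 : ℤ) - m 6) : ℤ) : ℂ) * ζ ^ 2 = 0 := by
      have := e1.symm.trans (h13.trans e3)
      push_cast at this ⊢
      linear_combination this
    have hu : (ζ - ζ ^ 3) ^ 2 = 2 := by linear_combination (ζ ^ 2 - 2) * h4
    have hi : (ζ ^ 2) ^ 2 = -1 := by linear_combination h4
    have k3 : ((((m 1 : ℤ) - m 5 - (m 3 - m 7) : ℤ) : ℂ) * (ζ - ζ ^ 3)) ^ 2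
        = (((2 * ((m 2 : ℤ) - m 6) : ℤ) : ℂ) * ζ ^ 2) ^ 2 := by
      have : (((m 1 : ℤ) - m 5 - (m 3 - m 7) : ℤ) : ℂ) * (ζ - ζ ^ 3)
          = -(((2 * ((m 2 : ℤ) - m 6) : ℤ) : ℂ) * ζ ^ 2) := by linear_combination k2
      rw [this]
      ring
    rw [mul_pow, mul_pow, hu, hi] at k3
    have k4 : 2 * ((m 1 : ℤ) - m 5 - (m 3 - m 7)) ^ 2 + (2 * ((m 2 : ℤ) - m 6)) ^ 2 = 0 := by
      have : ((2 * ((m 1 : ℤ) - m 5 - (m 3 - m 7)) ^ 2 + (2 * ((m 2 : ℤ) - m 6)) ^ 2 : ℤ) : ℂ)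
          = 0 := by
        push_cast at k3 ⊢
        linear_combination k3
      exact_mod_cast this
    constructor
    · nlinarith [sq_nonneg ((m 1 : ℤ) - m 5 - (m 3 - m 7)), sq_nonneg (2 * ((m 2 : ℤ) - m 6))]
    · nlinarith [sq_nonneg ((m 1 : ℤ) - m 5 - (m 3 - m 7)), sq_nonneg (2 * ((m 2 : ℤ) - m 6))]
  obtain ⟨hP, hQ⟩ := hPQ
  refine ⟨(m 0 : ℤ) - m 4, (m 1 : ℤ) - m 5, (m 0 : ℤ) - m 2 + m 4 - m 6,
    (m 0 : ℤ) - m 1 + m 2 - m 3 + m 4 - m 5 + m 6 - m 7, ?_, ?_, e4, ?_, ?_⟩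
  · rw [e1]
    have hC : (((m 2 : ℤ) - m 6 : ℤ) : ℂ) = 0 := by
      have : (m 2 : ℤ) - m 6 = 0 := by omega
      rw [this]; simp
    have hD : (((m 3 : ℤ) - m 7 : ℤ) : ℂ) = (((m 1 : ℤ) - m 5 : ℤ) : ℂ) := by
      have : (m 3 : ℤ) - m 7 = (m 1 : ℤ) - m 5 := by omega
      rw [this]
    rw [hC, hD]
    ring
  · rw [e2, hE]
    simp
  · omega
  · omega

/-- values on a cyclic group of order 6 generated by `w` with `w ~ w⁻¹` -/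
theorem val6 {ω : ℂ} (hω : IsPrimitiveRoot ω 6) (g : ℕ → ℂ) (n : ℕ → ℕ)
    (hg : ∀ k : ℕ, g k = ∑ j ∈ Finset.range 6, (n j : ℂ) * ω ^ (j * k))
    (h15 : g 1 = g 5) :
    ∃ W T : ℤ, g 1 = (W : ℂ) ∧ g 3 = (T : ℂ) ∧ (3 : ℤ) ∣ W - T := by
  have hw := prim6_sq hω
  have h3 : ω ^ 3 = -1 := by linear_combination (ω + 1) * hw
  have h5 : ω ^ 5 = 1 - ω := by linear_combination (ω ^ 3 + ω ^ 2 - 1) * hw
  have hg' : ∀ k : ℕ, g k = ∑ j ∈ Finset.range 6, (n j : ℂ) * (ω ^ k) ^ j := by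
    intro k
    rw [hg k]
    refine Finset.sum_congr rfl fun j _ => ?_
    rw [pow_mul']
  have e1 : g 1 = (((n 0 : ℤ) - n 2 - n 3 + n 5 : ℤ) : ℂ)
      + (((n 1 : ℤ) + n 2 - n 4 - n 5 : ℤ) : ℂ) * ω := by
    rw [hg' 1, red6 n (ω ^ 1) (by rw [pow_one]; exact hw), pow_one]
  have e5 : g 5 = (((n 0 : ℤ) - n 2 - n 3 + n 5 : ℤ) : ℂ)
      + (((n 1 : ℤ) + n 2 - n 4 - n 5 : ℤ) : ℂ) * (1 - ω) := by
    rw [hg' 5, red6 n (ω ^ 5) (by rw [h5]; linear_combination hw), h5]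
  have e3 : g 3 = (((n 0 : ℤ) - n 1 + n 2 - n 3 + n 4 - n 5 : ℤ) : ℂ) := by
    rw [hg' 3, redneg6 n (ω ^ 3) h3]
  have hE : (n 1 : ℤ) + n 2 - n 4 - n 5 = 0 := by
    have k1 : (((n 1 : ℤ) + n 2 - n 4 - n 5 : ℤ) : ℂ) * (2 * ω - 1) = 0 := by
      have := e1.symm.trans (h15.trans e5)
      linear_combination this
    have hne : (2 * ω - 1) ≠ 0 := by
      intro h0
      have : (2 * ω - 1) ^ 2 = -3 := by linear_combination 4 * hw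
      rw [h0] at this
      norm_num at this
    rcases mul_eq_zero.mp k1 with h | h
    · exact_mod_cast h
    · exact absurd h hne
  refine ⟨(n 0 : ℤ) - n 2 - n 3 + n 5, (n 0 : ℤ) - n 1 + n 2 - n 3 + n 4 - n 5, ?_, e3, ?_⟩
  · rw [e1, hE]
    simp
  · omega

/-- **Piece VAL.** -/
theorem values_of_gdata {G : Type u} [Group G] [Finite G] {t z w : G} (ht : orderOf t = 2)
    (hG : GData G t z w) :
    ∃ s : ℂ, s ^ 2 = -2 ∧ ∀ χ : IrrCharacter G, ∃ T Y W a b : ℤ,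
      (χ : G → ℂ) t = (T : ℂ) ∧ (χ : G → ℂ) (z ^ 2) = (Y : ℂ) ∧ (χ : G → ℂ) w = (W : ℂ) ∧
      (χ : G → ℂ) z = (a : ℂ) + (b : ℂ) * s ∧
      (2 : ℤ) ∣ Y - a ∧ (4 : ℤ) ∣ T - Y - 2 * b ∧ (3 : ℤ) ∣ W - T := by
  obtain ⟨ζ, hζ⟩ : ∃ ζ : ℂ, IsPrimitiveRoot ζ 8 :=
    ⟨_, Complex.isPrimitiveRoot_exp 8 (by norm_num)⟩
  obtain ⟨ω, hω⟩ : ∃ ω : ℂ, IsPrimitiveRoot ω 6 :=
    ⟨_, Complex.isPrimitiveRoot_exp 6 (by norm_num)⟩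
  have h4 : ζ ^ 4 = -1 := prim8_four hζ
  refine ⟨ζ + ζ ^ 3, by linear_combination (2 + ζ ^ 2) * h4, fun χ => ?_⟩
  have hz8 : z ^ 8 = 1 := by rw [← hG.ord_z]; exact pow_orderOf_eq_one z
  have hw6 : w ^ 6 = 1 := by rw [← hG.ord_w]; exact pow_orderOf_eq_one w
  obtain ⟨m, hm⟩ := exists_mult_of_pow_eq_one χ z 8 (by norm_num) hz8 ζ hζ
  obtain ⟨n, hn⟩ := exists_mult_of_pow_eq_one χ w 6 (by norm_num) hw6 ω hω
  have h13 : (χ : G → ℂ) (z ^ 1) = (χ : G → ℂ) (z ^ 3) := by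
    obtain ⟨c, hc⟩ := isConj_iff.mp hG.conj_z
    rw [pow_one, ← hc, Cfsg.Agent.Lib.helper83.irr_conj]
  have h26 : (χ : G → ℂ) (z ^ 2) = (χ : G → ℂ) (z ^ 6) := by
    obtain ⟨c, hc⟩ := isConj_iff.mp hG.conj_z
    have h1 : z ^ 6 = c * z ^ 2 * c⁻¹ := by
      have h2 : z ^ 6 = (z ^ 3) ^ 2 := by rw [← pow_mul]
      rw [h2, ← hc, conj_pow]
    rw [h1, Cfsg.Agent.Lib.helper83.irr_conj]
  have h15 : (χ : G → ℂ) (w ^ 1) = (χ : G → ℂ) (w ^ 5) := by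
    obtain ⟨c, hc⟩ := isConj_iff.mp hG.conj_w
    have h1 : w ^ 5 = w⁻¹ := by
      apply eq_inv_of_mul_eq_one_left
      rw [← pow_succ, hw6]
    rw [pow_one, h1, ← hc, Cfsg.Agent.Lib.helper83.irr_conj]
  obtain ⟨a, b, Y, T, e1, e2, e3, d1, d2⟩ :=
    val8 hζ (fun k => (χ : G → ℂ) (z ^ k)) m hm h13 h26
  obtain ⟨W, T', e4, e5, d3⟩ := val6 hω (fun k => (χ : G → ℂ) (w ^ k)) n hn h15
  have e1' : (χ : G → ℂ) (z ^ 1) = (a : ℂ) + (b : ℂ) * (ζ + ζ ^ 3) := e1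
  have e2' : (χ : G → ℂ) (z ^ 2) = (Y : ℂ) := e2
  have e3' : (χ : G → ℂ) (z ^ 4) = (T : ℂ) := e3
  have e4' : (χ : G → ℂ) (w ^ 1) = (W : ℂ) := e4
  have e5' : (χ : G → ℂ) (w ^ 3) = (T' : ℂ) := e5
  have hTT : T = T' := by
    have : (T : ℂ) = (T' : ℂ) := by rw [← e3', ← e5', hG.z4, hG.w3]
    exact_mod_cast this
  subst hTT
  refine ⟨T, Y, W, a, b, ?_, e2', ?_, ?_, d1, d2, d3⟩
  · rw [← e3', hG.z4]
  · rw [← e4', pow_one]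
  · rw [← e1', pow_one]

end Cfsg.Agent.Lib.helper32.S0197
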