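import Mathlib
import Cfsg.Prelude.Def_CaseTheorems
import Cfsg.Agent.Lib.helper26.Suz64b
import Cfsg.Agent.Lib.helper37.S1238Cfg0
import Cfsg.Agent.Lib.helper60.S1238B3a
import Cfsg.Agent.Lib.helper78.S1238A4
import Cfsg.Agent.S1237

/-! S1238 / S5213, piece E1' (architect helper37): the structure of `T = C_S(u)` in the y-free
configuration `Cfg0`, given an automorphism `φ` of `T` with `φ z = u`, `φ u = z u`. -/

set_option autoImplicit false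

namespace Cfsg.Agent.Lib.helper32.S1238

open Cfsg Cfsg.Agent.Lib.helper26 Cfsg.Agent.Lib.helper37.S1238

/-- PIECE E1' (y-free E1): the automorphism `φ` of `T` is given. -/
theorem cfg0_T_struct {G : Type*} [Group G] [Finite G] (h2 : Cfsg.PRankLE 2 2 G) (S : Sylow 2 G)
    (T : Subgroup G) (z u s : G) (h : Cfg0 (S : Subgroup G) T z u s)
    (φ : MulAut ↥T) (hφz : ((φ ⟨z, h.zT⟩ : ↥T) : G) = u) (hφu : ((φ ⟨u, h.uT⟩ : ↥T) : G) = z * u) :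
    (∃ n : ℕ, 1 ≤ n ∧ Nonempty (↥T ≃* Multiplicative (ZMod (2 ^ n) × ZMod (2 ^ n)))) ∨
    (∃ ρ : MulAut ↥T, S64.Hyp64 ρ) := by
  have hT : IsPGroup 2 ↥T := S.isPGroup'.to_le h.TS
  have h2T : Cfsg.PRankLE 2 2 ↥T := Cfsg.Agent.Lib.helper78.S1238.a4_prank_subgroup 2 h2 T
  -- the elements `z`, `u` of `T`
  have hzc : ∀ g : ↥T, g * (⟨z, h.zT⟩ : ↥T) = ⟨z, h.zT⟩ * g :=
    fun g => Subtype.ext (h.zc g (h.TS g.2))
  have huc : ∀ g : ↥T, g * (⟨u, h.uT⟩ : ↥T) = ⟨u, h.uT⟩ * g :=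
    fun g => Subtype.ext (h.uc g g.2)
  have hzz : (⟨z, h.zT⟩ : ↥T) * ⟨z, h.zT⟩ = 1 := Subtype.ext h.zz
  have huu : (⟨u, h.uT⟩ : ↥T) * ⟨u, h.uT⟩ = 1 := Subtype.ext h.uu
  have hz1 : (⟨z, h.zT⟩ : ↥T) ≠ 1 := fun hh => h.z1 (congrArg Subtype.val hh)
  have hu1 : (⟨u, h.uT⟩ : ↥T) ≠ 1 := fun hh => h.u1 (congrArg Subtype.val hh)
  have hzu : (⟨z, h.zT⟩ : ↥T) ≠ ⟨u, h.uT⟩ := fun hh => h.uz (congrArg Subtype.val hh).symm
  have hoz : orderOf (⟨z, h.zT⟩ : ↥T) = 2 :=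
    orderOf_eq_prime (by rw [pow_two]; exact hzz) hz1
  have hou : orderOf (⟨u, h.uT⟩ : ↥T) = 2 :=
    orderOf_eq_prime (by rw [pow_two]; exact huu) hu1
  have h1T : ¬ Cfsg.PRankLE 2 1 ↥T :=
    Cfsg.Agent.Lib.helper78.S1238.a4_not_rank_one _ _ hzc huc hoz hou hzu
  -- `φ` on the three involutions
  have hφz' : φ ⟨z, h.zT⟩ = ⟨u, h.uT⟩ := Subtype.ext hφz
  have hφu' : φ ⟨u, h.uT⟩ = ⟨z, h.zT⟩ * ⟨u, h.uT⟩ := Subtype.ext hφu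
  have hφzu' : φ (⟨z, h.zT⟩ * ⟨u, h.uT⟩) = ⟨z, h.zT⟩ := by
    rw [map_mul, hφz', hφu', ← mul_assoc, hzc ⟨u, h.uT⟩, mul_assoc, huu, mul_one]
  -- every involution of `T` is one of the three
  have hinv : ∀ t : ↥T, orderOf t = 2 →
      t = ⟨z, h.zT⟩ ∨ t = ⟨u, h.uT⟩ ∨ t = ⟨z, h.zT⟩ * ⟨u, h.uT⟩ := by
    intro t ht
    have htt : t * t = 1 := by rw [← pow_two, ← ht, pow_orderOf_eq_one]
    have ht1 : t ≠ 1 := by
      rintro rfl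
      rw [orderOf_one] at ht
      omega
    rcases Cfsg.Agent.Lib.helper60.S1238.rank_two_four h2T ⟨z, h.zT⟩ ⟨u, h.uT⟩ t hzz huu htt
      (hzc ⟨u, h.uT⟩).symm (hzc t).symm (huc t).symm hz1 hu1 hzu with h1 | h1 | h1 | h1
    · exact absurd h1 ht1
    · exact Or.inl h1
    · exact Or.inr (Or.inl h1)
    · exact Or.inr (Or.inr h1)
  have htrans : ∀ a b : ↥T, orderOf a = 2 → orderOf b = 2 → ∃ k : ℕ, (φ ^ k) a = b := by
    intro a b ha hb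
    have hp1 : ∀ x : ↥T, (φ ^ 1) x = φ x := fun x => by rw [pow_one]
    have hp2 : ∀ x : ↥T, (φ ^ 2) x = φ (φ x) := fun x => by rw [pow_two]; rfl
    rcases hinv a ha with rfl | rfl | rfl <;> rcases hinv b hb with rfl | rfl | rfl
    · exact ⟨0, by rw [pow_zero]; rfl⟩
    · exact ⟨1, by rw [hp1, hφz']⟩
    · exact ⟨2, by rw [hp2, hφz', hφu']⟩
    · exact ⟨2, by rw [hp2, hφu', hφzu']⟩
    · exact ⟨0, by rw [pow_zero]; rfl⟩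
    · exact ⟨1, by rw [hp1, hφu']⟩
    · exact ⟨1, by rw [hp1, hφzu']⟩
    · exact ⟨2, by rw [hp2, hφzu', hφz']⟩
    · exact ⟨0, by rw [pow_zero]; rfl⟩
  obtain ⟨V, ψ, k, hV, hV4, hVc, hψk, hψ⟩ :=
    Cfsg.Agent.Lib.helper18.S1237.setup hT h2T h1T φ htrans
  have hρ : Cfsg.Agent.Lib.helper26.Fpf3.Hyp ψ :=
    ⟨Cfsg.Agent.Lib.helper50.S1237.cube_eq_one hT V hV hV4 hVc ψ k hψk hψ, hψ⟩
  by_cases hab : ∀ a b : ↥T, a * b = b * a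
  · exact Or.inl (Cfsg.Agent.Lib.helper18.S1237.abelian_case hT V hV hV4 ψ hρ hab)
  · right
    have h64 := Cfsg.Agent.Lib.helper37.S1237.card_eq_64 hT V hV hV4 hVc ψ hρ hab
    exact ⟨ψ, ⟨hρ, h64, hab⟩⟩

end Cfsg.Agent.Lib.helper32.S1238
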