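import Mathlib
import Cfsg.Prelude.Def_CaseTheorems
import Cfsg.Agent.Lib.helper26.Suz64b
import Cfsg.Agent.Lib.helper37.S1238Cfg0
import Cfsg.Agent.Lib.helper60.S1238B3a
import Cfsg.Agent.Lib.helper78.S1238A4

/-! S1238 / S5213, piece E2c' core (architect helper37): in the y-free configuration `Cfg0`,
`T = C_S(u)` is not a `Hyp64` group.  The core lemma takes the conclusion of piece E2b
(`hyp64_no_swap`, instantiated at `↥T`) as a hypothesis. -/

set_option autoImplicit false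

namespace Cfsg.Agent.Lib.helper32.S1238

open Cfsg Cfsg.Agent.Lib.helper26 Cfsg.Agent.Lib.helper37.S1238

/-- E2c' with E2b (at `↥T`) as a hypothesis. -/
theorem helper32_cfg0_not_hyp64_of {G : Type*} [Group G] [Finite G] (h2 : Cfsg.PRankLE 2 2 G)
    (S : Sylow 2 G) (T : Subgroup G) (z u s : G) (h : Cfg0 (S : Subgroup G) T z u s)
    (hswap : (∀ g : ↥T, g * g = 1 → g ∈ Subgroup.center ↥T) →
      ∀ (σ : MulAut ↥T) (a : ↥T), (∀ x : ↥T, σ (σ x) = a * x * a⁻¹) →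
        ∀ v : ↥T, v * v = 1 → σ v ≠ v → False) : False := by
  have h2T : Cfsg.PRankLE 2 2 ↥T := Cfsg.Agent.Lib.helper78.S1238.a4_prank_subgroup 2 h2 T
  have hzc : ∀ g : ↥T, g * (⟨z, h.zT⟩ : ↥T) = ⟨z, h.zT⟩ * g :=
    fun g => Subtype.ext (h.zc g (h.TS g.2))
  have huc : ∀ g : ↥T, g * (⟨u, h.uT⟩ : ↥T) = ⟨u, h.uT⟩ * g :=
    fun g => Subtype.ext (h.uc g g.2)
  have hzz : (⟨z, h.zT⟩ : ↥T) * ⟨z, h.zT⟩ = 1 := Subtype.ext h.zz
  have huu : (⟨u, h.uT⟩ : ↥T) * ⟨u, h.uT⟩ = 1 := Subtype.ext h.uu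
  have hz1 : (⟨z, h.zT⟩ : ↥T) ≠ 1 := fun hh => h.z1 (congrArg Subtype.val hh)
  have hu1 : (⟨u, h.uT⟩ : ↥T) ≠ 1 := fun hh => h.u1 (congrArg Subtype.val hh)
  have hzu : (⟨z, h.zT⟩ : ↥T) ≠ ⟨u, h.uT⟩ := fun hh => h.uz (congrArg Subtype.val hh).symm
  -- involutions of `T` are central
  have hinv : ∀ g : ↥T, g * g = 1 → g ∈ Subgroup.center ↥T := by
    intro g hg
    rw [Subgroup.mem_center_iff]
    rcases Cfsg.Agent.Lib.helper60.S1238.rank_two_four h2T ⟨z, h.zT⟩ ⟨u, h.uT⟩ g hzz huu hg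
      (hzc ⟨u, h.uT⟩).symm (hzc g).symm (huc g).symm hz1 hu1 hzu with h1 | h1 | h1 | h1
    · intro x; rw [h1, mul_one, one_mul]
    · intro x; rw [h1]; exact hzc x
    · intro x; rw [h1]; exact huc x
    · intro x
      rw [h1, ← mul_assoc, hzc x, mul_assoc, huc x, mul_assoc]
  -- `s` normalizes `T`
  have hsu' : s⁻¹ * u * s = z * u := by
    calc s⁻¹ * u * s = s⁻¹ * (s * (z * u) * s⁻¹) * s := by rw [h.szu]
      _ = z * u := by group
  have hconj : ∀ t ∈ T, s * t * s⁻¹ ∈ T := by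
    intro t ht
    apply h.cent _ ((S : Subgroup G).mul_mem ((S : Subgroup G).mul_mem h.sS (h.TS ht))
      ((S : Subgroup G).inv_mem h.sS))
    have htz : t * z = z * t := h.zc t (h.TS ht)
    have htu : t * u = u * t := h.uc t ht
    have e1 : t * (z * u) = (z * u) * t := by
      rw [← mul_assoc, htz, mul_assoc, htu, mul_assoc]
    have e2 : s * t * s⁻¹ * u = s * (t * (s⁻¹ * u * s)) * s⁻¹ := by group
    have e3 : u * (s * t * s⁻¹) = s * ((s⁻¹ * u * s) * t) * s⁻¹ := by group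
    rw [e2, e3, hsu', e1]
  have hsN : s ∈ Subgroup.normalizer (T : Set G) :=
    Cfsg.Agent.Lib.helper60.S1238.mem_normalizer_of_conj_mem T s hconj
  have hssT : s * s ∈ T := by
    apply h.cent _ ((S : Subgroup G).mul_mem h.sS h.sS)
    have e1 : s * s * u = s * (s * u * s⁻¹) * s := by group
    have e2 : s * (z * u) * s = (s * (z * u) * s⁻¹) * (s * s) := by group
    rw [e1, h.su, e2, h.szu]
  refine hswap hinv (Fix2.conjAut T s hsN) ⟨s * s, hssT⟩ ?_ ⟨u, h.uT⟩ huu ?_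
  · intro x
    apply Subtype.ext
    show s * (s * (x : G) * s⁻¹) * s⁻¹ = s * s * (x : G) * (s * s)⁻¹
    group
  · intro hh
    have h1 : s * u * s⁻¹ = u := congrArg Subtype.val hh
    rw [h.su] at h1
    have h3 : z = 1 := by
      have := congrArg (· * u⁻¹) h1
      simpa using this
    exact h.z1 h3

end Cfsg.Agent.Lib.helper32.S1238
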