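import Mathlib
import Cfsg.Prelude.Def_CaseTheorems
import Cfsg.Agent.Lib.helper26.Suz64b
import Cfsg.Agent.Lib.helper37.S1238Cfg0
import Cfsg.Agent.Lib.helper26.S1238E2b
import Cfsg.Agent.Lib.helper32.S1238E2cpCore

/-! S1238 / S5213, piece E2c' (architect helper37): in the y-free configuration `Cfg0`,
`T = C_S(u)` is not a `Hyp64` group (core lemma + the landed piece E2b). -/

set_option autoImplicit false

namespace Cfsg.Agent.Lib.helper32.S1238

open Cfsg Cfsg.Agent.Lib.helper26 Cfsg.Agent.Lib.helper37.S1238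

/-- PIECE E2c' (y-free E2c). -/
theorem cfg0_not_hyp64 {G : Type*} [Group G] [Finite G] (h2 : Cfsg.PRankLE 2 2 G) (S : Sylow 2 G)
    (T : Subgroup G) (z u s : G) (h : Cfg0 (S : Subgroup G) T z u s)
    (ρ : MulAut ↥T) (H : S64.Hyp64 ρ) : False :=
  helper32_cfg0_not_hyp64_of h2 S T z u s h
    (fun hinv σ a hσ v hv hσv =>
      Cfsg.Agent.Lib.helper26.S1238.hyp64_no_swap H hinv σ a hσ v hv hσv)

end Cfsg.Agent.Lib.helper32.S1238
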