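import Mathlib

/-!
# S2361 piece P3: a nontrivial solvable subgroup has a nontrivial abelian normal subgroup which
is the whole group or lies in its derived subgroup (the last nontrivial term of the derived
series).
-/

set_option autoImplicit false

namespace Cfsg.Agent.Lib.helper32

theorem P3_solvable {G : Type*} [Group G] (S : Subgroup G) (hS : Group.IsSolvable S) (hS1 : S ≠ ⊥) :
    ∃ D : Subgroup G, D ≤ S ∧ D ≠ ⊥ ∧ (∀ x ∈ D, ∀ y ∈ D, x * y = y * x) ∧
      S ≤ Subgroup.normalizer (D : Set G) ∧ (D = S ∨ D ≤ ⁅S, S⁆) := by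
  classical
  have hex : ∃ n, derivedSeries S n = ⊥ := hS.solvable
  have hn_spec : derivedSeries S (Nat.find hex) = ⊥ := Nat.find_spec hex
  have hn0 : Nat.find hex ≠ 0 := by
    intro h0
    rw [h0, derivedSeries_zero] at hn_spec
    apply hS1
    rw [Subgroup.eq_bot_iff_forall]
    intro x hx
    have h1 : (⟨x, hx⟩ : S) ∈ (⊥ : Subgroup S) := by rw [← hn_spec]; trivial
    rw [Subgroup.mem_bot] at h1
    exact congrArg Subtype.val h1
  obtain ⟨m, hm⟩ := Nat.exists_eq_succ_of_ne_zero hn0
  have hD'ne : derivedSeries S m ≠ ⊥ := Nat.find_min hex (by rw [hm]; exact Nat.lt_succ_self m)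
  have hD'comm : ⁅derivedSeries S m, derivedSeries S m⁆ = ⊥ := by
    rw [← derivedSeries_succ, ← Nat.succ_eq_add_one, ← hm]
    exact hn_spec
  have hnorm : (derivedSeries S m).Normal := derivedSeries_normal S m
  refine ⟨(derivedSeries S m).map S.subtype, ?_, ?_, ?_, ?_, ?_⟩
  · rintro _ ⟨x, -, rfl⟩
    exact x.2
  · intro h
    apply hD'ne
    exact (Subgroup.map_eq_bot_iff_of_injective _ S.subtype_injective).mp h
  · rintro _ ⟨x, hx, rfl⟩ _ ⟨y, hy, rfl⟩
    have h1 := Subgroup.commutator_mem_commutator hx hy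
    rw [hD'comm, Subgroup.mem_bot] at h1
    have h2 : x * y = y * x := commutatorElement_eq_one_iff_mul_comm.mp h1
    exact congrArg Subtype.val h2
  · intro g hg
    rw [Subgroup.mem_normalizer_iff]
    intro h
    constructor
    · rintro ⟨x, hx, rfl⟩
      exact ⟨⟨g, hg⟩ * x * ⟨g, hg⟩⁻¹, hnorm.conj_mem x hx ⟨g, hg⟩, rfl⟩
    · rintro ⟨y, hy, hyeq⟩
      refine ⟨⟨g, hg⟩⁻¹ * y * ⟨g, hg⟩, ?_, ?_⟩
      · have := hnorm.conj_mem y hy (⟨g, hg⟩⁻¹)
        simpa using this
      · show g⁻¹ * (y : G) * g = h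
        have : (y : G) = g * h * g⁻¹ := hyeq
        rw [this]
        group
  · rcases Nat.eq_zero_or_pos m with h0 | hpos
    · left
      rw [h0, derivedSeries_zero, ← MonoidHom.range_eq_map, Subgroup.range_subtype]
    · right
      have h1 : derivedSeries S m ≤ derivedSeries S 1 := derivedSeries_antitone S hpos
      calc (derivedSeries S m).map S.subtype ≤ (derivedSeries S 1).map S.subtype :=
            Subgroup.map_mono h1
        _ = ⁅S, S⁆ := by
          rw [derivedSeries_one, commutator_def, Subgroup.map_commutator,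
            ← MonoidHom.range_eq_map, Subgroup.range_subtype]

end Cfsg.Agent.Lib.helper32
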