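import Cfsg.Agent.Lib.helper48.LBRefl

/-!
# S2686 piece F-CENT: `NoCent p (fAut σ)` for a field automorphism `σ` of prime order `p`

An automorphism of `PSL_n(F)` of order prime to `p` centralizing the fixed points of `fAut σ`
is trivial.
-/

set_option autoImplicit false

namespace Cfsg.Agent.Lib.helper32.S2686

open Matrix Cfsg
open Cfsg.Agent.Lib.helper47.PSLn
open Cfsg.Agent.Lib.helper48.LB
open Cfsg.Agent.Lib.helper48.AbsBal (fixG)

variable {n : ℕ} {F : Type*} [Field F] [Fintype F]

omit [Fintype F] in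
/-- no invertible matrix `h` satisfies `h E_ij = -E_ji h` for all `i ≠ j` when `n ≥ 3` -/
theorem no_swap (hn : 3 ≤ n) (h : GL (Fin n) F)
    (key : ∀ (i j : Fin n), i ≠ j →
      h.1 * Matrix.single i j (1 : F) = Matrix.single j i (-1 : F) * h.1) : False := by
  set i0 : Fin n := ⟨0, by omega⟩ with hi0
  set i1 : Fin n := ⟨1, by omega⟩ with hi1
  set i2 : Fin n := ⟨2, by omega⟩ with hi2
  have h01 : i0 ≠ i1 := by rw [hi0, hi1]; simp [Fin.ext_iff]
  have h02 : i0 ≠ i2 := by rw [hi0, hi2]; simp [Fin.ext_iff]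
  have h12 : i1 ≠ i2 := by rw [hi1, hi2]; simp [Fin.ext_iff]
  have hcol : ∀ a : Fin n, h.1 a i0 = 0 := by
    intro a
    by_cases ha : a = i1
    · have h3 := congrFun (congrFun (key i0 i2 h02) a) i2
      rw [Matrix.mul_single_apply_same,
        Matrix.single_mul_apply_of_ne _ _ _ _ _ (by rw [ha]; exact h12)] at h3
      simpa using h3
    · have h3 := congrFun (congrFun (key i0 i1 h01) a) i1
      rw [Matrix.mul_single_apply_same, Matrix.single_mul_apply_of_ne _ _ _ _ _ ha] at h3
      simpa using h3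
  have h4 : (h⁻¹.1 * h.1) i0 i0 = 1 := by
    have e : h⁻¹.1 * h.1 = 1 := h.inv_mul
    rw [e, Matrix.one_apply_eq]
  rw [Matrix.mul_apply] at h4
  simp only [hcol, mul_zero, Finset.sum_const_zero] at h4
  exact zero_ne_one h4

/-- Artin: an automorphism fixing the fixed field of `σ` pointwise is a power of `σ` -/
theorem mem_zpowers_of_fix (σ τ : F ≃+* F) (h : ∀ t : F, σ t = t → τ t = t) :
    τ ∈ Subgroup.zpowers σ := by
  classical
  let G : Subgroup (F ≃+* F) := Subgroup.zpowers σ
  have hfin : Finite (F ≃+* F) :=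
    Finite.of_injective (fun τ : F ≃+* F => (τ : F → F)) DFunLike.coe_injective
  have hτ' : ∀ x : FixedPoints.subfield G F,
      τ (algebraMap (FixedPoints.subfield G F) F x) = algebraMap (FixedPoints.subfield G F) F x :=
    fun x => h x (x.2 ⟨σ, Subgroup.mem_zpowers σ⟩)
  let τ' : F ≃ₐ[FixedPoints.subfield G F] F := AlgEquiv.ofRingEquiv (f := τ) hτ'
  obtain ⟨g, hg⟩ := (FixedPoints.toAlgAut_bijective G F).2 τ'
  have e : (g : F ≃+* F) = τ := by
    ext x
    have := congrArg (fun e : F ≃ₐ[FixedPoints.subfield G F] F => e x) hg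
    exact this
  rw [← e]
  exact g.2

/-- **Piece F-CENT.** -/
theorem field_noCent {r f : ℕ} [Fact r.Prime] (hF : Fintype.card F = r ^ f) (hn : 2 ≤ n)
    (σ : F ≃+* F) {p : ℕ} (hp : p.Prime) (hσ : orderOf σ = p) :
    NoCent p (fAut σ : MulAut (ProjectiveSpecialLinearGroup (Fin n) F)) := by
  intro a hcomm hfix hcop
  have hne : NeZero n := ⟨by omega⟩
  have hnt : Nontrivial (Fin n) := Fin.nontrivial_iff_two_le.mpr hn
  -- transvections over the fixed field are fixed
  have hTv : ∀ (i j : Fin n) (hij : i ≠ j) (t : F), σ t = t →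
      a (pr (SpecialLinearGroup.transvection hij t))
        = pr (SpecialLinearGroup.transvection hij t) := by
    intro i j hij t ht
    apply hfix
    rw [fAut_pr, mapSL_Tv, ht]
  -- normal form without graph part
  have hform : ∃ (h : GL (Fin n) F) (τ : F ≃+* F), a = cAut h * fAut τ := by
    rcases Nat.lt_or_ge n 3 with h3 | h3
    · obtain rfl : n = 2 := by omega
      exact aut_structure_two hF a
    · obtain ⟨h, τ, γ, hγ, rfl⟩ := aut_structure_all hF hn a
      rcases hγ with rfl | rfl
      · exact ⟨h, τ, by rw [mul_one]⟩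
      · exfalso
        apply no_swap h3 h
        intro i j hij
        have h1 := hTv j i hij.symm 1 (map_one σ)
        have h2 : (cAut h * fAut τ * gAut : MulAut (ProjectiveSpecialLinearGroup (Fin n) F))
            (pr (SpecialLinearGroup.transvection hij.symm (1 : F)))
            = cAut h (pr (SpecialLinearGroup.transvection hij (-1 : F))) := by
          show cAut h (fAut τ (gAut (pr _))) = _
          rw [gAut_pr, invT_Tv, fAut_pr, mapSL_Tv, map_neg, map_one]
        rw [h2] at h1
        have h3 := cAut_Tv_eq h hij hij.symm (-1) 1 h1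
        have e1 : Matrix.single i j (-1 : F) = - Matrix.single i j (1 : F) := by
          ext a b
          rw [Matrix.neg_apply, Matrix.single_apply, Matrix.single_apply]
          split_ifs <;> simp
        have e2 : Matrix.single j i (-1 : F) = - Matrix.single j i (1 : F) := by
          ext a b
          rw [Matrix.neg_apply, Matrix.single_apply, Matrix.single_apply]
          split_ifs <;> simp
        rw [e1, Matrix.mul_neg] at h3
        rw [e2, Matrix.neg_mul, ← h3, neg_neg]
  obtain ⟨h, τ, rfl⟩ := hform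
  have key : ∀ (i j : Fin n) (hij : i ≠ j) (t : F), σ t = t →
      h.1 * Matrix.single i j (τ t) = Matrix.single i j t * h.1 := by
    intro i j hij t ht
    apply cAut_Tv_eq h hij hij
    have h1 := hTv i j hij t ht
    rw [← h1]
    show _ = cAut h (fAut τ (pr _))
    rw [fAut_pr, mapSL_Tv]
  obtain ⟨c, hc⟩ := exists_scalar_of_comm hn h (fun i j hij => by
    have := key i j hij 1 (map_one σ)
    rwa [map_one] at this)
  have hτfix : ∀ t : F, σ t = t → τ t = t := by
    intro t ht
    obtain ⟨i, j, hij⟩ := exists_pair_ne (Fin n)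
    have h1 := key i j hij t ht
    rw [hc, Matrix.smul_mul, Matrix.mul_smul, Matrix.one_mul, Matrix.mul_one] at h1
    have h2 := congrFun (congrFun h1 i) j
    simp only [Matrix.smul_apply, Matrix.single_apply_same, smul_eq_mul] at h2
    exact mul_left_cancel₀ c.ne_zero h2
  have hcA : cAut h = (1 : MulAut (ProjectiveSpecialLinearGroup (Fin n) F)) :=
    cAut_eq_one_of_scalar h c hc
  rw [hcA, one_mul] at hcop ⊢
  have hτ : τ ∈ Subgroup.zpowers σ := mem_zpowers_of_fix σ τ hτfix
  have hτp : τ ^ p = 1 := by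
    obtain ⟨k, rfl⟩ := Subgroup.mem_zpowers_iff.mp hτ
    rw [← zpow_natCast, ← _root_.zpow_mul, mul_comm, _root_.zpow_mul, zpow_natCast, ← hσ,
      pow_orderOf_eq_one,
      _root_.one_zpow]
  have hap : (fAut τ : MulAut (ProjectiveSpecialLinearGroup (Fin n) F)) ^ p = 1 := by
    rw [← map_pow, hτp, map_one]
  have hdvd : orderOf (fAut τ : MulAut (ProjectiveSpecialLinearGroup (Fin n) F)) ∣ p :=
    orderOf_dvd_of_pow_eq_one hap
  exact orderOf_eq_one_iff.mp (Nat.Coprime.eq_one_of_dvd hcop hdvd)

end Cfsg.Agent.Lib.helper32.S2686
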