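import Mathlib
import Cfsg.Agent.Lib.helper26.S4409Defs

set_option autoImplicit false

namespace Cfsg.Agent.Lib.helper26.S4409

theorem h32_kfn1 {P : Type*} [Group P] [Finite P] (hP : IsPGroup 2 P)
    (hN : ∀ A : Subgroup P, IsMulCommutative ↥A → Nat.card ↥A = 8 → IsCyclic ↥A)
    (t z : P) (ht : orderOf t = 2) (hz : orderOf z = 2) (hzc : z ∈ Subgroup.center P)
    (htz : t ∉ Subgroup.zpowers z) : Nat.card ↥(Subgroup.centralizer ({t} : Set P)) = 4 := by
  classical
  have : Fact (Nat.Prime 2) := ⟨Nat.prime_two⟩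
  have hzcomm : ∀ g : P, g * z = z * g := Subgroup.mem_center_iff.mp hzc
  obtain ⟨C, hC⟩ : ∃ C : Subgroup P, C = Subgroup.centralizer ({t} : Set P) := ⟨_, rfl⟩
  obtain ⟨Z, hZ⟩ : ∃ Z : Subgroup P, Z = Subgroup.zpowers z := ⟨_, rfl⟩
  obtain ⟨T, hT⟩ : ∃ T : Subgroup P, T = Subgroup.zpowers t := ⟨_, rfl⟩
  obtain ⟨V, hV⟩ : ∃ V : Subgroup P, V = T ⊔ Z := ⟨_, rfl⟩
  rw [← hC]
  rw [← hZ] at htz
  have hZn : Z.Normal := ⟨fun n hn g => by
    have hc := Subgroup.mem_center_iff.mp (Subgroup.zpowers_le.mpr hzc (hZ ▸ hn)) g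
    rw [hc, mul_inv_cancel_right]; exact hn⟩
  have hZcard : Nat.card ↥Z = 2 := by rw [hZ, Nat.card_zpowers, hz]
  have hTcard : Nat.card ↥T = 2 := by rw [hT, Nat.card_zpowers, ht]
  have htC : t ∈ C := by
    rw [hC, Subgroup.mem_centralizer_iff]
    intro h hh
    rw [Set.mem_singleton_iff] at hh
    rw [hh]
  have hzC : z ∈ C := by
    rw [hC, Subgroup.mem_centralizer_iff]
    intro h _
    exact hzcomm h
  have hTC : T ≤ C := by rw [hT]; exact Subgroup.zpowers_le.mpr htC
  have hZC : Z ≤ C := by rw [hZ]; exact Subgroup.zpowers_le.mpr hzC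
  have hTV : T ≤ V := by rw [hV]; exact le_sup_left
  have hZV : Z ≤ V := by rw [hV]; exact le_sup_right
  have hVC : V ≤ C := by rw [hV]; exact sup_le hTC hZC
  have htV : t ∈ V := hTV (by rw [hT]; exact Subgroup.mem_zpowers t)
  have hzV : z ∈ V := hZV (by rw [hZ]; exact Subgroup.mem_zpowers z)
  -- |V| ≤ 4
  have hVle : Nat.card ↥V ≤ 4 := by
    have hsurj : Function.Surjective (fun p : ↥T × ↥Z =>
        (⟨(p.1 : P) * (p.2 : P), Subgroup.mul_mem _ (hTV p.1.2) (hZV p.2.2)⟩ : ↥V)) := by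
      rintro ⟨r, hr⟩
      rw [hV] at hr
      obtain ⟨a, ha, b, hb, rfl⟩ := Subgroup.mem_sup_of_normal_right.mp hr
      exact ⟨(⟨a, ha⟩, ⟨b, hb⟩), rfl⟩
    have := Nat.card_le_card_of_surjective _ hsurj
    rwa [Nat.card_prod, hTcard, hZcard] at this
  -- Z < K ⇒ 2 < |K|
  have hlt : ∀ K : Subgroup P, Z ≤ K → t ∈ K → 2 < Nat.card ↥K := by
    intro K hZK htK
    rcases (Subgroup.card_le_of_le hZK).lt_or_eq with h | h
    · rwa [hZcard] at h
    · have e := Subgroup.eq_of_le_of_card_ge hZK h.ge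
      rw [← e] at htK
      exact absurd htK htz
  have hVcard : Nat.card ↥V = 4 := by
    obtain ⟨v, hv⟩ := (IsPGroup.iff_card (p := 2) (G := ↥V)).mp (hP.to_subgroup V)
    have h2 := hlt V hZV htV
    rw [hv] at h2 hVle ⊢
    have hv2 : v = 2 := by
      rcases Nat.lt_or_ge v 2 with h | h
      · interval_cases v <;> omega
      · rcases Nat.lt_or_ge 2 v with h' | h'
        · have : 2 ^ 3 ≤ 2 ^ v := Nat.pow_le_pow_right (by norm_num) h'
          omega
        · omega
    rw [hv2]; norm_num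
  obtain ⟨c, hc⟩ := (IsPGroup.iff_card (p := 2) (G := ↥C)).mp (hP.to_subgroup C)
  have hC2 := hlt C hZC htC
  have hc2 : 2 ≤ c := by
    by_contra hlt'
    push Not at hlt'
    rw [hc] at hC2
    interval_cases c <;> omega
  rcases hc2.lt_or_eq with h3 | h3
  · exfalso
    have hdvd : 2 ^ 3 ∣ Nat.card ↥C := by rw [hc]; exact pow_dvd_pow 2 h3
    have hV'card : Nat.card ↥(V.subgroupOf C) = 2 ^ 2 := by
      rw [Nat.card_congr (Subgroup.subgroupOfEquivOfLe hVC).toEquiv, hVcard]; norm_num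
    obtain ⟨K, hKcard, hVK⟩ :=
      Sylow.exists_subgroup_card_pow_prime_le 2 hdvd (V.subgroupOf C) hV'card (by norm_num)
    obtain ⟨W, hW⟩ : ∃ W : Subgroup P, W = K.map C.subtype := ⟨_, rfl⟩
    have hWcard : Nat.card ↥W = 8 := by
      rw [hW, ← Nat.card_congr (K.equivMapOfInjective C.subtype C.subtype_injective).toEquiv, hKcard]
      norm_num
    have hVW : V ≤ W := by
      intro x hx
      rw [hW]
      exact ⟨⟨x, hVC hx⟩, hVK (Subgroup.mem_subgroupOf.mpr hx), rfl⟩
    have hWC : W ≤ C := by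
      rw [hW]
      rintro _ ⟨k, -, rfl⟩; exact k.2
    have hex : ∃ b ∈ W, b ∉ V := by
      by_contra hno
      push Not at hno
      have hle : W ≤ V := hno
      have := Subgroup.card_le_of_le hle
      omega
    obtain ⟨b, hbW, hbV⟩ := hex
    obtain ⟨B, hB⟩ : ∃ B : Subgroup P, B = Subgroup.zpowers b := ⟨_, rfl⟩
    have hbB : b ∈ B := by rw [hB]; exact Subgroup.mem_zpowers b
    have hBW : B ≤ W := by rw [hB]; exact Subgroup.zpowers_le.mpr hbW
    have hVB : V ⊔ B = W := by
      have hle : V ⊔ B ≤ W := sup_le hVW hBW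
      apply Subgroup.eq_of_le_of_card_ge hle
      obtain ⟨u, hu⟩ := (IsPGroup.iff_card (p := 2) (G := ↥(V ⊔ B))).mp (hP.to_subgroup _)
      have h4 : Nat.card ↥V < Nat.card ↥(V ⊔ B : Subgroup P) := by
        rcases (Subgroup.card_le_of_le (le_sup_left : V ≤ V ⊔ B)).lt_or_eq with h | h
        · exact h
        · have e := Subgroup.eq_of_le_of_card_ge (le_sup_left : V ≤ V ⊔ B) h.ge
          exfalso; apply hbV; rw [e]; exact (le_sup_right : B ≤ V ⊔ B) hbB
      rw [hWcard, hu]; rw [hVcard, hu] at h4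
      rcases Nat.lt_or_ge u 3 with h | h
      · interval_cases u <;> omega
      · have : 2 ^ 3 ≤ 2 ^ u := Nat.pow_le_pow_right (by norm_num) h
        omega
    have hbt : b * t = t * b := by
      have hbC := hWC hbW
      rw [hC] at hbC
      exact (Subgroup.mem_centralizer_iff.mp hbC t (Set.mem_singleton t)).symm
    have hWb : W ≤ Subgroup.centralizer ({b} : Set P) := by
      rw [← hVB, hV, hT, hZ, hB]
      refine sup_le (sup_le ?_ ?_) ?_
      · apply Subgroup.zpowers_le.mpr; rw [Subgroup.mem_centralizer_iff]; intro h hh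
        rw [Set.mem_singleton_iff] at hh; rw [hh]; exact hbt
      · apply Subgroup.zpowers_le.mpr; rw [Subgroup.mem_centralizer_iff]; intro h _; exact hzcomm h
      · apply Subgroup.zpowers_le.mpr; rw [Subgroup.mem_centralizer_iff]; intro h hh
        rw [Set.mem_singleton_iff] at hh; rw [hh]
    have hWW : W ≤ Subgroup.centralizer (W : Set P) := by
      have h1 : t ∈ Subgroup.centralizer (W : Set P) := by
        rw [Subgroup.mem_centralizer_iff]; intro w hw
        have hwC := hWC hw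
        rw [hC] at hwC
        exact (Subgroup.mem_centralizer_iff.mp hwC t (Set.mem_singleton t)).symm
      have h2 : z ∈ Subgroup.centralizer (W : Set P) := by
        rw [Subgroup.mem_centralizer_iff]; intro w _; exact hzcomm w
      have h3' : b ∈ Subgroup.centralizer (W : Set P) := by
        rw [Subgroup.mem_centralizer_iff]; intro w hw
        exact (Subgroup.mem_centralizer_iff.mp (hWb hw) b (Set.mem_singleton b)).symm
      have hle : V ⊔ B ≤ Subgroup.centralizer (W : Set P) := by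
        rw [hV, hT, hZ, hB]
        exact sup_le (sup_le (Subgroup.zpowers_le.mpr h1) (Subgroup.zpowers_le.mpr h2))
          (Subgroup.zpowers_le.mpr h3')
      rwa [hVB] at hle
    have hcommW : IsMulCommutative ↥W := IsMulCommutative.of_comm fun x y =>
      Subtype.ext (Subgroup.mem_centralizer_iff.mp (hWW y.2) x.1 x.2)
    have hcyc : IsCyclic ↥W := hN W hcommW hWcard
    have : Fintype ↥W := Fintype.ofFinite _
    have hcardF : Fintype.card ↥W = 8 := by rw [← Nat.card_eq_fintype_card, hWcard]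
    have htot := IsCyclic.card_orderOf_eq_totient (α := ↥W) (d := 2) (by rw [hcardF]; norm_num)
    rw [Nat.totient_two] at htot
    obtain ⟨a, ha⟩ := Finset.card_eq_one.mp htot
    have h1 : (⟨t, hVW htV⟩ : ↥W) ∈ ({a} : Finset ↥W) := by
      rw [← ha]; simp [Subgroup.orderOf_mk, ht]
    have h2 : (⟨z, hVW hzV⟩ : ↥W) ∈ ({a} : Finset ↥W) := by
      rw [← ha]; simp [Subgroup.orderOf_mk, hz]
    rw [Finset.mem_singleton] at h1 h2
    have htz' : t = z := congrArg Subtype.val (h1.trans h2.symm)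
    apply htz
    rw [hZ, htz']
    exact Subgroup.mem_zpowers z
  · rw [hc, ← h3]; norm_num

end Cfsg.Agent.Lib.helper26.S4409
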