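import Mathlib
import Cfsg.Agent.Lib.helper26.S4409Defs

set_option autoImplicit false

namespace Cfsg.Agent.Lib.helper26.S4409

variable {G : Type*} [Group G]

theorem h32_kfn3 [Finite G] (Y : Subgroup G) (h2 : IsPGroup 2 (MulAut ↥Y)) (g : G)
    (hg : g ∈ Subgroup.normalizer (Y : Set G)) (hodd : Odd (orderOf g)) :
    g ∈ Subgroup.centralizer (Y : Set G) := by
  set γ : ↥(Subgroup.normalizer (Y : Set G)) := ⟨g, hg⟩ with hγ
  set φ : MulAut ↥Y := Y.normalizerMonoidHom γ with hφ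
  have h1 : φ ^ orderOf g = 1 := by
    rw [hφ, ← map_pow]
    have : γ ^ orderOf g = 1 := by
      apply Subtype.ext
      simp [hγ, pow_orderOf_eq_one]
    rw [this, map_one]
  obtain ⟨k, hk⟩ := h2 φ
  have hd1 : orderOf φ ∣ orderOf g := orderOf_dvd_of_pow_eq_one h1
  have hd2 : orderOf φ ∣ 2 ^ k := orderOf_dvd_of_pow_eq_one hk
  have hcop : Nat.Coprime (orderOf g) (2 ^ k) := by
    apply Nat.Coprime.pow_right
    exact Nat.coprime_two_right.mpr hodd
  have hone : orderOf φ = 1 := Nat.eq_one_of_dvd_coprimes hcop hd1 hd2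
  have hφ1 : φ = 1 := orderOf_eq_one_iff.mp hone
  have hker : γ ∈ Y.normalizerMonoidHom.ker := by
    rw [MonoidHom.mem_ker]; exact hφ1
  rw [Subgroup.normalizerMonoidHom_ker, Subgroup.mem_subgroupOf] at hker
  exact hker

end Cfsg.Agent.Lib.helper26.S4409
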