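import Mathlib
import Cfsg.Agent.Lib.helper26.S4409Defs

set_option autoImplicit false

namespace Cfsg.Agent.Lib.helper26.S4409

variable {G : Type*} [Group G]

theorem h32_kfn4 (Y : Subgroup G) (hN : NoP Y) :
    ∀ A : Subgroup ↥Y, IsMulCommutative ↥A → Nat.card ↥A = 8 → IsCyclic ↥A := by
  intro A hcomm hcard
  have hinj : Function.Injective Y.subtype := Y.subtype_injective
  have hle : A.map Y.subtype ≤ Y := by
    rintro _ ⟨a, -, rfl⟩
    exact a.2
  have e : ↥A ≃* ↥(A.map Y.subtype) := A.equivMapOfInjective _ hinj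
  have hcomm' : IsMulCommutative ↥(A.map Y.subtype) := by
    refine IsMulCommutative.of_comm fun a b => ?_
    apply e.symm.injective
    rw [map_mul, map_mul]
    exact mul_comm' _ _
  have hcard' : Nat.card ↥(A.map Y.subtype) = 8 := by
    rw [← Nat.card_congr e.toEquiv, hcard]
  have hcyc' : IsCyclic ↥(A.map Y.subtype) := hN _ hle hcomm' hcard'
  exact isCyclic_of_surjective e.symm.toMonoidHom e.symm.surjective

end Cfsg.Agent.Lib.helper26.S4409
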