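import Mathlib
import Cfsg.Agent.Lib.helper26.S4409Defs

set_option autoImplicit false

namespace Cfsg.Agent.Lib.helper26.S4409

variable {G : Type*} [Group G]

/-- an element normalizing `M` and `X` normalizes `M ⊔ ⁅X, X⁆`. -/
theorem h32_norm_sup_comm (X M : Subgroup G) (g : G)
    (hgM : g ∈ Subgroup.normalizer (M : Set G)) (hgX : g ∈ Subgroup.normalizer (X : Set G)) :
    g ∈ Subgroup.normalizer ((M ⊔ ⁅X, X⁆ : Subgroup G) : Set G) := by
  rw [Subgroup.mem_normalizer_iff_map_conj_eq] at hgM hgX ⊢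
  rw [Subgroup.map_sup, Subgroup.map_commutator, hgM, hgX]

theorem h32_maxq1 [Finite G] (X H M : Subgroup G) (hX : IsPGroup 2 ↥X)
    (hH : H ≤ Subgroup.normalizer (X : Set G)) (hMax : IsMaxInv X H M) : ⁅X, X⁆ ≤ M := by
  obtain ⟨hMX, hMne, hXM, hHM, hmax⟩ := hMax
  have hcommX : ⁅X, X⁆ ≤ X := Subgroup.commutator_le.mpr fun a ha b hb =>
    X.mul_mem (X.mul_mem (X.mul_mem ha hb) (X.inv_mem ha)) (X.inv_mem hb)
  have hNX : M ⊔ ⁅X, X⁆ ≤ X := sup_le hMX hcommX
  rcases hmax (M ⊔ ⁅X, X⁆) le_sup_left hNX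
      (fun x hx => h32_norm_sup_comm X M x (hXM hx) (Subgroup.le_normalizer hx))
      (fun h hh => h32_norm_sup_comm X M h (hHM hh) (hH hh)) with h | h
  · rw [← h]; exact le_sup_right
  · exfalso
    have : Fact (Nat.Prime 2) := ⟨Nat.prime_two⟩
    have hnormal : (M.subgroupOf X).Normal :=
      (Subgroup.normal_subgroupOf_iff_le_normalizer hMX).mpr hXM
    have hne : M.subgroupOf X ≠ ⊤ := by
      intro htop
      rw [Subgroup.subgroupOf_eq_top] at htop
      exact hMne (le_antisymm hMX htop)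
    have hQp : IsPGroup 2 (↥X ⧸ M.subgroupOf X) := hX.to_quotient _
    have hnil : Group.IsNilpotent (↥X ⧸ M.subgroupOf X) := hQp.isNilpotent
    have hnt : Nontrivial (↥X ⧸ M.subgroupOf X) := by
      rw [QuotientGroup.nontrivial_iff]
      exact hne
    have hlt := Group.IsSolvable.commutator_lt_top_of_nontrivial (↥X ⧸ M.subgroupOf X)
    have htop : M.subgroupOf X ⊔ _root_.commutator ↥X = ⊤ := by
      apply Subgroup.map_injective X.subtype_injective
      rw [Subgroup.map_sup, Subgroup.map_subtype_commutator, Subgroup.map_subgroupOf_eq_of_le hMX, h,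
        ← MonoidHom.range_eq_map, Subgroup.range_subtype]
    have hsurj : Function.Surjective (QuotientGroup.mk' (M.subgroupOf X)) :=
      QuotientGroup.mk'_surjective _
    have h2 : (_root_.commutator ↥X).map (QuotientGroup.mk' (M.subgroupOf X)) =
        _root_.commutator (↥X ⧸ M.subgroupOf X) := by
      rw [commutator_def, commutator_def, Subgroup.map_commutator,
        Subgroup.map_top_of_surjective _ hsurj]
    have h3 := congrArg (Subgroup.map (QuotientGroup.mk' (M.subgroupOf X))) htop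
    rw [Subgroup.map_sup, QuotientGroup.map_mk'_self, bot_sup_eq, h2,
      Subgroup.map_top_of_surjective _ hsurj] at h3
    exact hlt.ne h3

end Cfsg.Agent.Lib.helper26.S4409
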