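import Mathlib
import Cfsg.Agent.Lib.helper26.S4409Defs

set_option autoImplicit false

namespace Cfsg.Agent.Lib.helper26.S4409

variable {G : Type*} [Group G]

theorem h32_specx (X M : Subgroup G) (hMX : M ≤ X)
    (hZ : X ⊓ Subgroup.centralizer (X : Set G) = M) (hc : ⁅X, X⁆ = M) :
    _root_.commutator ↥X = Subgroup.center ↥X ∧
      Nat.card ↥(Subgroup.center ↥X) = Nat.card ↥M ∧
      ∀ x : ↥X, (x : G) ∈ M → x ∈ Subgroup.center ↥X := by
  have hcen : Subgroup.center ↥X = M.subgroupOf X := by
    ext x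
    rw [Subgroup.mem_center_iff, Subgroup.mem_subgroupOf, ← hZ, Subgroup.mem_inf,
      Subgroup.mem_centralizer_iff]
    constructor
    · intro h
      refine ⟨x.2, fun y hy => ?_⟩
      have := h ⟨y, hy⟩
      exact congrArg Subtype.val this
    · rintro ⟨-, h⟩ y
      apply Subtype.ext
      exact h y y.2
  have hcomm : _root_.commutator ↥X = M.subgroupOf X := by
    apply Subgroup.map_injective X.subtype_injective
    rw [Subgroup.map_subtype_commutator, hc, Subgroup.map_subgroupOf_eq_of_le hMX]
  refine ⟨hcomm.trans hcen.symm, ?_, ?_⟩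
  · rw [hcen]
    exact Nat.card_congr (Subgroup.subgroupOfEquivOfLe hMX).toEquiv
  · intro x hx
    rw [hcen, Subgroup.mem_subgroupOf]
    exact hx

end Cfsg.Agent.Lib.helper26.S4409
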