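import Mathlib
import Cfsg.Agent.Lib.helper89.S60Defs
import Cfsg.Agent.Lib.helper11.S60S3core
import Cfsg.Agent.Lib.helper53.S60CONJ3
import Cfsg.Agent.Lib.helper30.S60EX3

/-! S6000 split (helper89), piece S3: racer copy (prefixed `h32_`) of the wrapper around the landed
core `h11_s60_suff_three_core`, with CONJ3 (`s60_three_class`) and EX3 (`s60_exists_three`). -/

set_option autoImplicit false

namespace Cfsg.Agent.Lib.helper89.S60

open Matrix Cfsg Cfsg.Geo

/-- S3 (racer copy). -/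
theorem h32_s60_suff_three {F : Type*} [Field F] [Fintype F] (h2 : (2 : F) ≠ 0) (R : Subgroup (GL (Fin 4) F)) (w : F) (hG : Good R w)
    (hq : Fintype.card F % 3 = 2) (x : GL (Fin 4) F) (hx : x ∈ specialLinear (Fin 4) F) (z : F)
    (hz : (x : Matrix (Fin 4) (Fin 4) F) ^ 3 = z • (1 : Matrix (Fin 4) (Fin 4) F)) (hns : ∀ z : F, (x : Matrix (Fin 4) (Fin 4) F) ≠ z • (1 : Matrix (Fin 4) (Fin 4) F)) :
    ∃ g ∈ specialLinear (Fin 4) F, g⁻¹ * x * g ∈ subgroupNormalizer R :=
  h11_s60_suff_three_core h2 R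
    (fun y hy hy1 => s60_three_class h2 (h11_three_ne h2 hq) (h11_no_omega h2 hq) y hy hy1)
    (s60_exists_three h2 R w hG) hq x z hz hns

end Cfsg.Agent.Lib.helper89.S60
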