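import Mathlib
import Cfsg.Agent.Lib.helper24.S6eDefs

set_option autoImplicit false

namespace Cfsg.Agent.Lib.helper24

open Matrix Cfsg Cfsg.Geo

theorem h32_s6_center {F : Type*} [Field F] (h2 : (2 : F) ≠ 0) (R : Subgroup (GL S6I F))
    (hRi : ActsAbsolutelyIrreducibly (matrixSet R)) (hRf : R ≤ spGL 2 F)
    (hRZ : Nat.card (Subgroup.center R) = 2) :
    (∃ z ∈ R, (z : Matrix S6I S6I F) = -1) ∧
    ∀ s ∈ R, (∀ t ∈ R, s * t = t * s) → ((s : Matrix S6I S6I F) = 1 ∨ (s : Matrix S6I S6I F) = -1) := by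
  have key : ∀ s ∈ R, (∀ t ∈ R, s * t = t * s) →
      ((s : Matrix S6I S6I F) = 1 ∨ (s : Matrix S6I S6I F) = -1) := by
    intro s hs hcomm
    have hcm : ∀ m ∈ matrixSet R, (s : Matrix S6I S6I F) * m = m * (s : Matrix S6I S6I F) := by
      rintro _ ⟨t, ht, rfl⟩
      have h := congrArg (fun g : GL S6I F => (g : Matrix S6I S6I F)) (hcomm t ht)
      simpa using h
    obtain ⟨c, hc⟩ := hRi.2 _ hcm
    have hsp : sympForm 2 F ((s : Matrix S6I S6I F) *ᵥ (Pi.single (Sum.inl 0) 1))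
        ((s : Matrix S6I S6I F) *ᵥ (Pi.single (Sum.inr 0) 1)) =
        sympForm 2 F (Pi.single (Sum.inl 0) 1) (Pi.single (Sum.inr 0) 1) :=
      hRf hs (Pi.single (Sum.inl 0) 1) (Pi.single (Sum.inr 0) 1)
    have hscal : ∀ u : S6I → F, (c • (1 : Matrix S6I S6I F)) *ᵥ u = c • u := by
      intro u
      rw [Matrix.smul_mulVec, Matrix.one_mulVec]
    rw [hc, hscal, hscal] at hsp
    simp only [sympForm, Matrix.mulVec_smul, smul_dotProduct, dotProduct_smul,
      Matrix.mulVec_single_one, single_one_dotProduct, smul_eq_mul,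
      Matrix.J, Matrix.col_apply, Matrix.fromBlocks_apply₁₂, Matrix.neg_apply, Matrix.one_apply_eq] at hsp
    have hcc : (c - 1) * (c + 1) = 0 := by linear_combination -hsp
    rcases mul_eq_zero.mp hcc with h | h
    · left
      rw [hc, sub_eq_zero.mp h, one_smul]
    · right
      rw [hc, eq_neg_of_add_eq_zero_left h, neg_smul, one_smul]
  refine ⟨?_, key⟩
  have hfin : Finite (Subgroup.center R) := Nat.finite_of_card_ne_zero (by rw [hRZ]; norm_num)
  have hnt : Nontrivial (Subgroup.center R) := by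
    rw [← Finite.one_lt_card_iff_nontrivial, hRZ]; norm_num
  obtain ⟨s₀, hs₀⟩ := exists_ne (1 : Subgroup.center R)
  have hcomm : ∀ t ∈ R, ((s₀ : R) : GL S6I F) * t = t * ((s₀ : R) : GL S6I F) := by
    intro t ht
    have h := Subgroup.mem_center_iff.mp s₀.2 ⟨t, ht⟩
    have h' := congrArg (fun g : R => (g : GL S6I F)) h
    simpa using h'.symm
  refine ⟨((s₀ : R) : GL S6I F), (s₀ : R).2, ?_⟩
  rcases key _ (s₀ : R).2 hcomm with h | h
  · exfalso
    apply hs₀
    apply Subtype.ext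
    apply Subtype.ext
    apply Units.ext
    rw [h]; rfl
  · exact h

end Cfsg.Agent.Lib.helper24
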