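import Mathlib
import Cfsg.Agent.Lib.helper24.S6eDefs
import Cfsg.Agent.Lib.helper32.S6eE34r
import Cfsg.Agent.Lib.helper32.S6eE12r

set_option autoImplicit false

namespace Cfsg.Agent.Lib.helper24

open Matrix Cfsg Cfsg.Geo

theorem h32_s6_emb_pow {F : Type*} [Field F] (A : Matrix (Fin 2) (Fin 2) F) (n : ℕ) :
    s6Emb (A ^ n) = s6Emb A ^ n := by
  induction n with
  | zero => rw [pow_zero, pow_zero]; exact (h32_s6_emb_facts A A).2.1
  | succ n ih => rw [pow_succ, pow_succ, (h32_s6_emb_facts (A ^ n) A).1, ih]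

theorem h32_trace_adj2 {F : Type*} [Field F] (A : Matrix (Fin 2) (Fin 2) F) :
    Matrix.trace (Matrix.adjugate A) = Matrix.trace A := by
  rw [Matrix.trace_fin_two, Matrix.trace_fin_two, Matrix.adjugate_fin_two]
  simp
  ring

/-- the element of `GL` built from `s6Emb A` for `det A = 1` -/
theorem h32_s6_gl {F : Type*} [Field F] (A : Matrix (Fin 2) (Fin 2) F) (hdet : A.det = 1) :
    ∃ x : GL S6I F, (x : Matrix S6I S6I F) = s6Emb A ∧
      ((x⁻¹ : GL S6I F) : Matrix S6I S6I F) = s6Emb (Matrix.adjugate A) ∧ x ∈ spGL 2 F := by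
  have hm1 : s6Emb A * s6Emb (Matrix.adjugate A) = 1 := by
    rw [← (h32_s6_emb_facts A (Matrix.adjugate A)).1, Matrix.mul_adjugate, hdet, one_smul,
      (h32_s6_emb_facts A A).2.1]
  have hm2 : s6Emb (Matrix.adjugate A) * s6Emb A = 1 := by
    rw [← (h32_s6_emb_facts (Matrix.adjugate A) A).1, Matrix.adjugate_mul, hdet, one_smul,
      (h32_s6_emb_facts A A).2.1]
  refine ⟨⟨s6Emb A, s6Emb (Matrix.adjugate A), hm1, hm2⟩, rfl, rfl, ?_⟩
  intro u v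
  exact (h32_s6_emb_facts A A).2.2.2.1 hdet u v

theorem h32_three_dvd {F : Type*} [Field F] [Fintype F] (h3 : (3 : F) ≠ 0) :
    3 ∣ Fintype.card F ^ 2 - 1 := by
  obtain ⟨p, hp⟩ := CharP.exists F
  obtain ⟨n, hpp, hcard⟩ := FiniteField.card F p
  have hnd : ¬ 3 ∣ Fintype.card F := by
    intro hd
    rw [hcard] at hd
    have h3p : 3 ∣ p := Nat.Prime.dvd_of_dvd_pow Nat.prime_three hd
    have hp3 : 3 = p := (Nat.prime_dvd_prime_iff_eq Nat.prime_three hpp).mp h3p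
    subst hp3
    have h0 : ((3 : ℕ) : F) = 0 := CharP.cast_eq_zero F 3
    exact h3 (by exact_mod_cast h0)
  obtain ⟨q, hq⟩ : ∃ q, q = Fintype.card F := ⟨_, rfl⟩
  rw [← hq] at hnd ⊢
  have hmod : q % 3 = 1 ∨ q % 3 = 2 := by omega
  have hsq : (q * q) % 3 = 1 := by
    rw [Nat.mul_mod]
    rcases hmod with h | h <;> rw [h]
  rw [sq]
  omega

theorem s6_exists_three {F : Type*} [Field F] [Fintype F] (h2 : (2 : F) ≠ 0) (h3 : (3 : F) ≠ 0) :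
    ∃ x : GL S6I F, x ∈ spGL 2 F ∧ x ^ 3 = 1 ∧ (∀ z : F, (x : Matrix S6I S6I F) ≠ z • (1 : Matrix S6I S6I F)) ∧
      Matrix.trace (x : Matrix S6I S6I F) = 1 ∧ Matrix.trace ((x⁻¹ : GL S6I F) : Matrix S6I S6I F) = 1 := by
  have : Fact (Nat.Prime 3) := ⟨Nat.prime_three⟩
  obtain ⟨A, hdet, hA3, hA1⟩ := h32_s6_sl2_elt (F := F) 3 (h32_three_dvd h3)
  obtain ⟨x, hx, hxi, hxsp⟩ := h32_s6_gl A hdet
  have htr := h32_s6_sl2_trace3 h2 A hdet hA3 hA1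
  refine ⟨x, hxsp, ?_, ?_, ?_, ?_⟩
  · apply Units.ext
    rw [Units.val_pow_eq_pow_val, hx, ← h32_s6_emb_pow, hA3, (h32_s6_emb_facts A A).2.1]
    rfl
  · rw [hx]; exact (h32_s6_emb_facts A A).2.2.2.2 hA1
  · rw [hx, (h32_s6_emb_facts A A).2.2.1, htr]; norm_num
  · rw [hxi, (h32_s6_emb_facts (Matrix.adjugate A) A).2.2.1, h32_trace_adj2, htr]; norm_num

theorem s6_exists_five {F : Type*} [Field F] [Fintype F] (h2 : (2 : F) ≠ 0)
    (hdiv : 5 ∣ Fintype.card F ^ 2 - 1) :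
    ∃ x : GL S6I F, x ∈ spGL 2 F ∧ x ^ 5 = 1 ∧ (∀ z : F, (x : Matrix S6I S6I F) ≠ z • (1 : Matrix S6I S6I F)) ∧
      ∃ τ : F, τ ^ 2 + τ - 1 = 0 ∧ Matrix.trace (x : Matrix S6I S6I F) = 2 + τ ∧
        Matrix.trace ((x⁻¹ : GL S6I F) : Matrix S6I S6I F) = 2 + τ := by
  have : Fact (Nat.Prime 5) := ⟨Nat.prime_five⟩
  obtain ⟨A, hdet, hA5, hA1⟩ := h32_s6_sl2_elt (F := F) 5 hdiv
  obtain ⟨x, hx, hxi, hxsp⟩ := h32_s6_gl A hdet
  have htr := h32_s6_sl2_trace5 h2 A hdet hA5 hA1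
  refine ⟨x, hxsp, ?_, ?_, Matrix.trace A, htr, ?_, ?_⟩
  · apply Units.ext
    rw [Units.val_pow_eq_pow_val, hx, ← h32_s6_emb_pow, hA5, (h32_s6_emb_facts A A).2.1]
    rfl
  · rw [hx]; exact (h32_s6_emb_facts A A).2.2.2.2 hA1
  · rw [hx, (h32_s6_emb_facts A A).2.2.1, add_comm]
  · rw [hxi, (h32_s6_emb_facts (Matrix.adjugate A) A).2.2.1, h32_trace_adj2, add_comm]

end Cfsg.Agent.Lib.helper24
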