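import Cfsg.Agent.S3335
import Cfsg.Agent.Lib.helper53.SM_W1
import Mathlib

set_option autoImplicit false
open Cfsg Cfsg.Agent.S3335

namespace Cfsg.Agent.Lib.helper70.SM

universe u

/-- O4 (helper32 racing copy): the `A₄` relation, odd kernel. -/
theorem h32_odd_a4 {Γ : Type u} [Group Γ] [Finite Γ] {P : Type*} [Group P] (π : Γ →* P)
    (hc : π.ker ≤ Subgroup.center Γ) (hodd : Odd (Nat.card π.ker))
    (a b : Γ) (ha : a ^ 3 = 1) (hb : b ^ 2 = 1) (hab : (π a * π b) ^ 3 = 1) :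
    (a * b) ^ 3 = 1 := by
  -- an element of the kernel with trivial square is trivial
  have key : ∀ g : Γ, g ∈ π.ker → g ^ 2 = 1 → g = 1 := by
    intro g hg hg2
    have h1 : orderOf g ∣ 2 := orderOf_dvd_of_pow_eq_one hg2
    have h2 : orderOf g ∣ Nat.card π.ker := by
      have h := orderOf_dvd_natCard (⟨g, hg⟩ : π.ker)
      rwa [Subgroup.orderOf_mk] at h
    have h3 : Nat.Coprime 2 (Nat.card π.ker) := Nat.coprime_two_left.mpr hodd
    exact orderOf_eq_one_iff.mp (Nat.eq_one_of_dvd_coprimes h3 h1 h2)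
  have hb' : b * b = 1 := by rw [← sq]; exact hb
  have hπa : π a ^ 3 = 1 := by rw [← map_pow, ha, map_one]
  have hπb : π b ^ 2 = 1 := by rw [← map_pow, hb, map_one]
  have hW := a4_comm (π a) (π b) hπa hπb hab
  -- conjugation lemmas
  have conj_sq : ∀ x : Γ, x * x = 1 → (a * x * a⁻¹) * (a * x * a⁻¹) = 1 := by
    intro x hx
    calc (a * x * a⁻¹) * (a * x * a⁻¹) = a * (x * x) * a⁻¹ := by group
      _ = 1 := by rw [hx]; group
  have conj_comm : ∀ x y : Γ, x * y = y * x →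
      (a * x * a⁻¹) * (a * y * a⁻¹) = (a * y * a⁻¹) * (a * x * a⁻¹) := by
    intro x y hxy
    calc (a * x * a⁻¹) * (a * y * a⁻¹) = a * (x * y) * a⁻¹ := by group
      _ = a * (y * x) * a⁻¹ := by rw [hxy]
      _ = (a * y * a⁻¹) * (a * x * a⁻¹) := by group
  -- commuting of involutions whose product squares into the kernel
  have inv2 : ∀ u v : Γ, u * u = 1 → v * v = 1 → (u * v) ^ 2 ∈ π.ker → u * v = v * u := by
    intro u v hu hv hk
    have hcen := hc hk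
    have hui : u⁻¹ = u := inv_eq_of_mul_eq_one_right hu
    have hvi : v⁻¹ = v := inv_eq_of_mul_eq_one_right hv
    have e1 : u * (u * v) ^ 2 * u⁻¹ = ((u * v)⁻¹) ^ 2 := by
      have h : u * (u * v) * u⁻¹ = (u * v)⁻¹ := by
        rw [mul_inv_rev, hui, hvi, ← mul_assoc, hu, one_mul]
      rw [← h, conj_pow]
    have e2 : u * (u * v) ^ 2 * u⁻¹ = (u * v) ^ 2 := by
      have h := Subgroup.mem_center_iff.mp hcen u
      rw [h, mul_inv_cancel_right]
    have e3 : ((u * v) ^ 2) ^ 2 = 1 := by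
      have h : ((u * v) ^ 2)⁻¹ = (u * v) ^ 2 := by rw [← inv_pow, ← e1, e2]
      calc ((u * v) ^ 2) ^ 2 = ((u * v) ^ 2)⁻¹ * (u * v) ^ 2 := by rw [h, sq]
        _ = 1 := inv_mul_cancel _
    have e4 : (u * v) ^ 2 = 1 := key _ hk e3
    have h5 : u * v = (u * v)⁻¹ := by
      rw [eq_inv_iff_mul_eq_one, ← sq]; exact e4
    calc u * v = (u * v)⁻¹ := h5
      _ = v * u := by rw [mul_inv_rev, hui, hvi]
  -- the three involutions
  have hv' : (a * b * a⁻¹) * (a * b * a⁻¹) = 1 := conj_sq b hb'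
  have hw' : (a * (a * b * a⁻¹) * a⁻¹) * (a * (a * b * a⁻¹) * a⁻¹) = 1 := conj_sq _ hv'
  have hawa : a * (a * (a * b * a⁻¹) * a⁻¹) * a⁻¹ = b := by
    calc a * (a * (a * b * a⁻¹) * a⁻¹) * a⁻¹ = a ^ 3 * b * (a ^ 3)⁻¹ := by
          simp only [pow_succ, pow_zero, one_mul, mul_inv_rev, mul_assoc]
      _ = b := by rw [ha]; group
  have huv_ker : (b * (a * b * a⁻¹)) ^ 2 ∈ π.ker := by
    rw [MonoidHom.mem_ker]
    simp only [map_pow, map_mul, map_inv]
    have hXX : π b * π b = 1 := by rw [← sq]; exact hπb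
    have hY : (π a * π b * (π a)⁻¹) * (π a * π b * (π a)⁻¹) = 1 := by
      calc (π a * π b * (π a)⁻¹) * (π a * π b * (π a)⁻¹) = π a * (π b * π b) * (π a)⁻¹ := by group
        _ = 1 := by rw [hXX]; group
    rw [sq]
    calc π b * (π a * π b * (π a)⁻¹) * (π b * (π a * π b * (π a)⁻¹))
        = π b * ((π a * π b * (π a)⁻¹) * π b) * (π a * π b * (π a)⁻¹) := by
          simp only [mul_assoc]
      _ = π b * (π b * (π a * π b * (π a)⁻¹)) * (π a * π b * (π a)⁻¹) := by rw [← hW]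
      _ = (π b * π b) * ((π a * π b * (π a)⁻¹) * (π a * π b * (π a)⁻¹)) := by
          simp only [mul_assoc]
      _ = 1 := by rw [hY, hXX, one_mul]
  have hbv : b * (a * b * a⁻¹) = (a * b * a⁻¹) * b := inv2 _ _ hb' hv' huv_ker
  have hvw : (a * b * a⁻¹) * (a * (a * b * a⁻¹) * a⁻¹)
      = (a * (a * b * a⁻¹) * a⁻¹) * (a * b * a⁻¹) := conj_comm _ _ hbv
  have hwb : (a * (a * b * a⁻¹) * a⁻¹) * b = b * (a * (a * b * a⁻¹) * a⁻¹) := by
    have h := conj_comm _ _ hvw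
    rw [hawa] at h
    exact h
  -- the cube
  have hcube : (a * b) ^ 3 = (a * b * a⁻¹) * (a * (a * b * a⁻¹) * a⁻¹) * b := by
    calc (a * b) ^ 3 = (a * b * a⁻¹) * (a * (a * b * a⁻¹) * a⁻¹) * (a ^ 3 * b) := by
          simp only [pow_succ, pow_zero, one_mul, mul_assoc, inv_mul_cancel_left]
      _ = (a * b * a⁻¹) * (a * (a * b * a⁻¹) * a⁻¹) * b := by rw [ha, one_mul]
  have hβker : (a * b * a⁻¹) * (a * (a * b * a⁻¹) * a⁻¹) * b ∈ π.ker := by
    rw [← hcube, MonoidHom.mem_ker, map_pow, map_mul]; exact hab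
  have hβ2 : ((a * b * a⁻¹) * (a * (a * b * a⁻¹) * a⁻¹) * b) ^ 2 = 1 := by
    have c1 : Commute (a * b * a⁻¹) (a * (a * b * a⁻¹) * a⁻¹) := hvw
    have c2 : Commute ((a * b * a⁻¹) * (a * (a * b * a⁻¹) * a⁻¹)) b :=
      Commute.mul_left hbv.symm hwb
    rw [c2.mul_pow, c1.mul_pow, sq (a * b * a⁻¹), sq (a * (a * b * a⁻¹) * a⁻¹), sq b, hv', hw',
      hb', one_mul, one_mul]
  rw [hcube]
  exact key _ hβker hβ2

end Cfsg.Agent.Lib.helper70.SM
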