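import Cfsg.Agent.S3335
import Mathlib

set_option autoImplicit false
open Cfsg Cfsg.Agent.S3335

namespace Cfsg.Agent.Lib.helper70.SM

universe u

/-- T4 (helper32): `(a t)² = t²` when `π t` inverts `π a`, `a³ = 1`, and the kernel is a
central 2-group. -/
theorem two_far_zero {Γ : Type u} [Group Γ] [Finite Γ] {P : Type*} [Group P] (π : Γ →* P)
    (hc : π.ker ≤ Subgroup.center Γ) (h2 : IsPGroup 2 π.ker)
    (a t : Γ) (ha : a ^ 3 = 1) (ht : π t ^ 2 = 1) (hat : (π a * π t) ^ 2 = 1) :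
    (a * t) ^ 2 = t ^ 2 := by
  have hηker : a * (t * a * t⁻¹) ∈ π.ker := by
    rw [MonoidHom.mem_ker]
    simp only [map_mul, map_inv]
    have h1 : π a * π t * (π a * π t) = 1 := by rw [← sq]; exact hat
    have h2' : π t * π t = 1 := by rw [← sq]; exact ht
    have h3 : (π t)⁻¹ = π t := by
      rw [inv_eq_iff_mul_eq_one]; exact h2'
    rw [h3]
    calc π a * (π t * π a * π t) = π a * π t * (π a * π t) := by group
      _ = 1 := h1
  have hηc : a * (t * a * t⁻¹) ∈ Subgroup.center Γ := hc hηker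
  have hcomm : ∀ g : Γ, g * (a * (t * a * t⁻¹)) = (a * (t * a * t⁻¹)) * g :=
    fun g => (Subgroup.mem_center_iff.mp hηc g)
  have hη3 : (a * (t * a * t⁻¹)) ^ 3 = 1 := by
    have e1 : t * a * t⁻¹ = a⁻¹ * (a * (t * a * t⁻¹)) := by group
    have e2 : (t * a * t⁻¹) ^ 3 = 1 := by
      rw [conj_pow, ha]; group
    rw [e1] at e2
    have e3 : (a⁻¹ * (a * (t * a * t⁻¹))) ^ 3 = (a⁻¹) ^ 3 * (a * (t * a * t⁻¹)) ^ 3 :=
      Commute.mul_pow (hcomm a⁻¹) 3
    rw [e3, inv_pow, ha] at e2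
    simpa using e2
  have hη1 : a * (t * a * t⁻¹) = 1 := by
    obtain ⟨k, hk⟩ := h2 ⟨a * (t * a * t⁻¹), hηker⟩
    have hk' : (a * (t * a * t⁻¹)) ^ (2 ^ k) = 1 := by
      have := congrArg Subtype.val hk
      simpa using this
    have hcop : Nat.Coprime 3 (2 ^ k) := by
      apply Nat.Coprime.pow_right; decide
    have d1 : orderOf (a * (t * a * t⁻¹)) ∣ 3 := orderOf_dvd_of_pow_eq_one hη3
    have d2 : orderOf (a * (t * a * t⁻¹)) ∣ 2 ^ k := orderOf_dvd_of_pow_eq_one hk'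
    have h1 : orderOf (a * (t * a * t⁻¹)) = 1 := Nat.eq_one_of_dvd_coprimes hcop d1 d2
    exact orderOf_eq_one_iff.mp h1
  calc (a * t) ^ 2 = a * (t * a * t⁻¹) * t ^ 2 := by simp [sq, mul_assoc]
    _ = t ^ 2 := by rw [hη1, one_mul]

end Cfsg.Agent.Lib.helper70.SM
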