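import Mathlib
import Cfsg.Agent.Lib.helper69.SNDefs
import Cfsg.Agent.Lib.helper14.DicksonCount

/-! S4073 piece CT-A (helper32): in a simple CT-group of order `q (q - 1) (q + 1)`, `q = 2 ^ n`,
`q - 1` prime, the normalizer of a Sylow 2-subgroup `P` has order `q (q - 1)`, `P` is abelian
and contains the centralizers of its non-identity elements. -/

set_option autoImplicit false

open Cfsg.Agent.Lib.helper69.SNG
open scoped Pointwise

namespace Cfsg.Agent.Lib.helper32.SNG

universe u v

/-- a `p`-subgroup normalizing a Sylow `p`-subgroup lies in it -/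
theorem helper32_le_sylow_of_le_normalizer {G : Type u} [Group G] {p : ℕ} [Fact p.Prime]
    (P : Sylow p G) (H : Subgroup G) (hH : IsPGroup p H)
    (hn : H ≤ Subgroup.normalizer ((P : Subgroup G) : Set G)) : H ≤ P :=
  hH.sylow_mem_fixedPoints_iff.mp ((Subgroup.sylow_mem_fixedPoints_iff H).mpr hn)

/-- the arithmetic of CT-A: `m d = (q - 1)(q + 1)`, `d ≡ 1 (mod q)`, `d ≠ 1` force `m = q - 1` -/
theorem helper32_cta_arith (q m d : ℕ) (hq : 2 ≤ q) (hmd : m * d = (q - 1) * (q + 1))
    (hd : q ∣ d - 1) (hd1 : d ≠ 1) : m = q - 1 := by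
  have hpos : 0 < (q - 1) * (q + 1) := Nat.mul_pos (by omega) (by omega)
  have hd0 : d ≠ 0 := by
    rintro rfl
    rw [mul_zero] at hmd
    omega
  obtain ⟨c, hc⟩ := hd
  have hc1 : 1 ≤ c := by
    rcases Nat.eq_zero_or_pos c with h | h
    · subst h
      rw [mul_zero] at hc
      omega
    · exact h
  have hd' : d = q * c + 1 := by omega
  obtain ⟨t, rfl⟩ : ∃ t, q = t + 1 := ⟨q - 1, by omega⟩
  simp only [Nat.add_sub_cancel] at hmd ⊢
  subst hd'
  have h1 : (t + 1) ∣ m + 1 := by
    have h2 : (t + 1) * (m * c) + (m + 1) = (t + 1) * (t + 1) := by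
      have e1 : m * ((t + 1) * c + 1) = (t + 1) * (m * c) + m := by ring
      have e2 : (t + 1) * (t + 1) = t * (t + 1 + 1) + 1 := by ring
      rw [e1] at hmd
      rw [e2, ← hmd]
      ring
    have h3 : (t + 1) ∣ (t + 1) * (m * c) + (m + 1) := by
      rw [h2]
      exact dvd_mul_right _ _
    exact (Nat.dvd_add_right (dvd_mul_right (t + 1) (m * c))).mp h3
  have h3 : t ≤ m := by
    have h4 := Nat.le_of_dvd (by omega) h1
    omega
  by_contra hne
  have h4 : t + 1 ≤ m := by omega
  have h5 : (t + 1) * ((t + 1) * 1 + 1) ≤ m * ((t + 1) * c + 1) :=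
    Nat.mul_le_mul h4 (Nat.add_le_add_right (Nat.mul_le_mul_left _ hc1) 1)
  have h6 : t * (t + 1 + 1) < (t + 1) * ((t + 1) * 1 + 1) := by nlinarith
  omega

/-- the core of CT-A, with `q` abstract -/
theorem helper32_cta_core {G : Type u} [Group G] [Finite G] [IsSimpleGroup G]
    (hCT : ∀ a b c : G, b ≠ 1 → Commute a b → Commute b c → Commute a c)
    (q : ℕ) (hq4 : 4 ≤ q) (hr : (q - 1).Prime)
    (hcard : Nat.card G = q * (q - 1) * (q + 1)) (P : Sylow 2 G) (hqP : Nat.card P = q) :
    Nat.card (Subgroup.normalizer ((P : Subgroup G) : Set G)) = q * (q - 1) ∧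
    (∀ a ∈ P, ∀ b ∈ P, Commute a b) ∧
    ∀ u ∈ P, u ≠ 1 → ∀ g : G, Commute g u → g ∈ P := by
  classical
  have hGbig : q < Nat.card G := by
    rw [hcard]
    have h15 : 3 * 5 ≤ (q - 1) * (q + 1) := Nat.mul_le_mul (by omega) (by omega)
    calc q < q * (3 * 5) := by omega
      _ ≤ q * ((q - 1) * (q + 1)) := Nat.mul_le_mul_left q h15
      _ = q * (q - 1) * (q + 1) := (mul_assoc _ _ _).symm
  -- `P` is abelian
  have hPc : ∀ a ∈ P, ∀ b ∈ P, Commute a b := by
    have : Nontrivial P := by
      rw [← Finite.one_lt_card_iff_nontrivial, hqP]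
      omega
    have := IsPGroup.center_nontrivial (P.isPGroup')
    obtain ⟨z, hz⟩ := exists_ne (1 : Subgroup.center P)
    have hz1 : ((z : P) : G) ≠ 1 := by
      intro h
      apply hz
      apply Subtype.ext
      apply Subtype.ext
      exact h
    intro a ha b hb
    have h1 : Commute a ((z : P) : G) := by
      have h := Subgroup.mem_center_iff.mp z.2 ⟨a, ha⟩
      exact congrArg Subtype.val h
    have h2 : Commute ((z : P) : G) b := by
      have h := Subgroup.mem_center_iff.mp z.2 ⟨b, hb⟩
      exact (congrArg Subtype.val h).symm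
    exact hCT a _ b hz1 h1 h2
  have hPN : (P : Subgroup G) ≤ Subgroup.normalizer ((P : Subgroup G) : Set G) :=
    Subgroup.le_normalizer
  have hC₀N : Subgroup.centralizer ((P : Subgroup G) : Set G)
      ≤ Subgroup.normalizer ((P : Subgroup G) : Set G) := Subgroup.centralizer_le_normalizer _
  have hPC₀ : (P : Subgroup G) ≤ Subgroup.centralizer ((P : Subgroup G) : Set G) := by
    intro x hx
    rw [Subgroup.mem_centralizer_iff]
    intro y hy
    exact (hPc y hy x hx).eq
  have hcentC₀ : ∀ u ∈ P, u ≠ 1 → ∀ g : G, Commute g u →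
      g ∈ Subgroup.centralizer ((P : Subgroup G) : Set G) := by
    intro u hu hu1 g hg
    rw [Subgroup.mem_centralizer_iff]
    intro y hy
    exact ((hCT g u y hu1 hg (hPc u hu y hy)).symm).eq
  -- `P` is a TI-subgroup
  have hTI : ∀ g : G, ∀ u ∈ P, u ≠ 1 → g⁻¹ * u * g ∈ P →
      g ∈ Subgroup.normalizer ((P : Subgroup G) : Set G) := by
    intro g u hu hu1 hv
    have hle : ((g • P : Sylow 2 G) : Subgroup G) ≤ P := by
      apply helper32_le_sylow_of_le_normalizer P _ (g • P).isPGroup'
      intro y hy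
      apply hC₀N
      apply hcentC₀ u hu hu1
      have hy' : y ∈ MulAut.conj g • (P : Subgroup G) := by
        rw [← Sylow.coe_subgroup_smul]
        exact hy
      obtain ⟨x, hx, rfl⟩ := (Subgroup.mem_smul_pointwise_iff_exists _ _ _).mp hy'
      rw [MulAut.smul_def, MulAut.conj_apply]
      have hxv : Commute x (g⁻¹ * u * g) := hPc x hx _ hv
      have h3 : g * x * g⁻¹ * u = u * (g * x * g⁻¹) := by
        calc g * x * g⁻¹ * u = g * (x * (g⁻¹ * u * g)) * g⁻¹ := by group
          _ = g * ((g⁻¹ * u * g) * x) * g⁻¹ := by rw [hxv.eq]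
          _ = u * (g * x * g⁻¹) := by group
      exact h3
    have heq : g • P = P :=
      Sylow.ext ((g • P).is_maximal' P.isPGroup' hle).symm
    exact Sylow.smul_eq_iff_mem_normalizer.mp heq
  -- freeness of the action on the cosets of the normalizer
  have hfree : ∀ g : G, g ∉ Subgroup.normalizer ((P : Subgroup G) : Set G) →
      ∀ u ∈ (P : Subgroup G), g⁻¹ * u * g ∈ Subgroup.normalizer ((P : Subgroup G) : Set G) →
      u = 1 := by
    intro g hg u hu hv
    by_contra hu1
    apply hg
    apply hTI g u hu hu1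
    have hvp : IsPGroup 2 (Subgroup.zpowers (g⁻¹ * u * g)) := by
      have h3 : g⁻¹ * u * g ∈ ((g⁻¹ • P : Sylow 2 G) : Subgroup G) := by
        rw [Sylow.coe_subgroup_smul]
        refine (Subgroup.mem_smul_pointwise_iff_exists _ _ _).mpr ⟨u, hu, ?_⟩
        rw [MulAut.smul_def, MulAut.conj_apply, inv_inv]
      exact (g⁻¹ • P).isPGroup'.to_le ((Subgroup.zpowers_le).mpr h3)
    exact helper32_le_sylow_of_le_normalizer P _ hvp ((Subgroup.zpowers_le).mpr hv)
      (Subgroup.mem_zpowers _)
  have hdvd : Nat.card (P : Subgroup G)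
      ∣ (Subgroup.normalizer ((P : Subgroup G) : Set G)).index - 1 :=
    Cfsg.Agent.Lib.helper14.card_dvd_index_sub_one (P : Subgroup G) _ hPN hfree
  -- the normalizer is proper
  have hNtop : Subgroup.normalizer ((P : Subgroup G) : Set G) ≠ ⊤ := by
    intro h
    have hnorm : (P : Subgroup G).Normal := Subgroup.normalizer_eq_top_iff.mp h
    rcases hnorm.eq_bot_or_eq_top with h1 | h1
    · have h2 : Nat.card (P : Subgroup G) = 1 := by rw [h1, Subgroup.card_bot]
      have h3 : Nat.card (P : Subgroup G) = q := hqP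
      omega
    · have h2 : Nat.card (P : Subgroup G) = Nat.card G := by rw [h1, Subgroup.card_top]
      have h3 : Nat.card (P : Subgroup G) = q := hqP
      omega
  have hidx1 : (Subgroup.normalizer ((P : Subgroup G) : Set G)).index ≠ 1 := by
    intro h
    exact hNtop (Subgroup.index_eq_one.mp h)
  obtain ⟨m, hm⟩ : q ∣ Nat.card (Subgroup.normalizer ((P : Subgroup G) : Set G)) := by
    have h3 : Nat.card (P : Subgroup G) = q := hqP
    rw [← h3]
    exact Subgroup.card_dvd_of_le hPN
  have hmd : m * (Subgroup.normalizer ((P : Subgroup G) : Set G)).index = (q - 1) * (q + 1) := by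
    have h1 := (Subgroup.normalizer ((P : Subgroup G) : Set G)).card_mul_index
    rw [hm, hcard, mul_assoc, mul_assoc] at h1
    exact Nat.eq_of_mul_eq_mul_left (by omega) h1
  have hdvd' : q ∣ (Subgroup.normalizer ((P : Subgroup G) : Set G)).index - 1 := by
    have h3 : Nat.card (P : Subgroup G) = q := hqP
    rw [← h3]
    exact hdvd
  have hm' : m = q - 1 := helper32_cta_arith q m _ (by omega) hmd hdvd' hidx1
  have hNcard : Nat.card (Subgroup.normalizer ((P : Subgroup G) : Set G)) = q * (q - 1) := by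
    rw [hm, hm']
  -- the centralizer of `P` is `P`
  have hC₀P : Subgroup.centralizer ((P : Subgroup G) : Set G) ≤ (P : Subgroup G) := by
    by_contra hnot
    obtain ⟨j, hj⟩ : q ∣ Nat.card (Subgroup.centralizer ((P : Subgroup G) : Set G)) := by
      have h3 : Nat.card (P : Subgroup G) = q := hqP
      rw [← h3]
      exact Subgroup.card_dvd_of_le hPC₀
    have hjd : j ∣ q - 1 := by
      have h1 := Subgroup.card_dvd_of_le hC₀N
      rw [hj, hNcard] at h1
      exact Nat.dvd_of_mul_dvd_mul_left (by omega) h1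
    rcases (Nat.dvd_prime hr).mp hjd with h1 | h1
    · apply hnot
      have h3 : Nat.card (P : Subgroup G) = q := hqP
      have h4 : (P : Subgroup G) = Subgroup.centralizer ((P : Subgroup G) : Set G) :=
        Subgroup.eq_of_le_of_card_ge hPC₀ (by rw [hj, h1, mul_one, h3])
      exact h4.ge
    · have hCN : Subgroup.centralizer ((P : Subgroup G) : Set G)
          = Subgroup.normalizer ((P : Subgroup G) : Set G) :=
        Subgroup.eq_of_le_of_card_ge hC₀N (by rw [hj, h1, hNcard])
      have hNC : Subgroup.normalizer ((P : Subgroup G) : Set G)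
          ≤ Subgroup.centralizer ((P : Subgroup G) : Set G) := hCN.ge
      have hcomp := MonoidHom.ker_transferSylow_isComplement' P hNC
      have hcm := hcomp.card_mul_card
      have h3 : Nat.card (P : Subgroup G) = q := hqP
      rcases (MonoidHom.normal_ker (MonoidHom.transferSylow P hNC)).eq_bot_or_eq_top with hb | ht
      · rw [hb, Subgroup.card_bot, one_mul] at hcm
        omega
      · rw [ht, Subgroup.card_top] at hcm
        have hGpos : 0 < Nat.card G := Nat.card_pos
        have h5 : Nat.card (P : Subgroup G) = 1 :=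
          Nat.eq_of_mul_eq_mul_left hGpos (hcm.trans (mul_one _).symm)
        omega
  refine ⟨hNcard, hPc, ?_⟩
  intro u hu hu1 g hg
  exact hC₀P (hcentC₀ u hu hu1 g hg)

/-- **[CT-A]** -/
theorem ct_sylow2_normalizer {G : Type u} [Group G] [Finite G] [IsSimpleGroup G]
    (hna : ¬ IsMulCommutative G)
    (hCT : ∀ a b c : G, b ≠ 1 → Commute a b → Commute b c → Commute a c)
    {n : ℕ} (hn : 2 ≤ n) (hp : (2 ^ n - 1).Prime)
    (hcard : Nat.card G = 2 ^ n * (2 ^ n - 1) * (2 ^ n + 1)) (P : Sylow 2 G) :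
    Nat.card (Subgroup.normalizer ((P : Subgroup G) : Set G)) = 2 ^ n * (2 ^ n - 1) ∧
    IsMulCommutative P ∧
    ∀ u ∈ P, u ≠ 1 → ∀ g : G, Commute g u → g ∈ P := by
  have hq4 : 4 ≤ 2 ^ n := by
    calc 4 = 2 ^ 2 := by norm_num
      _ ≤ 2 ^ n := Nat.pow_le_pow_right (by norm_num) hn
  have heven : Even (2 ^ n) := (Nat.even_pow.mpr ⟨even_two, by omega⟩)
  have hPcard : Nat.card P = 2 ^ n := by
    obtain ⟨k, hk⟩ := IsPGroup.iff_card.mp P.isPGroup'
    have hidx : ¬ 2 ∣ (P : Subgroup G).index := P.not_dvd_index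
    have hmul : Nat.card (P : Subgroup G) * (P : Subgroup G).index = Nat.card G :=
      (P : Subgroup G).card_mul_index
    have hk' : Nat.card (P : Subgroup G) = 2 ^ k := hk
    rw [show Nat.card P = Nat.card (P : Subgroup G) from rfl, hk']
    apply Nat.dvd_antisymm
    · have h1 : 2 ^ k ∣ 2 ^ n * ((2 ^ n - 1) * (2 ^ n + 1)) := by
        rw [← mul_assoc, ← hcard, ← hmul, hk']
        exact dvd_mul_right _ _
      have hodd : Nat.Coprime (2 ^ k) ((2 ^ n - 1) * (2 ^ n + 1)) := by
        apply Nat.Coprime.pow_left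
        rw [Nat.coprime_two_left]
        apply Odd.mul
        · exact Nat.Even.sub_odd (by omega) heven odd_one
        · exact Even.add_one heven
      exact hodd.dvd_of_dvd_mul_right h1
    · have h1 : 2 ^ n ∣ 2 ^ k * (P : Subgroup G).index := by
        rw [← hk', hmul, hcard, mul_assoc]
        exact dvd_mul_right _ _
      have hc : Nat.Coprime (2 ^ n) (P : Subgroup G).index := by
        apply Nat.Coprime.pow_left
        exact (Nat.Prime.coprime_iff_not_dvd Nat.prime_two).mpr hidx
      exact hc.dvd_of_dvd_mul_right h1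
  obtain ⟨h1, h2, h3⟩ := helper32_cta_core hCT (2 ^ n) hq4 hp hcard P hPcard
  exact ⟨h1, (comm_iff (P : Subgroup G)).mpr (fun a ha b hb => (h2 a ha b hb).eq), h3⟩

end Cfsg.Agent.Lib.helper32.SNG
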