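import Mathlib
import Cfsg.Agent.Lib.helper69.SNDefs
import Cfsg.Agent.Lib.helper81.CTsl2
import Cfsg.Agent.Lib.helper18.PSLCongr

/-! S4073 piece FIELD (helper32): `SL₂(F) ≃* PSL₂(GaloisField 2 n)` for a field `F` of
characteristic two with `2 ^ n` elements. -/

set_option autoImplicit false

open Cfsg.Agent.Lib.helper69.SNG

namespace Cfsg.Agent.Lib.helper32.SNG

universe u v

/-- **[FIELD]** -/
theorem sl2_equiv_psl2_galois {F : Type} [Field F] [Fintype F] [CharP F 2] {n : ℕ} (hn : n ≠ 0)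
    (hF : Fintype.card F = 2 ^ n) :
    Nonempty (Matrix.SpecialLinearGroup (Fin 2) F ≃*
      Matrix.ProjectiveSpecialLinearGroup (Fin 2) (GaloisField 2 n)) := by
  have h2 : (2 : F) = 0 := by
    have h := CharP.cast_eq_zero F 2
    exact_mod_cast h
  haveI : Fintype (GaloisField 2 n) := Fintype.ofFinite _
  have hc : Fintype.card F = Fintype.card (GaloisField 2 n) := by
    rw [hF, ← Nat.card_eq_fintype_card, GaloisField.card 2 n hn]
  obtain ⟨e2⟩ := Cfsg.Agent.Lib.helper18.nonempty_pslCongr_of_card_eq (n := Fin 2) hc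
  exact ⟨(Cfsg.Agent.Lib.helper81.h81_sl2_equiv_psl2 h2).trans e2⟩

end Cfsg.Agent.Lib.helper32.SNG
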