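import Mathlib
import Cfsg.Prelude.Def_LinearParabolics
import Cfsg.Agent.Lib.helper45.SVDefs

/-!
# S2425, piece ATOM (helper32)
-/

set_option autoImplicit false
open scoped MatrixGroups

namespace Cfsg.Agent.Lib.helper45.SV

/-- ATOM (S). -/
theorem exists_atom {F : Type*} [Field F] {V : Type*} [AddCommGroup V] [Module F V] [Finite V]
    (T : Module.End F V) (hV : Nontrivial V) :
    ∃ A : Submodule F V, (∀ v ∈ A, T v ∈ A) ∧ A ≠ ⊥ ∧
      ∀ U : Submodule F V, (∀ v ∈ U, T v ∈ U) → U ≤ A → U = ⊥ ∨ U = A := by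
  classical
  have hfin : Finite (Submodule F V) :=
    Finite.of_injective (fun A : Submodule F V => (A : Set V)) SetLike.coe_injective
  have hwf : WellFounded ((· < ·) : Submodule F V → Submodule F V → Prop) :=
    Finite.wellFounded_of_trans_of_irrefl _
  have htop : (⊤ : Submodule F V) ≠ ⊥ := by
    intro h
    obtain ⟨v, hv⟩ := exists_ne (0 : V)
    exact hv ((Submodule.mem_bot F).1 (h ▸ Submodule.mem_top))
  obtain ⟨A, ⟨hA1, hA2⟩, hmin⟩ :=
    hwf.has_min {A : Submodule F V | (∀ v ∈ A, T v ∈ A) ∧ A ≠ ⊥}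
      ⟨⊤, fun v _ => Submodule.mem_top, htop⟩
  refine ⟨A, hA1, hA2, fun U hU hUA => ?_⟩
  by_cases hU0 : U = ⊥
  · exact Or.inl hU0
  · right
    rcases eq_or_lt_of_le hUA with h | h
    · exact h
    · exact absurd h (hmin U ⟨hU, hU0⟩)

end Cfsg.Agent.Lib.helper45.SV
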