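import Mathlib
import Cfsg.Prelude.Def_LinearParabolics
import Cfsg.Agent.Lib.helper45.SVDefs

/-!
# S2425, piece N0 (helper32)
-/

set_option autoImplicit false
open scoped MatrixGroups

namespace Cfsg.Agent.Lib.helper45.SV

/-- N0 (S). -/
theorem unip_zero {F : Type*} [Field F] (x : GL (Fin 0) F) :
    Cfsg.unipotentCharacterGL 0 F (fun _ => 1) x = 1 := by
  unfold Cfsg.unipotentCharacterGL
  have hsub : Subsingleton (GL (Fin 0) F) := ⟨fun a b => Units.ext (Subsingleton.elim _ _)⟩
  have hx : x = 1 := Subsingleton.elim _ _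
  rw [Fintype.sum_eq_single (1 : Equiv.Perm (Fin 0))
    (fun κ hκ => absurd (Subsingleton.elim κ 1) hκ)]
  rw [if_pos (fun i => i.elim0)]
  simp only [Equiv.Perm.sign_one, Units.val_one, Int.cast_one, one_mul]
  unfold Cfsg.fixedPointCharacter
  have h1 : ∀ H : Subgroup (GL (Fin 0) F),
      Nat.card (MulAction.fixedBy (GL (Fin 0) F ⧸ H) x) = 1 := by
    intro H
    rw [Nat.card_eq_one_iff_unique]
    refine ⟨⟨fun a b => Subtype.ext ?_⟩, ⟨⟨QuotientGroup.mk 1, ?_⟩⟩⟩
    · obtain ⟨a, ha⟩ := a
      obtain ⟨b, hb⟩ := b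
      induction a using QuotientGroup.induction_on with
      | H a =>
        induction b using QuotientGroup.induction_on with
        | H b =>
          show (QuotientGroup.mk a : GL (Fin 0) F ⧸ H) = QuotientGroup.mk b
          rw [Subsingleton.elim a b]
    · rw [MulAction.mem_fixedBy, hx, one_smul]
  rw [h1]
  simp

end Cfsg.Agent.Lib.helper45.SV
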