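import Mathlib
import Cfsg.Agent.Lib.helper24.SffDefs

/-! S5965 piece PC, core (helper32): the centraliser of a matrix `y` with `y ^ r = 1` over a
finite field has surjective determinant, given the splitting lemma (SPLIT) and the model of an
irreducible operator (IRR) as hypotheses. -/

set_option autoImplicit false

namespace Cfsg.Agent.Lib.helper24

open Module Matrix Polynomial

universe u

/-- extend an operator on an invariant direct summand, commuting with `f` there, by the identity
on an invariant complement -/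
theorem h32_extend_comm {F : Type*} [Field F] {V : Type*} [AddCommGroup V] [Module F V]
    [FiniteDimensional F V] (f : Module.End F V) (W W' : Submodule F V) (hc : IsCompl W W')
    (hW : ∀ w ∈ W, f w ∈ W) (hW' : ∀ w ∈ W', f w ∈ W') (cW : Module.End F W)
    (hcomm : ∀ w : W, cW (f.restrict hW w) = f.restrict hW (cW w)) :
    ∃ c : Module.End F V, c ∘ₗ f = f ∘ₗ c ∧ LinearMap.det c = LinearMap.det cW := by
  refine ⟨((Submodule.prodEquivOfIsCompl W W' hc : (W × W') →ₗ[F] V))
      ∘ₗ (LinearMap.prodMap cW (LinearMap.id : W' →ₗ[F] W'))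
      ∘ₗ ((Submodule.prodEquivOfIsCompl W W' hc).symm : V →ₗ[F] (W × W')), ?_, ?_⟩
  · apply LinearMap.ext
    intro v
    obtain ⟨p, rfl⟩ := (Submodule.prodEquivOfIsCompl W W' hc).surjective v
    have hfE : ∀ p : W × W', f (Submodule.prodEquivOfIsCompl W W' hc p)
        = Submodule.prodEquivOfIsCompl W W' hc (f.restrict hW p.1, f.restrict hW' p.2) := by
      intro p
      rw [Submodule.coe_prodEquivOfIsCompl', Submodule.coe_prodEquivOfIsCompl', map_add]
      rfl
    simp only [LinearMap.coe_comp, LinearEquiv.coe_coe, Function.comp_apply]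
    rw [hfE p, LinearEquiv.symm_apply_apply, LinearEquiv.symm_apply_apply]
    simp only [LinearMap.prodMap_apply, LinearMap.id_coe, id_eq]
    rw [hfE, hcomm]
  · rw [LinearMap.det_conj, LinearMap.det_prodMap, LinearMap.det_id, mul_one]

/-- PC with the pieces SPLIT and IRR as hypotheses -/
theorem h32_cent_det_core {F : Type u} [Field F] [Fintype F] {n : ℕ} (hn : 0 < n) (r : ℕ)
    (hsplit : ∀ (V : Type u) [AddCommGroup V] [Module F V] [FiniteDimensional F V] [Nontrivial V]
      (f : Module.End F V), f ^ r = 1 →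
      ∃ W W' : Submodule F V, IsCompl W W' ∧ (∀ w ∈ W, f w ∈ W) ∧ (∀ w ∈ W', f w ∈ W') ∧ W ≠ ⊥ ∧
        ∀ U : Submodule F V, U ≤ W → (∀ u ∈ U, f u ∈ U) → U = ⊥ ∨ U = W)
    (hirr : ∀ (V : Type u) [AddCommGroup V] [Module F V] [FiniteDimensional F V] [Nontrivial V]
      (f : Module.End F V),
      (∀ W : Submodule F V, (∀ w ∈ W, f w ∈ W) → W = ⊥ ∨ W = ⊤) →
      Irreducible (minpoly F f) ∧
        ∃ e : AdjoinRoot (minpoly F f) ≃ₗ[F] V, ∀ a : AdjoinRoot (minpoly F f),
          e (AdjoinRoot.root (minpoly F f) * a) = f (e a))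
    (y : Matrix (Fin n) (Fin n) F) (hy : y ^ r = 1) (t : F) :
    ∃ C : Matrix (Fin n) (Fin n) F, C * y = y * C ∧ C.det = t := by
  classical
  have : Nonempty (Fin n) := ⟨⟨0, hn⟩⟩
  have : Nontrivial (Fin n → F) := inferInstance
  have hfr : (Matrix.toLin' y : Module.End F (Fin n → F)) ^ r = 1 := by
    have h1 := map_pow (Matrix.toLinAlgEquiv' (R := F) (n := Fin n)) y r
    rw [hy, map_one] at h1
    exact h1.symm
  obtain ⟨W, W', hc, hW, hW', hWne, hWmin⟩ := hsplit (Fin n → F) (Matrix.toLin' y) hfr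
  have : Nontrivial W := (Submodule.nontrivial_iff_ne_bot).mpr hWne
  have hminW : ∀ U' : Submodule F W,
      (∀ w ∈ U', (Matrix.toLin' y).restrict hW w ∈ U') → U' = ⊥ ∨ U' = ⊤ := by
    intro U' hU'
    have hle : U'.map W.subtype ≤ W := Submodule.map_subtype_le W U'
    have hinv : ∀ u ∈ U'.map W.subtype, Matrix.toLin' y u ∈ U'.map W.subtype := by
      rintro u ⟨w, hw, rfl⟩
      exact ⟨(Matrix.toLin' y).restrict hW w, hU' w hw, rfl⟩
    rcases hWmin _ hle hinv with h | h
    · left
      rw [eq_bot_iff]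
      intro w hw
      have h1 : (w : Fin n → F) ∈ U'.map W.subtype := ⟨w, hw, rfl⟩
      rw [h] at h1
      rw [Submodule.mem_bot] at h1 ⊢
      exact Subtype.ext h1
    · right
      rw [eq_top_iff]
      intro w _
      have h1 : (w : Fin n → F) ∈ U'.map W.subtype := by rw [h]; exact w.2
      obtain ⟨w', hw', hww'⟩ := h1
      have h2 : w' = w := Subtype.ext hww'
      rw [← h2]
      exact hw'
  obtain ⟨hgirr, e, he⟩ := hirr W ((Matrix.toLin' y).restrict hW) hminW
  have : Fact (Irreducible (minpoly F ((Matrix.toLin' y).restrict hW))) := ⟨hgirr⟩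
  have : Finite (AdjoinRoot (minpoly F ((Matrix.toLin' y).restrict hW))) :=
    Finite.of_equiv W e.symm.toEquiv
  obtain ⟨α, hα⟩ := FiniteField.norm_surjective F
    (AdjoinRoot (minpoly F ((Matrix.toLin' y).restrict hW))) t
  -- the operator on `W`
  have hdetW : LinearMap.det ((e : AdjoinRoot (minpoly F ((Matrix.toLin' y).restrict hW)) →ₗ[F] W)
      ∘ₗ (Algebra.lmul F (AdjoinRoot (minpoly F ((Matrix.toLin' y).restrict hW))) α)
      ∘ₗ (e.symm : W →ₗ[F] AdjoinRoot (minpoly F ((Matrix.toLin' y).restrict hW)))) = t := by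
    rw [LinearMap.det_conj, ← Algebra.norm_apply]
    exact hα
  have hcommW : ∀ w : W,
      ((e : AdjoinRoot (minpoly F ((Matrix.toLin' y).restrict hW)) →ₗ[F] W)
      ∘ₗ (Algebra.lmul F (AdjoinRoot (minpoly F ((Matrix.toLin' y).restrict hW))) α)
      ∘ₗ (e.symm : W →ₗ[F] AdjoinRoot (minpoly F ((Matrix.toLin' y).restrict hW))))
        ((Matrix.toLin' y).restrict hW w) =
      (Matrix.toLin' y).restrict hW
        (((e : AdjoinRoot (minpoly F ((Matrix.toLin' y).restrict hW)) →ₗ[F] W)
      ∘ₗ (Algebra.lmul F (AdjoinRoot (minpoly F ((Matrix.toLin' y).restrict hW))) α)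
      ∘ₗ (e.symm : W →ₗ[F] AdjoinRoot (minpoly F ((Matrix.toLin' y).restrict hW)))) w) := by
    intro w
    obtain ⟨a, rfl⟩ := e.surjective w
    rw [← he a]
    simp only [LinearMap.coe_comp, LinearEquiv.coe_coe, Function.comp_apply,
      LinearEquiv.symm_apply_apply, Algebra.coe_lmul_eq_mul,
      LinearMap.mul_apply']
    rw [← he]
    congr 1
    ring
  -- the operator on the whole space
  obtain ⟨c, hcf, hdet⟩ := h32_extend_comm (Matrix.toLin' y) W W' hc hW hW' _ hcommW
  refine ⟨LinearMap.toMatrix' c, ?_, ?_⟩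
  · apply Matrix.toLin'.injective
    rw [Matrix.toLin'_mul, Matrix.toLin'_mul, Matrix.toLin'_toMatrix']
    exact hcf
  · rw [LinearMap.det_toMatrix', hdet, hdetW]

end Cfsg.Agent.Lib.helper24
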