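import Mathlib
import Cfsg.Agent.Lib.helper24.SffDefs
import Cfsg.Agent.Lib.helper32.SffPCcore
import Cfsg.Agent.Lib.helper7.SffSPLIT
import Cfsg.Agent.Lib.helper99.SffPC

/-! S5965 piece PC (helper32): the centraliser of a matrix `y` with `y ^ r = 1` over a finite
field has surjective determinant.  Verbatim Skel statement; assembled from `h32_cent_det_core`
with helper7's SPLIT and helper99's IRR. -/

set_option autoImplicit false

namespace Cfsg.Agent.Lib.helper24

open Module Matrix Polynomial

/-- PC -/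
theorem sff_cent_det {F : Type*} [Field F] [Fintype F] {n : ℕ} (hn : 0 < n) (r : ℕ)
    (hrF : (r : F) ≠ 0) (y : Matrix (Fin n) (Fin n) F) (hy : y ^ r = 1) (t : F) (ht : t ≠ 0) :
    ∃ C : Matrix (Fin n) (Fin n) F, C * y = y * C ∧ C.det = t :=
  h32_cent_det_core hn r
    (fun _ _ _ _ _ f hf => h7_sff_split_irr f r hrF hf)
    (fun _ _ _ _ _ f hmin => h99_irr_model f hmin) y hy t

end Cfsg.Agent.Lib.helper24
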