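import Mathlib
import Cfsg.Prelude.Def_Classical
import Cfsg.Prelude.Def_GeometricClasses
import Cfsg.Agent.Lib.helper49.WittIso

set_option autoImplicit false

namespace Cfsg.Agent.Lib.helper59.Sfk

open Matrix Cfsg.Geo

/-- the inductive core of JBASIS -/
theorem h32_jbasis_aux {F : Type*} [Field F] {ι : Type} [Fintype ι] [DecidableEq ι]
    (h2 : (2 : F) ≠ 0) (Q : QuadraticForm F (ι → F))
    (X : Matrix ι ι F) (hX : ∀ u, Q (X *ᵥ u) = Q u) (hXX : X * X = -1) :
    ∀ n : ℕ, ∀ W : Submodule F (ι → F), Module.finrank F W ≤ n →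
      (∀ w ∈ W, X *ᵥ w ∈ W) →
      (∀ w ∈ W, w ≠ 0 → ∃ y ∈ W, QuadraticMap.polar (⇑Q) y w ≠ 0) →
      ∃ (m : ℕ) (e : Fin m → (ι → F)), (∀ i, e i ∈ W) ∧
        (∀ i j, i ≠ j → QuadraticMap.polar (⇑Q) (e i) (e j) = 0) ∧
        (∀ i j, QuadraticMap.polar (⇑Q) (e i) (X *ᵥ e j) = 0) ∧
        (∀ i, Q (e i) ≠ 0) ∧
        ∀ v ∈ W, (∀ i, QuadraticMap.polar (⇑Q) v (e i) = 0) →
          (∀ i, QuadraticMap.polar (⇑Q) v (X *ᵥ e i) = 0) → v = 0 := by
  have hXp : ∀ u v, QuadraticMap.polar (⇑Q) (X *ᵥ u) (X *ᵥ v) = QuadraticMap.polar (⇑Q) u v := by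
    intro u v
    rw [QuadraticMap.polar, QuadraticMap.polar, ← Matrix.mulVec_add, hX, hX, hX]
  have hsk : ∀ u v, QuadraticMap.polar (⇑Q) (X *ᵥ u) v = -QuadraticMap.polar (⇑Q) u (X *ᵥ v) := by
    intro u v
    have h := hXp (X *ᵥ u) v
    rw [Matrix.mulVec_mulVec, hXX, Matrix.neg_mulVec, Matrix.one_mulVec,
      QuadraticMap.polar_neg_left] at h
    exact h.symm
  intro n
  induction n with
  | zero =>
    intro W hW _ _
    have hbot : W = ⊥ := Submodule.finrank_eq_zero.mp (Nat.le_zero.mp hW)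
    refine ⟨0, Fin.elim0, fun i => i.elim0, fun i => i.elim0, fun i => i.elim0,
      fun i => i.elim0, ?_⟩
    intro v hv _ _
    rw [hbot] at hv
    exact (Submodule.mem_bot F).mp hv
  | succ n ih =>
    intro W hW hinv hnd
    by_cases hall : ∀ w ∈ W, Q w = 0
    · refine ⟨0, Fin.elim0, fun i => i.elim0, fun i => i.elim0, fun i => i.elim0,
        fun i => i.elim0, ?_⟩
      intro v hv _ _
      by_contra hv0
      obtain ⟨y, hy, hyv⟩ := hnd v hv hv0
      apply hyv
      rw [QuadraticMap.polar, hall _ (W.add_mem hy hv), hall y hy, hall v hv]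
      simp
    · push Not at hall
      obtain ⟨e₀, he₀W, hQe₀⟩ := hall
      have hXe₀W : X *ᵥ e₀ ∈ W := hinv e₀ he₀W
      have hself : QuadraticMap.polar (⇑Q) e₀ (X *ᵥ e₀) = 0 := by
        have h1 := hsk e₀ e₀
        rw [QuadraticMap.polar_comm] at h1
        have h3 : (2 : F) * QuadraticMap.polar (⇑Q) e₀ (X *ᵥ e₀) = 0 := by linear_combination h1
        rcases mul_eq_zero.mp h3 with h | h
        · exact absurd h h2
        · exact h
      have hself' : QuadraticMap.polar (⇑Q) (X *ᵥ e₀) e₀ = 0 := by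
        rw [QuadraticMap.polar_comm]; exact hself
      have hpe : QuadraticMap.polar (⇑Q) e₀ e₀ ≠ 0 := by
        rw [QuadraticMap.polar_self]
        simp only [nsmul_eq_mul, Nat.cast_ofNat]
        exact mul_ne_zero h2 hQe₀
      have hpxe : QuadraticMap.polar (⇑Q) (X *ᵥ e₀) (X *ᵥ e₀) ≠ 0 := by
        rw [hXp]; exact hpe
      -- the subspace W'
      obtain ⟨W', hW'⟩ : ∃ W' : Submodule F (ι → F), ∀ v, v ∈ W' ↔
          (v ∈ W ∧ QuadraticMap.polar (⇑Q) v e₀ = 0 ∧ QuadraticMap.polar (⇑Q) v (X *ᵥ e₀) = 0) := by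
        refine ⟨W ⊓ LinearMap.ker ((QuadraticMap.polarBilin Q).flip e₀) ⊓
          LinearMap.ker ((QuadraticMap.polarBilin Q).flip (X *ᵥ e₀)), fun v => ?_⟩
        simp only [Submodule.mem_inf, LinearMap.mem_ker, LinearMap.flip_apply,
          QuadraticMap.polarBilin_apply_apply, and_assoc]
      have hW'W : W' ≤ W := fun v hv => ((hW' v).mp hv).1
      have he₀W' : e₀ ∉ W' := fun h => hpe ((hW' e₀).mp h).2.1
      have hlt : W' < W := lt_of_le_of_ne hW'W (fun h => he₀W' (h ▸ he₀W))
      have hfr : Module.finrank F W' ≤ n := by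
        have := Submodule.finrank_lt_finrank_of_lt hlt
        omega
      have hinv' : ∀ w ∈ W', X *ᵥ w ∈ W' := by
        intro w hw
        obtain ⟨hwW, hw1, hw2⟩ := (hW' w).mp hw
        refine (hW' _).mpr ⟨hinv w hwW, ?_, ?_⟩
        · rw [hsk, hw2, neg_zero]
        · rw [hXp, hw1]
      have hnd' : ∀ w ∈ W', w ≠ 0 → ∃ y ∈ W', QuadraticMap.polar (⇑Q) y w ≠ 0 := by
        intro w hw hw0
        obtain ⟨hwW, hw1, hw2⟩ := (hW' w).mp hw
        obtain ⟨y, hyW, hyw⟩ := hnd w hwW hw0
        have hw1' : QuadraticMap.polar (⇑Q) e₀ w = 0 := by rw [QuadraticMap.polar_comm]; exact hw1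
        have hw2' : QuadraticMap.polar (⇑Q) (X *ᵥ e₀) w = 0 := by
          rw [QuadraticMap.polar_comm]; exact hw2
        refine ⟨y - (QuadraticMap.polar (⇑Q) y e₀ / QuadraticMap.polar (⇑Q) e₀ e₀) • e₀ -
          (QuadraticMap.polar (⇑Q) y (X *ᵥ e₀) / QuadraticMap.polar (⇑Q) (X *ᵥ e₀) (X *ᵥ e₀)) •
            (X *ᵥ e₀), (hW' _).mpr ⟨?_, ?_, ?_⟩, ?_⟩
        · exact W.sub_mem (W.sub_mem hyW (W.smul_mem _ he₀W)) (W.smul_mem _ hXe₀W)
        · rw [QuadraticMap.polar_sub_left, QuadraticMap.polar_sub_left, QuadraticMap.polar_smul_left,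
            QuadraticMap.polar_smul_left, hself', smul_eq_mul, smul_eq_mul, mul_zero, sub_zero,
            div_mul_cancel₀ _ hpe, sub_self]
        · rw [QuadraticMap.polar_sub_left, QuadraticMap.polar_sub_left, QuadraticMap.polar_smul_left,
            QuadraticMap.polar_smul_left, hself, smul_eq_mul, smul_eq_mul, mul_zero, sub_zero,
            div_mul_cancel₀ _ hpxe, sub_self]
        · rw [QuadraticMap.polar_sub_left, QuadraticMap.polar_sub_left, QuadraticMap.polar_smul_left,
            QuadraticMap.polar_smul_left, hw1', hw2', smul_zero, smul_zero, sub_zero, sub_zero]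
          exact hyw
      obtain ⟨m, e, he, ho1, ho2, hne, hcomp⟩ := ih W' hfr hinv' hnd'
      have heW' : ∀ i, QuadraticMap.polar (⇑Q) (e i) e₀ = 0 ∧
          QuadraticMap.polar (⇑Q) (e i) (X *ᵥ e₀) = 0 := fun i => ((hW' _).mp (he i)).2
      refine ⟨m + 1, Fin.cons e₀ e, ?_, ?_, ?_, ?_, ?_⟩
      · intro i
        refine Fin.cases ?_ (fun j => ?_) i
        · simpa using he₀W
        · simpa using hW'W (he j)
      · intro i j
        refine Fin.cases ?_ (fun i' => ?_) i <;> refine Fin.cases ?_ (fun j' => ?_) j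
        · intro h; exact absurd rfl h
        · intro _
          simp only [Fin.cons_zero, Fin.cons_succ]
          rw [QuadraticMap.polar_comm]; exact (heW' j').1
        · intro _
          simp only [Fin.cons_zero, Fin.cons_succ]
          exact (heW' i').1
        · intro h
          simp only [Fin.cons_succ]
          exact ho1 i' j' (fun h' => h (by rw [h']))
      · intro i j
        refine Fin.cases ?_ (fun i' => ?_) i <;> refine Fin.cases ?_ (fun j' => ?_) j
        · simp only [Fin.cons_zero]; exact hself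
        · simp only [Fin.cons_zero, Fin.cons_succ]
          have h := hsk e₀ (e j')
          have h0 : QuadraticMap.polar (⇑Q) (X *ᵥ e₀) (e j') = 0 := by
            rw [QuadraticMap.polar_comm]; exact (heW' j').2
          rw [h0] at h
          have h' : QuadraticMap.polar (⇑Q) e₀ (X *ᵥ e j') = 0 := by linear_combination h
          exact h'
        · simp only [Fin.cons_zero, Fin.cons_succ]
          exact (heW' i').2
        · simp only [Fin.cons_succ]
          exact ho2 i' j'
      · intro i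
        refine Fin.cases ?_ (fun i' => ?_) i
        · simpa using hQe₀
        · simpa using hne i'
      · intro v hv h1 h2'
        have hvW' : v ∈ W' := by
          refine (hW' v).mpr ⟨hv, ?_, ?_⟩
          · simpa using h1 0
          · simpa using h2' 0
        refine hcomp v hvW' (fun i => ?_) (fun i => ?_)
        · simpa using h1 i.succ
        · simpa using h2' i.succ

theorem h32_sfk_j_basis {F : Type*} [Field F] {ι : Type} [Fintype ι] [DecidableEq ι]
    (h2 : (2 : F) ≠ 0) (Q : QuadraticForm F (ι → F))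
    (hQ : (QuadraticMap.polarBilin Q).Nondegenerate)
    (x : GL ι F) (hx : x ∈ Cfsg.isometryGroup F (⇑Q))
    (hxx : (x : Matrix ι ι F) * (x : Matrix ι ι F) = -1) :
    ∃ (m : ℕ) (e : Fin m → (ι → F)),
      LinearIndependent F (Sum.elim e (fun i => (x : Matrix ι ι F) *ᵥ e i)) ∧
      Fintype.card ι = 2 * m ∧
      (∀ i j, i ≠ j → QuadraticMap.polar (⇑Q) (e i) (e j) = 0) ∧
      (∀ i j, QuadraticMap.polar (⇑Q) (e i) ((x : Matrix ι ι F) *ᵥ e j) = 0) ∧
      ∀ i, Q (e i) ≠ 0 := by
  have hX : ∀ u, Q ((x : Matrix ι ι F) *ᵥ u) = Q u := fun u => hx u u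
  obtain ⟨X, hXdef⟩ : ∃ X : Matrix ι ι F, X = (x : Matrix ι ι F) := ⟨_, rfl⟩
  rw [← hXdef] at hX hxx ⊢
  have hXp : ∀ u v, QuadraticMap.polar (⇑Q) (X *ᵥ u) (X *ᵥ v) = QuadraticMap.polar (⇑Q) u v := by
    intro u v
    rw [QuadraticMap.polar, QuadraticMap.polar, ← Matrix.mulVec_add, hX, hX, hX]
  obtain ⟨m, e, -, ho1, ho2, hne, hcomp⟩ := h32_jbasis_aux h2 Q X hX hxx
    (Module.finrank F (⊤ : Submodule F (ι → F))) ⊤ le_rfl (fun w _ => Submodule.mem_top)
    (fun w _ hw0 => by
      by_contra hno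
      push Not at hno
      exact hw0 (hQ.2 w (fun y => by
        rw [QuadraticMap.polarBilin_apply_apply]; exact hno y Submodule.mem_top)))
  obtain ⟨f, hf⟩ : ∃ f : Fin m ⊕ Fin m → (ι → F), f = Sum.elim e (fun i => X *ᵥ e i) := ⟨_, rfl⟩
  have hfl : ∀ i, f (Sum.inl i) = e i := fun i => by rw [hf]; rfl
  have hfr : ∀ i, f (Sum.inr i) = X *ᵥ e i := fun i => by rw [hf]; rfl
  have hpe : ∀ i, QuadraticMap.polar (⇑Q) (e i) (e i) ≠ 0 := by
    intro i
    rw [QuadraticMap.polar_self]
    simp only [nsmul_eq_mul, Nat.cast_ofNat]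
    exact mul_ne_zero h2 (hne i)
  have horth : ∀ a b, a ≠ b → QuadraticMap.polar (⇑Q) (f a) (f b) = 0 := by
    rintro (i | i) (j | j) hab
    · rw [hfl, hfl]; exact ho1 i j (fun h => hab (by rw [h]))
    · rw [hfl, hfr]; exact ho2 i j
    · rw [hfr, hfl, QuadraticMap.polar_comm]; exact ho2 j i
    · rw [hfr, hfr, hXp]; exact ho1 i j (fun h => hab (by rw [h]))
  have hself : ∀ a, QuadraticMap.polar (⇑Q) (f a) (f a) ≠ 0 := by
    rintro (i | i)
    · rw [hfl]; exact hpe i
    · rw [hfr, hXp]; exact hpe i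
  have hli : LinearIndependent F f := by
    apply LinearMap.linearIndependent_of_isOrthoᵢ (B := QuadraticMap.polarBilin Q)
    · intro a b hab
      exact horth a b hab
    · intro a h
      exact hself a h
  have hspan : ⊤ ≤ Submodule.span F (Set.range f) := by
    intro v _
    have key : ∀ j, QuadraticMap.polar (⇑Q)
        (v - ∑ k, (QuadraticMap.polar (⇑Q) v (f k) / QuadraticMap.polar (⇑Q) (f k) (f k)) • f k)
        (f j) = 0 := by
      intro j
      rw [← QuadraticMap.polarBilin_apply_apply, map_sub, map_sum, LinearMap.sub_apply,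
        LinearMap.sum_apply]
      simp only [map_smul, LinearMap.smul_apply, smul_eq_mul, QuadraticMap.polarBilin_apply_apply]
      rw [Finset.sum_eq_single j]
      · rw [div_mul_cancel₀ _ (hself j), sub_self]
      · intro k _ hkj
        rw [horth k j hkj, mul_zero]
      · intro h; exact absurd (Finset.mem_univ j) h
    have hv' : v - ∑ k, (QuadraticMap.polar (⇑Q) v (f k) /
        QuadraticMap.polar (⇑Q) (f k) (f k)) • f k = 0 := by
      apply hcomp _ Submodule.mem_top
      · intro i; rw [← hfl]; exact key (Sum.inl i)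
      · intro i; rw [← hfr]; exact key (Sum.inr i)
    have hv : v = ∑ k, (QuadraticMap.polar (⇑Q) v (f k) /
        QuadraticMap.polar (⇑Q) (f k) (f k)) • f k := sub_eq_zero.mp hv'
    rw [hv]
    exact Submodule.sum_mem _ (fun k _ => Submodule.smul_mem _ _ (Submodule.subset_span ⟨k, rfl⟩))
  have hcard : Fintype.card ι = 2 * m := by
    have h1 := Module.finrank_eq_card_basis (Module.Basis.mk hli hspan)
    rw [Module.finrank_fintype_fun_eq_card, Fintype.card_sum, Fintype.card_fin] at h1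
    omega
  refine ⟨m, e, ?_, hcard, ho1, ho2, hne⟩
  rw [← hf]
  exact hli

end Cfsg.Agent.Lib.helper59.Sfk
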