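import Mathlib
import Cfsg.Prelude.Def_Classical
import Cfsg.Prelude.Def_GeometricClasses
import Cfsg.Agent.Lib.helper49.WittIso
import Cfsg.Agent.Lib.helper91.Reflections

set_option autoImplicit false

namespace Cfsg.Agent.Lib.helper59.Sfk

open Matrix Cfsg.Geo
open Cfsg.Agent.Lib.helper49 (detHom spinorSign)

theorem h32_sfk_rho_one {F : Type*} [Field F] [Fintype F] {ι : Type} [Fintype ι] [DecidableEq ι]
    (h2 : (2 : F) ≠ 0) (Q : QuadraticForm F (ι → F))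
    (hQ : (QuadraticMap.polarBilin Q).Nondegenerate)
    (x : GL ι F) (hx : x ∈ Cfsg.isometryGroup F (⇑Q)) (u : ι → F) (c : F)
    (hu : (x : Matrix ι ι F) *ᵥ u = c • u) (hQu : Q u ≠ 0) :
    ∃ r : ↥(Cfsg.isometryGroup F (⇑Q)),
      ((r : GL ι F) : Matrix ι ι F) * (x : Matrix ι ι F) =
        (x : Matrix ι ι F) * ((r : GL ι F) : Matrix ι ι F) ∧
      detHom (⇑Q) r = -1 := by
  have hX : ∀ v, Q ((x : Matrix ι ι F) *ᵥ v) = Q v := fun v => hx v v
  have hc : c ≠ 0 := by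
    intro h0
    have h1 := hX u
    rw [hu, h0, zero_smul, QuadraticMap.map_zero] at h1
    exact hQu h1.symm
  refine ⟨Cfsg.Agent.Lib.helper49.reflG Q u hQu, ?_, Cfsg.Agent.Lib.helper49.detHom_reflG Q u hQu⟩
  rw [Cfsg.Agent.Lib.helper49.reflG_val]
  have h := Cfsg.Agent.Lib.helper91.refl_conj Q (x : Matrix ι ι F) hX u
  rw [hu, Cfsg.Agent.Lib.helper91.refl_smul Q u c hc] at h
  exact h.symm

end Cfsg.Agent.Lib.helper59.Sfk
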