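import Mathlib
import Cfsg.Agent.Lib.helper32.SfoOBAS

/-!
# S5981, piece OSIM2 (racing copy by helper32): a similarity with square `z`
-/

set_option autoImplicit false

namespace Cfsg.Agent.Lib.helper24

open Module Matrix Cfsg.Geo

/-- A fixed-point-free involution of `Fin n`, `n` even. -/
theorem h32o_fpf_invol {n : ℕ} (hn : Even n) :
    ∃ ρ : Fin n → Fin n, (∀ i, ρ (ρ i) = i) ∧ ∀ i, ρ i ≠ i := by
  obtain ⟨m, rfl⟩ := hn
  refine ⟨fun i => if h : (i : ℕ) % 2 = 0 then ⟨i + 1, by have := i.isLt; omega⟩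
    else ⟨i - 1, by have := i.isLt; omega⟩, fun i => ?_, fun i => ?_⟩
  · apply Fin.ext
    by_cases h : (i : ℕ) % 2 = 0
    · have h' : ¬ ((i : ℕ) + 1) % 2 = 0 := by omega
      simp [h, h']
    · have h' : ((i : ℕ) - 1) % 2 = 0 := by omega
      simp only [h, h', dite_true, dite_false]
      omega
  · intro hc
    have h0 := congrArg Fin.val hc
    by_cases h : (i : ℕ) % 2 = 0
    · simp [h] at h0
    · simp only [h, dite_false] at h0
      omega

theorem h32o_matrix_ext_basis {F : Type*} [Field F] {n : ℕ} (b : Basis (Fin n) F (Fin n → F))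
    (M N : Matrix (Fin n) (Fin n) F) (h : ∀ j, M *ᵥ b j = N *ᵥ b j) : M = N := by
  apply Matrix.toLin'.injective
  apply b.ext
  intro j
  rw [Matrix.toLin'_apply, Matrix.toLin'_apply, h j]

/-- A linear map scaling the polar form by `c` on a basis is a similarity of `Q`. -/
theorem h32o_sim_of_basis {F : Type*} [Field F] {n : ℕ} {Q : (Fin n → F) → F}
    (hQ : IsNondegenerateQuadraticForm Q) (h2 : (2 : F) ≠ 0) {ι : Type*}
    (B : Basis ι F (Fin n → F)) (T : (Fin n → F) →ₗ[F] (Fin n → F)) (c : F)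
    (hB : ∀ i j, QuadraticMap.polar Q (T (B i)) (T (B j)) = c * QuadraticMap.polar Q (B i) (B j)) :
    ∀ v, Q (T v) = c * Q v := by
  have s1 : ∀ j u, QuadraticMap.polar Q (T u) (T (B j)) = c * QuadraticMap.polar Q u (B j) := by
    intro j u
    have hL : (h32o_L hQ (T (B j))).comp T = c • h32o_L hQ (B j) := by
      apply B.ext
      intro i
      show QuadraticMap.polar Q (T (B i)) (T (B j)) = c * QuadraticMap.polar Q (B i) (B j)
      exact hB i j
    exact LinearMap.congr_fun hL u
  have s2 : ∀ u w, QuadraticMap.polar Q (T u) (T w) = c * QuadraticMap.polar Q u w := by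
    intro u w
    have hL : (h32o_L hQ (T u)).comp T = c • h32o_L hQ u := by
      apply B.ext
      intro j
      show QuadraticMap.polar Q (T (B j)) (T u) = c * QuadraticMap.polar Q (B j) u
      rw [QuadraticMap.polar_comm, s1 j u, QuadraticMap.polar_comm]
    have h3 : QuadraticMap.polar Q (T w) (T u) = c * QuadraticMap.polar Q w u :=
      LinearMap.congr_fun hL w
    rw [QuadraticMap.polar_comm, QuadraticMap.polar_comm Q u w]
    exact h3
  intro v
  have h := s2 v v
  rw [h32o_polar_self hQ, h32o_polar_self hQ] at h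
  have h4 : 2 * Q (T v) = 2 * (c * Q v) := by rw [h]; ring
  exact mul_left_cancel₀ h2 h4

/-- OSIM2 (racing copy) -/
theorem h32_sfo_exists_sim_sq {F : Type*} [Field F] [Fintype F] {n : ℕ} (h2 : (2 : F) ≠ 0)
    (Q : (Fin n → F) → F) (hQ : IsNondegenerateQuadraticForm Q) (hn : Even n) (z : F)
    (hz : z ≠ 0) :
    ∃ g ∈ quadSimilarityGroup Q,
      (g : Matrix (Fin n) (Fin n) F) * (g : Matrix (Fin n) (Fin n) F) =
        z • (1 : Matrix (Fin n) (Fin n) F) := by
  classical
  obtain ⟨ρ, hρ, hρne⟩ := h32o_fpf_invol hn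
  obtain ⟨e, -, horth, hne⟩ := h32o_orth_sub h2 hQ n ⊤ (by simp) (fun w _ hw => by
    obtain ⟨x, hx⟩ := (hQ.nondegenerate w hw).1
    exact ⟨x, Submodule.mem_top, hx⟩)
  have hli : LinearIndependent F e := by
    rw [Fintype.linearIndependent_iff]
    intro c hc j
    have h1 : h32o_L hQ (e j) (∑ i, c i • e i) = 0 := by rw [hc, map_zero]
    rw [map_sum] at h1
    simp only [map_smul, h32o_L_apply, smul_eq_mul] at h1
    rw [Finset.sum_eq_single j] at h1
    · rw [h32o_polar_self hQ] at h1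
      exact (mul_eq_zero.1 h1).resolve_right (mul_ne_zero h2 (hne j))
    · intro i _ hij
      rw [horth i j hij, mul_zero]
    · simp
  have hcardn : Fintype.card (Fin n) = Module.finrank F (Fin n → F) := by simp
  have hspan := hli.span_eq_top_of_card_eq_finrank' hcardn
  obtain ⟨B, hB⟩ : ∃ B : Basis (Fin n) F (Fin n → F), ∀ i, B i = e i :=
    ⟨Basis.mk hli (le_of_eq hspan.symm), fun i => by simp⟩
  have hdata : ∀ i, ∃ p : F × F,
      Q (e i) * p.1 ^ 2 + Q (e (ρ i)) * p.2 ^ 2 = z * Q (e i) := fun i => by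
    obtain ⟨x, y, hxy⟩ := h32o_bin_rep h2 (Q (e i)) (Q (e (ρ i))) (z * Q (e i)) (hne i)
      (hne (ρ i))
    exact ⟨(x, y), hxy⟩
  choose p hp using hdata
  obtain ⟨a, ha⟩ : ∃ a : Fin n → F,
      a = fun i => if i < ρ i then (p i).1 else -(p (ρ i)).1 := ⟨_, rfl⟩
  obtain ⟨b, hb⟩ : ∃ b : Fin n → F,
      b = fun i => if i < ρ i then (p i).2 else Q (e i) * (p (ρ i)).2 / Q (e (ρ i)) := ⟨_, rfl⟩
  have key : ∀ i, i < ρ i → a i = (p i).1 ∧ b i = (p i).2 ∧ a (ρ i) = -(p i).1 ∧
      b (ρ i) = Q (e (ρ i)) * (p i).2 / Q (e i) := by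
    intro i h
    have h' : ¬ ρ i < i := not_lt.2 h.le
    exact ⟨by simp [ha, h], by simp [hb, h], by simp [ha, h', hρ], by simp [hb, h', hρ]⟩
  have hlt : ∀ i, i < ρ i ∨ ρ i < i := fun i => lt_or_gt_of_ne (hρne i).symm
  have h1 : ∀ i, a (ρ i) = - a i := by
    intro i
    rcases hlt i with h | h
    · obtain ⟨k1, -, k3, -⟩ := key i h
      rw [k3, k1]
    · have h' : ρ i < ρ (ρ i) := by rw [hρ]; exact h
      obtain ⟨k1, -, k3, -⟩ := key (ρ i) h'
      rw [hρ] at k3
      rw [k3, k1, neg_neg]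
  have h2' : ∀ i, a i ^ 2 + b i * b (ρ i) = z := by
    intro i
    rcases hlt i with h | h
    · obtain ⟨k1, k2, -, k4⟩ := key i h
      have hd := hne i
      have hpi := hp i
      rw [k1, k2, k4]
      field_simp
      linear_combination hpi
    · have h' : ρ i < ρ (ρ i) := by rw [hρ]; exact h
      obtain ⟨k1, k2, k3, k4⟩ := key (ρ i) h'
      rw [hρ] at k3 k4
      have hd := hne (ρ i)
      have hpi := hp (ρ i)
      rw [hρ] at hpi
      rw [k3, k2, k4]
      field_simp
      linear_combination hpi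
  have h3 : ∀ i, a i ^ 2 * Q (e i) + b i ^ 2 * Q (e (ρ i)) = z * Q (e i) := by
    intro i
    rcases hlt i with h | h
    · obtain ⟨k1, k2, -, -⟩ := key i h
      rw [k1, k2]
      linear_combination hp i
    · have h' : ρ i < ρ (ρ i) := by rw [hρ]; exact h
      obtain ⟨k1, k2, k3, k4⟩ := key (ρ i) h'
      rw [hρ] at k3 k4
      have hd := hne (ρ i)
      have hpi := hp (ρ i)
      rw [hρ] at hpi
      rw [k3, k4]
      field_simp
      linear_combination Q (e i) * hpi
  have h4 : ∀ i, a i * b (ρ i) * Q (e i) + b i * a (ρ i) * Q (e (ρ i)) = 0 := by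
    intro i
    rcases hlt i with h | h
    · obtain ⟨k1, k2, k3, k4⟩ := key i h
      have hd := hne i
      rw [k1, k2, k3, k4]
      field_simp
      ring
    · have h' : ρ i < ρ (ρ i) := by rw [hρ]; exact h
      obtain ⟨k1, k2, k3, k4⟩ := key (ρ i) h'
      rw [hρ] at k3 k4
      have hd := hne (ρ i)
      rw [k1, k2, k3, k4]
      field_simp
      ring
  obtain ⟨T, hT⟩ : ∃ T : (Fin n → F) →ₗ[F] (Fin n → F),
      ∀ i, T (e i) = a i • e i + b i • e (ρ i) :=
    ⟨B.constr F (fun i => a i • e i + b i • e (ρ i)), fun i => by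
      have h5 := B.constr_basis F (fun i => a i • e i + b i • e (ρ i)) i
      rwa [hB] at h5⟩
  have hTT : ∀ i, T (T (e i)) = z • e i := by
    intro i
    rw [hT, map_add, map_smul, map_smul, hT, hT, hρ, h1 i, ← h2' i]
    module
  have hpol : ∀ i j, QuadraticMap.polar Q (T (B i)) (T (B j)) =
      z * QuadraticMap.polar Q (B i) (B j) := by
    intro i j
    rw [hB, hB, hT, hT, hQ.polar_bilinear.add_left, hQ.polar_bilinear.smul_left,
      hQ.polar_bilinear.smul_left, hQ.polar_bilinear.add_right, hQ.polar_bilinear.add_right,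
      hQ.polar_bilinear.smul_right, hQ.polar_bilinear.smul_right, hQ.polar_bilinear.smul_right,
      hQ.polar_bilinear.smul_right]
    by_cases hij : i = j
    · subst hij
      rw [horth i (ρ i) (hρne i).symm, horth (ρ i) i (hρne i), h32o_polar_self hQ,
        h32o_polar_self hQ]
      linear_combination 2 * h3 i
    · by_cases hij' : j = ρ i
      · subst hij'
        rw [hρ, horth i (ρ i) (hρne i).symm, horth (ρ i) i (hρne i), h32o_polar_self hQ,
          h32o_polar_self hQ]
        linear_combination 2 * h4 i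
      · have e1 : i ≠ ρ j := fun h => hij' (by rw [h, hρ])
        have e2 : ρ i ≠ j := fun h => hij' h.symm
        have e3 : ρ i ≠ ρ j := fun h => hij (by
          have h5 := congrArg ρ h; rwa [hρ, hρ] at h5)
        rw [horth i j hij, horth i (ρ j) e1, horth (ρ i) j e2, horth (ρ i) (ρ j) e3]
        ring
  have hsim := h32o_sim_of_basis hQ h2 B T z hpol
  obtain ⟨G, hG⟩ : ∃ G : Matrix (Fin n) (Fin n) F, G = LinearMap.toMatrix' T := ⟨_, rfl⟩
  have hGv : ∀ v, G *ᵥ v = T v := by
    intro v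
    rw [hG, ← Matrix.toLin'_apply, Matrix.toLin'_toMatrix']
  have hGG : G * G = z • (1 : Matrix (Fin n) (Fin n) F) := by
    apply h32o_matrix_ext_basis B
    intro j
    rw [← Matrix.mulVec_mulVec, hGv, hGv, hB, hTT, Matrix.smul_mulVec, Matrix.one_mulVec]
  have hdet : G.det ≠ 0 := by
    intro h0
    have h5 := congrArg Matrix.det hGG
    rw [Matrix.det_mul, h0, Matrix.det_smul, Matrix.det_one, mul_zero, mul_one] at h5
    exact pow_ne_zero _ hz h5.symm
  exact ⟨Matrix.GeneralLinearGroup.mkOfDetNeZero G hdet,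
    ⟨Units.mk0 z hz, fun v => by
      show Q (G *ᵥ v) = z * Q v
      rw [hGv]; exact hsim v⟩, hGG⟩

end Cfsg.Agent.Lib.helper24
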