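import Mathlib
import Cfsg.Agent.Lib.helper32.SfuEXT

/-!
# S5982, piece UBAS: a basis whose Gram matrix is the permutation matrix of an involution (helper32)
-/

set_option autoImplicit false

namespace Cfsg.Agent.Lib.helper24

open Module Matrix Cfsg.Geo

/-- Scalars for a hyperbolic pair inside an orthonormal pair. -/
theorem h32_ubas_scalars {F : Type*} [Field F] [Fintype F] (q₀ : ℕ)
    (hcard : Fintype.card F = q₀ ^ 2) :
    ∃ α α' c : F, α * α ^ q₀ = -1 ∧ α' * α' ^ q₀ = -1 ∧ c ^ q₀ * (1 + α * α' ^ q₀) = 1 ∧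
      c * (1 + α' * α ^ q₀) = 1 := by
  have hq0 : q₀ ≠ 0 := h32_q0_ne_zero q₀ hcard
  have hneg : (-1 : F) ^ q₀ = -1 := by
    have h := h32_frob_add q₀ hcard (-1 : F) 1
    rw [neg_add_cancel, zero_pow hq0, one_pow] at h
    linear_combination -h
  obtain ⟨α, hα⟩ := h32_norm_surj q₀ hcard (-1 : F) (by simp) hneg
  obtain ⟨ζ, hζ1, hζ⟩ := h32_zeta q₀ hcard
  have hα0 : α ≠ 0 := by
    rintro rfl
    simp at hα
  have hα' : α * α ^ q₀ = -1 := by rw [← pow_succ']; exact hα
  have hαζ : (α * ζ) * (α * ζ) ^ q₀ = -1 := by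
    rw [← pow_succ', mul_pow, hα, hζ]; ring
  have hne : 1 + α * (α * ζ) ^ q₀ ≠ 0 := by
    intro h
    have h1 : α * (α * ζ) ^ q₀ = α * α ^ q₀ := by rw [hα']; linear_combination h
    have h2 : (α * ζ) ^ q₀ = α ^ q₀ := mul_left_cancel₀ hα0 h1
    have h3 : α * ζ = α := by
      have h4 := congrArg (fun x => x ^ q₀) h2
      simpa only [h32_frob_inv q₀ hcard] using h4
    exact hζ1 (by
      have h5 : α * ζ = α * 1 := by rw [h3, mul_one]
      exact mul_left_cancel₀ hα0 h5)
  refine ⟨α, α * ζ, ((1 + α * (α * ζ) ^ q₀)⁻¹) ^ q₀, hα', hαζ, ?_, ?_⟩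
  · rw [h32_frob_inv q₀ hcard]; exact inv_mul_cancel₀ hne
  · have h1 : (1 + α * (α * ζ) ^ q₀) ^ q₀ = 1 + α * ζ * α ^ q₀ := by
      rw [h32_frob_add q₀ hcard, one_pow, mul_pow, h32_frob_inv q₀ hcard]; ring
    rw [← h1, ← mul_pow, inv_mul_cancel₀ hne, one_pow]

/-- UBAS -/
theorem sfu_basis_pi {F : Type*} [Field F] [Fintype F] {n : ℕ} (q₀ : ℕ)
    (hcard : Fintype.card F = q₀ ^ 2) (f : (Fin n → F) → (Fin n → F) → F)
    (hf : IsUnitaryFormPow q₀ f) (π : Fin n → Fin n) (hπ : ∀ i, π (π i) = i) :
    ∃ v : Fin n → (Fin n → F), LinearIndependent F v ∧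
      ∀ i j, f (v i) (v j) = if j = π i then 1 else 0 := by
  obtain ⟨e, -, he⟩ := h32_sfu_onb q₀ hcard f hf
  obtain ⟨α, α', c, hα, hα', hc, hc'⟩ := h32_ubas_scalars (F := F) q₀ hcard
  set A : Fin n → F := fun i => if π i = i then 1 else if i < π i then 1 else c * α' with hA
  set B : Fin n → F := fun i => if π i = i then 0 else if i < π i then α else c with hB
  have key : ∀ i j, f (A i • e i + B i • e (π i)) (A j • e j + B j • e (π j)) =
      if j = π i then 1 else 0 := by
    intro i j
    have hexp : f (A i • e i + B i • e (π i)) (A j • e j + B j • e (π j)) =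
        A i * (A j) ^ q₀ * (if i = j then 1 else 0)
        + A i * (B j) ^ q₀ * (if i = π j then 1 else 0)
        + B i * (A j) ^ q₀ * (if π i = j then 1 else 0)
        + B i * (B j) ^ q₀ * (if π i = π j then 1 else 0) := by
      rw [hf.add_left, hf.smul_left, hf.smul_left, h32_f_add_right hcard hf,
        h32_f_add_right hcard hf, h32_f_smul_right hf, h32_f_smul_right hf,
        h32_f_smul_right hf, h32_f_smul_right hf, he, he, he, he]
      ring
    rw [hexp]
    by_cases hij : j = π i
    · subst hij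
      have hπ2 : π (π i) = i := hπ i
      by_cases hfix : π i = i
      · have hAi : A i = 1 := by simp [hA, hfix]
        have hBi : B i = 0 := by simp [hB, hfix]
        simp [hfix, hAi, hBi, h32_q0_ne_zero q₀ hcard]
      · have h1 : ¬ i = π i := fun h => hfix h.symm
        rcases lt_or_gt_of_ne h1 with hlt | hgt
        · have hAi : A i = 1 := by simp [hA, hfix, hlt]
          have hBi : B i = α := by simp [hB, hfix, hlt]
          have hAj : A (π i) = c * α' := by simp [hA, hπ2, h1, not_lt.2 hlt.le]
          have hBj : B (π i) = c := by simp [hB, hπ2, h1, not_lt.2 hlt.le]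
          rw [hAi, hBi, hAj, hBj, hπ2]
          simp only [h1, hfix, if_true, if_false]
          rw [mul_pow]; linear_combination hc
        · have hAi : A i = c * α' := by simp [hA, hfix, not_lt.2 hgt.le]
          have hBi : B i = c := by simp [hB, hfix, not_lt.2 hgt.le]
          have hAj : A (π i) = 1 := by simp [hA, hπ2, h1, hgt]
          have hBj : B (π i) = α := by simp [hB, hπ2, h1, hgt]
          rw [hAi, hBi, hAj, hBj, hπ2]
          simp only [h1, hfix, if_true, if_false]
          rw [one_pow]; linear_combination hc'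
    · have h2 : ¬ i = π j := fun h => hij (by rw [h, hπ])
      have h3 : ¬ π i = j := fun h => hij h.symm
      by_cases hij2 : i = j
      · subst hij2
        have hfix : ¬ π i = i := fun h => hij h.symm
        rcases lt_or_gt_of_ne hij with hlt | hgt
        · have hAi : A i = 1 := by simp [hA, hfix, hlt]
          have hBi : B i = α := by simp [hB, hfix, hlt]
          rw [hAi, hBi]
          simp only [hij, hfix, if_true, if_false]
          rw [one_pow]; linear_combination hα
        · have hAi : A i = c * α' := by simp [hA, hfix, not_lt.2 hgt.le]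
          have hBi : B i = c := by simp [hB, hfix, not_lt.2 hgt.le]
          rw [hAi, hBi]
          simp only [hij, hfix, if_true, if_false]
          rw [mul_pow]; linear_combination (c * c ^ q₀) * hα'
      · have h4 : ¬ π i = π j := fun h => hij2 (by
          have h5 := congrArg π h; rwa [hπ, hπ] at h5)
        simp [hij, h2, h3, hij2, h4]
  exact ⟨fun i => A i • e i + B i • e (π i), h32_li_of_gram hf _ π hπ key, key⟩

end Cfsg.Agent.Lib.helper24
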