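import Mathlib

/-!
# S3797 piece CHAR: characters `V →* ℤˣ` of an elementary abelian 2-group.
-/

set_option autoImplicit false

namespace Cfsg.Agent.Lib.helper32.T97

theorem hasEnough_int_two : HasEnoughRootsOfUnity ℤ 2 where
  prim := ⟨-1, IsPrimitiveRoot.neg_one 0 (by norm_num)⟩
  cyc := rootsOfUnity.isCyclic ℤ 2

theorem hasEnough_int_exponent {V : Type*} [CommGroup V] [Finite V] (h2 : ∀ v : V, v * v = 1) :
    HasEnoughRootsOfUnity ℤ (Monoid.exponent V) := by
  have hdvd : Monoid.exponent V ∣ 2 := by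
    apply Monoid.exponent_dvd_of_forall_pow_eq_one
    intro v
    rw [pow_two]
    exact h2 v
  have := hasEnough_int_two
  exact HasEnoughRootsOfUnity.of_dvd ℤ hdvd

/-- PIECE CHAR-a. -/
theorem char_exists {V : Type*} [CommGroup V] [Finite V] (h2 : ∀ v : V, v * v = 1) (v : V)
    (hv : v ≠ 1) : ∃ χ : V →* ℤˣ, χ v = -1 := by
  have := hasEnough_int_exponent h2
  obtain ⟨φ, hφ⟩ := CommGroup.exists_apply_ne_one_of_hasEnoughRootsOfUnity V ℤ hv
  refine ⟨φ, ?_⟩
  rcases Int.units_eq_one_or (φ v) with h | h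
  · exact absurd h hφ
  · exact h

/-- PIECE CHAR-b. -/
theorem char_card {V : Type*} [CommGroup V] [Finite V] (h2 : ∀ v : V, v * v = 1) :
    Nat.card (V →* ℤˣ) = Nat.card V := by
  have := hasEnough_int_exponent h2
  exact CommGroup.card_monoidHom_of_hasEnoughRootsOfUnity V ℤ

end Cfsg.Agent.Lib.helper32.T97
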