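import Mathlib
import Cfsg.Agent.Lib.helper1.Fpf
import Cfsg.Agent.S0016

/-!
# S3797 piece CYC: a nilpotent group of odd order in which commuting elements of order `p`
generate the same subgroup is cyclic.
-/

set_option autoImplicit false

namespace Cfsg.Agent.Lib.helper32.T97

/-- PIECE CYC. -/
theorem cyclic_of_nilpotent_odd {K : Type*} [Group K] [Finite K] (hK : Group.IsNilpotent K)
    (hodd : Odd (Nat.card K))
    (h : ∀ (p : ℕ), p.Prime → ∀ x y : K, x * y = y * x → x ^ p = 1 → y ^ p = 1 → x ≠ 1 →
      y ∈ Subgroup.zpowers x) : IsCyclic K := by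
  classical
  -- Sylow subgroups are cyclic
  have hsyl : ∀ (p : ℕ) [Fact p.Prime] (P : Sylow p K), IsCyclic (P : Subgroup K) := by
    intro p _ P
    have hpp : p.Prime := Fact.out
    have hP : IsPGroup p (P : Subgroup K) := P.isPGroup'
    by_cases htriv : Nat.card (P : Subgroup K) = 1
    · haveI : Subsingleton (P : Subgroup K) := (Nat.card_eq_one_iff_unique.mp htriv).1
      exact isCyclic_of_subsingleton
    · haveI : Nontrivial (P : Subgroup K) := by
        rw [← Finite.one_lt_card_iff_nontrivial]
        have := Nat.card_pos (α := (P : Subgroup K))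
        omega
      haveI hcen : Nontrivial (Subgroup.center (P : Subgroup K)) := hP.center_nontrivial
      have hdvd : p ∣ Nat.card (Subgroup.center (P : Subgroup K)) := by
        obtain ⟨n, hn⟩ := IsPGroup.iff_card.mp (hP.to_subgroup (Subgroup.center (P : Subgroup K)))
        rw [hn]
        have h1 : 1 < Nat.card (Subgroup.center (P : Subgroup K)) := Finite.one_lt_card
        have hn0 : n ≠ 0 := by
          rintro rfl
          rw [hn, pow_zero] at h1
          exact lt_irrefl _ h1
        exact dvd_pow_self p hn0
      obtain ⟨z, hz⟩ := exists_prime_orderOf_dvd_card' p hdvd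
      -- `p ≠ 2`
      have hp2 : p ≠ 2 := by
        rintro rfl
        have h1 : 2 ∣ Nat.card K := by
          refine (hdvd.trans (Subgroup.card_subgroup_dvd_card _)).trans
            (Subgroup.card_subgroup_dvd_card _)
        exact (Nat.not_even_iff_odd.mpr hodd) (even_iff_two_dvd.mpr h1)
      have hzP : orderOf (z : ↥(P : Subgroup K)) = p := by rw [Subgroup.orderOf_coe]; exact hz
      have hzK : orderOf ((z : ↥(P : Subgroup K)) : K) = p := by
        rw [Subgroup.orderOf_coe]; exact hzP
      have hz1 : ((z : ↥(P : Subgroup K)) : K) ≠ 1 := by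
        intro h1
        rw [h1, orderOf_one] at hzK
        exact hpp.one_lt.ne hzK
      have hzp : ((z : ↥(P : Subgroup K)) : K) ^ p = 1 := by
        have h1 := pow_orderOf_eq_one ((z : ↥(P : Subgroup K)) : K)
        rwa [hzK] at h1
      have claim : ∀ H : Subgroup ↥(P : Subgroup K), Nat.card H = p →
          H = Subgroup.zpowers (z : ↥(P : Subgroup K)) := by
        intro H hH
        apply Subgroup.eq_of_le_of_card_ge
        · intro y hy
          have hyp : (y : K) ^ p = 1 := by
            have h1 : (⟨y, hy⟩ : H) ^ Nat.card H = 1 := pow_card_eq_one'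
            rw [hH] at h1
            have h2 : y ^ p = 1 := congrArg Subtype.val h1
            have h3 := congrArg Subtype.val h2
            simpa using h3
          have hcomm : ((z : ↥(P : Subgroup K)) : K) * (y : K) = (y : K) * ((z : ↥(P : Subgroup K)) : K) := by
            have h1 := Subgroup.mem_center_iff.mp z.2 y
            have h2 := congrArg Subtype.val h1
            simpa using h2.symm
          have h4 := h p hpp _ _ hcomm hzp hyp hz1
          obtain ⟨k, hk⟩ := Subgroup.mem_zpowers_iff.mp h4
          rw [Subgroup.mem_zpowers_iff]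
          refine ⟨k, ?_⟩
          apply Subtype.ext
          rw [← hk]
          simp
        · rw [Nat.card_zpowers, hzP, hH]
      rcases Cfsg.Agent.S0016.result p hP
        (fun H H' hH hH' => (claim H hH).trans (claim H' hH').symm) with hc | ⟨h2, -⟩
      · exact hc
      · exact absurd h2 hp2
  -- `K` is commutative
  obtain ⟨e⟩ := ((Group.isNilpotent_of_finite_tfae (G := K)).out 0 4).mp hK
  have hc : ∀ a b : K, Commute a b := by
    have key : ∀ u v : (∀ p : (Nat.card K).primeFactors, ∀ P : Sylow p K, ↥(P : Subgroup K)),
        u * v = v * u := by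
      intro u v
      funext p P
      haveI : Fact (p : ℕ).Prime := ⟨Nat.prime_of_mem_primeFactors p.2⟩
      haveI := hsyl p P
      letI := IsCyclic.commGroup (α := ↥(P : Subgroup K))
      exact mul_comm (u p P) (v p P)
    intro a b
    obtain ⟨u, rfl⟩ := e.surjective a
    obtain ⟨v, rfl⟩ := e.surjective b
    show e u * e v = e v * e u
    rw [← map_mul, ← map_mul, key u v]
  apply Cfsg.Agent.Lib.helper1.isCyclic_of_comm_of_card_pow_prime_le hc
  intro p hpp
  by_cases hex : ∃ x : K, x ^ p = 1 ∧ x ≠ 1
  · obtain ⟨x, hxp, hx1⟩ := hex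
    haveI : Fact p.Prime := ⟨hpp⟩
    have hord : orderOf x = p := orderOf_eq_prime hxp hx1
    have hle : Nat.card {a : K // a ^ p = 1} ≤ Nat.card (Subgroup.zpowers x) := by
      apply Nat.card_le_card_of_injective
        (fun a : {a : K // a ^ p = 1} =>
          (⟨a.1, h p hpp x a.1 (hc x a.1) hxp a.2 hx1⟩ : Subgroup.zpowers x))
      intro a b hab
      simp only [Subtype.mk.injEq] at hab
      exact Subtype.ext hab
    rw [Nat.card_zpowers, hord] at hle
    exact hle
  · push Not at hex
    have hsub : Subsingleton {a : K // a ^ p = 1} := by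
      constructor
      intro a b
      apply Subtype.ext
      rw [hex a.1 a.2, hex b.1 b.2]
    have : Nat.card {a : K // a ^ p = 1} ≤ 1 := Finite.card_le_one_iff_subsingleton.mpr hsub
    exact this.trans hpp.one_lt.le
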