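import Mathlib
import Cfsg.Agent.S0058

/-!
# S3797 piece NC: commuting elements of order `p` of a group acting "semiregularly modulo
involutions" generate the same subgroup (via S0058, generation by centralisers).
-/

set_option autoImplicit false

namespace Cfsg.Agent.Lib.helper32.T97

/-- PIECE NC. -/
theorem mem_zpowers_of_semireg {G : Type*} [Group G] [Finite G] (K R V : Subgroup G)
    (hKR : K ≤ Subgroup.normalizer (R : Set G)) (hcop : (Nat.card K).Coprime (Nat.card R))
    (hV : ∀ a ∈ R, a * a = 1 → a ∈ V) (hV2 : ∀ v ∈ V, v * v = 1)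
    (hsemi : ∀ k ∈ K, k ≠ 1 → ∀ a ∈ R, k * a = a * k → a * a = 1) (hR : ∃ a ∈ R, a * a ≠ 1)
    (p : ℕ) (hp : p.Prime) (x y : G) (hx : x ∈ K) (hy : y ∈ K) (hxy : x * y = y * x)
    (hxp : x ^ p = 1) (hyp : y ^ p = 1) (hx1 : x ≠ 1) : y ∈ Subgroup.zpowers x := by
  classical
  by_contra hyx
  haveI : Fact p.Prime := ⟨hp⟩
  have hgen : ∀ a ∈ ({x, y} : Set G), ∀ b ∈ ({x, y} : Set G), a * b = b * a := by
    intro a ha b hb
    rcases ha with rfl | rfl <;> rcases hb with rfl | rfl
    · rfl
    · exact hxy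
    · exact hxy.symm
    · rfl
  have hcomm : ∀ a ∈ Subgroup.closure ({x, y} : Set G), ∀ b ∈ Subgroup.closure ({x, y} : Set G),
      a * b = b * a := by
    intro a ha b hb
    exact congrArg Subtype.val
      ((Subgroup.isMulCommutative_closure hgen).is_comm.comm
        (⟨a, ha⟩ : Subgroup.closure ({x, y} : Set G)) ⟨b, hb⟩)
  have hAp : ∀ a ∈ Subgroup.closure ({x, y} : Set G), a ^ p = 1 := by
    intro a ha
    induction ha using Subgroup.closure_induction with
    | mem g hg =>
      rcases hg with rfl | rfl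
      · exact hxp
      · exact hyp
    | one => exact one_pow p
    | mul a b ha hb iha ihb =>
      rw [(show Commute a b from hcomm a ha b hb).mul_pow, iha, ihb, one_mul]
    | inv a ha iha => rw [inv_pow, iha, inv_one]
  obtain ⟨A, hA⟩ : ∃ A : Subgroup G, A = Subgroup.closure ({x, y} : Set G) := ⟨_, rfl⟩
  rw [← hA] at hcomm hAp
  have hxA : x ∈ A := by rw [hA]; exact Subgroup.subset_closure (by simp)
  have hyA : y ∈ A := by rw [hA]; exact Subgroup.subset_closure (by simp)
  have hAK : A ≤ K := by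
    rw [hA, Subgroup.closure_le]
    intro g hg
    rcases hg with rfl | rfl
    · exact hx
    · exact hy
  haveI hAc : IsMulCommutative A := ⟨⟨fun a b => Subtype.ext (hcomm a a.2 b b.2)⟩⟩
  have hncyc : ¬ IsCyclic A := by
    intro hcyc
    have h1 : Monoid.exponent A ∣ p := by
      apply Monoid.exponent_dvd_of_forall_pow_eq_one
      intro a
      apply Subtype.ext
      simpa using hAp a a.2
    rw [IsCyclic.exponent_eq_card] at h1
    have h2 : Nat.card A ≤ p := Nat.le_of_dvd hp.pos h1
    have hord : orderOf x = p := orderOf_eq_prime hxp hx1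
    have h3 : Subgroup.zpowers x = A :=
      Subgroup.eq_of_le_of_card_ge (by rw [Subgroup.zpowers_le]; exact hxA)
        (by rw [Nat.card_zpowers, hord]; exact h2)
    exact hyx (h3 ▸ hyA)
  have hcop' : (Nat.card A).Coprime (Nat.card R) :=
    Nat.Coprime.coprime_dvd_left (Subgroup.card_dvd_of_le hAK) hcop
  have hgen := Cfsg.Agent.S0058.result A R hncyc (hAK.trans hKR) hcop'
  have hRV : R ≤ V := by
    rw [← hgen]
    apply iSup₂_le
    intro a ha b hb
    have hbR : b ∈ R := hb.1
    have hbc : a * b = b * a := Subgroup.mem_centralizer_iff.mp hb.2 a rfl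
    exact hV b hbR (hsemi a (hAK ha.1) ha.2 b hbR hbc)
  obtain ⟨a, haR, ha2⟩ := hR
  exact ha2 (hV2 a (hRV haR))

end Cfsg.Agent.Lib.helper32.T97
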