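import Mathlib

/-!
# S3797 piece ZV: if all involutions and squares of the 2-group `R` are central, `Aut R` is
transitive on involutions and the centre does not have exponent 2, then an automorphism of odd
order fixing all involutions is trivial.
-/

set_option autoImplicit false

namespace Cfsg.Agent.Lib.helper32.T97

/-- automorphisms preserve the centre -/
theorem aut_mem_center {R : Type*} [Group R] (α : MulAut R) (c : R)
    (hc : c ∈ Subgroup.center R) : α c ∈ Subgroup.center R := by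
  rw [Subgroup.mem_center_iff]
  intro g
  have h1 := Subgroup.mem_center_iff.mp hc (α.symm g)
  have h2 := congrArg α h1
  rw [map_mul, map_mul, MulEquiv.apply_symm_apply] at h2
  exact h2

/-- if `σ a = a * t`, `σ t = t`, `σ` has odd order and `t` is a 2-element, then `t = 1` -/
theorem eq_one_of_odd_aut {R : Type*} [Group R] (σ : MulAut R) (hodd : Odd (orderOf σ))
    (a t : R) (h1 : σ a = a * t) (h2 : σ t = t) (k : ℕ) (h3 : t ^ 2 ^ k = 1) : t = 1 := by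
  have hpow : ∀ j : ℕ, (σ ^ j) a = a * t ^ j := by
    intro j
    induction j with
    | zero => rw [pow_zero, pow_zero, mul_one]; rfl
    | succ j ih =>
      rw [pow_succ', MulAut.mul_apply, ih, map_mul, map_pow, h1, h2, pow_succ', mul_assoc]
  have h4 := hpow (orderOf σ)
  rw [pow_orderOf_eq_one] at h4
  have h5 : t ^ orderOf σ = 1 := by
    have h6 : a * 1 = a * t ^ orderOf σ := by rw [mul_one]; exact h4
    exact (mul_left_cancel h6).symm
  have h7 : orderOf t ∣ Nat.gcd (orderOf σ) (2 ^ k) :=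
    Nat.dvd_gcd (orderOf_dvd_of_pow_eq_one h5) (orderOf_dvd_of_pow_eq_one h3)
  have h8 : Nat.gcd (orderOf σ) (2 ^ k) = 1 := by
    apply Nat.Coprime.pow_right
    exact Nat.Coprime.symm (Nat.coprime_two_left.mpr hodd)
  rw [h8, Nat.dvd_one] at h7
  exact orderOf_eq_one_iff.mp h7

/-- commutators are central involutions when squares are central -/
theorem comm_central_of_sq_central {R : Type*} [Group R]
    (hsqZ : ∀ a : R, a * a ∈ Subgroup.center R) (c a : R) :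
    c⁻¹ * a⁻¹ * c * a ∈ Subgroup.center R ∧
      (c⁻¹ * a⁻¹ * c * a) * (c⁻¹ * a⁻¹ * c * a) = 1 := by
  have h1 : (a * a)⁻¹ * c = c * (a * a)⁻¹ :=
    (Subgroup.mem_center_iff.mp (Subgroup.inv_mem _ (hsqZ a)) c).symm
  have hκ : c⁻¹ * a⁻¹ * c * a ∈ Subgroup.center R := by
    have e : c⁻¹ * a⁻¹ * c * a = (c * c)⁻¹ * (a * a)⁻¹ * ((c * a) * (c * a)) := by
      calc c⁻¹ * a⁻¹ * c * a = (c * c)⁻¹ * (c * (a * a)⁻¹) * (a * c * a) := by group
        _ = (c * c)⁻¹ * ((a * a)⁻¹ * c) * (a * c * a) := by rw [h1]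
        _ = (c * c)⁻¹ * (a * a)⁻¹ * ((c * a) * (c * a)) := by group
    rw [e]
    exact Subgroup.mul_mem _ (Subgroup.mul_mem _ (Subgroup.inv_mem _ (hsqZ c))
      (Subgroup.inv_mem _ (hsqZ a))) (hsqZ (c * a))
  refine ⟨hκ, ?_⟩
  have hk : a * (c⁻¹ * a⁻¹ * c * a) = (c⁻¹ * a⁻¹ * c * a) * a :=
    Subgroup.mem_center_iff.mp hκ a
  calc (c⁻¹ * a⁻¹ * c * a) * (c⁻¹ * a⁻¹ * c * a)
      = c⁻¹ * a⁻¹ * c * (a * (c⁻¹ * a⁻¹ * c * a)) := by group
    _ = c⁻¹ * a⁻¹ * c * ((c⁻¹ * a⁻¹ * c * a) * a) := by rw [hk]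
    _ = c⁻¹ * ((a * a)⁻¹ * c) * (a * a) := by group
    _ = c⁻¹ * (c * (a * a)⁻¹) * (a * a) := by rw [h1]
    _ = 1 := by group

/-- a central element whose square is not `1` yields a central element of order 4 -/
theorem exists_central_order_four {R : Type*} [Group R] (k : ℕ) :
    ∀ z : R, z ∈ Subgroup.center R → z ^ 2 ^ k = 1 → z * z ≠ 1 →
      ∃ u ∈ Subgroup.center R, u * u ≠ 1 ∧ (u * u) * (u * u) = 1 := by
  induction k with
  | zero =>
    intro z _ h1 h2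
    rw [pow_zero, pow_one] at h1
    rw [h1, mul_one] at h2
    exact absurd rfl h2
  | succ k ih =>
    intro z hz h1 h2
    by_cases h3 : (z * z) * (z * z) = 1
    · exact ⟨z, hz, h2, h3⟩
    · apply ih (z * z) (Subgroup.mul_mem _ hz hz) _ h3
      rw [← pow_two, ← pow_mul, ← pow_succ']
      exact h1

/-- PIECE ZV. -/
theorem center_exp_two_or_trivial {R : Type*} [Group R] [Finite R] (hR : IsPGroup 2 R)
    (hinvc : ∀ a : R, a * a = 1 → a ∈ Subgroup.center R)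
    (hsqZ : ∀ a : R, a * a ∈ Subgroup.center R)
    (htr : ∀ v w : R, v ≠ 1 → v * v = 1 → w ≠ 1 → w * w = 1 → ∃ α : MulAut R, α v = w)
    (σ : MulAut R) (hodd : Odd (orderOf σ)) (hσ : ∀ v : R, v * v = 1 → σ v = v)
    (z : R) (hz : z ∈ Subgroup.center R) (hz2 : z * z ≠ 1) : σ = 1 := by
  -- Step 1: `σ` fixes the centre
  have hcen : ∀ k : ℕ, ∀ c : R, c ∈ Subgroup.center R → c ^ 2 ^ k = 1 → σ c = c := by
    intro k
    induction k with
    | zero =>
      intro c _ h1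
      rw [pow_zero, pow_one] at h1
      rw [h1, map_one]
    | succ k ih =>
      intro c hc h1
      have hd : σ (c * c) = c * c := by
        apply ih (c * c) (Subgroup.mul_mem _ hc hc)
        rw [← pow_two, ← pow_mul, ← pow_succ']
        exact h1
      have hσc : σ c ∈ Subgroup.center R := aut_mem_center σ c hc
      have ht2 : (c⁻¹ * σ c) * (c⁻¹ * σ c) = 1 := by
        have e1 : σ c * c⁻¹ = c⁻¹ * σ c := Subgroup.mem_center_iff.mp hσc c⁻¹ |>.symm
        calc (c⁻¹ * σ c) * (c⁻¹ * σ c) = c⁻¹ * (σ c * c⁻¹) * σ c := by group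
          _ = c⁻¹ * (c⁻¹ * σ c) * σ c := by rw [e1]
          _ = (c * c)⁻¹ * (σ c * σ c) := by group
          _ = (c * c)⁻¹ * σ (c * c) := by rw [map_mul]
          _ = 1 := by rw [hd, inv_mul_cancel]
      have ht : c⁻¹ * σ c = 1 := by
        apply eq_one_of_odd_aut σ hodd c (c⁻¹ * σ c) (by group) (hσ _ ht2) 1
        rw [pow_one, pow_two]
        exact ht2
      calc σ c = c * (c⁻¹ * σ c) := by group
        _ = c := by rw [ht, mul_one]
  have hcen' : ∀ c : R, c ∈ Subgroup.center R → σ c = c := by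
    intro c hc
    obtain ⟨k, hk⟩ := hR c
    exact hcen k c hc hk
  -- Step 2: every involution is the square of a central element
  obtain ⟨kz, hkz⟩ := hR z
  obtain ⟨u, hu, hu1, hu2⟩ := exists_central_order_four kz z hz hkz hz2
  have hsq : ∀ w : R, w ≠ 1 → w * w = 1 → ∃ z' ∈ Subgroup.center R, z' * z' = w := by
    intro w hw1 hw2
    obtain ⟨α, hα⟩ := htr (u * u) w hu1 hu2 hw1 hw2
    exact ⟨α u, aut_mem_center α u hu, by rw [← map_mul, hα]⟩
  -- Steps 3-5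
  refine MulEquiv.ext fun a => ?_
  show σ a = a
  have hb2 : σ a * σ a = a * a := by rw [← map_mul]; exact hcen' _ (hsqZ a)
  have hcs : ∀ y : R, (a * a)⁻¹ * y = y * (a * a)⁻¹ := fun y =>
    (Subgroup.mem_center_iff.mp (Subgroup.inv_mem _ (hsqZ a)) y).symm
  have htt : (a⁻¹ * σ a) * (a⁻¹ * σ a) = a⁻¹ * (σ a)⁻¹⁻¹ * a * (σ a)⁻¹ := by
    calc (a⁻¹ * σ a) * (a⁻¹ * σ a) = a⁻¹ * σ a * (a * ((a * a)⁻¹ * σ a)) := by group
      _ = a⁻¹ * σ a * (a * (σ a * (a * a)⁻¹)) := by rw [hcs (σ a)]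
      _ = a⁻¹ * σ a * (a * (σ a * (σ a * σ a)⁻¹)) := by rw [hb2]
      _ = a⁻¹ * (σ a)⁻¹⁻¹ * a * (σ a)⁻¹ := by group
  obtain ⟨hκc, hκ2⟩ := comm_central_of_sq_central hsqZ a (σ a)⁻¹
  rw [← htt] at hκc hκ2
  have htc : a⁻¹ * σ a ∈ Subgroup.center R := by
    by_cases h1 : (a⁻¹ * σ a) * (a⁻¹ * σ a) = 1
    · exact hinvc _ h1
    · obtain ⟨z', hz', hz'2⟩ := hsq _ h1 hκ2
      have hc : z'⁻¹ * (a⁻¹ * σ a) = (a⁻¹ * σ a) * z'⁻¹ :=
        (Subgroup.mem_center_iff.mp (Subgroup.inv_mem _ hz') (a⁻¹ * σ a)).symm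
      have h3 : ((a⁻¹ * σ a) * z'⁻¹) * ((a⁻¹ * σ a) * z'⁻¹) = 1 := by
        calc ((a⁻¹ * σ a) * z'⁻¹) * ((a⁻¹ * σ a) * z'⁻¹)
            = (a⁻¹ * σ a) * (z'⁻¹ * (a⁻¹ * σ a)) * z'⁻¹ := by group
          _ = (a⁻¹ * σ a) * ((a⁻¹ * σ a) * z'⁻¹) * z'⁻¹ := by rw [hc]
          _ = ((a⁻¹ * σ a) * (a⁻¹ * σ a)) * (z' * z')⁻¹ := by group
          _ = 1 := by rw [hz'2, mul_inv_cancel]
      have h4 := Subgroup.mul_mem _ (hinvc _ h3) hz'
      rwa [inv_mul_cancel_right] at h4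
  obtain ⟨kt, hkt⟩ := hR (a⁻¹ * σ a)
  have ht : a⁻¹ * σ a = 1 :=
    eq_one_of_odd_aut σ hodd a (a⁻¹ * σ a) (by group) (hcen' _ htc) kt hkt
  calc σ a = a * (a⁻¹ * σ a) := by group
    _ = a := by rw [ht, mul_one]

end Cfsg.Agent.Lib.helper32.T97
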