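import Cfsg.Agent.Lib.helper32.W12P6a

/-!
# S3312 piece P6b (helper32): existence of the relation, `rel_exists`
-/

set_option autoImplicit false

namespace Cfsg.Agent.Lib.helper32.W12

theorem orderOf_conj_eq {G : Type*} [Group G] (o ρ : G) : orderOf (o * ρ * o⁻¹) = orderOf ρ := by
  have := orderOf_injective (MulAut.conj o).toMonoidHom (MulAut.conj o).injective ρ
  simpa [MulAut.conj_apply] using this

/-- an involution-inverted element of odd order `2j+1`: `ρ^j e (ρ^j)⁻¹ = e ρ`. -/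
theorem inv_odd_conj {G : Type*} [Group G] (e ρ : G) (hinv : e * ρ * e⁻¹ = ρ⁻¹) (j : ℕ)
    (hj : ρ ^ (2 * j + 1) = 1) : ρ ^ j * e * (ρ ^ j)⁻¹ = e * ρ := by
  have h1 : e * ρ ^ j * e⁻¹ = (ρ ^ j)⁻¹ := by rw [← conj_pow, hinv, inv_pow]
  have h2 : e * (ρ ^ j)⁻¹ = ρ ^ j * e := by
    have h3 : ρ ^ j = e * (ρ ^ j)⁻¹ * e⁻¹ := by
      have h0 : (e * ρ ^ j * e⁻¹)⁻¹ = ((ρ ^ j)⁻¹)⁻¹ := congrArg Inv.inv h1
      rw [inv_inv] at h0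
      calc ρ ^ j = (e * ρ ^ j * e⁻¹)⁻¹ := h0.symm
        _ = e * (ρ ^ j)⁻¹ * e⁻¹ := by group
    calc e * (ρ ^ j)⁻¹ = (e * (ρ ^ j)⁻¹ * e⁻¹) * e := by group
      _ = ρ ^ j * e := by rw [← h3]
  have h4 : ρ ^ j * ρ ^ j = ρ⁻¹ := by
    have h5 : ρ ^ j * ρ ^ j * ρ = 1 := by
      rw [← pow_add, ← two_mul, ← pow_succ]
      exact hj
    exact eq_inv_of_mul_eq_one_left h5
  have h6 : e * ρ = ρ⁻¹ * e := by
    rw [← hinv]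
    group
  calc ρ ^ j * e * (ρ ^ j)⁻¹ = ρ ^ j * (e * (ρ ^ j)⁻¹) := by group
    _ = ρ ^ j * (ρ ^ j * e) := by rw [h2]
    _ = (ρ ^ j * ρ ^ j) * e := by group
    _ = ρ⁻¹ * e := by rw [h4]
    _ = e * ρ := h6.symm

/-- P6b. -/
theorem rel_exists {G : Type*} [Group G] [Finite G] (T W : Subgroup G) (t : G)
    (hWT : W ≤ T) (htT : t ∈ T) (htW : t ∉ W) (ht2 : t * t = 1)
    (hWt : ∀ w ∈ W, w * t = t * w) (hWab : ∀ a ∈ W, ∀ b ∈ W, a * b = b * a)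
    (hsc : ∀ a ∈ W, ∀ g : G, g * a * g⁻¹ ∈ T → g * a * g⁻¹ ∈ W)
    (hord : ∀ e ∈ W, e * e = 1 → ∀ g y : G, y * y = 1 →
      ∃ m : ℕ, Odd m ∧ (g * e * g⁻¹ * y) ^ (2 * m) = 1)
    (O : G → Subgroup G)
    (hOc : ∀ x : G, ∀ v ∈ O x, v * x = x * v)
    (hinv : ∀ w ∈ W, w * w = 1 → ∀ e ∈ W, ∀ ρ : G, ρ * (w * t) = (w * t) * ρ →
      Odd (orderOf ρ) → e * ρ * e⁻¹ = ρ⁻¹ → ρ ∈ O (w * t))
    (hcore : ∀ w ∈ W, w * w = 1 → ∀ g e : G, e ∈ W →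
      (g * e * g⁻¹) * (w * t) = (w * t) * (g * e * g⁻¹) →
      ∃ o ∈ O (w * t), o * (g * e * g⁻¹) * o⁻¹ ∈ W)
    (w : G) (hw : w ∈ W) (hw2 : w * w = 1) (g e : G) (he : e ∈ W) (he1 : e ≠ 1)
    (he2 : e * e = 1) :
    ∃ e' ∈ W, e' ≠ 1 ∧ e' * e' = 1 ∧ ∃ a ∈ O (w * t), ∃ b ∈ O (e' * (w * t)),
      g * e * g⁻¹ = a * b * e' * b⁻¹ * a⁻¹ := by
  have hx2 : (w * t) * (w * t) = 1 := by
    calc (w * t) * (w * t) = w * (t * w) * t := by group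
      _ = w * (w * t) * t := by rw [← hWt w hw]
      _ = (w * w) * (t * t) := by group
      _ = 1 := by rw [hw2, ht2, one_mul]
  have hk2 : (g * e * g⁻¹) * (g * e * g⁻¹) = 1 := by
    calc (g * e * g⁻¹) * (g * e * g⁻¹) = g * (e * e) * g⁻¹ := by group
      _ = 1 := by rw [he2]; group
  obtain ⟨m, hm, hpow⟩ := hord e he he2 g (w * t) hx2
  have hxT : w * t ∈ T := mul_mem (hWT hw) htT
  have hnc : ∀ h : G, h * (g * e * g⁻¹) * h⁻¹ ≠ w * t := by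
    intro h hh
    have h1 : (h * g) * e * (h * g)⁻¹ = w * t := by
      rw [← hh]
      group
    have h2 : (h * g) * e * (h * g)⁻¹ ∈ W := hsc e he (h * g) (by rw [h1]; exact hxT)
    rw [h1] at h2
    apply htW
    have h3 : t = w⁻¹ * (w * t) := by group
    rw [h3]
    exact mul_mem (inv_mem hw) h2
  obtain ⟨h, ρ, hc1, hodd, hkρ, hinvρ, hcρ⟩ :=
    dih_central (w * t) (g * e * g⁻¹) hx2 hk2 m hm hpow hnc
  have hk' : h * (g * e * g⁻¹) * h⁻¹ = (h * g) * e * (h * g)⁻¹ := by group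
  rw [hk'] at hc1 hkρ hinvρ hcρ
  obtain ⟨o, ho, hoW⟩ := hcore w hw hw2 (h * g) e he hc1
  have hk'2 : ((h * g) * e * (h * g)⁻¹) * ((h * g) * e * (h * g)⁻¹) = 1 := by
    calc ((h * g) * e * (h * g)⁻¹) * ((h * g) * e * (h * g)⁻¹)
        = (h * g) * (e * e) * (h * g)⁻¹ := by group
      _ = 1 := by rw [he2]; group
  have hk'1 : (h * g) * e * (h * g)⁻¹ ≠ 1 := by
    intro h1
    apply he1
    have h2 : e = (h * g)⁻¹ * ((h * g) * e * (h * g)⁻¹) * (h * g) := by group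
    rw [h2, h1]
    group
  obtain ⟨k', hk'def⟩ : ∃ k' : G, k' = (h * g) * e * (h * g)⁻¹ := ⟨_, rfl⟩
  rw [← hk'def] at hc1 hkρ hinvρ hcρ hoW hk'2 hk'1
  have hox : o * (w * t) = (w * t) * o := hOc (w * t) o ho
  have hox' : o * (w * t) * o⁻¹ = w * t := by
    rw [hox]
    group
  have h3 : o * (k' * (w * t)) * o⁻¹ = (o * k' * o⁻¹) * (w * t) := by
    calc o * (k' * (w * t)) * o⁻¹ = (o * k' * o⁻¹) * (o * (w * t) * o⁻¹) := by group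
      _ = (o * k' * o⁻¹) * (w * t) := by rw [hox']
  have hcρ₀ : (o * ρ * o⁻¹) * ((o * k' * o⁻¹) * (w * t))
      = ((o * k' * o⁻¹) * (w * t)) * (o * ρ * o⁻¹) := by
    calc (o * ρ * o⁻¹) * ((o * k' * o⁻¹) * (w * t))
        = (o * ρ * o⁻¹) * (o * (k' * (w * t)) * o⁻¹) := by rw [h3]
      _ = o * (ρ * (k' * (w * t))) * o⁻¹ := by group
      _ = o * ((k' * (w * t)) * ρ) * o⁻¹ := by rw [hcρ]
      _ = (o * (k' * (w * t)) * o⁻¹) * (o * ρ * o⁻¹) := by group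
      _ = ((o * k' * o⁻¹) * (w * t)) * (o * ρ * o⁻¹) := by rw [h3]
  have hinv₀ : (o * k' * o⁻¹) * (o * ρ * o⁻¹) * (o * k' * o⁻¹)⁻¹ = (o * ρ * o⁻¹)⁻¹ := by
    calc (o * k' * o⁻¹) * (o * ρ * o⁻¹) * (o * k' * o⁻¹)⁻¹
        = o * (k' * ρ * k'⁻¹) * o⁻¹ := by group
      _ = o * ρ⁻¹ * o⁻¹ := by rw [hinvρ]
      _ = (o * ρ * o⁻¹)⁻¹ := by group
  have hodd₀ : Odd (orderOf (o * ρ * o⁻¹)) := by
    rw [orderOf_conj_eq]
    exact hodd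
  have he'2 : (o * k' * o⁻¹) * (o * k' * o⁻¹) = 1 := by
    calc (o * k' * o⁻¹) * (o * k' * o⁻¹) = o * (k' * k') * o⁻¹ := by group
      _ = 1 := by rw [hk'2]; group
  have he'1 : o * k' * o⁻¹ ≠ 1 := by
    intro h1
    apply hk'1
    have h2 : k' = o⁻¹ * (o * k' * o⁻¹) * o := by group
    rw [h2, h1]
    group
  have hfin : g * e * g⁻¹ = o⁻¹ * ((o * k' * o⁻¹) * (o * ρ * o⁻¹)) * o⁻¹⁻¹ := by
    rw [hkρ]
    group
  obtain ⟨e', he'def⟩ : ∃ e' : G, e' = o * k' * o⁻¹ := ⟨_, rfl⟩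
  obtain ⟨ρ₀, hρ₀def⟩ : ∃ ρ₀ : G, ρ₀ = o * ρ * o⁻¹ := ⟨_, rfl⟩
  rw [← he'def] at hoW hcρ₀ hinv₀ he'2 he'1 hfin
  rw [← hρ₀def] at hcρ₀ hinv₀ hodd₀ hfin
  have he'w2 : (e' * w) * (e' * w) = 1 := by
    calc (e' * w) * (e' * w) = e' * (w * e') * w := by group
      _ = e' * (e' * w) * w := by rw [hWab w hw e' hoW]
      _ = (e' * e') * (w * w) := by group
      _ = 1 := by rw [he'2, hw2, one_mul]
  have hcρ₀' : ρ₀ * ((e' * w) * t) = ((e' * w) * t) * ρ₀ := by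
    rw [mul_assoc e' w t]
    exact hcρ₀
  have hρ₀O : ρ₀ ∈ O (e' * (w * t)) := by
    rw [← mul_assoc]
    exact hinv (e' * w) (mul_mem hoW hw) he'w2 e' hoW ρ₀ hcρ₀' hodd₀ hinv₀
  obtain ⟨j, hj⟩ := hodd₀
  have hpowj : ρ₀ ^ (2 * j + 1) = 1 := by
    rw [← hj]
    exact pow_orderOf_eq_one ρ₀
  have hb := inv_odd_conj e' ρ₀ hinv₀ j hpowj
  refine ⟨e', hoW, he'1, he'2, o⁻¹, inv_mem ho, ρ₀ ^ j, pow_mem hρ₀O j, ?_⟩
  rw [hfin, ← hb]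
  group

end Cfsg.Agent.Lib.helper32.W12
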