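import Cfsg.Agent.Lib.helper81.WTDefs

/-!
# S4414, pieces PW, PO2 (racing copies by helper32): weight vectors and orthogonality of the projections
-/

set_option autoImplicit false

namespace Cfsg.Agent.Lib.helper81.WT

open scoped TensorProduct

universe u v w

/-- [PW] `proj μ v` is a `μ`-weight vector -/
theorem helper32_proj_weight {S : Type u} [Group S] [Finite S] {F : Type w} [Field F] [Finite F] [CharP F 2]
    {V : Type v} [AddCommGroup V] [Module F V]
    (R : Representation F S V) (Y : Subgroup S) [Y.Normal] [Fintype ↥Y]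
    (μ : ↥Y →* Fˣ) (y : ↥Y) (v : V) :
    R (y : S) (proj R Y μ v) = ((μ y : Fˣ) : F) • proj R Y μ v := by
  rw [proj_apply, map_sum, Finset.smul_sum]
  refine Fintype.sum_equiv (Equiv.mulLeft y) _ _ (fun z => ?_)
  simp only [Equiv.coe_mulLeft, map_smul, Subgroup.coe_mul, map_mul, Module.End.mul_apply,
    smul_smul]
  congr 1
  rw [mul_comm, ← Units.val_mul, ← map_mul]
  congr 2
  group

/-- [PO2] orthogonality -/
theorem helper32_proj_orth {S : Type u} [Group S] [Finite S] {F : Type w} [Field F] [Finite F] [CharP F 2]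
    {V : Type v} [AddCommGroup V] [Module F V]
    (R : Representation F S V) (Y : Subgroup S) [Y.Normal] [Fintype ↥Y]
    (μ ν : ↥Y →* Fˣ) (hne : μ ≠ ν) (v : V) :
    proj R Y μ (proj R Y ν v) = 0 := by
  rw [proj_apply R Y μ]
  simp only [helper32_proj_weight, smul_smul]
  rw [← Finset.sum_smul]
  have h0 : ∑ y : ↥Y, ((μ y⁻¹ : Fˣ) : F) * ((ν y : Fˣ) : F) = 0 := by
    have h1 := sum_hom_units_eq_zero ((Units.coeHom F).comp (μ⁻¹ * ν)) (by
      intro h
      apply hne
      ext y
      have h2 := DFunLike.congr_fun h y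
      simp only [MonoidHom.coe_comp, Function.comp_apply, MonoidHom.one_apply, MonoidHom.mul_apply,
        MonoidHom.inv_apply, Units.coeHom_apply, Units.val_mul] at h2
      have h3 : ((μ y)⁻¹ * ν y : Fˣ) = 1 := by
        ext
        simpa using h2
      have h4 : ν y = μ y := by
        rw [inv_mul_eq_one] at h3
        exact h3.symm
      rw [h4])
    simpa [map_inv] using h1
  rw [h0, zero_smul]

end Cfsg.Agent.Lib.helper81.WT
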