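import Mathlib

/-!
helper32: pieces G, H, I for helper44's S1158/S1159 project (Ward's Ree-group counting).
* `card_invol_cyclic`: a cyclic subgroup of even order has exactly one involution;
* `card_invol_of_two`: an abelian subgroup of order `4k`, `k` odd, with two distinct involutions
  has exactly three;
* `card_range_pred`: counting through a homomorphism;
* `card_p_elements_of_ti`: the number of nontrivial `p`-elements when the Sylow `p`-subgroups
  intersect trivially.
-/

set_option autoImplicit false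

namespace Cfsg.Agent.Lib.helper32

open scoped Pointwise

/-! ### Piece H -/

theorem card_range_pred {Γ G : Type*} [Group Γ] [Group G] [Finite Γ] (φ : Γ →* G) (p : G → Prop) :
    Nat.card {s : Γ // p (φ s)} = Nat.card ↥φ.ker * Nat.card {l : G // l ∈ φ.range ∧ p l} := by
  classical
  rw [← Nat.card_prod]
  have hσ : ∀ l : {l : G // l ∈ φ.range ∧ p l}, ∃ s : Γ, φ s = l.1 := fun l => l.2.1
  choose σ hσ using hσ
  refine Nat.card_congr
    { toFun := fun s => (⟨s.1 * (σ ⟨φ s.1, ⟨s.1, rfl⟩, s.2⟩)⁻¹, ?_⟩, ⟨φ s.1, ⟨s.1, rfl⟩, s.2⟩)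
      invFun := fun x => ⟨x.1.1 * σ x.2, ?_⟩
      left_inv := ?_
      right_inv := ?_ }
  · rw [MonoidHom.mem_ker, map_mul, map_inv, hσ, mul_inv_cancel]
  · have h1 : φ (x.1.1 * σ x.2) = x.2.1 := by
      rw [map_mul, MonoidHom.mem_ker.mp x.1.2, one_mul, hσ]
    rw [h1]
    exact x.2.2.2
  · intro s
    apply Subtype.ext
    simp
  · rintro ⟨⟨k, hk⟩, ⟨l, hl⟩⟩
    have h1 : φ (k * σ ⟨l, hl⟩) = l := by
      rw [map_mul, MonoidHom.mem_ker.mp hk, one_mul, hσ]
    apply Prod.ext
    · apply Subtype.ext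
      simp only
      have h2 : (⟨φ (k * σ ⟨l, hl⟩), ⟨k * σ ⟨l, hl⟩, rfl⟩, by rw [h1]; exact hl.2⟩ :
          {l : G // l ∈ φ.range ∧ p l}) = ⟨l, hl⟩ := Subtype.ext h1
      rw [h2]
      group
    · exact Subtype.ext h1

/-! ### Piece G -/

theorem card_invol_cyclic {G : Type*} [Group G] [Finite G] (T : Subgroup G) (hT : IsCyclic ↥T)
    (hev : Even (Nat.card ↥T)) : Nat.card {z : G // z ∈ T ∧ z ≠ 1 ∧ z * z = 1} = 1 := by
  classical
  rw [Nat.card_eq_one_iff_unique]
  constructor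
  · constructor
    rintro ⟨z, hzT, hz1, hz2⟩ ⟨w, hwT, hw1, hw2⟩
    apply Subtype.ext
    simp only
    by_contra hne
    have := Fintype.ofFinite ↥T
    have hle := IsCyclic.card_pow_eq_one_le (α := ↥T) (n := 2) (by norm_num)
    have hsub : ({1, ⟨z, hzT⟩, ⟨w, hwT⟩} : Finset ↥T) ⊆
        Finset.univ.filter (fun a : ↥T => a ^ 2 = 1) := by
      intro x hx
      simp only [Finset.mem_insert, Finset.mem_singleton] at hx
      simp only [Finset.mem_filter, Finset.mem_univ, true_and]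
      rcases hx with rfl | rfl | rfl
      · simp
      · apply Subtype.ext; simp [pow_two, hz2]
      · apply Subtype.ext; simp [pow_two, hw2]
    have h3 : ({1, ⟨z, hzT⟩, ⟨w, hwT⟩} : Finset ↥T).card = 3 := by
      rw [Finset.card_eq_three]
      refine ⟨1, ⟨z, hzT⟩, ⟨w, hwT⟩, ?_, ?_, ?_, rfl⟩
      · intro h; exact hz1 (congrArg Subtype.val h).symm
      · intro h; exact hw1 (congrArg Subtype.val h).symm
      · intro h; exact hne (congrArg Subtype.val h)
    have := Finset.card_le_card hsub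
    omega
  · have h2 : 2 ∣ Nat.card ↥T := even_iff_two_dvd.mp hev
    have : Fact (Nat.Prime 2) := ⟨Nat.prime_two⟩
    obtain ⟨z, hz⟩ := exists_prime_orderOf_dvd_card' 2 h2
    refine ⟨⟨(z : G), z.2, ?_, ?_⟩⟩
    · intro h
      have : z = 1 := Subtype.ext h
      rw [this, orderOf_one] at hz
      omega
    · have h3 : z ^ 2 = 1 := by rw [← hz]; exact pow_orderOf_eq_one z
      have h4 := congrArg Subtype.val h3
      simpa [pow_two] using h4

theorem card_invol_of_two {G : Type*} [Group G] [Finite G] (A : Subgroup G)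
    (hA : ∀ x ∈ A, ∀ y ∈ A, x * y = y * x) (k : ℕ) (hk : Odd k) (hcard : Nat.card ↥A = 4 * k)
    (a b : G) (ha : a ∈ A) (hb : b ∈ A) (ha1 : a ≠ 1) (hb1 : b ≠ 1) (hab : a ≠ b)
    (ha2 : a * a = 1) (hb2 : b * b = 1) :
    Nat.card {z : G // z ∈ A ∧ z ≠ 1 ∧ z * z = 1} = 3 := by
  classical
  -- the subgroup of elements of `A` of order at most two
  let E : Subgroup G :=
    { carrier := {z | z ∈ A ∧ z * z = 1}
      one_mem' := ⟨A.one_mem, by simp⟩
      mul_mem' := by
        rintro x y ⟨hx, hx2⟩ ⟨hy, hy2⟩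
        refine ⟨A.mul_mem hx hy, ?_⟩
        calc x * y * (x * y) = x * (y * x) * y := by group
          _ = x * (x * y) * y := by rw [hA y hy x hx]
          _ = (x * x) * (y * y) := by group
          _ = 1 := by rw [hx2, hy2, one_mul]
      inv_mem' := by
        rintro x ⟨hx, hx2⟩
        refine ⟨A.inv_mem hx, ?_⟩
        rw [← mul_inv_rev, hx2, inv_one] }
  have hEmem : ∀ z : G, z ∈ E ↔ z ∈ A ∧ z * z = 1 := fun z => Iff.rfl
  have hEA : E ≤ A := fun z hz => hz.1
  have : Fact (Nat.Prime 2) := ⟨Nat.prime_two⟩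
  have hEp : IsPGroup 2 ↥E := by
    intro g
    refine ⟨1, ?_⟩
    apply Subtype.ext
    have := g.2.2
    simpa [pow_two] using this
  obtain ⟨j, hj⟩ := IsPGroup.iff_card.mp hEp
  have hdvd : Nat.card ↥E ∣ 4 := by
    have h1 : Nat.card ↥E ∣ 4 * k := hcard ▸ Subgroup.card_dvd_of_le hEA
    have h2 : Nat.Coprime (Nat.card ↥E) k := by
      rw [hj]
      exact Nat.Coprime.pow_left j (Nat.coprime_two_left.mpr hk)
    exact Nat.Coprime.dvd_of_dvd_mul_right h2 h1
  have hle : Nat.card ↥E ≤ 4 := Nat.le_of_dvd (by norm_num) hdvd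
  -- the set of involutions
  have hset : (E : Set G) = insert 1 {z : G | z ∈ A ∧ z ≠ 1 ∧ z * z = 1} := by
    ext z
    simp only [SetLike.mem_coe, hEmem, Set.mem_insert_iff, Set.mem_ofPred_eq]
    constructor
    · rintro ⟨h1, h2⟩
      by_cases hz : z = 1
      · exact Or.inl hz
      · exact Or.inr ⟨h1, hz, h2⟩
    · rintro (rfl | ⟨h1, -, h2⟩)
      · exact ⟨A.one_mem, by simp⟩
      · exact ⟨h1, h2⟩
  have hcE : Nat.card ↥E = Set.ncard {z : G | z ∈ A ∧ z ≠ 1 ∧ z * z = 1} + 1 := by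
    rw [← Set.ncard_insert_of_notMem (show (1 : G) ∉ {z : G | z ∈ A ∧ z ≠ 1 ∧ z * z = 1} from
      fun h => h.2.1 rfl) (Set.toFinite _), ← hset]
    exact (Nat.card_coe_set_eq (E : Set G))
  have hge : 3 ≤ Set.ncard {z : G | z ∈ A ∧ z ≠ 1 ∧ z * z = 1} := by
    have h3 : ({a, b, a * b} : Set G).ncard = 3 := by
      rw [Set.ncard_eq_three]
      refine ⟨a, b, a * b, hab, ?_, ?_, rfl⟩
      · intro h
        apply hb1
        have : a * 1 = a * b := by rw [mul_one]; exact h
        exact (mul_left_cancel this).symm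
      · intro h
        apply ha1
        have : 1 * b = a * b := by rw [one_mul]; exact h
        exact (mul_right_cancel this).symm
    rw [← h3]
    apply Set.ncard_le_ncard _ (Set.toFinite _)
    intro z hz
    simp only [Set.mem_insert_iff, Set.mem_singleton_iff] at hz
    simp only [Set.mem_ofPred_eq]
    rcases hz with rfl | rfl | rfl
    · exact ⟨ha, ha1, ha2⟩
    · exact ⟨hb, hb1, hb2⟩
    · refine ⟨A.mul_mem ha hb, ?_, ?_⟩
      · intro h
        apply hab
        have h5 : a * b = b * b := by rw [h, hb2]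
        exact mul_right_cancel h5
      · calc a * b * (a * b) = a * (b * a) * b := by group
          _ = a * (a * b) * b := by rw [hA b hb a ha]
          _ = (a * a) * (b * b) := by group
          _ = 1 := by rw [ha2, hb2, one_mul]
  have hfin : Nat.card {z : G // z ∈ A ∧ z ≠ 1 ∧ z * z = 1} =
      Set.ncard {z : G | z ∈ A ∧ z ≠ 1 ∧ z * z = 1} :=
    Nat.card_coe_set_eq {z : G | z ∈ A ∧ z ≠ 1 ∧ z * z = 1}
  rw [hfin]
  omega

/-! ### Piece I -/

theorem card_p_elements_of_ti {G : Type*} [Group G] [Finite G] (p : ℕ) [Fact p.Prime]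
    (hTI : ∀ P Q : Sylow p G, P ≠ Q → (P : Subgroup G) ⊓ (Q : Subgroup G) = ⊥) (P₀ : Sylow p G) :
    Nat.card {g : G // g ≠ 1 ∧ ∃ k : ℕ, g ^ (p ^ k) = 1} + Nat.card (Sylow p G) =
      Nat.card (Sylow p G) * Nat.card ↥(P₀ : Subgroup G) := by
  classical
  have hc : ∀ P : Sylow p G, ∃ c : G, c • P₀ = P := fun P => MulAction.exists_smul_eq G P₀ P
  choose c hc using hc
  have hmem : ∀ (P : Sylow p G) (g : G), g ∈ P₀ → c P * g * (c P)⁻¹ ∈ P := by
    intro P g hg
    have h1 : MulAut.conj (c P) • g ∈ MulAut.conj (c P) • (P₀ : Subgroup G) :=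
      Subgroup.smul_mem_pointwise_smul g _ _ hg
    rw [← Sylow.coe_subgroup_smul, hc P] at h1
    simp only [MulAut.smul_def, MulAut.conj_apply] at h1
    exact h1
  have hmem' : ∀ (P : Sylow p G) (x : G), x ∈ P → (c P)⁻¹ * x * c P ∈ P₀ := by
    intro P x hx
    rw [← hc P] at hx
    have h1 : x ∈ MulAut.conj (c P) • (P₀ : Subgroup G) := hx
    rw [Subgroup.mem_pointwise_smul_iff_inv_smul_mem] at h1
    simp only [MulAut.smul_def, ← map_inv, MulAut.conj_apply, inv_inv] at h1
    exact h1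
  -- the bijection
  let f : Sylow p G × {g : G // g ∈ P₀ ∧ g ≠ 1} →
      {g : G // g ≠ 1 ∧ ∃ k : ℕ, g ^ (p ^ k) = 1} :=
    fun x => ⟨c x.1 * x.2.1 * (c x.1)⁻¹, by
      intro h
      apply x.2.2.2
      have h0 : x.2.1 = (c x.1)⁻¹ * (c x.1 * x.2.1 * (c x.1)⁻¹) * c x.1 := by group
      rw [h0, h]; group, by
      obtain ⟨k, hk⟩ := P₀.isPGroup' ⟨x.2.1, x.2.2.1⟩
      refine ⟨k, ?_⟩
      have hk' : x.2.1 ^ (p ^ k) = 1 := by
        have := congrArg Subtype.val hk
        simpa using this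
      rw [conj_pow, hk', mul_one, mul_inv_cancel]⟩
  have hf : Function.Bijective f := by
    constructor
    · rintro ⟨P, g, hg, hg1⟩ ⟨Q, h, hh, hh1⟩ heq
      have heq' : c P * g * (c P)⁻¹ = c Q * h * (c Q)⁻¹ := congrArg Subtype.val heq
      have hPQ : P = Q := by
        by_contra hne
        have h1 := hTI P Q hne
        have h2 : c P * g * (c P)⁻¹ ∈ (P : Subgroup G) ⊓ (Q : Subgroup G) :=
          ⟨hmem P g hg, heq' ▸ hmem Q h hh⟩
        rw [h1, Subgroup.mem_bot] at h2
        apply hg1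
        have h0 : g = (c P)⁻¹ * (c P * g * (c P)⁻¹) * c P := by group
        rw [h0, h2]; group
      subst hPQ
      have hgh : g = h := mul_left_cancel (mul_right_cancel heq')
      subst hgh
      rfl
    · rintro ⟨x, hx1, k, hk⟩
      have hp : IsPGroup p (Subgroup.zpowers x) := by
        rintro ⟨y, hy⟩
        obtain ⟨i, rfl⟩ := Subgroup.mem_zpowers_iff.mp hy
        refine ⟨k, ?_⟩
        apply Subtype.ext
        simp only [Subgroup.coe_pow, Subgroup.coe_one]
        rw [← zpow_natCast, ← zpow_mul, mul_comm, zpow_mul, zpow_natCast, hk, one_zpow]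
      obtain ⟨Q, hQ⟩ := hp.exists_le_sylow
      have hxQ : x ∈ Q := hQ (Subgroup.mem_zpowers x)
      refine ⟨(Q, ⟨(c Q)⁻¹ * x * c Q, hmem' Q x hxQ, ?_⟩), ?_⟩
      · intro h
        apply hx1
        have h0 : x = c Q * ((c Q)⁻¹ * x * c Q) * (c Q)⁻¹ := by group
        rw [h0, h]; group
      · apply Subtype.ext
        show c Q * ((c Q)⁻¹ * x * c Q) * (c Q)⁻¹ = x
        group
  have h1 : Nat.card {g : G // g ≠ 1 ∧ ∃ k : ℕ, g ^ (p ^ k) = 1} =
      Nat.card (Sylow p G) * Nat.card {g : G // g ∈ P₀ ∧ g ≠ 1} := by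
    rw [← Nat.card_prod]
    exact (Nat.card_congr (Equiv.ofBijective f hf)).symm
  have h2 : Nat.card ↥(P₀ : Subgroup G) = Nat.card {g : G // g ∈ P₀ ∧ g ≠ 1} + 1 := by
    have hset : ((P₀ : Subgroup G) : Set G) = insert 1 {g : G | g ∈ P₀ ∧ g ≠ 1} := by
      ext z
      simp only [SetLike.mem_coe, Set.mem_insert_iff, Set.mem_ofPred_eq]
      constructor
      · intro h
        by_cases hz : z = 1
        · exact Or.inl hz
        · exact Or.inr ⟨h, hz⟩
      · rintro (rfl | ⟨h, -⟩)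
        · exact one_mem _
        · exact h
    have h3 : Nat.card ↥(P₀ : Subgroup G) = Set.ncard ((P₀ : Subgroup G) : Set G) :=
      Nat.card_coe_set_eq _
    rw [h3, hset, Set.ncard_insert_of_notMem (fun h => h.2 rfl) (Set.toFinite _)]
    rfl
  rw [h1, h2]
  ring

end Cfsg.Agent.Lib.helper32
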