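import Mathlib
import Cfsg.Agent.Lib.helper15.ZassDefs
import Cfsg.Agent.Lib.helper98.DicksonMax

/-!
# S0690 piece C (`gc`): the generic card lemma

A group generated by elements acting on a plane `span (w₁, w₂)` with determinant one, in a
representation without fixed vectors, containing `-1` and two elements whose squares do not
commute, has order `24`, `48` or `120` (via `helper98.tame_noncomm`).
-/

set_option autoImplicit false

namespace Cfsg.Agent.Lib.helper32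

open Cfsg.Agent.Lib.helper15.Zass
open Cfsg.Agent.Lib.helper98

local notation "SL2" => Matrix.SpecialLinearGroup (Fin 2)

variable {F : Type*} [Field F] [Fintype F] {W : Type*} [AddCommGroup W] [Module F W]
  {G : Type*} [Group G]

omit [Fintype F] in
/-- `g` acts on the plane spanned by `w₁, w₂` by the matrix `M` (columns = images). -/
def PlaneRel (ρ : G →* (W ≃ₗ[F] W)) (w₁ w₂ : W) (g : G) (M : SL2 F) : Prop :=
  ρ g w₁ = M 0 0 • w₁ + M 1 0 • w₂ ∧ ρ g w₂ = M 0 1 • w₁ + M 1 1 • w₂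

omit [Fintype F] in
theorem planeRel_one (ρ : G →* (W ≃ₗ[F] W)) (w₁ w₂ : W) : PlaneRel ρ w₁ w₂ 1 1 := by
  refine ⟨?_, ?_⟩
  · rw [map_one, sl2_one_00, sl2_one_10, one_smul, zero_smul, add_zero]
    rfl
  · rw [map_one, sl2_one_01, sl2_one_11, one_smul, zero_smul, zero_add]
    rfl

omit [Fintype F] in
theorem planeRel_mul (ρ : G →* (W ≃ₗ[F] W)) (w₁ w₂ : W) {g h : G} {M N : SL2 F}
    (hg : PlaneRel ρ w₁ w₂ g M) (hh : PlaneRel ρ w₁ w₂ h N) :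
    PlaneRel ρ w₁ w₂ (g * h) (M * N) := by
  refine ⟨?_, ?_⟩
  · rw [map_mul]
    show ρ g (ρ h w₁) = _
    rw [hh.1, map_add, map_smul, map_smul, hg.1, hg.2, sl2_mul_apply, sl2_mul_apply]
    module
  · rw [map_mul]
    show ρ g (ρ h w₂) = _
    rw [hh.2, map_add, map_smul, map_smul, hg.1, hg.2, sl2_mul_apply, sl2_mul_apply]
    module

omit [Fintype F] in
theorem planeRel_inv (ρ : G →* (W ≃ₗ[F] W)) (w₁ w₂ : W) {g : G} {M : SL2 F}
    (hg : PlaneRel ρ w₁ w₂ g M) : PlaneRel ρ w₁ w₂ g⁻¹ M⁻¹ := by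
  have key : ∀ w, ρ g (ρ g⁻¹ w) = w := by
    intro w
    have h1 : ρ g * ρ g⁻¹ = 1 := by rw [← map_mul, mul_inv_cancel, map_one]
    have h2 := congrArg (fun e : W ≃ₗ[F] W => e w) h1
    exact h2
  have hdet := sl2_det' M
  refine ⟨(ρ g).injective ?_, (ρ g).injective ?_⟩
  · rw [key, sl2_inv_00, sl2_inv_10, map_add, map_smul, map_smul, hg.1, hg.2]
    calc w₁ = (M 0 0 * M 1 1 - M 0 1 * M 1 0) • w₁ := by rw [hdet, one_smul]
      _ = _ := by module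
  · rw [key, sl2_inv_01, sl2_inv_11, map_add, map_smul, map_smul, hg.1, hg.2]
    calc w₂ = (M 0 0 * M 1 1 - M 0 1 * M 1 0) • w₂ := by rw [hdet, one_smul]
      _ = _ := by module

omit [Fintype F] in
theorem planeRel_unique (ρ : G →* (W ≃ₗ[F] W)) (w₁ w₂ : W)
    (hli : LinearIndependent F ![w₁, w₂]) {g : G} {M N : SL2 F}
    (hM : PlaneRel ρ w₁ w₂ g M) (hN : PlaneRel ρ w₁ w₂ g N) : M = N := by
  have hpair := LinearIndependent.pair_iff.mp hli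
  have h1 := hpair (M 0 0 - N 0 0) (M 1 0 - N 1 0) (by
    have := hM.1.symm.trans hN.1
    calc (M 0 0 - N 0 0) • w₁ + (M 1 0 - N 1 0) • w₂
        = (M 0 0 • w₁ + M 1 0 • w₂) - (N 0 0 • w₁ + N 1 0 • w₂) := by module
      _ = 0 := by rw [this, sub_self])
  have h2 := hpair (M 0 1 - N 0 1) (M 1 1 - N 1 1) (by
    have := hM.2.symm.trans hN.2
    calc (M 0 1 - N 0 1) • w₁ + (M 1 1 - N 1 1) • w₂
        = (M 0 1 • w₁ + M 1 1 • w₂) - (N 0 1 • w₁ + N 1 1 • w₂) := by module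
      _ = 0 := by rw [this, sub_self])
  exact sl2_ext (sub_eq_zero.mp h1.1) (sub_eq_zero.mp h2.1) (sub_eq_zero.mp h1.2)
    (sub_eq_zero.mp h2.2)

omit [Fintype F] in
theorem exists_planeRel (ρ : G →* (W ≃ₗ[F] W)) (S : Set G) (w₁ w₂ : W)
    (hS : ∀ g ∈ S, ∃ a b c d : F, ρ g w₁ = a • w₁ + c • w₂ ∧ ρ g w₂ = b • w₁ + d • w₂ ∧
      a * d - b * c = 1) :
    ∀ g ∈ Subgroup.closure S, ∃ M : SL2 F, PlaneRel ρ w₁ w₂ g M := by
  intro g hg
  induction hg using Subgroup.closure_induction with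
  | mem x hx =>
    obtain ⟨a, b, c, d, h1, h2, h3⟩ := hS x hx
    exact ⟨mkSL a b c d h3, h1, h2⟩
  | one => exact ⟨1, planeRel_one ρ w₁ w₂⟩
  | mul x y _ _ ihx ihy =>
    obtain ⟨M, hM⟩ := ihx
    obtain ⟨N, hN⟩ := ihy
    exact ⟨M * N, planeRel_mul ρ w₁ w₂ hM hN⟩
  | inv x _ ih =>
    obtain ⟨M, hM⟩ := ih
    exact ⟨M⁻¹, planeRel_inv ρ w₁ w₂ hM⟩

/-- **Piece C.** -/
theorem gc (ρ : G →* (W ≃ₗ[F] W)) (h2 : (2 : F) ≠ 0)
    (hfpf : ∀ g : G, g ≠ 1 → ∀ w : W, ρ g w = w → w = 0)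
    (S : Set G) (w₁ w₂ : W) (hli : LinearIndependent F ![w₁, w₂])
    (hS : ∀ g ∈ S, ∃ a b c d : F, ρ g w₁ = a • w₁ + c • w₂ ∧ ρ g w₂ = b • w₁ + d • w₂ ∧
      a * d - b * c = 1)
    (z : G) (hz : z ∈ Subgroup.closure S) (hzneg : ∀ w, ρ z w = -w)
    (g₁ g₂ : G) (hg₁ : g₁ ∈ Subgroup.closure S) (hg₂ : g₂ ∈ Subgroup.closure S)
    (hnc : g₁ * g₁ * (g₂ * g₂) ≠ g₂ * g₂ * (g₁ * g₁)) :
    CS (Subgroup.closure S) := by
  classical
  have hpair := LinearIndependent.pair_iff.mp hli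
  have hw1 : w₁ ≠ 0 := by
    intro h
    have := hpair 1 0 (by rw [h]; simp)
    exact one_ne_zero this.1
  have hex := exists_planeRel ρ S w₁ w₂ hS
  choose! φ hφ using hex
  have huniq : ∀ (g : G) (M N : SL2 F), PlaneRel ρ w₁ w₂ g M → PlaneRel ρ w₁ w₂ g N → M = N :=
    fun g M N hM hN => planeRel_unique ρ w₁ w₂ hli hM hN
  let Φ : Subgroup.closure S →* SL2 F :=
    { toFun := fun g => φ g
      map_one' := huniq _ _ _ (hφ 1 (one_mem _)) (planeRel_one ρ w₁ w₂)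
      map_mul' := fun a b => huniq _ _ _ (hφ _ (mul_mem a.2 b.2))
        (planeRel_mul ρ w₁ w₂ (hφ a a.2) (hφ b b.2)) }
  have hΦ : ∀ g : Subgroup.closure S, Φ g = φ g := fun g => rfl
  have hinj : Function.Injective Φ := by
    rw [injective_iff_map_eq_one]
    intro g hg
    by_contra hne
    have hg1 : (g : G) ≠ 1 := fun h => hne (Subtype.ext h)
    have h1 := (hφ g g.2).1
    rw [← hΦ, hg, sl2_one_00, sl2_one_10, one_smul, zero_smul, add_zero] at h1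
    exact hw1 (hfpf g hg1 w₁ h1)
  have hchar : ringChar F ≠ 2 := by
    intro h
    apply h2
    have := CharP.cast_eq_zero F (ringChar F)
    rw [h] at this
    exact_mod_cast this
  obtain ⟨δ, hδ⟩ := FiniteField.exists_nonsquare hchar
  have hcard : Nat.card Φ.range = Nat.card (Subgroup.closure S) :=
    (Nat.card_congr (MonoidHom.ofInjective hinj).toEquiv).symm
  have hneg : negOne ∈ Φ.range := by
    refine ⟨⟨z, hz⟩, ?_⟩
    rw [hΦ]
    refine huniq z _ _ (hφ z hz) ⟨?_, ?_⟩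
    · rw [hzneg, negOne_00, negOne_10]
      simp
    · rw [hzneg, negOne_01, negOne_11]
      simp
  have htame : ∀ g ∈ Φ.range, g 0 0 + g 1 1 = 2 → g = 1 := by
    rintro _ ⟨k, rfl⟩ htr
    by_contra hne
    have hk1 : (k : G) ≠ 1 := by
      intro h
      apply hne
      have : k = 1 := Subtype.ext h
      rw [this, map_one]
    obtain ⟨e1, e2⟩ := hφ k k.2
    rw [hΦ] at htr hne
    have hdet := sl2_det' (φ k)
    have c1 : φ k 0 0 * φ k 0 0 + φ k 1 0 * φ k 0 1 - φ k 0 0 = φ k 0 0 - 1 := by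
      linear_combination (-1 : F) * hdet + φ k 0 0 * htr
    have c2 : φ k 0 0 * φ k 1 0 + φ k 1 0 * φ k 1 1 - φ k 1 0 = φ k 1 0 := by
      linear_combination φ k 1 0 * htr
    have c3 : φ k 0 1 * φ k 0 0 + φ k 1 1 * φ k 0 1 - φ k 0 1 = φ k 0 1 := by
      linear_combination φ k 0 1 * htr
    have c4 : φ k 0 1 * φ k 1 0 + φ k 1 1 * φ k 1 1 - φ k 1 1 = φ k 1 1 - 1 := by
      linear_combination (-1 : F) * hdet + φ k 1 1 * htr
    have hy1 : ρ k (ρ k w₁ - w₁) = ρ k w₁ - w₁ := by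
      rw [map_sub, e1, map_add, map_smul, map_smul, e1, e2]
      calc φ k 0 0 • (φ k 0 0 • w₁ + φ k 1 0 • w₂) + φ k 1 0 • (φ k 0 1 • w₁ + φ k 1 1 • w₂)
            - (φ k 0 0 • w₁ + φ k 1 0 • w₂)
          = (φ k 0 0 * φ k 0 0 + φ k 1 0 * φ k 0 1 - φ k 0 0) • w₁
            + (φ k 0 0 * φ k 1 0 + φ k 1 0 * φ k 1 1 - φ k 1 0) • w₂ := by module
        _ = (φ k 0 0 - 1) • w₁ + φ k 1 0 • w₂ := by rw [c1, c2]
        _ = _ := by module
    have hy2 : ρ k (ρ k w₂ - w₂) = ρ k w₂ - w₂ := by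
      rw [map_sub, e2, map_add, map_smul, map_smul, e1, e2]
      calc φ k 0 1 • (φ k 0 0 • w₁ + φ k 1 0 • w₂) + φ k 1 1 • (φ k 0 1 • w₁ + φ k 1 1 • w₂)
            - (φ k 0 1 • w₁ + φ k 1 1 • w₂)
          = (φ k 0 1 * φ k 0 0 + φ k 1 1 * φ k 0 1 - φ k 0 1) • w₁
            + (φ k 0 1 * φ k 1 0 + φ k 1 1 * φ k 1 1 - φ k 1 1) • w₂ := by module
        _ = φ k 0 1 • w₁ + (φ k 1 1 - 1) • w₂ := by rw [c3, c4]
        _ = _ := by module
    have z1 := hfpf k hk1 _ hy1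
    have z2 := hfpf k hk1 _ hy2
    have p1 := hpair (φ k 0 0 - 1) (φ k 1 0) (by
      rw [e1] at z1
      calc (φ k 0 0 - 1) • w₁ + φ k 1 0 • w₂ = φ k 0 0 • w₁ + φ k 1 0 • w₂ - w₁ := by module
        _ = 0 := z1)
    have p2 := hpair (φ k 0 1) (φ k 1 1 - 1) (by
      rw [e2] at z2
      calc φ k 0 1 • w₁ + (φ k 1 1 - 1) • w₂ = φ k 0 1 • w₁ + φ k 1 1 • w₂ - w₂ := by module
        _ = 0 := z2)
    apply hne
    exact sl2_ext (by rw [sl2_one_00]; exact sub_eq_zero.mp p1.1) (by rw [sl2_one_01]; exact p2.1)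
      (by rw [sl2_one_10]; exact p1.2) (by rw [sl2_one_11]; exact sub_eq_zero.mp p2.2)
  have hu : Φ ⟨g₁, hg₁⟩ ∈ Φ.range := ⟨_, rfl⟩
  have hv : Φ ⟨g₂, hg₂⟩ ∈ Φ.range := ⟨_, rfl⟩
  have huv : Φ ⟨g₁, hg₁⟩ * Φ ⟨g₁, hg₁⟩ * (Φ ⟨g₂, hg₂⟩ * Φ ⟨g₂, hg₂⟩)
      ≠ Φ ⟨g₂, hg₂⟩ * Φ ⟨g₂, hg₂⟩ * (Φ ⟨g₁, hg₁⟩ * Φ ⟨g₁, hg₁⟩) := by
    intro h
    simp only [← map_mul] at h
    have := hinj h
    exact hnc (congrArg Subtype.val this)
  have key := tame_noncomm h2 hδ Φ.range hneg htame _ _ hu hv huv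
  show Nat.card (Subgroup.closure S) = 24 ∨ Nat.card (Subgroup.closure S) = 48
    ∨ Nat.card (Subgroup.closure S) = 120
  rw [← hcard]
  rcases key with h | h | h
  · exact Or.inl h.1
  · exact Or.inr (Or.inl h.1)
  · exact Or.inr (Or.inr h.1)

end Cfsg.Agent.Lib.helper32
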